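import Cfsg.Agent.Lib.Spor.LargeFi.Model
import Cfsg.Agent.Lib.Components.FStar
import Cfsg.Prelude.Def_MonsterType

/-!
A group of large Fischer type gives a coordinate model of the centraliser of the involution.
-/

set_option autoImplicit false

namespace CfsgLib.Spor.LargeFi

open Cfsg CfsgLib.ThreeTransp CfsgLib.Involutions

variable {G : Type*} [Group G] [Finite G] {z : G}

/-- the involution as an element of its centraliser -/
def zH (z : G) : Subgroup.centralizer ({z} : Set G) :=
  ⟨z, Subgroup.mem_centralizer_singleton_iff.2 rfl⟩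

omit [Finite G] in
theorem zH_comm (h : Subgroup.centralizer ({z} : Set G)) : h * zH z = zH z * h :=
  Subtype.ext (Subgroup.mem_centralizer_singleton_iff.1 h.2)

theorem xcent_of_type {Q : Subgroup (Subgroup.centralizer ({z} : Set G))} [Q.Normal]
    (hF : IsOfLargeFischerTypeAt z Q) : XCent Q (zH z) := by
  obtain ⟨⟨hz, hgf, hE, -, -⟩, -⟩ := hF
  have hC : Subgroup.centralizer (Q : Set (Subgroup.centralizer ({z} : Set G))) ≤ Q := by
    intro c hc
    have := Components.centralizer_fstar_le (G := Subgroup.centralizer ({z} : Set G)) (x := c)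
    rw [hgf] at this
    exact this hc
  have hzQ : zH z ∈ Q := hC (Subgroup.mem_centralizer_iff.2 fun y _ => zH_comm y)
  refine xCent_mk hE hC (mem_centerIn.2 ⟨hzQ, fun q _ => zH_comm q⟩) ?_ ?_
  · intro h
    exact invol_ne_one hz (congrArg Subtype.val h)
  · rw [Subgroup.normalizer_eq_top]
    exact le_top

theorem model_of_type {Q : Subgroup (Subgroup.centralizer ({z} : Set G))} [Q.Normal]
    (hF : IsOfLargeFischerTypeAt z Q) : Nonempty (Model Q (zH z)) := by
  have hX := xcent_of_type hF
  obtain ⟨⟨-, -, -, hcard, -⟩, N, M, hNn, hMn, hQN, hNM, hN, ⟨K, _, _, hK, ⟨e⟩⟩, hM⟩ := hF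
  haveI := hNn
  haveI := hMn
  exact exists_model hX zH_comm hcard N M hQN hNM hN hM hK e

end CfsgLib.Spor.LargeFi
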