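import Cfsg.Agent.Lib.Spor.U62.Code
import Cfsg.Prelude.Def_LieClassical

/-!
Quadratic spaces over the field with two elements with a fixed-point-free isometry of order three
have orthonormal frames over the field with four elements.
-/

set_option autoImplicit false

namespace CfsgLib.Spor.LargeFi

open CfsgLib.Spor.U62 (K4)

/-- a primitive cube root of unity -/
def om : K4 := ⟨0, 1⟩

/-- the norm form -/
def nf {k : ℕ} (v : Fin k → K4) : K4 := Cfsg.hermForm k K4 2 v v

/-- the value in the prime field -/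
def toK (a : ZMod 2) : K4 := ⟨a, 0⟩

theorem k_cases : ∀ a b : ZMod 2, (⟨a, b⟩ : K4) = 0 ∨ (⟨a, b⟩ : K4) * (⟨a, b⟩ : K4) ^ 2 = 1 := by
  decide +kernel

instance : CharP K4 2 := CharTwo.of_one_ne_zero_of_two_eq_zero one_ne_zero (by decide +kernel)

theorem toK_add (a b : ZMod 2) : toK (a + b) = toK a + toK b := by
  ext <;> simp [toK]

theorem z2_cases : ∀ a : ZMod 2, a = 0 ∨ a = 1 := by decide

section

variable {V : Type*} [AddCommGroup V]

/-- scalar action through an isometry of order three -/
def sm (w : V →+ V) (c : K4) (v : V) : V :=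
  (if c.re = 1 then v else 0) + (if c.im = 1 then w v else 0)

theorem sm_zero_left (w : V →+ V) (v : V) : sm w 0 v = 0 := by
  simp [sm]

theorem sm_zero_right (w : V →+ V) (c : K4) : sm w c (0 : V) = 0 := by
  simp [sm]

theorem sm_add_left (h2 : ∀ v : V, v + v = 0) (w : V →+ V) (c d : K4) (v : V) :
    sm w (c + d) v = sm w c v + sm w d v := by
  have key : ∀ (a b : ZMod 2) (x : V), (if a + b = 1 then x else 0) =
      (if a = 1 then x else 0) + (if b = 1 then x else 0) := by
    intro a b x
    rcases z2_cases a with rfl | rfl <;> rcases z2_cases b with rfl | rfl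
    · simp
    · simp
    · simp
    · simp [show (1 : ZMod 2) + 1 = 0 from rfl, h2]
  rw [sm, sm, sm, QuadraticAlgebra.re_add, QuadraticAlgebra.im_add, key, key]
  abel

theorem om_sm (h2 : ∀ v : V, v + v = 0) (w : V →+ V) (hw : ∀ v, w (w v) + w v + v = 0)
    (c : K4) (v : V) : w (sm w c v) = sm w (om * c) v := by
  have hww : w (w v) = w v + v := by
    have h := hw v
    rw [add_assoc, add_eq_zero_iff_eq_neg] at h
    rw [h, neg_eq_of_add_eq_zero_left (h2 _)]
  obtain ⟨a, b⟩ := c
  rcases z2_cases a with rfl | rfl <;> rcases z2_cases b with rfl | rfl <;>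
    simp only [sm, om, QuadraticAlgebra.re_mul, QuadraticAlgebra.im_mul] <;>
    simp [show (1 : ZMod 2) + 1 = 0 from rfl, hww, add_comm, add_left_comm, h2]

end

theorem frame_step {V : Type*} [AddCommGroup V] [Finite V] (h2 : ∀ v : V, v + v = 0)
    (q : V → ZMod 2) (B : V → V → ZMod 2)
    (hpol : ∀ u v, q (u + v) = q u + q v + B u v)
    (hBl : ∀ u v x, B (u + v) x = B u x + B v x)
    (hnd : ∀ u, (∀ v, B u v = 0) → u = 0)
    (w : V →+ V) (hw : ∀ v, w (w v) + w v + v = 0) (hwq : ∀ v, q (w v) = q v)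
    (hne : ∃ v : V, v ≠ 0) :
    ∃ (K : AddSubgroup V) (e : V ≃+ K4 × K), Nat.card K < Nat.card V ∧
      (∀ v ∈ K, w v ∈ K) ∧
      (∀ u : K, (∀ v : K, B u v = 0) → u = 0) ∧
      (∀ v, (e (w v)).1 = om * (e v).1 ∧ ((e (w v)).2 : V) = w ((e v).2 : V)) ∧
      ∀ v, toK (q v) = (e v).1 * (e v).1 ^ 2 + toK (q (e v).2) := by
  classical
  have hB0 : ∀ x, B 0 x = 0 := fun x => by simpa using hBl 0 0 x
  have hq0 : q 0 = 0 := by
    have h := hpol 0 0
    rw [hB0, add_zero, add_zero] at h
    simpa using h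
  have hsymm : ∀ a b, B a b = B b a := fun a b => by
    have h : q a + q b + B a b = q (b + a) := by rw [add_comm b a]; exact (hpol a b).symm
    exact add_left_cancel (h.trans ((congrArg q (add_comm b a)).trans ((congrArg q (add_comm a b)).trans
      ((hpol b a).trans (by rw [add_comm (q b) (q a)])))))
  have hBr : ∀ a b x, B a (b + x) = B a b + B a x := fun a b x => by
    rw [hsymm, hBl, hsymm b, hsymm x]
  have hB0' : ∀ x, B x 0 = 0 := fun x => by rw [hsymm, hB0]
  have hdiag : ∀ a, B a a = 0 := fun a => by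
    have h := hpol a a
    rw [h2, hq0, CharTwo.add_self_eq_zero, zero_add] at h
    exact h.symm
  have hww : ∀ v, w (w v) = w v + v := fun v => by
    have h := hw v
    rw [add_assoc, add_eq_zero_iff_eq_neg] at h
    rw [h, neg_eq_of_add_eq_zero_left (h2 _)]
  have hwB : ∀ a b, B (w a) (w b) = B a b := fun a b => by
    have h := hpol (w a) (w b)
    rw [← map_add, hwq, hwq, hwq, hpol a b] at h
    exact (add_left_cancel h).symm
  have hwmove : ∀ a b, B a (w b) = B (w a) b + B a b := fun a b => by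
    rw [← hwB a (w b), hww, hBr, hwB, add_comm]
  obtain ⟨u, hu⟩ : ∃ u, q u = 1 := by
    by_contra h
    push Not at h
    have hq : ∀ x, q x = 0 := fun x => (z2_cases _).resolve_right (h x)
    obtain ⟨v, hv⟩ := hne
    refine hv (hnd v fun x => ?_)
    simpa [hq] using (hpol v x).symm
  let Φ : V →+ K4 := AddMonoidHom.mk' (fun v => ⟨B (w v) u + B v u, B v u⟩) fun a b => by
    ext
    · simp only [QuadraticAlgebra.re_add, map_add, hBl]; abel
    · simp only [QuadraticAlgebra.im_add, hBl]
  have hΦre : ∀ v, (Φ v).re = B (w v) u + B v u := fun _ => rfl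
  have hΦim : ∀ v, (Φ v).im = B v u := fun _ => rfl
  have hΦw : ∀ v, Φ (w v) = om * Φ v := fun v => by
    ext
    · rw [hΦre, QuadraticAlgebra.re_mul, hΦre, hΦim, hww, hBl, om]
      simp only [zero_mul, one_mul, mul_one, zero_add]
      rw [add_comm (B (w v) u), add_assoc, CharTwo.add_self_eq_zero, add_zero]
    · rw [hΦim, QuadraticAlgebra.im_mul, hΦre, hΦim, om]
      simp only [zero_mul, one_mul, mul_one, zero_add]
      rw [add_assoc, CharTwo.add_self_eq_zero, add_zero]
  have hwu : B (w u) u = 1 := by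
    have h := hpol (w u) u
    rw [show w u + u = w (w u) from (hww u).symm, hwq, hwq, hu] at h
    exact add_left_cancel (a := (1 : ZMod 2) + 1) (h.symm.trans (by rfl))
  have hΦu : Φ u = 1 := by
    ext
    · rw [hΦre, hdiag, add_zero, hwu, QuadraticAlgebra.re_one]
    · rw [hΦim, hdiag, QuadraticAlgebra.im_one]
  have hΦsm : ∀ c, Φ (sm w c u) = c := fun c => by
    rw [sm, map_add]
    obtain ⟨a, b⟩ := c
    rcases z2_cases a with rfl | rfl <;> rcases z2_cases b with rfl | rfl <;>
      simp [hΦu, hΦw] <;> decide +kernel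
  have hperp : ∀ v, Φ v = 0 → ∀ c, B v (sm w c u) = 0 := by
    intro v hv c
    have h1 : B v u = 0 := by rw [← hΦim, hv, QuadraticAlgebra.im_zero]
    have h2' : B (w v) u = 0 := by
      have h := hΦre v
      rw [hv, QuadraticAlgebra.re_zero, h1, add_zero] at h
      exact h.symm
    obtain ⟨a, b⟩ := c
    rcases z2_cases a with rfl | rfl <;> rcases z2_cases b with rfl | rfl <;>
      simp [sm, hBr, hwmove, h1, h2', hB0']
  have hmem : ∀ v, v + sm w (Φ v) u ∈ Φ.ker := fun v => by
    rw [AddMonoidHom.mem_ker, map_add, hΦsm, CharTwo.add_self_eq_zero]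
  let e : V ≃+ K4 × Φ.ker :=
    { toFun := fun v => (Φ v, ⟨v + sm w (Φ v) u, hmem v⟩)
      invFun := fun p => p.2.1 + sm w p.1 u
      left_inv := fun v => by
        show v + sm w (Φ v) u + sm w (Φ v) u = v
        rw [add_assoc, h2, add_zero]
      right_inv := fun p => by
        obtain ⟨c, k, hk⟩ := p
        have hk' : Φ k = 0 := hk
        have hc : Φ (k + sm w c u) = c := by rw [map_add, hk', hΦsm, zero_add]
        refine Prod.ext hc (Subtype.ext ?_)
        show k + sm w c u + sm w (Φ (k + sm w c u)) u = k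
        rw [hc, add_assoc, h2, add_zero]
      map_add' := fun a b => by
        refine Prod.ext (map_add Φ a b) (Subtype.ext ?_)
        show a + b + sm w (Φ (a + b)) u = a + sm w (Φ a) u + (b + sm w (Φ b) u)
        rw [map_add, sm_add_left h2]; abel }
  refine ⟨Φ.ker, e, ?_, fun v hv => ?_, ?_, fun v => ⟨hΦw v, ?_⟩, fun v => ?_⟩
  · have hlt : Nat.card Φ.ker < Nat.card (K4 × Φ.ker) := by
      rw [Nat.card_prod, CfsgLib.Spor.U62.card_K4]
      have : 0 < Nat.card Φ.ker := Nat.card_pos
      omega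
    rwa [← Nat.card_congr e.toEquiv] at hlt
  · have hv' : Φ v = 0 := hv
    show Φ (w v) = 0
    rw [hΦw, hv', mul_zero]
  · intro k hk
    refine Subtype.ext (hnd k fun v => ?_)
    have hv : v = (v + sm w (Φ v) u) + sm w (Φ v) u := by rw [add_assoc, h2, add_zero]
    rw [hv, hBr, hperp k k.2, add_zero]
    exact hk ⟨_, hmem v⟩
  · show w v + sm w (Φ (w v)) u = w (v + sm w (Φ v) u)
    rw [map_add, hΦw, ← om_sm h2 w hw]
  · show toK (q v) = Φ v * Φ v ^ 2 + toK (q (v + sm w (Φ v) u))
    conv_lhs => rw [show v = (v + sm w (Φ v) u) + sm w (Φ v) u by rw [add_assoc, h2, add_zero]]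
    rw [hpol, hperp _ (hmem v), add_zero, toK_add, add_comm]
    congr 1
    have hq1 : ∀ c, toK (q (sm w c u)) = c * c ^ 2 := by
      intro c
      obtain ⟨a, b⟩ := c
      have hquu : q (u + w u) = 1 := by rw [add_comm, ← hww, hwq, hwq, hu]
      rcases z2_cases a with rfl | rfl <;> rcases z2_cases b with rfl | rfl <;>
        simp [sm, hq0, hu, hwq, hquu, toK] <;> decide +kernel
    exact hq1 _

theorem exists_frame_aux : ∀ (n : ℕ) {V : Type*} [AddCommGroup V] [Finite V], Nat.card V = n →
    ∀ (_h2 : ∀ v : V, v + v = 0) (q : V → ZMod 2) (B : V → V → ZMod 2)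
    (_hpol : ∀ u v, q (u + v) = q u + q v + B u v)
    (_hBl : ∀ u v x, B (u + v) x = B u x + B v x)
    (_hnd : ∀ u, (∀ v, B u v = 0) → u = 0)
    (w : V →+ V) (_hw : ∀ v, w (w v) + w v + v = 0) (_hwq : ∀ v, q (w v) = q v),
    ∃ (k : ℕ) (e : V ≃+ (Fin k → K4)), (∀ v, e (w v) = om • e v) ∧ ∀ v, toK (q v) = nf (e v) := by
  intro n
  induction n using Nat.strong_induction_on with
  | _ n ih =>
    intro V _ _ hn h2 q B hpol hBl hnd w hw hwq
    by_cases hne : ∃ v : V, v ≠ 0
    · obtain ⟨K, e, hlt, hwK, hndK, hew, heq⟩ := frame_step h2 q B hpol hBl hnd w hw hwq hne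
      let wK : K →+ K := AddMonoidHom.mk' (fun x => ⟨w x, hwK x x.2⟩)
        fun a b => Subtype.ext (map_add w (a : V) b)
      obtain ⟨k, e', hew', heq'⟩ := ih _ (hn ▸ hlt) rfl (fun x => Subtype.ext (h2 x))
        (fun x : K => q x) (fun x y : K => B x y) (fun a b => hpol a b) (fun a b c => hBl a b c)
        hndK wK (fun x => Subtype.ext (hw x)) (fun x => hwq x)
      let cons : K4 × (Fin k → K4) ≃+ (Fin (k + 1) → K4) :=
        { Fin.consEquiv (fun _ : Fin (k + 1) => K4) with
          map_add' := fun a b => by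
            funext i
            refine Fin.cases ?_ (fun j => ?_) i <;> simp }
      refine ⟨k + 1, (e.trans (AddEquiv.prodCongr (AddEquiv.refl K4) e')).trans cons,
        fun v => ?_, fun v => ?_⟩
      · have h1 : (e (w v)).2 = wK (e v).2 := Subtype.ext (hew v).2
        show Fin.cons (e (w v)).1 (e' (e (w v)).2) = om • Fin.cons (e v).1 (e' (e v).2)
        funext i
        refine Fin.cases ?_ (fun j => ?_) i
        · simp [(hew v).1]
        · simp [h1, hew']
      · show toK (q v) = nf (Fin.cons (e v).1 (e' (e v).2))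
        rw [heq v, heq' (e v).2, nf, nf, Cfsg.hermForm, Cfsg.hermForm, Fin.sum_univ_succ]
        simp
    · push Not at hne
      haveI : Subsingleton V := ⟨fun a b => by rw [hne a, hne b]⟩
      refine ⟨0,
        { toFun := fun _ => 0
          invFun := fun _ => 0
          left_inv := fun _ => Subsingleton.elim _ _
          right_inv := fun _ => Subsingleton.elim _ _
          map_add' := fun _ _ => Subsingleton.elim _ _ },
        fun _ => Subsingleton.elim _ _, fun v => ?_⟩
      have hq : q 0 = 0 := by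
        have hB0 : B 0 0 = 0 := by simpa using hBl 0 0 0
        have h := hpol 0 0
        rw [hB0, add_zero, add_zero] at h
        simpa using h
      rw [hne v, hq, nf, Cfsg.hermForm, Finset.univ_eq_empty, Finset.sum_empty]
      rfl

/-- An orthonormal frame over the field with four elements. -/
theorem exists_frame {V : Type*} [AddCommGroup V] [Finite V] (h2 : ∀ v : V, v + v = 0)
    (q : V → ZMod 2) (B : V → V → ZMod 2) (hpol : ∀ u v, q (u + v) = q u + q v + B u v)
    (hBl : ∀ u v x, B (u + v) x = B u x + B v x) (hnd : ∀ u, (∀ v, B u v = 0) → u = 0)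
    (w : V →+ V) (hw : ∀ v, w (w v) + w v + v = 0) (hwq : ∀ v, q (w v) = q v) :
    ∃ (k : ℕ) (e : V ≃+ (Fin k → K4)), (∀ v, e (w v) = om • e v) ∧ ∀ v, toK (q v) = nf (e v) :=
  exists_frame_aux _ rfl h2 q B hpol hBl hnd w hw hwq

theorem hermForm_polar {k : ℕ} (u v : Fin k → K4) :
    nf (u + v) + nf u + nf v = toK (Cfsg.hermForm k K4 2 u v).im := by
  have hterm : ∀ a b a' b' : ZMod 2,
      (((⟨a, b⟩ : K4) + ⟨a', b'⟩) * ((⟨a, b⟩ : K4) + ⟨a', b'⟩) ^ 2) +
        (⟨a, b⟩ : K4) * (⟨a, b⟩ : K4) ^ 2 + (⟨a', b'⟩ : K4) * (⟨a', b'⟩ : K4) ^ 2 =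
      toK ((⟨a, b⟩ : K4) * (⟨a', b'⟩ : K4) ^ 2).im := by decide +kernel
  simp only [nf, Cfsg.hermForm, ← Finset.sum_add_distrib]
  rw [show toK (∑ i, u i * v i ^ 2).im = ∑ i, toK (u i * v i ^ 2).im from
    map_sum (AddMonoidHom.mk' (fun x : K4 => toK x.im) fun a b => by simp [toK_add]) _ _]
  exact Finset.sum_congr rfl fun i _ => hterm _ _ _ _

/-- An additive isometry commuting with the scalar is unitary. -/
theorem exists_GU {k : ℕ} (g : (Fin k → K4) →+ (Fin k → K4)) (hω : ∀ v, g (om • v) = om • g v)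
    (hq : ∀ v, nf (g v) = nf v) :
    ∃ M : Cfsg.GU k K4 2, ∀ v, (M.1 : Matrix (Fin k) (Fin k) K4).mulVec v = g v := by
  have hsmul : ∀ (c : K4) v, g (c • v) = c • g v := by
    intro c v
    have hc : c = toK c.re + toK c.im * om := by
      obtain ⟨a, b⟩ := c
      revert a b; decide +kernel
    have hto : ∀ (a : ZMod 2) v, g (toK a • v) = toK a • g v := by
      intro a v
      rcases z2_cases a with rfl | rfl
      · rw [show toK 0 = 0 from rfl, zero_smul, zero_smul, map_zero]
      · rw [show toK 1 = 1 from rfl, one_smul, one_smul]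
    rw [hc, add_smul, add_smul, map_add, mul_smul, mul_smul, hto, hto, hω]
  let L : (Fin k → K4) →ₗ[K4] (Fin k → K4) :=
    { toFun := g, map_add' := map_add g, map_smul' := hsmul }
  have hherm : ∀ u v, Cfsg.hermForm k K4 2 (g u) (g v) = Cfsg.hermForm k K4 2 u v := by
    have him : ∀ u v, (Cfsg.hermForm k K4 2 (g u) (g v)).im = (Cfsg.hermForm k K4 2 u v).im := by
      intro u v
      have h := hermForm_polar (g u) (g v)
      rw [← map_add, hq, hq, hq, hermForm_polar] at h
      exact (congrArg QuadraticAlgebra.re h).symm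
    intro u v
    have hsl : ∀ (x y : Fin k → K4), Cfsg.hermForm k K4 2 (om • x) y = om * Cfsg.hermForm k K4 2 x y := by
      intro x y
      simp [Cfsg.hermForm, Finset.mul_sum, mul_assoc]
    refine QuadraticAlgebra.ext ?_ (him u v)
    have h := him (om • u) v
    rw [hω, hsl, hsl] at h
    simp only [QuadraticAlgebra.im_mul, om, zero_mul, one_mul, mul_one, zero_add] at h
    rw [him u v] at h
    exact add_right_cancel h
  have hinj : Function.Injective L := by
    intro a b h
    have hz : ∀ x, g x = 0 → x = 0 := by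
      intro x hx
      funext i
      have := hherm x (Pi.single i 1)
      rw [hx] at this
      simp only [Cfsg.hermForm, Pi.zero_apply, zero_mul, Finset.sum_const_zero] at this
      rw [Finset.sum_eq_single i (fun j _ hj => by simp [hj]) (by simp)] at this
      simpa using this.symm
    have : a - b = 0 := hz _ (by rw [map_sub]; exact sub_eq_zero.2 h)
    exact sub_eq_zero.1 this
  have hM : ∀ v, (LinearMap.toMatrix' L).mulVec v = g v := fun v => by
    rw [LinearMap.toMatrix'_mulVec]; rfl
  have hunit : IsUnit (LinearMap.toMatrix' L) := by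
    rw [← Matrix.mulVec_injective_iff_isUnit]
    intro a b h
    exact hinj (show g a = g b by simpa [hM] using h)
  refine ⟨⟨hunit.unit, ?_⟩, fun v => hM v⟩
  intro u v
  show Cfsg.hermForm k K4 2 ((LinearMap.toMatrix' L).mulVec u) ((LinearMap.toMatrix' L).mulVec v) = _
  rw [hM, hM, hherm]

end CfsgLib.Spor.LargeFi
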