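import Cfsg.Agent.Lib.ThreeTransp.CentralPair

/-!
The quadratic space of an extraspecial normal subgroup of order `2¹³` and the action on it.
-/

set_option autoImplicit false

namespace CfsgLib.Spor.LargeFi

open CfsgLib.ThreeTransp

universe u

variable {H : Type*} [Group H] [Finite H]

/-- the quadratic space of a normal extraspecial subgroup with its action -/
structure QuadQuot (Q : Subgroup H) [Q.Normal] (z : H) (V : Type*) [AddCommGroup V] where
  /-- the projection -/
  proj : Q → V
  /-- the quadratic form -/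
  q : V → ZMod 2
  /-- the polar form -/
  B : V → V → ZMod 2
  /-- the action -/
  act : H →* AddMonoid.End V
  proj_mul : ∀ a b : Q, proj (a * b) = proj a + proj b
  proj_surj : Function.Surjective proj
  proj_eq_zero : ∀ a : Q, proj a = 0 ↔ (a : H) = 1 ∨ (a : H) = z
  proj_sq : ∀ a : Q, (a : H) * a = 1 ↔ q (proj a) = 0
  two : ∀ v : V, v + v = 0
  polar : ∀ u v, q (u + v) = q u + q v + B u v
  bil : ∀ u v x, B (u + v) x = B u x + B v x
  nondeg : ∀ u, (∀ v, B u v = 0) → u = 0
  proj_B : ∀ a b : Q, B (proj a) (proj b) = 0 ↔ (a : H) * b = b * a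
  proj_conj : ∀ (h : H) (a : Q), proj (MulAut.conjNormal h a) = act h (proj a)
  ker_act : ∀ h, act h = 1 ↔ h ∈ Q
  act_q : ∀ h v, q (act h v) = q v
  card_V : Nat.card V * 2 = Nat.card Q

theorem z2_dec : ∀ a : ZMod 2, a = 0 ∨ a = 1 := by decide

open scoped Classical in
/-- zero for the identity and one otherwise -/
noncomputable def dl (x : H) : ZMod 2 := if x = 1 then 0 else 1

theorem dl_mul {z : H} (hz : z * z = 1) (hz1 : z ≠ 1) {x y : H} (hx : x = 1 ∨ x = z)
    (hy : y = 1 ∨ y = z) : dl (x * y) = dl x + dl y := by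
  classical
  rcases hx with rfl | rfl <;> rcases hy with rfl | rfl <;>
    simp [dl, hz, hz1, show (1 : ZMod 2) + 1 = 0 from rfl]

theorem exists_quadQuot {H : Type u} [Group H] [Finite H] {Q : Subgroup H} [Q.Normal] {z : H} (hX : XCent Q z)
    (hcent : ∀ h : H, h * z = z * h) :
    ∃ (V : Type u) (_ : AddCommGroup V) (_ : Finite V), Nonempty (QuadQuot Q z V) := by
  classical
  let Z : Subgroup Q := Subgroup.center Q
  have hZ : ∀ a : Q, a ∈ Z ↔ (a : H) = 1 ∨ (a : H) = z := by
    intro a
    rw [Subgroup.mem_center_iff]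
    refine ⟨fun h => hX.center a a.2 fun q hq => congrArg Subtype.val (h ⟨q, hq⟩), fun h g => ?_⟩
    rcases h with h | h <;> refine Subtype.ext ?_ <;> simp [h, hX.comm g g.2]
  haveI : IsMulCommutative (Q ⧸ Z) := ⟨⟨fun x y => by
    induction x using QuotientGroup.induction_on with
    | H a => ?_
    induction y using QuotientGroup.induction_on with
    | H b => ?_
    rw [← QuotientGroup.mk_mul, ← QuotientGroup.mk_mul, QuotientGroup.eq, hZ]
    have hc := hX.commEl (a : H)⁻¹ (inv_mem a.2) (b : H)⁻¹ (inv_mem b.2)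
    rw [inv_inv] at hc
    push_cast
    rw [mul_inv_rev]
    have e : (b : H)⁻¹ * (a : H)⁻¹ * ((b : H) * (a : H)) =
        (b : H)⁻¹ * ((a : H)⁻¹ * (b : H)⁻¹ * (a : H))⁻¹ := by simp [mul_assoc]
    rw [e]
    rcases hc with hc | hc <;> rw [hc]
    · left; rw [inv_inv, inv_mul_cancel]
    · right
      rw [mul_inv_rev, inv_inv, ← mul_assoc, inv_mul_cancel, one_mul]
      exact inv_eq_of_mul_eq_one_right hX.inv⟩⟩
  let V := Additive (Q ⧸ Z)
  let inst : CommGroup (Q ⧸ Z) := { (inferInstance : Group (Q ⧸ Z)) with mul_comm := mul_comm' }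
  let addInst : AddCommGroup V := Additive.addCommGroup (α := Q ⧸ Z)
  let pr : Q → V := fun a => Additive.ofMul (QuotientGroup.mk a)
  have hpm : ∀ a b, pr (a * b) = pr a + pr b := fun _ _ => rfl
  have hps : Function.Surjective pr := fun v => by
    obtain ⟨a, ha⟩ := QuotientGroup.mk_surjective (Additive.toMul v)
    exact ⟨a, congrArg Additive.ofMul ha⟩
  have hp0 : ∀ a : Q, pr a = 0 ↔ (a : H) = 1 ∨ (a : H) = z := fun a => by
    rw [← hZ]; exact QuotientGroup.eq_one_iff a
  have hpe : ∀ a b : Q, pr a = pr b → (b : H) = a ∨ (b : H) = z * a := by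
    intro a b h
    have h0 : (a⁻¹ * b : Q) ∈ Z := QuotientGroup.eq.1 (Additive.ofMul.injective h)
    rcases (hZ _).1 h0 with e | e <;> rw [Subgroup.coe_mul, Subgroup.coe_inv,
      inv_mul_eq_iff_eq_mul] at e
    · left; rw [e, mul_one]
    · right; rw [e, hX.comm a a.2]
  let sv : V → Q := Function.surjInv hps
  have hsv : ∀ v, pr (sv v) = v := Function.surjInv_eq hps
  let q : V → ZMod 2 := fun v => dl ((sv v : H) * sv v)
  have hq : ∀ a : Q, q (pr a) = dl ((a : H) * a) := by
    intro a
    show dl ((sv (pr a) : H) * _) = _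
    rcases hpe _ _ (hsv (pr a)).symm with h | h
    · rw [h]
    · rw [h, show z * (a : H) * (z * a) = z * ((a : H) * z) * a by simp only [mul_assoc],
        hX.comm a a.2, ← mul_assoc z z, hX.inv, one_mul]
  let B : V → V → ZMod 2 := fun u v => q (u + v) + q u + q v
  have hB : ∀ a b : Q, B (pr a) (pr b) = dl ((a : H) * b * ((b : H) * a)⁻¹) := by
    intro a b
    show q (pr a + pr b) + q (pr a) + q (pr b) = _
    rw [← hpm, hq, hq, hq, Subgroup.coe_mul]
    have hk : (b : H) * a = a * b ∨ (b : H) * a = z * (a * b) := by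
      rcases hX.commEl b b.2 a a.2 with h | h <;> rw [mul_inv_eq_iff_eq_mul] at h
      · exact Or.inl h
      · exact Or.inr (by rw [h, mul_assoc])
    have e4 : (a : H) * b * ((a : H) * b) = (a : H) * ((b : H) * a) * b := by simp only [mul_assoc]
    rw [e4]
    rcases hk with hk | hk <;> rw [hk]
    · rw [mul_inv_cancel, show (a : H) * (a * b) * b = (a * a) * (b * b) by simp only [mul_assoc],
        dl_mul hX.inv hX.ne_one (hX.sq a a.2) (hX.sq b b.2), show dl (1 : H) = 0 by simp [dl],
        add_assoc (dl _ + dl _), CharTwo.add_self_eq_zero]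
    · rw [show (a : H) * (z * (a * b)) * b = z * ((a * a) * (b * b)) by
        rw [← mul_assoc (a : H) z, hX.comm a a.2]; simp only [mul_assoc]]
      have hzz : (a : H) * a * (b * b) = 1 ∨ (a : H) * a * (b * b) = z := by
        rcases hX.sq a a.2 with h1 | h1 <;> rcases hX.sq b b.2 with h2 | h2 <;> simp [h1, h2, hX.inv]
      rw [dl_mul hX.inv hX.ne_one (Or.inr rfl) hzz, dl_mul hX.inv hX.ne_one (hX.sq a a.2) (hX.sq b b.2),
        show (a : H) * b * (z * (a * b))⁻¹ = z by
          rw [mul_inv_rev, mul_inv_cancel_left]; exact inv_eq_of_mul_eq_one_right hX.inv]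
      have : ∀ x y c : ZMod 2, c + (x + y) + x + y = c := by decide
      exact this _ _ _
  have hB0 : ∀ a b : Q, B (pr a) (pr b) = 0 ↔ (a : H) * b = b * a := by
    intro a b
    rw [hB, dl]
    constructor
    · intro h
      split_ifs at h with h1
      · exact mul_inv_eq_one.1 h1
      · exact absurd h one_ne_zero
    · intro h
      rw [if_pos (mul_inv_eq_one.2 h)]
  have hbil : ∀ u v x, B (u + v) x = B u x + B v x := by
    intro u v x
    obtain ⟨a, rfl⟩ := hps u
    obtain ⟨b, rfl⟩ := hps v
    obtain ⟨c, rfl⟩ := hps x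
    rw [← hpm, hB, hB, hB, Subgroup.coe_mul]
    have hk : ∀ d : Q, (d : H) * c * ((c : H) * d)⁻¹ = 1 ∨ (d : H) * c * ((c : H) * d)⁻¹ = z := by
      intro d
      rw [mul_inv_rev, ← mul_assoc]
      rcases hX.commEl d d.2 c c.2 with h | h <;> rw [h]
      · left; rw [mul_inv_cancel]
      · right; rw [mul_inv_cancel_right]
    rw [← dl_mul hX.inv hX.ne_one (hk a) (hk b)]
    congr 1
    rcases hk b with h | h
    · rw [h, mul_one]
      rw [mul_inv_eq_one] at h
      rw [mul_assoc (a : H), h, ← mul_assoc, ← mul_assoc (c : H)]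
      simp [mul_assoc]
    · rw [h]
      rw [mul_inv_eq_iff_eq_mul] at h
      calc (a : H) * b * c * ((c : H) * (a * b))⁻¹
          = (a : H) * (z * ((c : H) * b)) * ((c : H) * (a * b))⁻¹ := by rw [← h]; simp [mul_assoc]
        _ = z * ((a : H) * c * ((c : H) * a)⁻¹) := by
            rw [← mul_assoc (a : H) z, hX.comm a a.2]; simp [mul_assoc]
        _ = (a : H) * c * ((c : H) * a)⁻¹ * z := (hcent _).symm
  have hnd : ∀ u, (∀ v, B u v = 0) → u = 0 := by
    intro u hu
    obtain ⟨a, rfl⟩ := hps u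
    rw [hp0]
    exact hX.center a a.2 fun b hb => ((hB0 a ⟨b, hb⟩).1 (hu _)).symm
  let cf : H → (Q →* Q) := fun h => (MulAut.conjNormal h : MulAut Q).toMonoidHom
  have hcf : ∀ h, Z ≤ Z.comap (cf h) := by
    intro h a ha
    rw [Subgroup.mem_comap, hZ]
    show h * (a : H) * h⁻¹ = 1 ∨ h * (a : H) * h⁻¹ = z
    rcases (hZ a).1 ha with e | e <;> rw [e]
    · left; simp
    · right; rw [hcent, mul_inv_cancel_right]
  let actf : H → AddMonoid.End V := fun h =>
    MonoidHom.toAdditive (QuotientGroup.map Z Z (cf h) (hcf h))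
  have hactp : ∀ h (a : Q), actf h (pr a) = pr (MulAut.conjNormal h a) := fun _ _ => rfl
  let act : H →* AddMonoid.End V :=
    { toFun := actf
      map_one' := AddMonoidHom.ext fun v => by
        obtain ⟨a, rfl⟩ := hps v
        show pr (MulAut.conjNormal 1 a) = pr a
        rw [map_one, MulAut.one_apply]
      map_mul' := fun g h => AddMonoidHom.ext fun v => by
        obtain ⟨a, rfl⟩ := hps v
        show pr (MulAut.conjNormal (g * h) a) = pr (MulAut.conjNormal g (MulAut.conjNormal h a))
        rw [map_mul, MulAut.mul_apply] }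
  have hactq : ∀ h v, q (act h v) = q v := by
    intro h v
    obtain ⟨a, rfl⟩ := hps v
    show q (pr (MulAut.conjNormal h a)) = q (pr a)
    rw [hq, hq, MulAut.conjNormal_apply, dl, dl]
    refine if_congr ?_ rfl rfl
    rw [show h * (a : H) * h⁻¹ * (h * (a : H) * h⁻¹) = h * ((a : H) * a) * h⁻¹ by simp [mul_assoc],
      conj_eq_one_iff]
  have htwo : ∀ v : V, v + v = 0 := by
    intro v
    obtain ⟨a, rfl⟩ := hps v
    rw [← hpm, hp0]
    exact hX.sq a a.2
  have hsymm : ∀ u v, B u v = B v u := fun u v => by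
    show q (u + v) + q u + q v = q (v + u) + q v + q u
    rw [add_comm v u]; abel
  have hbr : ∀ u v x, B u (v + x) = B u v + B u x := fun u v x => by
    rw [hsymm, hbil, hsymm v, hsymm x]
  have hker : ∀ h, act h = 1 ↔ h ∈ Q := by
    intro h
    constructor
    · intro hh
      haveI : Module (ZMod 2) V := AddCommGroup.zmodModule fun v => by rw [two_nsmul]; exact htwo v
      let D : V →ₗ[ZMod 2] Module.Dual (ZMod 2) V :=
        (AddMonoidHom.mk' (fun u => (AddMonoidHom.mk' (fun v => B u v) (hbr u)).toZModLinearMap 2)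
          fun u v => LinearMap.ext fun x => hbil u v x).toZModLinearMap 2
      have hD : Function.Surjective D :=
        (LinearMap.injective_iff_surjective_of_finrank_eq_finrank Subspace.dual_finrank_eq.symm).1
          ((injective_iff_map_eq_zero D).2 fun u hu => hnd u fun v => LinearMap.congr_fun hu v)
      have hfix : ∀ a : Q, h * (a : H) * h⁻¹ * (a : H)⁻¹ = 1 ∨
          h * (a : H) * h⁻¹ * (a : H)⁻¹ = z := by
        intro a
        have e : pr (MulAut.conjNormal h a) = pr a := by rw [← hactp]; exact DFunLike.congr_fun hh _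
        rcases hpe _ _ e.symm with e | e <;> rw [MulAut.conjNormal_apply] at e <;> rw [e]
        · left; rw [mul_inv_cancel]
        · right; rw [mul_inv_cancel_right]
      have hzmove : ∀ y, h * (z * y) * h⁻¹ * (z * y)⁻¹ = h * y * h⁻¹ * y⁻¹ := fun y =>
        calc h * (z * y) * h⁻¹ * (z * y)⁻¹ = z * (h * y * h⁻¹ * y⁻¹) * z⁻¹ := by
              rw [← mul_assoc h z, hcent]; simp [mul_assoc]
          _ = _ := by rw [← hcent, mul_inv_cancel_right]
      let χ : V →+ ZMod 2 := AddMonoidHom.mk'
        (fun v => dl (h * (sv v : H) * h⁻¹ * (sv v : H)⁻¹)) (by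
          intro u v
          set a := sv u with ha
          set b := sv v with hb
          set c := sv (u + v) with hc
          have e : pr (a * b) = pr c := by
            rw [hpm, ha, hb, hc, hsv, hsv, hsv]
          have e' : h * (c : H) * h⁻¹ * (c : H)⁻¹ =
              h * ((a * b : Q) : H) * h⁻¹ * ((a * b : Q) : H)⁻¹ := by
            rcases hpe _ _ e with e | e <;> rw [e]
            rw [hzmove]
          rw [← dl_mul hX.inv hX.ne_one (hfix a) (hfix b), e', Subgroup.coe_mul]
          congr 1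
          have hcomm : h * (b : H) * h⁻¹ * (b : H)⁻¹ * (a : H)⁻¹ =
              (a : H)⁻¹ * (h * (b : H) * h⁻¹ * (b : H)⁻¹) := by
            rcases hfix b with e | e <;> rw [e]
            · simp
            · rw [hcent]
          calc h * ((a : H) * b) * h⁻¹ * ((a : H) * b)⁻¹
              = h * (a : H) * h⁻¹ * (h * (b : H) * h⁻¹ * (b : H)⁻¹ * (a : H)⁻¹) := by
                simp [mul_assoc]
            _ = _ := by rw [hcomm]; simp [mul_assoc])
      obtain ⟨u, hu⟩ := hD (χ.toZModLinearMap 2)
      obtain ⟨p, rfl⟩ := hps u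
      have hc : (p : H)⁻¹ * h ∈ Subgroup.centralizer (Q : Set H) := by
        rw [Subgroup.mem_centralizer_iff]
        intro a haQ
        have e1 : B (pr p) (pr ⟨a, haQ⟩) = χ (pr ⟨a, haQ⟩) := LinearMap.congr_fun hu _
        have e2 : χ (pr ⟨a, haQ⟩) = dl (h * a * h⁻¹ * a⁻¹) := by
          show dl (h * (sv (pr ⟨a, haQ⟩) : H) * h⁻¹ * _) = _
          rcases hpe _ _ (hsv (pr ⟨a, haQ⟩)).symm with e | e <;> rw [e]
          rw [hzmove]
        rw [e2, hB] at e1
        have hd : ∀ {x y : H}, (x = 1 ∨ x = z) → (y = 1 ∨ y = z) → dl x = dl y → x = y := by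
          intro x y hx hy e
          rcases hx with rfl | rfl <;> rcases hy with rfl | rfl <;>
            simp [dl, hX.ne_one] at e <;> rfl
        have h1 : (p : H) * a * (a * (p : H))⁻¹ = 1 ∨ (p : H) * a * (a * (p : H))⁻¹ = z := by
          rw [mul_inv_rev, ← mul_assoc]
          rcases hX.commEl p p.2 a haQ with h | h <;> rw [h]
          · left; rw [mul_inv_cancel]
          · right; rw [mul_inv_cancel_right]
        have e3 := hd h1 (hfix ⟨a, haQ⟩) e1
        rw [mul_inv_rev, ← mul_assoc] at e3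
        have e4 : h * a = (p : H) * a * (p : H)⁻¹ * h := by
          have := congrArg (· * a * h) e3
          simpa [mul_assoc] using this.symm
        calc a * ((p : H)⁻¹ * h) = (p : H)⁻¹ * ((p : H) * a * (p : H)⁻¹ * h) := by simp [mul_assoc]
          _ = (p : H)⁻¹ * h * a := by rw [← e4, mul_assoc]
      simpa using Q.mul_mem p.2 (hX.cent hc)
    · intro hh
      refine AddMonoidHom.ext fun v => ?_
      obtain ⟨a, rfl⟩ := hps v
      show pr (MulAut.conjNormal h a) = pr a
      refine congrArg Additive.ofMul (QuotientGroup.eq.2 ((hZ _).2 ?_))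
      rw [Subgroup.coe_mul, Subgroup.coe_inv, MulAut.conjNormal_apply]
      rcases hX.commEl h hh a a.2 with e | e <;> rw [e]
      · left; rw [inv_mul_cancel]
      · right
        rw [mul_inv_rev, inv_eq_of_mul_eq_one_right hX.inv, mul_assoc, ← hX.comm a a.2, inv_mul_cancel_left]
  have hcard : Nat.card V * 2 = Nat.card Q := by
    have h := Subgroup.card_eq_card_quotient_mul_card_subgroup Z
    have h2 : Nat.card Z = 2 := by
      have e : (Z : Set Q) = {1, ⟨z, hX.mem⟩} := by
        ext a
        rw [SetLike.mem_coe, hZ, Set.mem_insert_iff, Set.mem_singleton_iff]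
        exact or_congr (Iff.symm (Subtype.ext_iff (a2 := (1 : Q)))) (Iff.symm (Subtype.ext_iff (a2 := (⟨z, hX.mem⟩ : Q))))
      rw [show Nat.card Z = Nat.card (Z : Set Q) from rfl, Nat.card_coe_set_eq, e,
        Set.ncard_pair (fun h => hX.ne_one (congrArg Subtype.val h).symm)]
    rw [h2] at h
    exact h.symm
  refine ⟨V, addInst, inferInstanceAs (Finite (Q ⧸ Z)), ⟨⟨pr, q, B, act, hpm, hps, hp0, fun a => ?_,
    htwo, fun u v => ?_, hbil, hnd, hB0, fun h a => rfl, hker, hactq, hcard⟩⟩⟩
  · rw [hq, dl]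
    refine ⟨fun h => if_pos h, fun h => ?_⟩
    by_contra hne
    rw [if_neg hne] at h
    exact one_ne_zero h
  · show q (u + v) = q u + q v + (q (u + v) + q u + q v)
    have : ∀ a b c : ZMod 2, a = b + c + (a + b + c) := by decide
    exact this _ _ _

end CfsgLib.Spor.LargeFi
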