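import Cfsg.Agent.Lib.Spor.CodeModules
import Cfsg.Agent.Lib.Spor.GolayFacts
import Cfsg.Agent.Lib.Spor.M24Order
import Cfsg.Agent.Lib.Spor.M24Trans
import Cfsg.Agent.Lib.Spor.MathieuSimple

/-!
Recognition of `M24` from its action on the even part of the Golay cocode: a group acting
faithfully and additively on a group of order `2^11`, permuting the 276 duad vectors, and of
order `244823040`, is `M24`.
-/

set_option autoImplicit false
set_option linter.unusedSectionVars false

namespace CfsgLib.Spor.DuadM24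

open Cfsg
open scoped symmDiff Pointwise

local notation "supC" => supports (golayCode : Set (GolayPt → ZMod 2))

theorem card_cases {s : Finset GolayPt} (hs : s ∈ supC) :
    s.card = 0 ∨ s.card = 8 ∨ s.card = 12 ∨ s.card = 16 ∨ s.card = 24 := by
  obtain ⟨w, hw, rfl⟩ := hs
  rw [← hammingNorm_eq_card_support₂]
  exact weight_cases hw

theorem even_of_mem {s : Finset GolayPt} (hs : s ∈ supC) : Even s.card := by
  rcases card_cases hs with h | h | h | h | h <;> rw [h] <;> decide

/-- coordinates of a group as the even part of the Golay cocode -/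
structure Coord (A : Type*) [AddCommGroup A] where
  /-- the coordinate vectors -/
  q : GolayPt → A
  two : ∀ a : A, a + a = 0
  rel : ∀ s : Finset GolayPt, Even s.card → (∑ p ∈ s, q p = 0 ↔ s ∈ supC)
  gen : ∀ a : A, ∃ s : Finset GolayPt, Even s.card ∧ ∑ p ∈ s, q p = a

/-- `M24` has no proper subgroup of index at most three -/
theorem eq_top_of_index_le_three {R : Subgroup M24} (h : R.index ≤ 3) : R = ⊤ := by
  haveI := isSimpleGroup_M24
  haveI : R.normalCore.Normal := Subgroup.normalCore_normal R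
  rcases Subgroup.Normal.eq_bot_or_eq_top (inferInstance : R.normalCore.Normal) with e | e
  · exfalso
    let f := MulAction.toPermHom M24 (M24 ⧸ R)
    have hf : Function.Injective f := by
      rw [← MonoidHom.ker_eq_bot_iff, ← e, Subgroup.normalCore_eq_ker]
    have h1 := Nat.card_le_card_of_injective f hf
    rw [natCard_M24, Nat.card_perm] at h1
    have h2 : (Nat.card (M24 ⧸ R)).factorial ≤ Nat.factorial 3 := Nat.factorial_le h
    norm_num [Nat.factorial] at h2
    omega
  · exact top_le_iff.1 (e ▸ Subgroup.normalCore_le R)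

variable {A : Type*} [AddCommGroup A]

theorem sum_symmDiff' {ι : Type*} [DecidableEq ι] (htwo : ∀ a : A, a + a = 0) (q : ι → A)
    (s t : Finset ι) : ∑ p ∈ s ∆ t, q p = (∑ p ∈ s, q p) + ∑ p ∈ t, q p := by
  have hs := Finset.sum_sdiff (f := q) (Finset.inter_subset_left (s₁ := s) (s₂ := t))
  have ht := Finset.sum_sdiff (f := q) (Finset.inter_subset_right (s₁ := s) (s₂ := t))
  rw [Finset.sdiff_inter_self_left] at hs
  rw [Finset.sdiff_inter_self_right] at ht
  have hd : Disjoint (s \ t) (t \ s) := disjoint_sdiff_sdiff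
  rw [symmDiff_def, Finset.sup_eq_union, Finset.sum_union hd, ← hs, ← ht]
  rw [add_add_add_comm, htwo, add_zero]

namespace Coord

variable (C : Coord A)

/-- the vector of a set of points -/
def S (s : Finset GolayPt) : A := ∑ p ∈ s, C.q p

/-- the duad vectors -/
def duads : Set A := {x | ∃ a b : GolayPt, a ≠ b ∧ x = C.q a + C.q b}

theorem S_pair {a b : GolayPt} (h : a ≠ b) : C.S {a, b} = C.q a + C.q b := Finset.sum_pair h

theorem mem_duads_iff {x : A} : x ∈ C.duads ↔ ∃ P : Finset GolayPt, P.card = 2 ∧ x = C.S P := by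
  constructor
  · rintro ⟨a, b, hab, rfl⟩
    exact ⟨{a, b}, Finset.card_pair hab, (C.S_pair hab).symm⟩
  · rintro ⟨P, hP, rfl⟩
    obtain ⟨a, b, hab, rfl⟩ := Finset.card_eq_two.1 hP
    exact ⟨a, b, hab, C.S_pair hab⟩

theorem S_symmDiff (s t : Finset GolayPt) : C.S (s ∆ t) = C.S s + C.S t :=
  sum_symmDiff' C.two C.q s t

include C in
theorem add_eq_zero_iff' {a b : A} : a + b = 0 ↔ a = b := by
  rw [add_eq_zero_iff_eq_neg]
  have : -b = b := neg_eq_of_add_eq_zero_left (C.two b)
  rw [this]

theorem S_inj {s t : Finset GolayPt} (hp : Even (s.card + t.card)) (hle : s.card + t.card < 8)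
    (h : C.S s = C.S t) : s = t := by
  have hc := card_symmDiff_add s t
  have he : Even (s ∆ t).card := by
    rw [Nat.even_iff] at hp ⊢; omega
  have hs : s ∆ t ∈ supC := (C.rel _ he).1 (by
    rw [← S, C.S_symmDiff, h]; exact C.two _)
  have h0 : (s ∆ t).card = 0 := by
    rcases card_cases hs with h' | h' | h' | h' | h' <;> omega
  exact symmDiff_eq_bot.1 (Finset.card_eq_zero.1 h0)

theorem eq_tetrad_or_duad (a : A) :
    a = 0 ∨ a ∈ C.duads ∨ ∃ s : Finset GolayPt, s.card = 4 ∧ a = C.S s := by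
  obtain ⟨s, hs, rfl⟩ := C.gen a
  obtain ⟨v, hv, hd⟩ := exists_weight_le_four (ind s)
  rw [hammingNorm_eq_card_support₂] at hv
  have hd' : s ∆ support₂ v ∈ supC := by
    refine ⟨ind s - v, hd, ?_⟩
    rw [show ind s - v = ind s + ind (support₂ v) by
      rw [ind_support₂]; funext p; simp [sub_eq_add_neg, ZMod.neg_eq_self_mod_two], ind_add,
      support₂_ind]
  have he := card_symmDiff_add s (support₂ v)
  have hev : Even (support₂ v).card := by
    have := even_of_mem hd'
    rw [Nat.even_iff] at this hs ⊢; omega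
  have hS : C.S s = C.S (support₂ v) := by
    rw [← C.add_eq_zero_iff', ← C.S_symmDiff]
    exact (C.rel _ (even_of_mem hd')).2 hd'
  change C.S s = 0 ∨ C.S s ∈ _ ∨ ∃ t : Finset GolayPt, t.card = 4 ∧ C.S s = C.S t
  rcases Nat.lt_or_ge (support₂ v).card 4 with h | h
  · rcases Nat.lt_or_ge (support₂ v).card 2 with h' | h'
    · left
      have : support₂ v = ∅ := Finset.card_eq_zero.1 (by rw [Nat.even_iff] at hev; omega)
      rw [hS, this]; rfl
    · right; left
      exact C.mem_duads_iff.2 ⟨support₂ v, by rw [Nat.even_iff] at hev; omega, hS⟩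
  · right; right
    exact ⟨support₂ v, by omega, hS⟩

theorem tetrad_not_duad {s : Finset GolayPt} (hs : s.card = 4) :
    C.S s ≠ 0 ∧ C.S s ∉ C.duads := by
  refine ⟨fun h => ?_, fun h => ?_⟩
  · have := C.S_inj (s := s) (t := ∅) (by rw [hs]; decide) (by simp [hs]) h
    rw [this] at hs; simp at hs
  · obtain ⟨P, hP, he⟩ := C.mem_duads_iff.1 h
    have := C.S_inj (by rw [hs, hP]; decide) (by omega) he
    rw [this, hP] at hs; omega

/-- an additive map preserving duads comes from a permutation in `M24` -/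
theorem exists_perm (f : A →+ A) (hinj : Function.Injective f)
    (hiff : ∀ x, f x ∈ C.duads ↔ x ∈ C.duads) :
    ∃ σ : Equiv.Perm GolayPt, σ ∈ M24 ∧ ∀ s : Finset GolayPt, Even s.card →
      f (C.S s) = C.S (σ • s) := by
  classical
  have hP : ∀ a b : GolayPt, ∃ P : Finset GolayPt, a ≠ b → P.card = 2 ∧ f (C.q a + C.q b) = C.S P := by
    intro a b
    by_cases h : a = b
    · exact ⟨∅, fun h' => absurd h h'⟩
    · obtain ⟨P, h1, h2⟩ := C.mem_duads_iff.1 ((hiff _).2 ⟨a, b, h, rfl⟩)
      exact ⟨P, fun _ => ⟨h1, h2⟩⟩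
  choose P hP using hP
  -- two images in the star of a point meet once
  have hmeet : ∀ {a e k : GolayPt}, e ≠ a → k ≠ a → e ≠ k → P a e ∆ P a k = P e k ∧
      (P a e ∩ P a k).card = 1 := by
    intro a e k he hk hek
    obtain ⟨c1, s1⟩ := hP a e he.symm
    obtain ⟨c2, s2⟩ := hP a k hk.symm
    obtain ⟨c3, s3⟩ := hP e k hek
    have hc := card_symmDiff_add (P a e) (P a k)
    have h : C.S (P a e ∆ P a k) = C.S (P e k) := by
      rw [C.S_symmDiff, ← s1, ← s2, ← s3, ← map_add]
      congr 1
      rw [add_add_add_comm, C.two, zero_add]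
    have hEq := C.S_inj (by rw [c3, Nat.even_iff]; omega) (by omega) h
    exact ⟨hEq, by rw [hEq, c1, c2, c3] at hc; omega⟩
  -- the centre of each star
  have hcent : ∀ a : GolayPt, ∃ c : GolayPt, ∀ k, k ≠ a → c ∈ P a k := by
    intro a
    obtain ⟨e, he⟩ := exists_ne a
    obtain ⟨k, -, hk⟩ : ∃ k ∈ (Finset.univ : Finset GolayPt), k ∉ ({a, e} : Finset GolayPt) :=
      Finset.exists_mem_notMem_of_card_lt_card (by
        have := Finset.card_le_two (a := a) (b := e)
        simp only [Finset.card_univ, Fintype.card_option, ZMod.card]; omega)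
    simp only [Finset.mem_insert, Finset.mem_singleton, not_or] at hk
    obtain ⟨c, hc⟩ := Finset.card_eq_one.1 (hmeet he hk.1 (Ne.symm hk.2)).2
    have hce : c ∈ P a e ∧ c ∈ P a k := Finset.mem_inter.1 (hc ▸ Finset.mem_singleton_self c)
    refine ⟨c, fun j hj => ?_⟩
    by_cases hje : j = e
    · exact hje ▸ hce.1
    by_cases hjk : j = k
    · exact hjk ▸ hce.2
    by_contra hn
    have hsub : P e k ⊆ P a j := by
      rw [← (hmeet he hk.1 (Ne.symm hk.2)).1]
      intro x hx
      obtain ⟨u, hu⟩ := Finset.card_eq_one.1 (hmeet hj he hje).2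
      obtain ⟨v, hv⟩ := Finset.card_eq_one.1 (hmeet hj hk.1 hjk).2
      have hu' : u ∈ P a j ∧ u ∈ P a e := Finset.mem_inter.1 (hu ▸ Finset.mem_singleton_self u)
      have hv' : v ∈ P a j ∧ v ∈ P a k := Finset.mem_inter.1 (hv ▸ Finset.mem_singleton_self v)
      have two_mem : ∀ {Q : Finset GolayPt} {y w : GolayPt}, Q.card = 2 → c ∈ Q → y ∈ Q → y ≠ c →
          w ∈ Q → w ≠ c → w = y := by
        intro Q y w hQ hcQ hy hyc hw hwc
        have h1 : (Q.erase c).card = 1 := by rw [Finset.card_erase_of_mem hcQ, hQ]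
        exact Finset.card_le_one.1 h1.le _ (Finset.mem_erase.2 ⟨hwc, hw⟩) _
          (Finset.mem_erase.2 ⟨hyc, hy⟩)
      rcases Finset.mem_symmDiff.1 hx with ⟨h1, h2⟩ | ⟨h1, h2⟩
      · rw [two_mem (hP a e he.symm).1 hce.1 hu'.2 (fun h => hn (h ▸ hu'.1)) h1
          (fun h => h2 (h ▸ hce.2))]
        exact hu'.1
      · rw [two_mem (hP a k (Ne.symm hk.1)).1 hce.2 hv'.2 (fun h => hn (h ▸ hv'.1)) h1
          (fun h => h2 (h ▸ hce.1))]
        exact hv'.1
    have hEq : P e k = P a j := Finset.eq_of_subset_of_card_le hsub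
      (by rw [(hP a j (Ne.symm hj)).1, (hP e k (Ne.symm hk.2)).1])
    have h2 : C.q e + C.q k = C.q a + C.q j :=
      hinj (by rw [(hP e k (Ne.symm hk.2)).2, (hP a j (Ne.symm hj)).2, hEq])
    rw [← C.S_pair (Ne.symm hk.2), ← C.S_pair (Ne.symm hj)] at h2
    have h3 := C.S_inj (by rw [Finset.card_pair (Ne.symm hk.2), Finset.card_pair (Ne.symm hj)]; decide)
      (by rw [Finset.card_pair (Ne.symm hk.2), Finset.card_pair (Ne.symm hj)]; omega) h2
    have : a ∈ ({e, k} : Finset GolayPt) := h3 ▸ Finset.mem_insert_self a {j}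
    simp only [Finset.mem_insert, Finset.mem_singleton] at this
    rcases this with h | h
    · exact he h.symm
    · exact hk.1 h.symm
  choose σ hσ using hcent
  have hσinj : Function.Injective σ := by
    intro a b hab
    by_contra hne
    obtain ⟨c, -, hc⟩ : ∃ k ∈ (Finset.univ : Finset GolayPt), k ∉ ({a, b} : Finset GolayPt) :=
      Finset.exists_mem_notMem_of_card_lt_card (by
        have := Finset.card_le_two (a := a) (b := b)
        simp only [Finset.card_univ, Fintype.card_option, ZMod.card]; omega)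
    obtain ⟨e, -, he⟩ : ∃ k ∈ (Finset.univ : Finset GolayPt), k ∉ ({a, b, c} : Finset GolayPt) :=
      Finset.exists_mem_notMem_of_card_lt_card (by
        have := Finset.card_le_three (a := a) (b := b) (c := c)
        simp only [Finset.card_univ, Fintype.card_option, ZMod.card]; omega)
    simp only [Finset.mem_insert, Finset.mem_singleton, not_or] at hc he
    obtain ⟨c1, s1⟩ := hP a c (Ne.symm hc.1)
    obtain ⟨c2, s2⟩ := hP b e (Ne.symm he.2.1)
    have hd : Disjoint ({a, c} : Finset GolayPt) {b, e} := by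
      simp [Finset.disjoint_left, hne, Ne.symm he.1, hc.2, Ne.symm he.2.2]
    have hne' : P a c ≠ P b e := by
      intro h
      have h2 : C.q a + C.q c = C.q b + C.q e := hinj (by rw [s1, s2, h])
      rw [← C.S_pair (Ne.symm hc.1), ← C.S_pair (Ne.symm he.2.1)] at h2
      have h3 := C.S_inj (by rw [Finset.card_pair (Ne.symm hc.1), Finset.card_pair (Ne.symm he.2.1)]; decide)
        (by rw [Finset.card_pair (Ne.symm hc.1), Finset.card_pair (Ne.symm he.2.1)]; omega) h2
      exact Finset.disjoint_left.1 hd (Finset.mem_insert_self a _) (h3 ▸ Finset.mem_insert_self a _)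
    have hx : σ a ∈ P a c ∩ P b e :=
      Finset.mem_inter.2 ⟨hσ a c hc.1, hab ▸ hσ b e he.2.1⟩
    have hcard : (P a c ∆ P b e).card = 2 := by
      have h := card_symmDiff_add (P a c) (P b e)
      have h1 : 1 ≤ (P a c ∩ P b e).card := Finset.card_pos.2 ⟨_, hx⟩
      have h2 : (P a c ∩ P b e).card < 2 := by
        rw [← c1]
        refine Finset.card_lt_card ⟨Finset.inter_subset_left, fun h' => hne' ?_⟩
        exact Finset.eq_of_subset_of_card_le (fun y hy => (Finset.mem_inter.1 (h' hy)).2) (by omega)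
      omega
    obtain ⟨Q, hQ, hQe⟩ := C.mem_duads_iff.1 ((hiff (C.S ({a, c} ∆ {b, e}))).1
      (C.mem_duads_iff.2 ⟨_, hcard, by
        rw [C.S_symmDiff, C.S_symmDiff, map_add, C.S_pair (Ne.symm hc.1),
          C.S_pair (Ne.symm he.2.1), s1, s2]⟩))
    have hc4 : ({a, c} ∆ {b, e} : Finset GolayPt).card = 4 := by
      rw [hd.symmDiff_eq_sup, Finset.sup_eq_union, Finset.card_union_of_disjoint hd,
        Finset.card_pair (Ne.symm hc.1), Finset.card_pair (Ne.symm he.2.1)]
    exact (C.tetrad_not_duad hc4).2 (C.mem_duads_iff.2 ⟨Q, hQ, hQe⟩)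
  let π : Equiv.Perm GolayPt := Equiv.ofBijective σ (Finite.injective_iff_bijective.1 hσinj)
  have hkey : ∀ a b, f (C.q a + C.q b) = C.q (π a) + C.q (π b) := by
    intro a b
    by_cases h : a = b
    · rw [h, C.two, C.two, map_zero]
    obtain ⟨c1, s1⟩ := hP a b h
    have hne : π a ≠ π b := π.injective.ne h
    have hs : P b a = P a b := by
      obtain ⟨c2, s2⟩ := hP b a (Ne.symm h)
      rw [add_comm, s1] at s2
      exact (C.S_inj (by rw [c1, c2]; decide) (by omega) s2).symm
    have hm : ({π a, π b} : Finset GolayPt) = P a b :=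
      Finset.eq_of_subset_of_card_le
        (Finset.insert_subset (hσ a b (Ne.symm h))
          (Finset.singleton_subset_iff.2 (hs ▸ hσ b a h)))
        (by rw [c1, Finset.card_pair hne])
    rw [s1, ← hm, C.S_pair hne]
  have hS : ∀ s : Finset GolayPt, Even s.card → f (C.S s) = C.S (π • s) := by
    intro s hs
    obtain ⟨m, hm⟩ := hs
    have hz : ∀ x : A, s.card • x = 0 := fun x => by rw [hm, add_nsmul]; exact C.two _
    have e1 : C.S s = ∑ p ∈ s, (C.q p + C.q none) := by
      rw [Finset.sum_add_distrib, Finset.sum_const, hz, add_zero, S]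
    rw [e1, map_sum, Finset.sum_congr rfl fun p _ => hkey p none, Finset.sum_add_distrib,
      Finset.sum_const, hz, add_zero]
    rw [S, show π • s = s.image (fun x => π x) from rfl,
      Finset.sum_image fun x _ y _ h => π.injective h]
  refine ⟨π, mem_M24_iff.2 fun s hs' => ?_, hS⟩
  have hs := mem_supports_iff.2 hs'
  have he := even_of_mem hs
  rw [← mem_supports_iff]
  refine (C.rel _ (by rw [Finset.card_smul_finset]; exact he)).1 ?_
  rw [← S, ← hS s he, show C.S s = 0 from (C.rel s he).2 hs, map_zero]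

theorem perm_unique {σ τ : Equiv.Perm GolayPt}
    (h : ∀ a b : GolayPt, C.q (σ a) + C.q (σ b) = C.q (τ a) + C.q (τ b)) : σ = τ := by
  refine Equiv.ext fun a => ?_
  by_contra hne
  obtain ⟨b, -, hb⟩ : ∃ k ∈ (Finset.univ : Finset GolayPt), k ∉ ({a, σ⁻¹ (τ a)} : Finset GolayPt) :=
    Finset.exists_mem_notMem_of_card_lt_card (by
      have := Finset.card_le_two (a := a) (b := σ⁻¹ (τ a))
      simp only [Finset.card_univ, Fintype.card_option, ZMod.card]; omega)
  simp only [Finset.mem_insert, Finset.mem_singleton, not_or] at hb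
  have h' := h a b
  have hab : a ≠ b := Ne.symm hb.1
  rw [← C.S_pair (σ.injective.ne hab), ← C.S_pair (τ.injective.ne hab)] at h'
  have h3 := C.S_inj (by rw [Finset.card_pair (σ.injective.ne hab), Finset.card_pair (τ.injective.ne hab)]; decide)
    (by rw [Finset.card_pair (σ.injective.ne hab), Finset.card_pair (τ.injective.ne hab)]; omega) h'
  have hmem : τ a ∈ ({σ a, σ b} : Finset GolayPt) := h3 ▸ Finset.mem_insert_self _ _
  simp only [Finset.mem_insert, Finset.mem_singleton] at hmem
  rcases hmem with h4 | h4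
  · exact hne h4.symm
  · exact hb.2 (by rw [h4]; simp)

end Coord

/-- coordinates from a table: the generators of the code are killed and the vectors span -/
def Coord.ofTable (q : GolayPt → A) (two : ∀ a : A, a + a = 0) (hcard : Nat.card A = 2048)
    (hqr : ∀ t, ∑ p ∈ support₂ (qrWord t), q p = 0) (huniv : ∑ p, q p = 0)
    (gen : ∀ a : A, ∃ s : Finset GolayPt, Even s.card ∧ ∑ p ∈ s, q p = a) : Coord A where
  q := q
  two := two
  gen := gen
  rel := by
    have hadd : ∀ v w : GolayPt → ZMod 2,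
        ∑ p ∈ support₂ (v + w), q p = (∑ p ∈ support₂ v, q p) + ∑ p ∈ support₂ w, q p := by
      intro v w
      conv_lhs => rw [← ind_support₂ v, ← ind_support₂ w, ind_add, support₂_ind]
      exact sum_symmDiff' two q _ _
    let φ₁ : (GolayPt → ZMod 2) →+ A := AddMonoidHom.mk' (fun w => ∑ p ∈ support₂ w, q p) hadd
    let φ₂ : (GolayPt → ZMod 2) →+ ZMod 2 :=
      AddMonoidHom.mk' (fun w => ∑ p, w p) fun v w => Finset.sum_add_distrib
    let φ : (GolayPt → ZMod 2) →+ A × ZMod 2 := φ₁.prod φ₂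
    have hφ : ∀ s, φ (ind s) = (∑ p ∈ s, q p, (s.card : ZMod 2)) := fun s => by
      show (∑ p ∈ support₂ (ind s), q p, ∑ p, ind s p) = _
      rw [support₂_ind, sum_ind]
    have hs0 : ∀ {w}, w ∈ golayCode → (∑ p, w p) = (0 : ZMod 2) := by
      intro w hw
      rw [← ind_support₂ w, sum_ind, ZMod.natCast_eq_zero_iff_even]
      exact even_of_mem ⟨w, hw, rfl⟩
    have hle : (golayCode).toAddSubgroup ≤ φ.ker := by
      intro w hw
      refine AddMonoidHom.mem_ker.2 (Prod.ext ?_ (hs0 hw))
      show ∑ p ∈ support₂ w, q p = 0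
      have hw' : w ∈ Submodule.span (ZMod 2) (Set.range qrWord ∪ {1}) := hw
      clear hw
      induction hw' using Submodule.span_induction with
      | mem x hx =>
        rcases hx with ⟨t, rfl⟩ | rfl
        · exact hqr t
        · have : support₂ (1 : GolayPt → ZMod 2) = Finset.univ := by ext p; simp [support₂]
          rw [this]; exact huniv
      | zero => simp [support₂]
      | add x y _ _ hx hy =>
        have e : (φ (x + y)).1 = (φ x).1 + (φ y).1 := by rw [map_add]; rfl
        exact e.trans (by rw [show (φ x).1 = 0 from hx, show (φ y).1 = 0 from hy, add_zero])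
      | smul r x _ hx =>
        rcases (show ∀ r : ZMod 2, r = 0 ∨ r = 1 by decide) r with rfl | rfl
        · simp [support₂]
        · rw [one_smul]; exact hx
    have hsurj : Function.Surjective φ := by
      rintro ⟨a, r⟩
      rcases (show ∀ r : ZMod 2, r = 0 ∨ r = 1 by decide) r with rfl | rfl
      · obtain ⟨s, hs, rfl⟩ := gen a
        exact ⟨ind s, by rw [hφ, ZMod.natCast_eq_zero_iff_even.2 hs]⟩
      · obtain ⟨s, hs, he⟩ := gen (a + q none)
        refine ⟨ind s + ind {none}, ?_⟩
        rw [map_add, hφ, hφ, he, ZMod.natCast_eq_zero_iff_even.2 hs]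
        simp [add_assoc, two]
    have h1 := AddSubgroup.card_mul_index φ.ker
    rw [AddSubgroup.index_ker, AddMonoidHom.range_eq_top.2 hsurj, AddSubgroup.card_top,
      Nat.card_prod, hcard, Nat.card_zmod, Nat.card_fun, Nat.card_zmod,
      Nat.card_eq_fintype_card (α := GolayPt), Fintype.card_option, ZMod.card] at h1
    have heq : (golayCode).toAddSubgroup = φ.ker :=
      AddSubgroup.eq_of_le_of_card_ge hle (by
        have : Nat.card ↥(golayCode).toAddSubgroup = 4096 := natCard_golayCode
        rw [this]; omega)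
    intro s hs
    have hmem : s ∈ supC ↔ ind s ∈ golayCode := by
      refine ⟨fun ⟨w, hw, he⟩ => ?_, fun h => ⟨_, h, support₂_ind s⟩⟩
      rw [← he, ind_support₂]; exact hw
    rw [hmem, ← Submodule.mem_toAddSubgroup, heq, AddMonoidHom.mem_ker, hφ,
      ZMod.natCast_eq_zero_iff_even.2 hs]
    simp

variable {Γ : Type*} [Group Γ]

/-- the hypotheses on the acting group -/
structure Acts (C : Coord A) (act : Γ → A → A) : Prop where
  add : ∀ g a b, act g (a + b) = act g a + act g b
  mul : ∀ g h a, act (g * h) a = act g (act h a)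
  one : ∀ a, act 1 a = a
  faith : ∀ g, (∀ a, act g a = a) → g = 1
  duad : ∀ g, ∀ x ∈ C.duads, act g x ∈ C.duads
  card : 244823040 ≤ 3 * Nat.card Γ

namespace Acts

variable {C : Coord A} {act : Γ → A → A} (h : Acts C act)
include h

theorem exists_iso :
    ∃ e : Γ ≃* M24, ∀ g s, Even s.card → act g (C.S s) = C.S ((e g : Equiv.Perm GolayPt) • s) := by
  classical
  have hex : ∀ g, ∃ σ : M24, ∀ s, Even s.card → act g (C.S s) = C.S ((σ : Equiv.Perm GolayPt) • s) := by
    intro g
    have hinv : ∀ a, act g⁻¹ (act g a) = a := fun a => by rw [← h.mul, inv_mul_cancel, h.one]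
    obtain ⟨σ, hσ, hh⟩ := C.exists_perm (AddMonoidHom.mk' (act g) (h.add g))
      (Function.LeftInverse.injective hinv)
      (fun x => ⟨fun hx => hinv x ▸ h.duad g⁻¹ _ hx, h.duad g x⟩)
    exact ⟨⟨σ, hσ⟩, hh⟩
  choose e he using hex
  have huniq : ∀ σ τ : M24, (∀ s, Even s.card →
      C.S ((σ : Equiv.Perm GolayPt) • s) = C.S ((τ : Equiv.Perm GolayPt) • s)) → σ = τ := by
    intro σ τ hs
    refine Subtype.ext (C.perm_unique fun a b => ?_)
    by_cases hab : a = b
    · rw [hab, C.two, C.two]
    have := hs {a, b} (by rw [Finset.card_pair hab]; decide)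
    simp only [Finset.smul_finset_insert, Finset.smul_finset_singleton, Equiv.Perm.smul_def] at this
    rwa [C.S_pair ((σ : Equiv.Perm GolayPt).injective.ne hab),
      C.S_pair ((τ : Equiv.Perm GolayPt).injective.ne hab)] at this
  let ψ : Γ →* M24 := MonoidHom.mk' e (fun g k => huniq _ _ fun s hs => by
    rw [← he _ s hs, h.mul, he k s hs, Subgroup.coe_mul, mul_smul,
      he g _ (by rwa [Finset.card_smul_finset])])
  have hψ : Function.Injective ψ := by
    refine (injective_iff_map_eq_one ψ).2 fun g hg => h.faith g fun a => ?_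
    obtain ⟨s, hs, rfl⟩ := C.gen a
    have hg' : e g = 1 := hg
    have := he g s hs
    rw [hg', OneMemClass.coe_one, one_smul] at this
    exact this
  haveI : Finite Γ := Finite.of_injective ψ hψ
  have hb : Function.Bijective ψ := by
    refine ⟨hψ, MonoidHom.range_eq_top.1 (eq_top_of_index_le_three ?_)⟩
    have h1 := ψ.range.card_mul_index
    rw [natCard_M24, ← Nat.card_congr (MonoidHom.ofInjective hψ).toEquiv] at h1
    have h2 := h.card
    have h3 : 0 < Nat.card Γ := Nat.card_pos
    nlinarith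
  exact ⟨MulEquiv.ofBijective ψ hb, he⟩

theorem iso : Nonempty (Γ ≃* M24) := let ⟨e, _⟩ := h.exists_iso; ⟨e⟩

theorem trans_of_card {s t : Finset GolayPt} {k : ℕ} (hk : k ≤ 5) (hev : Even k)
    (hs : s.card = k) (ht : t.card = k) : ∃ g, act g (C.S s) = C.S t := by
  classical
  obtain ⟨e, he⟩ := h.exists_iso
  haveI := isMultiplyPretransitive_le_five hk
  let x : Fin k ↪ GolayPt := (s.equivFinOfCardEq hs).symm.toEmbedding.trans ⟨_, Subtype.val_injective⟩
  let y : Fin k ↪ GolayPt := (t.equivFinOfCardEq ht).symm.toEmbedding.trans ⟨_, Subtype.val_injective⟩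
  obtain ⟨m, hm⟩ := MulAction.exists_smul_eq M24 x y
  refine ⟨e.symm m, ?_⟩
  rw [he _ s (by rw [hs]; exact hev), e.apply_symm_apply]
  congr 1
  refine Finset.eq_of_subset_of_card_le (fun z hz => ?_)
    (by rw [Finset.card_smul_finset, hs, ht])
  obtain ⟨p, hp, rfl⟩ := Finset.mem_smul_finset.1 hz
  have hpe : x ((s.equivFinOfCardEq hs) ⟨p, hp⟩) = p := by
    show (((s.equivFinOfCardEq hs).symm (s.equivFinOfCardEq hs ⟨p, hp⟩)) : GolayPt) = p
    rw [Equiv.symm_apply_apply]
  have := congrArg (fun f : Fin k ↪ GolayPt => f ((s.equivFinOfCardEq hs) ⟨p, hp⟩)) hm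
  rw [← hpe]
  change (m : Equiv.Perm GolayPt) (x _) ∈ t
  rw [show (m : Equiv.Perm GolayPt) (x ((s.equivFinOfCardEq hs) ⟨p, hp⟩)) =
    y ((s.equivFinOfCardEq hs) ⟨p, hp⟩) from this]
  exact ((t.equivFinOfCardEq ht).symm _).2

theorem trans_duads {x y : A} (hx : x ∈ C.duads) (hy : y ∈ C.duads) : ∃ g, act g x = y := by
  obtain ⟨P, hP, rfl⟩ := C.mem_duads_iff.1 hx
  obtain ⟨R, hR, rfl⟩ := C.mem_duads_iff.1 hy
  exact h.trans_of_card (by norm_num) (by decide) hP hR

theorem trans_rest {x y : A} (hx0 : x ≠ 0) (hx : x ∉ C.duads) (hy0 : y ≠ 0) (hy : y ∉ C.duads) :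
    ∃ g, act g x = y := by
  obtain ⟨P, hP, rfl⟩ := ((C.eq_tetrad_or_duad x).resolve_left hx0).resolve_left hx
  obtain ⟨R, hR, rfl⟩ := ((C.eq_tetrad_or_duad y).resolve_left hy0).resolve_left hy
  exact h.trans_of_card (by norm_num) (by decide) hP hR

theorem stab_iso {t : A} (ht : t ∈ C.duads) (K : Subgroup Γ) (hK : ∀ g, g ∈ K ↔ act g t = t) :
    Nonempty (K ≃* ↥(M24 ⊓ MulAction.stabilizer (Equiv.Perm GolayPt)
      ({none, some 0} : Set GolayPt))) := by
  classical
  obtain ⟨e, he⟩ := h.exists_iso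
  have h01 : (none : GolayPt) ≠ some 0 := by simp
  obtain ⟨g₀, hg₀⟩ := h.trans_duads ht
    (C.mem_duads_iff.2 ⟨{none, some 0}, Finset.card_pair h01, rfl⟩)
  have hst : ∀ m : M24, (m : Equiv.Perm GolayPt) ∈ MulAction.stabilizer (Equiv.Perm GolayPt)
      ({none, some 0} : Set GolayPt) ↔
        C.S ((m : Equiv.Perm GolayPt) • ({none, some 0} : Finset GolayPt)) =
          C.S {none, some 0} := by
    intro m
    rw [MulAction.mem_stabilizer_iff]
    constructor
    · intro hm
      congr 1
      apply Finset.coe_injective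
      rw [Finset.coe_smul_finset]; simpa using hm
    · intro hm
      have := congrArg (fun s : Finset GolayPt => (s : Set GolayPt))
        (C.S_inj (by rw [Finset.card_smul_finset, Finset.card_pair h01]; decide)
          (by rw [Finset.card_smul_finset, Finset.card_pair h01]; omega) hm)
      simpa [Finset.coe_smul_finset] using this
  have hmem : ∀ g, g ∈ K ↔ ((e (g₀ * g * g₀⁻¹) : M24) : Equiv.Perm GolayPt) ∈
      MulAction.stabilizer (Equiv.Perm GolayPt) ({none, some 0} : Set GolayPt) := by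
    intro g
    rw [hst, ← he _ _ (by rw [Finset.card_pair h01]; decide), hK, ← hg₀, ← h.mul,
      inv_mul_cancel_right, h.mul]
    exact ⟨fun hh => by rw [hh], fun hh => by
      have := congrArg (act g₀⁻¹) hh
      simpa only [← h.mul, ← mul_assoc, inv_mul_cancel, one_mul, h.one] using this⟩
  let ψ : K →* ↥(M24 ⊓ MulAction.stabilizer (Equiv.Perm GolayPt) ({none, some 0} : Set GolayPt)) :=
    { toFun := fun g => ⟨(e (g₀ * g * g₀⁻¹) : Equiv.Perm GolayPt),
        (e _).2, (hmem g).1 g.2⟩
      map_one' := Subtype.ext (by simp)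
      map_mul' := fun a b => Subtype.ext (by
        show ((e (g₀ * (a * b : Γ) * g₀⁻¹) : M24) : Equiv.Perm GolayPt) = _
        rw [show g₀ * (a * b : Γ) * g₀⁻¹ = (g₀ * a * g₀⁻¹) * (g₀ * b * g₀⁻¹) by simp [mul_assoc],
          map_mul]
        rfl) }
  refine ⟨MulEquiv.ofBijective ψ ⟨fun a b hab => Subtype.ext ?_, fun m => ?_⟩⟩
  · have hab' : ((e (g₀ * a * g₀⁻¹) : M24) : Equiv.Perm GolayPt) = e (g₀ * b * g₀⁻¹) :=
      (Subtype.ext_iff.1 hab :)
    have h1 := e.injective (Subtype.ext hab')
    exact mul_left_cancel (mul_right_cancel h1)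
  · let g := g₀⁻¹ * e.symm ⟨m, m.2.1⟩ * g₀
    have hg : g₀ * g * g₀⁻¹ = e.symm ⟨m, m.2.1⟩ := by simp [g, mul_assoc]
    refine ⟨⟨g, (hmem g).2 (by rw [hg, e.apply_symm_apply]; exact m.2.2)⟩, Subtype.ext ?_⟩
    show ((e (g₀ * g * g₀⁻¹) : M24) : Equiv.Perm GolayPt) = m
    rw [hg, e.apply_symm_apply]

end Acts

end CfsgLib.Spor.DuadM24
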