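import Cfsg.Agent.Lib.Spor.LargeFi.ASigns
import Cfsg.Agent.Lib.Spor.LargeFi.DuadM24

/-!
The normaliser of the Thompson subgroup acts on it as `M24` on the even cocode.
-/

set_option autoImplicit false
set_option maxRecDepth 100000

namespace CfsgLib.Spor.LargeFi

open CfsgLib.Spor.U62 CfsgLib.ThreeTransp
open scoped symmDiff Pointwise

theorem dL_high : Nat.beq ((dL 0 1).filter fun n => !Nat.beq (pI n) 0).length 240 = true := by
  decide +kernel

variable {G : Type*} [Group G] [Finite G] {z : G}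

namespace Model.ABase

variable {Q : Subgroup (Subgroup.centralizer ({z} : Set G))} [Q.Normal]
  {D : Model Q (zH z)} (B : D.ABase)

instance : CommGroup ↥B.A0 :=
  { (inferInstance : Group ↥B.A0) with
    mul_comm := fun a b => Subtype.ext (by
      obtain ⟨a', ha, ea⟩ := Subgroup.mem_map.1 a.2
      obtain ⟨b', hb, eb⟩ := Subgroup.mem_map.1 b.2
      show (a : G) * b = b * a
      rw [← ea, ← eb, ← map_mul, ← map_mul, Model.bigA_comm ha hb]) }

/-- the vector of a code -/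
noncomputable def toV (n : ℕ) : Additive ↥B.A0 := Additive.ofMul ⟨B.elG n, B.elG_mem n⟩

theorem toV_xor (a b : ℕ) : B.toV (Nat.xor a b) = B.toV a + B.toV b :=
  congrArg Additive.ofMul (Subtype.ext (B.elG_xor a b))

theorem toV_zero : B.toV 0 = 0 := congrArg Additive.ofMul (Subtype.ext B.elG_zero)

theorem toV_surj (v : Additive ↥B.A0) : ∃ n < 2048, B.toV n = v := by
  obtain ⟨n, hn, e⟩ := B.elG_surj (Additive.toMul v).2
  exact ⟨n, hn, Additive.toMul.injective (Subtype.ext e)⟩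

theorem toV_injOn {a b : ℕ} (ha : a < 2048) (hb : b < 2048) (h : B.toV a = B.toV b) : a = b :=
  B.elG_injOn ha hb (congrArg (fun v => ((Additive.toMul v : ↥B.A0) : G)) h)

theorem two_V (v : Additive ↥B.A0) : v + v = 0 := by
  obtain ⟨n, -, rfl⟩ := B.toV_surj v
  rw [← B.toV_xor, ← B.toV_zero]
  exact congrArg B.toV (Nat.xor_self n)

/-- the vector of a point -/
noncomputable def qV (p : Cfsg.GolayPt) : Additive ↥B.A0 := B.toV (qgC p)

theorem sum_qV (m : ℕ) : ∑ p ∈ toSet m, B.qV p = B.toV (qgSum m) := by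
  classical
  have key : ∀ k ≤ 24, B.toV ((List.range k).foldl
      (fun a i => if m.testBit i then Nat.xor a (aQG.getD i 0) else a) 0) =
      ∑ i ∈ Finset.range k, if m.testBit i then B.toV (aQG.getD i 0) else 0 := by
    intro k
    induction k with
    | zero => intro _; simp [B.toV_zero]
    | succ k ih =>
      intro hk
      rw [List.range_succ, List.foldl_append, List.foldl_cons, List.foldl_nil, Finset.sum_range_succ,
        ← ih (by omega)]
      split
      · exact B.toV_xor _ _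
      · rw [add_zero]
  rw [qgSum, key 24 le_rfl, ← Finset.sum_filter]
  refine Finset.sum_nbij' idx pt (fun p hp => ?_) (fun i hi => ?_) (fun p _ => pt_idx p)
    (fun i hi => ?_) (fun p _ => rfl)
  · exact Finset.mem_filter.2 ⟨Finset.mem_range.2 (idx_lt p), mem_toSet.1 hp⟩
  · obtain ⟨h1, h2⟩ := Finset.mem_filter.1 hi
    exact mem_toSet.2 (by rw [idx_pt (Finset.mem_range.1 h1)]; exact h2)
  · exact idx_pt (Finset.mem_range.1 (Finset.mem_filter.1 hi).1)

theorem exists_coord (hF : Cfsg.IsOfLargeFischerTypeAt z Q) (hN : B.Normed) :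
    ∃ C : DuadM24.Coord (Additive ↥B.A0), ∀ v : Additive ↥B.A0,
      v ∈ C.duads ↔ v ≠ 0 ∧ ¬ IsConj z ((Additive.toMul v : ↥B.A0) : G) := by
  classical
  have hcard : Nat.card (Additive ↥B.A0) = 2048 := by
    show Nat.card ↥B.A0 = 2048
    rw [A0, Subgroup.card_map_of_injective (Subgroup.subtype_injective _), D.card_bigA]
    norm_num
  have hgen : ∀ v : Additive ↥B.A0, ∃ s : Finset Cfsg.GolayPt, Even s.card ∧ ∑ p ∈ s, B.qV p = v := by
    intro v
    obtain ⟨n, hn, rfl⟩ := B.toV_surj v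
    refine bits_induction (k := 11) (P := fun n => ∃ s : Finset Cfsg.GolayPt, Even s.card ∧
      ∑ p ∈ s, B.qV p = B.toV n) ⟨∅, by simp, by simp [B.toV_zero]⟩ ?_ ?_ n hn
    · intro k hk
      have h := List.all_eq_true.1 qg_gen k (List.mem_range.2 hk)
      simp only [List.any_eq_true, List.mem_range, Nat.beq_eq] at h
      obtain ⟨i, hi, j, hj, l, hl, m, hm, e⟩ := h
      refine ⟨((({pt i} : Finset Cfsg.GolayPt) ∆ {pt j}) ∆ (({pt l} : Finset Cfsg.GolayPt) ∆ {pt m})),
        ?_, ?_⟩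
      · have h1 := card_symmDiff_add ({pt i} : Finset Cfsg.GolayPt) {pt j}
        have h2 := card_symmDiff_add ({pt l} : Finset Cfsg.GolayPt) {pt m}
        have h3 := card_symmDiff_add (({pt i} : Finset Cfsg.GolayPt) ∆ {pt j})
          (({pt l} : Finset Cfsg.GolayPt) ∆ {pt m})
        simp only [Finset.card_singleton] at h1 h2
        rw [Nat.even_iff]
        omega
      · have hq : ∀ i < 24, B.qV (pt i) = B.toV (aQG.getD i 0) := fun i hi => by
          rw [qV, qgC, idx_pt hi]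
        rw [DuadM24.sum_symmDiff' B.two_V, DuadM24.sum_symmDiff' B.two_V, DuadM24.sum_symmDiff' B.two_V,
          Finset.sum_singleton, Finset.sum_singleton, Finset.sum_singleton, Finset.sum_singleton,
          hq i hi, hq j hj, hq l hl, hq m hm, ← B.toV_xor, ← B.toV_xor, ← B.toV_xor, ← e]
    · rintro a b - - ⟨s, hs, es⟩ ⟨t, ht, et⟩
      refine ⟨s ∆ t, ?_, by rw [DuadM24.sum_symmDiff' B.two_V, es, et, B.toV_xor]⟩
      have := card_symmDiff_add s t
      rw [Nat.even_iff] at hs ht ⊢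
      omega
  have hker : ∀ g ∈ CfsgLib.Spor.genList, ∑ p ∈ toSet g, B.qV p = 0 := by
    intro g hg
    rw [B.sum_qV, Nat.eq_of_beq_eq_true (List.all_eq_true.1 qg_code g hg), B.toV_zero]
  have hqr : ∀ t, ∑ p ∈ Cfsg.support₂ (Cfsg.qrWord t), B.qV p = 0 := by
    intro t
    rw [← toSet_mask (Cfsg.support₂ (Cfsg.qrWord t))]
    refine hker _ ?_
    rw [genList_spec]
    refine List.mem_append_left _ (List.mem_map.2 ⟨t, ?_, rfl⟩)
    simp only [bind, pure, List.mem_flatMap, List.mem_range, List.mem_singleton]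
    exact ⟨t.val, ZMod.val_lt t, (ZMod.natCast_zmod_val t).symm⟩
  have huniv : ∑ p, B.qV p = 0 := by
    rw [← toSet_mask (Finset.univ : Finset Cfsg.GolayPt)]
    refine hker _ ?_
    rw [genList_spec]
    simp
  refine ⟨DuadM24.Coord.ofTable B.qV B.two_V hcard hqr huniv hgen, fun v => ?_⟩
  have hd := B.signs hF hN
  have hD : ∀ n, n ∈ B.dSet ↔ n ∈ dL 0 1 := fun n => by rw [hd, List.mem_toFinset]
  constructor
  · rintro ⟨a, b, hab, rfl⟩
    have hia : idx a < 24 := idx_lt a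
    have hib : idx b < 24 := idx_lt b
    have h := List.all_eq_true.1 (List.all_eq_true.1 qg_duads _ (List.mem_range.2 hia)) _
      (List.mem_range.2 hib)
    simp only [Bool.or_eq_true, Nat.beq_eq, dM, inM_mask] at h
    have hne : idx a ≠ idx b := fun e => hab (by rw [← pt_idx a, ← pt_idx b, e])
    obtain ⟨h1, h2, h3⟩ := B.mem_dSet.1 ((hD _).2 (h.resolve_left hne))
    show B.qV a + B.qV b ≠ 0 ∧ _
    rw [qV, qV, qgC, qgC, ← B.toV_xor]
    refine ⟨fun e => h2 (B.toV_injOn h1 (by norm_num) (e.trans B.toV_zero.symm)), ?_⟩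
    show ¬ IsConj z ((Additive.toMul (B.qV a + B.qV b) : ↥B.A0) : G)
    rw [qV, qV, qgC, qgC, ← B.toV_xor]
    exact h3
  · rintro ⟨hv0, hvc⟩
    obtain ⟨n, hn, rfl⟩ := B.toV_surj v
    have hmem : n ∈ dL 0 1 := (hD n).1 (B.mem_dSet.2 ⟨hn, fun e => hv0 (by rw [e, B.toV_zero]), hvc⟩)
    have h := List.all_eq_true.1 qg_cover n hmem
    simp only [List.any_eq_true, List.mem_range, Bool.and_eq_true, Nat.beq_eq, Bool.not_eq_true',
      ← Bool.not_eq_true] at h
    obtain ⟨i, hi, j, hj, hij, e⟩ := h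
    refine ⟨pt i, pt j, fun e' => hij ?_, ?_⟩
    · have := congrArg idx e'
      rwa [idx_pt hi, idx_pt hj] at this
    · show _ = B.qV (pt i) + B.qV (pt j)
      rw [qV, qV, qgC, qgC, idx_pt hi, idx_pt hj, ← B.toV_xor, ← e]

/-- the order of the normaliser -/
theorem card_M0_ge (hF : Cfsg.IsOfLargeFischerTypeAt z Q) (hN : B.Normed) :
    81607680 * 2 ^ 11 ≤ Nat.card B.M0 := by
  classical
  let N : Subgroup G := B.M0 ⊓ Subgroup.centralizer ({z} : Set G)
  have hout := hasOuter_of_type hF D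
  have hS : D.std.map (Subgroup.centralizer ({z} : Set G)).subtype ≤ N := by
    rintro _ ⟨s, hs, rfl⟩
    exact ⟨B.mem_M0_of fun a ha => D.std_norm_bigA hs ha, s.2⟩
  have h21 : 2 ^ 21 ∣ Nat.card N := by
    rw [← D.card_std hout, ← Subgroup.card_map_of_injective (Subgroup.subtype_injective _)]
    exact Subgroup.card_dvd_of_le hS
  letI : MulAction N G :=
    { smul := fun m a => (m : G) * a * (m : G)⁻¹
      one_smul := fun a => by show (1 : G) * a * (1 : G)⁻¹ = a; simp
      mul_smul := fun m k a => by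
        show ((m : G) * k) * a * ((m : G) * k)⁻¹ = m * (k * a * (k : G)⁻¹) * (m : G)⁻¹
        simp [mul_assoc] }
  let Hi : Finset ℕ := B.dSet.filter fun n => pI n ≠ 0
  obtain ⟨he1, hpe, hel, hxe⟩ := B.ec_facts (p := 1) (by norm_num)
  have hec : B.ec 1 ∈ Hi := Finset.mem_filter.2 ⟨B.mem_dSet.2 ⟨hel,
    fun e => by rw [e] at hpe; simp [pI] at hpe, B.ec_not_PC hF one_ne_zero (by norm_num)⟩, by
      rw [hpe]; exact one_ne_zero⟩
  have horb : MulAction.orbit N (B.elG (B.ec 1)) = B.elG '' (Hi : Set ℕ) := by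
    ext a
    constructor
    · rintro ⟨m, rfl⟩
      obtain ⟨n', hn', e'⟩ := B.exists_image m.2.1 (n := B.ec 1)
      refine ⟨n', Finset.mem_coe.2 (Finset.mem_filter.2 ⟨B.mem_dSet.2 ⟨hn', fun h0 => ?_,
        fun hc => B.ec_not_PC hF one_ne_zero (by norm_num) ((B.PC_conj e').1 hc)⟩, fun h0 => ?_⟩), e'⟩
      · rw [h0, B.elG_zero] at e'
        have := B.elG_injOn hel (by norm_num : (0 : ℕ) < 2048)
          ((conj_eq_one_iff.1 e'.symm).trans B.elG_zero.symm)
        rw [this] at hpe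
        simp [pI] at hpe
      · have hq := (B.mem_Q_iff hn').2 h0
        let m' : Subgroup.centralizer ({z} : Set G) := ⟨m, m.2.2⟩
        have hq' : m'⁻¹ * B.el n' * m' ∈ Q := by
          simpa using (inferInstance : Q.Normal).conj_mem _ hq m'⁻¹
        have heq : m'⁻¹ * B.el n' * m' = B.el (B.ec 1) := Subtype.ext (by
          show (m : G)⁻¹ * B.elG n' * (m : G) = B.elG (B.ec 1)
          rw [e']; simp [mul_assoc])
        rw [heq, B.mem_Q_iff hel, hpe] at hq'
        exact one_ne_zero hq'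
    · rintro ⟨n, hn, rfl⟩
      obtain ⟨hd, hp⟩ := Finset.mem_filter.1 hn
      obtain ⟨hlt, -, hc⟩ := B.mem_dSet.1 hd
      have hp16 : pI n < 16 := by simp only [pI]; omega
      obtain ⟨h, hh⟩ := B.moves_all hp hp16
      obtain ⟨k, hk, em⟩ := B.el_surj (hh.2.1 _ (B.el_mem (B.ec 1)))
      have hpk : pI k = pI n := (B.moves_coset hh hel hk em.symm).1 hpe
      have hke := B.ec_unique hF hp hp16 hk hpk (B.x_fixed_image hh.1 hel hk hxe em.symm) fun hc' =>
        B.ec_not_PC hF one_ne_zero (by norm_num)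
          ((B.PC_conj (m := (h : G)) (congrArg Subtype.val em)).1 hc')
      obtain ⟨v, hv, hnv⟩ := List.mem_map.1 ((B.coset_rest hF hp hp16).2 ⟨hlt, rfl, hc⟩)
      obtain ⟨q, hq⟩ := exists_q (D := D) (v16_mem_lt hv)
      refine ⟨⟨((q : Subgroup.centralizer ({z} : Set G)) : G) * h, ⟨mul_mem (B.q_mem_M0 q)
        (B.mem_M0_of hh.2.1), mul_mem (q : Subgroup.centralizer ({z} : Set G)).2 h.2⟩⟩, ?_⟩
      show ((q : Subgroup.centralizer ({z} : Set G)) : G) * h * B.elG (B.ec 1) *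
        (((q : Subgroup.centralizer ({z} : Set G)) : G) * h)⁻¹ = B.elG n
      rw [← hnv, ← hq, B.elG_qC q (hke ▸ hk), ← hke,
        show B.elG k = (h : G) * B.elG (B.ec 1) * (h : G)⁻¹ from congrArg Subtype.val em]
      simp [mul_assoc]
  have h240 : (MulAction.orbit N (B.elG (B.ec 1))).ncard = 240 := by
    rw [horb, Set.InjOn.ncard_image, Set.ncard_coe_finset]
    · have hd := B.signs hF hN
      have hnd := List.all_eq_true.1 dL_facts (0, 1) (by simp)
      simp only [Bool.and_eq_true, decide_eq_true_eq] at hnd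
      have e : Hi = ((dL 0 1).filter fun n => !Nat.beq (pI n) 0).toFinset := by
        ext n
        simp only [Hi, Finset.mem_filter, hd, List.mem_toFinset, List.mem_filter, Bool.not_eq_true',
          ← Bool.not_eq_true, Nat.beq_eq]
      rw [e, List.toFinset_card_of_nodup (hnd.2.filter _), Nat.eq_of_beq_eq_true dL_high]
    · intro a ha b hb e
      exact B.elG_injOn (B.mem_dSet.1 (Finset.mem_filter.1 ha).1).1
        (B.mem_dSet.1 (Finset.mem_filter.1 hb).1).1 e
  let St := MulAction.stabilizer N (B.elG (B.ec 1))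
  have hst : 240 * Nat.card St = Nat.card N := by
    rw [← h240, ← Nat.card_coe_set_eq, Nat.card_congr (MulAction.orbitEquivQuotientStabilizer N _)]
    exact (Subgroup.card_eq_card_quotient_mul_card_subgroup _).symm
  have h3 : 3 ∣ Nat.card St := by
    have hx : (⟨(B.x : G), ⟨B.x_mem_M0, B.x.2⟩⟩ : N) ∈ St := by
      show (B.x : G) * B.elG (B.ec 1) * (B.x : G)⁻¹ = B.elG (B.ec 1)
      rw [← B.elG_xC hel, hxe]
    have hne : B.x ≠ 1 := by
      intro e
      have h := B.x_act bigV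
      rw [e, map_one] at h
      have h' : (om + 1) • bigV = 0 := by
        rw [add_smul, one_smul, ← h]
        exact v6_two _
      rcases smul_eq_zero.1 h' with h'' | h''
      · exact om_sub_one_ne h''
      · exact big_bigV.isotropic.2 h''
    haveI : Fact (Nat.Prime 3) := ⟨by norm_num⟩
    let y : St := ⟨_, hx⟩
    have hy : orderOf y = 3 := by
      refine orderOf_eq_prime ?_ fun h => hne (Subtype.ext ?_)
      · refine Subtype.ext (Subtype.ext ?_)
        show (B.x : G) ^ 3 = 1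
        rw [← SubmonoidClass.coe_pow, B.x_three]; rfl
      · exact congrArg (fun s : St => ((s : N) : G)) h
    exact hy ▸ orderOf_dvd_natCard y
  have h720 : 720 ∣ Nat.card N := by
    rw [← hst]
    exact Nat.mul_dvd_mul_left 240 h3
  have hN' : 2 ^ 21 * 45 ≤ Nat.card N := Nat.le_of_dvd Nat.card_pos <|
    Nat.Coprime.mul_dvd_of_dvd_of_dvd (by norm_num) h21 (Dvd.dvd.trans (by norm_num) h720)
  have hM := B.card_class_dvd hF
  rw [B.class_card hF, (B.first_coset hF).2] at hM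
  rw [← hM]
  calc 81607680 * 2 ^ 11 = (91 + 15 * 112) * (2 ^ 21 * 45) := by norm_num
    _ ≤ _ := Nat.mul_le_mul_left _ hN'

end Model.ABase

/-- the normaliser of the Thompson subgroup as a group of automorphisms of the coordinates -/
structure M24Data (Q : Subgroup (Subgroup.centralizer ({z} : Set G))) (A : Subgroup G) : Prop where
  normal : (A.subgroupOf (Subgroup.normalizer (A : Set G))).Normal
  iso : ∀ hn : (A.subgroupOf (Subgroup.normalizer (A : Set G))).Normal,
    Nonempty (↥(Subgroup.normalizer (A : Set G)) ⧸ A.subgroupOf (Subgroup.normalizer (A : Set G)) ≃*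
      ↥Cfsg.M24)
  trans : ∀ a ∈ A, ∀ b ∈ A, a ≠ 1 → b ≠ 1 → (IsConj z a ↔ IsConj z b) →
    ∃ m ∈ Subgroup.normalizer (A : Set G), m * a * m⁻¹ = b
  central : ∃ a ∈ A, a ≠ 1 ∧ IsConj z a
  other : ∃ a ∈ A, a ≠ 1 ∧ ¬ IsConj z a
  stab : ∀ t ∈ A, t ≠ 1 → ¬ IsConj z t →
    ∃ _ : (A.subgroupOf (Subgroup.normalizer (A : Set G) ⊓ Subgroup.centralizer ({t} : Set G))).Normal,
      Nonempty (↥(Subgroup.normalizer (A : Set G) ⊓ Subgroup.centralizer ({t} : Set G)) ⧸
        A.subgroupOf (Subgroup.normalizer (A : Set G) ⊓ Subgroup.centralizer ({t} : Set G)) ≃*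
          ↥(Cfsg.M24 ⊓ MulAction.stabilizer (Equiv.Perm Cfsg.GolayPt)
            ({none, some 0} : Set Cfsg.GolayPt)))

theorem m24_data {Q : Subgroup (Subgroup.centralizer ({z} : Set G))} [Q.Normal]
    (hF : Cfsg.IsOfLargeFischerTypeAt z Q) (D : Model Q (zH z)) {A : Subgroup G} {g₀ : G}
    (hA : A = (D.bigA.map (Subgroup.centralizer ({z} : Set G)).subtype).map
      (MulAut.conj g₀).toMonoidHom) : M24Data Q A := by
  classical
  obtain ⟨B, hN⟩ := Model.ABase.exists_normed hF D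
  obtain ⟨C, hC⟩ := B.exists_coord hF hN
  replace hA : A = B.A0.map (MulAut.conj g₀).toMonoidHom := hA
  set M := Subgroup.normalizer (A : Set G) with hMdef
  have hmemA : ∀ a, a ∈ A ↔ g₀⁻¹ * a * g₀ ∈ B.A0 := by
    intro a
    rw [hA, Subgroup.mem_map_equiv, MulAut.conj_symm_apply]
  have hnorm : ∀ m, m ∈ M ↔ g₀⁻¹ * m * g₀ ∈ B.M0 := by
    intro m
    rw [hMdef, Subgroup.mem_normalizer_iff, Model.ABase.M0, Subgroup.mem_normalizer_iff]
    constructor
    · intro h a
      have := h (g₀ * a * g₀⁻¹)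
      rw [hmemA, hmemA] at this
      simpa [mul_assoc] using this
    · intro h a
      rw [hmemA, hmemA]
      have := h (g₀⁻¹ * a * g₀)
      simpa [mul_assoc] using this
  have hn : (A.subgroupOf M).Normal := ⟨fun a ha m => by
    rw [Subgroup.mem_subgroupOf] at ha ⊢
    exact (Subgroup.mem_normalizer_iff.1 m.2 _).1 ha⟩
  haveI := hn
  -- the action
  let c : M → Additive ↥B.A0 → Additive ↥B.A0 := fun m v =>
    Additive.ofMul ⟨g₀⁻¹ * (m : G) * g₀ * ((Additive.toMul v : ↥B.A0) : G) * (g₀⁻¹ * (m : G) * g₀)⁻¹,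
      (Subgroup.mem_normalizer_iff.1 ((hnorm m).1 m.2) _).1 (Additive.toMul v).2⟩
  have hext : ∀ {u v : Additive ↥B.A0},
      ((Additive.toMul u : ↥B.A0) : G) = ((Additive.toMul v : ↥B.A0) : G) → u = v :=
    fun h => Additive.toMul.injective (Subtype.ext h)
  have hcmul : ∀ (m k : M) v, c (m * k) v = c m (c k v) := fun m k v => hext (by
    show g₀⁻¹ * ((m : G) * k) * g₀ * _ * (g₀⁻¹ * ((m : G) * k) * g₀)⁻¹ = _
    simp [c, mul_assoc])
  have hcA : ∀ m : M, (m : G) ∈ A → ∀ v, c m v = v := fun m hm v => hext (by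
    show g₀⁻¹ * (m : G) * g₀ * _ * (g₀⁻¹ * (m : G) * g₀)⁻¹ = _
    have h1 := (hmemA _).1 hm
    have h2 : (⟨_, h1⟩ : ↥B.A0) * Additive.toMul v = Additive.toMul v * ⟨_, h1⟩ := mul_comm _ _
    exact mul_inv_eq_iff_eq_mul.2 (congrArg Subtype.val h2))
  let act : M ⧸ A.subgroupOf M → Additive ↥B.A0 → Additive ↥B.A0 := fun γ v =>
    Quotient.liftOn' γ (fun m => c m v) fun m k hmk => by
      have hd : m⁻¹ * k ∈ A.subgroupOf M := QuotientGroup.leftRel_apply.1 hmk
      show c m v = c k v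
      conv_rhs => rw [← mul_inv_cancel_left m k, hcmul, hcA (m⁻¹ * k) (Subgroup.mem_subgroupOf.1 hd)]
  have hact : ∀ (m : M) v, act (QuotientGroup.mk m) v = c m v := fun _ _ => rfl
  have hone : ∀ v, c 1 v = v := fun v => hcA 1 (one_mem A) v
  have hiff : ∀ (m : M) v, IsConj z ((Additive.toMul (c m v) : ↥B.A0) : G) ↔
      IsConj z ((Additive.toMul v : ↥B.A0) : G) := fun m v => by
    have hc : IsConj ((Additive.toMul v : ↥B.A0) : G) ((Additive.toMul (c m v) : ↥B.A0) : G) :=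
      isConj_iff.2 ⟨g₀⁻¹ * (m : G) * g₀, rfl⟩
    exact ⟨fun h => h.trans hc.symm, fun h => h.trans hc⟩
  have hadd : ∀ (m : M) u v, c m (u + v) = c m u + c m v := fun m u v => hext (by
    show g₀⁻¹ * (m : G) * g₀ * (((Additive.toMul u : ↥B.A0) : G) * ((Additive.toMul v : ↥B.A0) : G)) *
      (g₀⁻¹ * (m : G) * g₀)⁻¹ = _
    simp [c, mul_assoc])
  have hzero : ∀ m : M, c m 0 = 0 := fun m => hext (by
    show g₀⁻¹ * (m : G) * g₀ * 1 * (g₀⁻¹ * (m : G) * g₀)⁻¹ = 1
    rw [mul_one, mul_inv_cancel])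
  have hcardM : Nat.card M = Nat.card B.M0 := Nat.card_congr
    { toFun := fun m => ⟨g₀⁻¹ * (m : G) * g₀, (hnorm m).1 m.2⟩
      invFun := fun m => ⟨g₀ * (m : G) * g₀⁻¹, (hnorm _).2 (by
        simpa [mul_assoc] using m.2)⟩
      left_inv := fun m => Subtype.ext (by simp [mul_assoc])
      right_inv := fun m => Subtype.ext (by simp [mul_assoc]) }
  have hAM : A ≤ M := Subgroup.le_normalizer
  have hcA11 : Nat.card (A.subgroupOf M) = 2 ^ 11 := by
    rw [Nat.card_congr (Subgroup.subgroupOfEquivOfLe hAM).toEquiv, hA,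
      Subgroup.card_map_of_injective (MulAut.conj g₀).injective, Model.ABase.A0,
      Subgroup.card_map_of_injective (Subgroup.subtype_injective _), D.card_bigA]
  have hActs : DuadM24.Acts C act := by
    refine ⟨?_, ?_, ?_, ?_, ?_, ?_⟩
    · rintro ⟨m⟩ u v; exact hadd m u v
    · rintro ⟨m⟩ ⟨k⟩ v; exact hcmul m k v
    · exact fun v => hone v
    · rintro ⟨m⟩ h
      refine (QuotientGroup.eq_one_iff m).2 ?_
      rw [Subgroup.mem_subgroupOf, hmemA, ← B.cent_A0 hF]
      refine Subgroup.mem_centralizer_iff.2 fun a ha => ?_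
      have := congrArg (fun v => ((Additive.toMul v : ↥B.A0) : G)) (h (Additive.ofMul ⟨a, ha⟩))
      exact (mul_inv_eq_iff_eq_mul.1 this).symm
    · rintro ⟨m⟩ v hv
      rw [hC] at hv ⊢
      refine ⟨fun e => hv.1 ?_, fun h => hv.2 ((hiff m v).1 h)⟩
      have e' : c m v = 0 := e
      have := congrArg (c m⁻¹) e'
      rwa [← hcmul, inv_mul_cancel, hone, hzero] at this
    · have h1 := Subgroup.card_eq_card_quotient_mul_card_subgroup (A.subgroupOf M)
      rw [hcA11, hcardM] at h1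
      have h2 := B.card_M0_ge hF hN
      rw [h1] at h2
      have := Nat.le_of_mul_le_mul_right h2 (by norm_num)
      omega
  -- vectors of elements
  have hvec : ∀ a ∈ A, ∃ v : Additive ↥B.A0, ((Additive.toMul v : ↥B.A0) : G) = g₀⁻¹ * a * g₀ :=
    fun a ha => ⟨Additive.ofMul ⟨_, (hmemA a).1 ha⟩, rfl⟩
  have hcl : ∀ a, IsConj z (g₀⁻¹ * a * g₀) ↔ IsConj z a := fun a => by
    have hc : IsConj a (g₀⁻¹ * a * g₀) := isConj_iff.2 ⟨g₀⁻¹, by rw [inv_inv]⟩
    exact ⟨fun h => h.trans hc.symm, fun h => h.trans hc⟩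
  have hne : ∀ a, a ≠ 1 → ∀ v : Additive ↥B.A0, ((Additive.toMul v : ↥B.A0) : G) = g₀⁻¹ * a * g₀ →
      v ≠ 0 := by
    rintro a ha v e rfl
    apply ha
    have e' : (1 : G) = g₀⁻¹ * a * g₀ := e
    calc a = g₀ * (g₀⁻¹ * a * g₀) * g₀⁻¹ := by simp [mul_assoc]
      _ = 1 := by rw [← e']; simp
  refine ⟨hn, fun _ => hActs.iso, ?_, ?_, ?_, ?_⟩
  · intro a ha b hb ha1 hb1 hab
    obtain ⟨u, hu⟩ := hvec a ha
    obtain ⟨v, hv⟩ := hvec b hb
    obtain ⟨γ, hγ⟩ : ∃ γ, act γ u = v := by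
      by_cases hz : IsConj z a
      · refine hActs.trans_rest (hne a ha1 u hu) ?_ (hne b hb1 v hv) ?_
        · rw [hC, hu, hcl]; exact fun h => h.2 hz
        · rw [hC, hv, hcl]; exact fun h => h.2 (hab.1 hz)
      · refine hActs.trans_duads ?_ ?_
        · rw [hC, hu, hcl]; exact ⟨hne a ha1 u hu, hz⟩
        · rw [hC, hv, hcl]; exact ⟨hne b hb1 v hv, fun h => hz (hab.2 h)⟩
    obtain ⟨m, rfl⟩ := QuotientGroup.mk_surjective γ
    refine ⟨m, m.2, ?_⟩
    have h1 : g₀⁻¹ * (m : G) * g₀ * ((Additive.toMul u : ↥B.A0) : G) * (g₀⁻¹ * (m : G) * g₀)⁻¹ =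
        ((Additive.toMul v : ↥B.A0) : G) :=
      congrArg (fun v => ((Additive.toMul v : ↥B.A0) : G)) hγ
    rw [hu, hv] at h1
    have h2 := congrArg (fun y => g₀ * y * g₀⁻¹) h1
    simpa [mul_assoc] using h2
  · refine ⟨g₀ * z * g₀⁻¹, ?_, fun h => ?_, isConj_iff.2 ⟨g₀, rfl⟩⟩
    · rw [hmemA]
      have := B.elG_mem 1
      rw [B.elG_one] at this
      simpa [mul_assoc] using this
    · exact D.xc.ne_one (Subtype.ext (conj_eq_one_iff.1 h))
  · obtain ⟨h1, h2, h3, -⟩ := B.ec_facts (p := 1) (by norm_num)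
    refine ⟨g₀ * B.elG (B.ec 1) * g₀⁻¹, ?_, fun h => ?_, fun h => ?_⟩
    · rw [hmemA]; simpa [mul_assoc] using B.elG_mem (B.ec 1)
    · have h0 := B.elG_injOn h3 (by norm_num : (0 : ℕ) < 2048)
        ((conj_eq_one_iff.1 h).trans B.elG_zero.symm)
      rw [h0] at h2
      simp [pI] at h2
    · refine B.ec_not_PC hF one_ne_zero (by norm_num) ?_
      exact h.trans (isConj_iff.2 ⟨g₀⁻¹, by simp [mul_assoc]⟩)
  · intro t ht ht1 htc
    set Mt := M ⊓ Subgroup.centralizer ({t} : Set G) with hMt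
    obtain ⟨v, hv⟩ := hvec t ht
    have hvD : v ∈ C.duads := by rw [hC, hv, hcl]; exact ⟨hne t ht1 v hv, htc⟩
    let f : Mt →* M ⧸ A.subgroupOf M := (QuotientGroup.mk' _).comp (Subgroup.inclusion inf_le_left)
    have hker : f.ker = A.subgroupOf Mt := by
      ext m
      rw [MonoidHom.mem_ker, Subgroup.mem_subgroupOf]
      exact (QuotientGroup.eq_one_iff _).trans Subgroup.mem_subgroupOf
    have hnt : (A.subgroupOf Mt).Normal := hker ▸ inferInstance
    refine ⟨hnt, ?_⟩
    have hK : ∀ γ, γ ∈ f.range ↔ act γ v = v := by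
      intro γ
      constructor
      · rintro ⟨m, rfl⟩
        refine hext ?_
        show g₀⁻¹ * (m : G) * g₀ * ((Additive.toMul v : ↥B.A0) : G) * (g₀⁻¹ * (m : G) * g₀)⁻¹ = _
        rw [hv]
        have hc := Subgroup.mem_centralizer_singleton_iff.1 m.2.2
        calc g₀⁻¹ * (m : G) * g₀ * (g₀⁻¹ * t * g₀) * (g₀⁻¹ * (m : G) * g₀)⁻¹
            = g₀⁻¹ * ((m : G) * t) * (m : G)⁻¹ * g₀ := by simp [mul_assoc]
          _ = g₀⁻¹ * t * g₀ := by rw [hc]; simp [mul_assoc]
      · intro h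
        obtain ⟨m, rfl⟩ := QuotientGroup.mk_surjective γ
        have h1 : g₀⁻¹ * (m : G) * g₀ * ((Additive.toMul v : ↥B.A0) : G) * (g₀⁻¹ * (m : G) * g₀)⁻¹ =
            ((Additive.toMul v : ↥B.A0) : G) :=
          congrArg (fun v => ((Additive.toMul v : ↥B.A0) : G)) h
        rw [hv] at h1
        have h2 := congrArg (fun y => g₀ * y * g₀⁻¹) h1
        have h3 : (m : G) * t * (m : G)⁻¹ = t := by simpa [mul_assoc] using h2
        exact ⟨⟨m, m.2, Subgroup.mem_centralizer_singleton_iff.2 (mul_inv_eq_iff_eq_mul.1 h3)⟩, rfl⟩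
    obtain ⟨e⟩ := hActs.stab_iso hvD f.range hK
    exact ⟨(QuotientGroup.quotientMulEquivOfEq hker.symm).trans
      ((QuotientGroup.quotientKerEquivRange f).trans e)⟩

end CfsgLib.Spor.LargeFi
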