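import Cfsg.Agent.Lib.Spor.LargeFi.Semi
import Cfsg.Agent.Lib.Spor.LargeFi.StabData
import Cfsg.Agent.Lib.Spor.LargeFi.SylElemData

/-!
The elementary abelian subgroups of the Sylow subgroup with many common fixed singular vectors.
-/

set_option autoImplicit false
set_option maxRecDepth 100000

namespace CfsgLib.Spor.LargeFi

open CfsgLib.Spor.U62
open Matrix

/-! ### Totally singular subgroups have at most 64 elements -/

theorem entV_xor (a b i : ℕ) : entV (Nat.xor a b) i = Nat.xor (entV a i) (entV b i) := by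
  show ((a ^^^ b) >>> (2 * i)) &&& 3 = ((a >>> (2 * i)) &&& 3) ^^^ ((b >>> (2 * i)) &&& 3)
  rw [Nat.shiftRight_xor_distrib, Nat.and_xor_distrib_right]

theorem vOf_xor (a b : ℕ) : vOf (Nat.xor a b) = vOf a + vOf b := by
  funext i
  show kOf (entV (Nat.xor a b) i) = kOf (entV a i) + kOf (entV b i)
  rw [entV_xor, kOf_add _ (entV_lt _ _) _ (entV_lt _ _)]

theorem vc_add (u v : V6) : vc (u + v) = Nat.xor (vc u) (vc v) := by
  have h : Nat.xor (vc u) (vc v) < 4096 :=
    Nat.xor_lt_two_pow (n := 12) (vc_lt u) (vc_lt v)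
  rw [← vc_vOf h, vOf_xor, vOf_vc, vOf_vc]

/-- the bilinear form of the norm -/
def polB (u v : V6) : K4 := nf (u + v) + nf u + nf v

theorem k_two (x : K4) : x + x = 0 := by
  obtain ⟨a, b⟩ := x
  have key : ∀ a b : ZMod 2, (⟨a, b⟩ : K4) + ⟨a, b⟩ = 0 := by decide +kernel
  exact key a b

theorem v6_two (x : V6) : x + x = 0 := funext fun _ => k_two _

theorem polB_eq (u v : V6) : polB u v = ∑ i, (u i * v i ^ 2 + v i * u i ^ 2) := by
  simp only [polB, nf, Cfsg.hermForm, Pi.add_apply, ← Finset.sum_add_distrib]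
  refine Finset.sum_congr rfl fun i _ => ?_
  have h2 : (2 : K4) = 0 := by decide +kernel
  linear_combination (u i ^ 3 + v i ^ 3 + u i ^ 2 * v i + u i * v i ^ 2) * h2

theorem polB_add_right (u v w : V6) : polB u (v + w) = polB u v + polB u w := by
  simp only [polB_eq, Pi.add_apply, ← Finset.sum_add_distrib]
  refine Finset.sum_congr rfl fun i _ => ?_
  rw [add_pow_char _ _ 2]
  ring

theorem polB_add_left (u v w : V6) : polB (u + v) w = polB u w + polB v w := by
  simp only [polB_eq, Pi.add_apply, ← Finset.sum_add_distrib]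
  refine Finset.sum_congr rfl fun i _ => ?_
  rw [add_pow_char _ _ 2]
  ring

theorem polB_prime (u v : V6) : polB u v = 0 ∨ polB u v = 1 := by
  have h : ∀ x : K4, x * x ^ 2 = 0 ∨ x * x ^ 2 = 1 := by
    intro x; obtain ⟨a, b⟩ := x
    rcases k_cases a b with h | h
    · exact Or.inl (by rw [h, zero_mul])
    · exact Or.inr h
  have hn : ∀ w : V6, nf w = 0 ∨ nf w = 1 := by
    intro w
    have hs : ∀ s : Finset (Fin 6), (∑ i ∈ s, w i * w i ^ 2) = 0 ∨ (∑ i ∈ s, w i * w i ^ 2) = 1 := by
      intro s
      induction s using Finset.induction_on with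
      | empty => simp
      | insert a s ha ih =>
        rw [Finset.sum_insert ha]
        rcases h (w a) with e | e <;> rcases ih with e' | e' <;> rw [e, e']
        · exact Or.inl (add_zero _)
        · exact Or.inr (zero_add _)
        · exact Or.inr (add_zero _)
        · exact Or.inl (k_two _)
    exact hs Finset.univ
  rcases hn (u + v) with a | a <;> rcases hn u with b | b <;> rcases hn v with c | c <;>
    simp [polB, a, b, c, k_two]

/-- the unit vector with an entry `c` -/
def unitV (n c : ℕ) : ℕ := c * 4 ^ n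

theorem nondeg_check : ((List.range 4096).all fun u => Nat.beq u 0 ||
    (List.range 6).any fun n => [1, 2].any fun c =>
      !Nat.beq (Nat.xor (Nat.xor (nfC (Nat.xor u (unitV n c))) (nfC u)) (nfC (unitV n c))) 0) = true := by
  decide +kernel

theorem kOf_nfC' (v : V6) : kOf (nfC (vc v)) = nf v := by rw [kOf_nfC, vOf_vc]

theorem exists_polB {w : V6} (hw : w ≠ 0) : ∃ v, polB w v = 1 := by
  have h0 : vc (0 : V6) = 0 := by decide +kernel
  have h := List.all_eq_true.1 nondeg_check (vc w) (List.mem_range.2 (vc_lt w))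
  simp only [Bool.or_eq_true, Nat.beq_eq, List.any_eq_true, Bool.not_eq_true'] at h
  obtain ⟨n, -, c, -, hc⟩ := h.resolve_left fun e => hw (vc_injective (e.trans h0.symm))
  refine ⟨vOf (unitV n c), (polB_prime _ _).resolve_left fun e => ?_⟩
  rw [← Bool.not_eq_true, Nat.beq_eq] at hc
  refine hc (kOf_inj _ (xor_lt (xor_lt (dot6_lt _ _) (dot6_lt _ _)) (dot6_lt _ _)) 0 (by norm_num) ?_)
  have hl : ∀ u, nfC u < 4 := fun u => dot6_lt _ _
  have key : ∀ a b d : ℕ, a < 4 → b < 4 → d < 4 →
      kOf (Nat.xor (Nat.xor a b) d) = kOf a + kOf b + kOf d := fun a b d ha hb hd => by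
    rw [kOf_add _ (xor_lt ha hb) _ hd, kOf_add _ ha _ hb]
  refine (key _ _ _ (hl _) (hl _) (hl _)).trans ?_
  rw [kOf_nfC, kOf_nfC, kOf_nfC, vOf_xor, vOf_vc, show kOf 0 = (0 : K4) by decide +kernel]
  exact e

/-- the field as a finite type -/
local instance : Fintype K4 := Fintype.ofEquiv _ (QuadraticAlgebra.equivProd (1 : ZMod 2) 1).symm

/-- the sign of a value -/
def sgnK (x : K4) : ℤ := if x = 0 then 1 else -1

theorem sgnK_add {u v w : V6} : sgnK (polB u v + polB u w) = sgnK (polB u v) * sgnK (polB u w) := by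
  have h10 : (1 : K4) ≠ 0 := one_ne_zero
  rcases polB_prime u v with a | a <;> rcases polB_prime u w with b | b <;>
    simp [sgnK, a, b, k_two, h10]

theorem sum_sgn {w : V6} (hw : w ≠ 0) : ∑ v : V6, sgnK (polB w v) = 0 := by
  obtain ⟨v0, hv0⟩ := exists_polB hw
  have h := Equiv.sum_comp (Equiv.addRight v0) (fun v => sgnK (polB w v))
  have e : ∀ v, sgnK (polB w (v + v0)) = - sgnK (polB w v) := fun v => by
    rw [polB_add_right, sgnK_add, hv0]; simp [sgnK]
  simp only [Equiv.coe_addRight, e, Finset.sum_neg_distrib] at h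
  omega

/-- a totally singular subgroup has at most 64 elements -/
theorem card_singular_le {F : Finset V6} (hiso : ∀ v ∈ F, nf v = 0)
    (hadd : ∀ u ∈ F, ∀ v ∈ F, u + v ∈ F) : F.card ≤ 64 := by
  classical
  have hB : ∀ u ∈ F, ∀ v ∈ F, polB u v = 0 := fun u hu v hv => by
    simp [polB, hiso _ (hadd u hu v hv), hiso _ hu, hiso _ hv]
  have key : ∑ v : V6, (∑ u ∈ F, sgnK (polB u v)) ^ 2 = F.card * 4096 := by
    have e : ∀ v : V6, (∑ u ∈ F, sgnK (polB u v)) ^ 2 =
        ∑ u ∈ F, ∑ u' ∈ F, sgnK (polB (u + u') v) := fun v => by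
      rw [sq, Finset.sum_mul_sum]
      refine Finset.sum_congr rfl fun u _ => Finset.sum_congr rfl fun u' _ => ?_
      rw [polB_add_left]
      have hc : ∀ x y : V6, polB x y = polB y x := fun x y => by
        simp only [polB, add_comm x y, add_assoc, add_comm (nf x) (nf y)]
      rw [hc u v, hc u' v, sgnK_add]
    rw [Finset.sum_congr rfl fun v _ => e v, Finset.sum_comm,
      Finset.sum_congr rfl fun u _ => Finset.sum_comm]
    have e2 : ∀ u ∈ F, ∀ u' ∈ F, ∑ v : V6, sgnK (polB (u + u') v) = if u' = u then 4096 else 0 := by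
      intro u _ u' _
      split_ifs with h
      · have hz : ∀ v, polB (0 : V6) v = 0 := fun v => by
          rw [polB, zero_add]; simp [nf, Cfsg.hermForm, k_two]
        have hcard : Fintype.card V6 = 4096 := by
          rw [Fintype.card_fun, ← Nat.card_eq_fintype_card, card_K4, Fintype.card_fin]; norm_num
        simp [h, v6_two, hz, sgnK, hcard]
      · refine sum_sgn fun e => h ?_
        calc u' = (u + u') + u := by rw [add_comm u u', add_assoc, v6_two, add_zero]
          _ = u := by rw [e, zero_add]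
    rw [Finset.sum_congr rfl fun u hu => Finset.sum_congr rfl (e2 u hu)]
    simp
  have hge : (F.card : ℤ) * (F.card : ℤ) ^ 2 ≤ F.card * 4096 := by
    rw [← key]
    refine le_trans ?_ (Finset.sum_le_sum_of_subset_of_nonneg (Finset.subset_univ F) fun v _ _ => sq_nonneg _)
    rw [Finset.sum_congr rfl fun v hv => by
      rw [Finset.sum_congr rfl fun u hu => by rw [hB u hu v hv], Finset.sum_const]]
    simp [sgnK]
  by_contra hlt
  push Not at hlt
  have h65 : (65 : ℤ) ≤ F.card := by exact_mod_cast hlt
  nlinarith [mul_le_mul h65 h65 (by norm_num) (by linarith)]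

/-! ### The census -/

/-- an entry of the product table -/
def pT (i j : ℕ) : ℕ := (prodT.getD i []).getD j 99

/-- a code of an involution -/
def invC (i : ℕ) : ℕ := invL.getD i 0

theorem invL_check : (sylL.all fun p => Nat.beq p (2 * oneC) || !Nat.beq (sMul p p) (2 * oneC) ||
    memV invL p) = true := by decide +kernel

theorem invL_nodup : invL.Nodup ∧ invL.length = 71 ∧ (2 * oneC) ∉ invL := by decide +kernel

theorem prod_check : ((List.range 71).all fun i => (List.range 71).all fun j =>
    if Nat.beq (pT i j) 99 then !Nat.beq (sMul (invC i) (invC j)) (sMul (invC j) (invC i))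
    else if Nat.beq (pT i j) 0 then Nat.beq i j
    else Nat.beq (sMul (invC i) (invC j)) (invC (pT i j - 1)) && Nat.blt (pT i j - 1) 71) = true := by
  decide +kernel

theorem fixK_check : (fixK.all fun e => Nat.blt e.1 71 && (List.range 4096).all fun u =>
    !Nat.beq (sActC (invC e.1) u) u || memV e.2 u) = true := by decide +kernel

/-- the fixed vectors known to contain the common ones -/
def capFix (C : List ℕ) : List ℕ :=
  match fixK.filter (fun e => memV C e.1) with
  | [] => List.range 4096
  | e :: r => e.2.filter fun u => r.all fun e' => memV e'.2 u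

/-- the test at a node -/
def okC (C : List ℕ) : Bool :=
  Nat.blt (C.length + 1) 16 || (Nat.beq C.length 15 && C.all fun i => memV elemI i) ||
    Nat.blt ((C.length + 1) * (capFix C).length) 1024

/-- the enumeration of subgroups -/
def chk : ℕ → List ℕ → ℕ → Bool
  | 0, _, _ => false
  | n + 1, C, lo => okC C && (List.range 71).all fun s =>
      Nat.blt s lo || memV C s ||
      C.any (fun c => Nat.beq (pT c s) 99 ||
        (Nat.blt (pT c s - 1) s && !Nat.beq (pT c s) 0 && !memV C (pT c s - 1))) ||
      chk n (C ++ s :: C.map fun c => pT c s - 1).dedup (s + 1)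

theorem census_ok : chk 7 [] 0 = true := by decide +kernel

theorem elem_fix_check : ((List.range 4096).all fun u => !Nat.beq (nfC u) 0 ||
    (elemL.any fun p => !Nat.beq (sActC p u) u) || memV fixL u) = true := by decide +kernel

theorem elemI_codes : elemL.toFinset = insert (2 * oneC) (elemI.map invC).toFinset := by
  decide +kernel

theorem fixL_length : fixL.length = 64 ∧ fixL.Nodup ∧ elemL.length = 16 ∧ elemL.Nodup ∧
    elemI.length = 15 ∧ elemI.Nodup := by decide +kernel

/-- the only elementary subgroup with a large common singular fixed space -/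
theorem elementary_dichotomy (S : Finset ℕ) (hsub : ∀ p ∈ S, p ∈ sylL) (hone : 2 * oneC ∈ S)
    (hmul : ∀ p ∈ S, ∀ q ∈ S, sMul p q ∈ S) (hcomm : ∀ p ∈ S, ∀ q ∈ S, sMul p q = sMul q p)
    (hsq : ∀ p ∈ S, sMul p p = 2 * oneC) (F : Finset V6) (hfix : ∀ p ∈ S, ∀ v ∈ F, sAct p v = v)
    (hiso : ∀ v ∈ F, nf v = 0) (hadd : ∀ u ∈ F, ∀ v ∈ F, u + v ∈ F)
    (hc : 2 ^ 11 ≤ S.card * (2 * F.card)) :
    S = elemL.toFinset ∧ S.card = 16 ∧ ∀ v, v ∈ F ↔ vc v ∈ fixL := by
  classical
  have hF64 := card_singular_le hiso hadd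
  have hFlist : ∀ l : List ℕ, (∀ v ∈ F, vc v ∈ l) → F.card ≤ l.length := fun l hl =>
    le_trans (Finset.card_le_card_of_injOn vc (fun v hv => List.mem_toFinset.2 (hl v hv))
      vc_injective.injOn) (List.toFinset_card_le l)
  set T : Finset ℕ := (Finset.range 71).filter fun i => invC i ∈ S with hT
  obtain ⟨hnd, hlen, hone'⟩ := invL_nodup
  have hget : ∀ (i : ℕ) (hi : i < 71), invC i = invL[i]'(by omega) := fun i hi =>
    List.getD_eq_getElem _ _ _
  have hinj : ∀ i, i < 71 → ∀ j, j < 71 → invC i = invC j → i = j := fun i hi j hj h =>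
    hnd.getElem_inj_iff.1 ((hget i hi).symm.trans (h.trans (hget j hj)))
  have hne : ∀ i, i < 71 → invC i ≠ 2 * oneC := fun i hi e =>
    hone' (e ▸ (hget i hi).symm ▸ List.getElem_mem _)
  have hST : S = insert (2 * oneC) (T.image invC) := by
    ext p
    rw [Finset.mem_insert, Finset.mem_image]
    constructor
    · intro hp
      have h := List.all_eq_true.1 invL_check p (hsub p hp)
      simp only [Bool.or_eq_true, Nat.beq_eq, Bool.not_eq_true', memV_iff] at h
      rcases h with (h | h) | h
      · exact Or.inl h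
      · rw [← Bool.not_eq_true, Nat.beq_eq] at h; exact absurd (hsq p hp) h
      · obtain ⟨i, hi, rfl⟩ := List.getElem_of_mem h
        exact Or.inr ⟨i, Finset.mem_filter.2 ⟨Finset.mem_range.2 (hlen ▸ hi),
          by rwa [hget i (hlen ▸ hi)]⟩, hget i (hlen ▸ hi)⟩
    · rintro (rfl | ⟨i, hi, rfl⟩)
      exacts [hone, (Finset.mem_filter.1 hi).2]
  have hTlt : ∀ i ∈ T, i < 71 := fun i hi => Finset.mem_range.1 (Finset.mem_filter.1 hi).1
  have hScard : S.card = T.card + 1 := by
    rw [hST, Finset.card_insert_of_notMem, Finset.card_image_of_injOn]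
    · exact fun i hi j hj h => hinj i (hTlt i hi) j (hTlt j hj) h
    · rw [Finset.mem_image]; rintro ⟨i, hi, e⟩; exact hne i (hTlt i hi) e
  have hprod : ∀ c ∈ T, ∀ s ∈ T, c ≠ s → pT c s ≠ 99 ∧ pT c s ≠ 0 ∧ pT c s - 1 ∈ T := by
    intro c hc' s hs hne'
    have h := List.all_eq_true.1 (List.all_eq_true.1 prod_check c (List.mem_range.2 (hTlt c hc'))) s
      (List.mem_range.2 (hTlt s hs))
    have hcS := (Finset.mem_filter.1 hc').2
    have hsS := (Finset.mem_filter.1 hs).2
    split_ifs at h with h99 h0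
    · simp only [Bool.not_eq_true'] at h
      rw [← Bool.not_eq_true, Nat.beq_eq] at h
      exact absurd (hcomm _ hcS _ hsS) h
    · exact absurd (Nat.eq_of_beq_eq_true h) hne'
    · simp only [Nat.beq_eq] at h99 h0
      simp only [Bool.and_eq_true, Nat.beq_eq, Nat.blt_eq] at h
      exact ⟨h99, h0, Finset.mem_filter.2 ⟨Finset.mem_range.2 h.2, h.1 ▸ hmul _ hcS _ hsS⟩⟩
  have hleaf : ∀ C : List ℕ, C.Nodup → C.toFinset = T → okC C = true →
      C.length = 15 ∧ ∀ i ∈ C, i ∈ elemI := by
    intro C hCn hCT hok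
    have hl : C.length + 1 = S.card := by
      rw [hScard, ← hCT, List.toFinset_card_of_nodup hCn]
    have h1024 : 1024 ≤ S.card * F.card := by
      have : S.card * (2 * F.card) = 2 * (S.card * F.card) := by ring
      omega
    simp only [okC, Bool.or_eq_true, Bool.and_eq_true, Nat.blt_eq, Nat.beq_eq, List.all_eq_true,
      memV_iff] at hok
    rcases hok with (hok | hok) | hok
    · have := Nat.mul_le_mul (Nat.le_of_lt_succ (hl ▸ hok)) hF64
      omega
    · exact hok
    · have hcap : F.card ≤ (capFix C).length := by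
        refine hFlist _ fun v hv => ?_
        have hmem : ∀ e ∈ fixK.filter (fun e => memV C e.1), vc v ∈ e.2 := by
          intro e he
          obtain ⟨he1, he2⟩ := List.mem_filter.1 he
          have h := List.all_eq_true.1 fixK_check e he1
          simp only [Bool.and_eq_true, List.all_eq_true, Bool.or_eq_true, Bool.not_eq_true',
            memV_iff] at h
          refine (h.2 (vc v) (List.mem_range.2 (vc_lt v))).resolve_left fun hh => ?_
          rw [← Bool.not_eq_true, Nat.beq_eq] at hh
          refine hh ?_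
          have hi : e.1 ∈ T := hCT ▸ List.mem_toFinset.2 (memV_iff.1 he2)
          rw [← vc_sAct, hfix _ (Finset.mem_filter.1 hi).2 v hv]
        unfold capFix
        revert hmem
        cases fixK.filter (fun e => memV C e.1) with
        | nil => exact fun _ => List.mem_range.2 (vc_lt v)
        | cons e r =>
          intro hmem
          refine List.mem_filter.2 ⟨hmem e List.mem_cons_self, List.all_eq_true.2 fun e' he' => ?_⟩
          exact memV_iff.2 (hmem e' (List.mem_cons_of_mem _ he'))
      have := Nat.mul_le_mul (le_of_eq hl.symm) hcap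
      omega
  have hmain : ∀ n C lo, chk n C lo = true → C.Nodup → (∀ i ∈ C, i ∈ T) →
      (∀ i ∈ T, i < lo → i ∈ C) →
      ∃ C' : List ℕ, C'.Nodup ∧ C'.toFinset = T ∧ okC C' = true := by
    intro n
    induction n with
    | zero => intro C lo h; simp [chk] at h
    | succ n ih =>
      intro C lo h hCn hCT hlo
      rw [chk, Bool.and_eq_true] at h
      by_cases hall : ∀ i ∈ T, i ∈ C
      · exact ⟨C, hCn, Finset.ext fun i => ⟨fun hi => hCT i (List.mem_toFinset.1 hi),
          fun hi => List.mem_toFinset.2 (hall i hi)⟩, h.1⟩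
      have hne' : (T.filter fun i => i ∉ C).Nonempty := by
        push Not at hall
        obtain ⟨i, hi, hi'⟩ := hall
        exact ⟨i, Finset.mem_filter.2 ⟨hi, hi'⟩⟩
      set s := (T.filter fun i => i ∉ C).min' hne' with hs
      obtain ⟨hsT, hsC⟩ := Finset.mem_filter.1 (Finset.min'_mem _ hne')
      have hmin : ∀ i ∈ T, i < s → i ∈ C := fun i hi his => by
        by_contra hiC
        exact absurd (Finset.min'_le _ i (Finset.mem_filter.2 ⟨hi, hiC⟩)) (not_le.2 his)
      have h2 := List.all_eq_true.1 h.2 s (List.mem_range.2 (hTlt s hsT))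
      simp only [Bool.or_eq_true, Nat.blt_eq, memV_iff, List.any_eq_true, Bool.and_eq_true,
        Bool.not_eq_true', Nat.beq_eq] at h2
      rcases h2 with ((h2 | h2) | ⟨c, hcC, h2⟩) | h2
      · exact absurd (hlo s hsT h2) hsC
      · exact absurd h2 hsC
      · obtain ⟨p1, p2, p3⟩ := hprod c (hCT c hcC) s hsT fun e => absurd (e ▸ hcC : s ∈ C) hsC
        rcases h2 with h2 | ⟨⟨h3, -⟩, h4⟩
        · exact absurd h2 p1
        · rw [← Bool.not_eq_true, memV_iff] at h4
          exact absurd (hmin _ p3 h3) h4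
      · refine ih _ _ h2 (List.nodup_dedup _) (fun i hi => ?_) fun i hi his => ?_
        · rw [List.mem_dedup, List.mem_append, List.mem_cons, List.mem_map] at hi
          rcases hi with hi | rfl | ⟨c, hc', rfl⟩
          exacts [hCT i hi, hsT, (hprod c (hCT c hc') s hsT fun e => absurd (e ▸ hc' : s ∈ C) hsC).2.2]
        · rw [List.mem_dedup, List.mem_append, List.mem_cons]
          rcases Nat.lt_succ_iff_lt_or_eq.1 his with hlt | rfl
          · exact Or.inl (hmin i hi hlt)
          · exact Or.inr (Or.inl rfl)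
  obtain ⟨C, hCn, hCT, hok⟩ := hmain 7 [] 0 census_ok List.nodup_nil (by simp) (by simp)
  obtain ⟨h15, helem⟩ := hleaf C hCn hCT hok
  obtain ⟨hfl, hfn, hel, hen, hil, hin⟩ := fixL_length
  have hTe : T = elemI.toFinset := by
    rw [← hCT]
    refine Finset.eq_of_subset_of_card_le (fun i hi => List.mem_toFinset.2 (helem i (List.mem_toFinset.1 hi))) ?_
    rw [List.toFinset_card_of_nodup hin, List.toFinset_card_of_nodup hCn, h15, hil]
  have hSe : S = elemL.toFinset := by
    rw [elemI_codes, hST, hTe]
    congr 1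
  have hS16 : S.card = 16 := by rw [hSe, List.toFinset_card_of_nodup hen, hel]
  have hsubF : ∀ v ∈ F, vc v ∈ fixL := fun v hv => by
    have h := List.all_eq_true.1 elem_fix_check (vc v) (List.mem_range.2 (vc_lt v))
    simp only [Bool.or_eq_true, Bool.not_eq_true', List.any_eq_true, memV_iff] at h
    rcases h with (h | ⟨p, hp, h⟩) | h
    · rw [← Bool.not_eq_true, Nat.beq_eq] at h; exact absurd ((nf_eq_zero_iff v).1 (hiso v hv)) h
    · rw [← Bool.not_eq_true, Nat.beq_eq, ← vc_sAct,
        hfix p (hSe ▸ List.mem_toFinset.2 hp) v hv] at h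
      exact absurd rfl h
    · exact h
  have himg : F.image vc = fixL.toFinset := by
    refine Finset.eq_of_subset_of_card_le (fun u hu => ?_) ?_
    · obtain ⟨v, hv, rfl⟩ := Finset.mem_image.1 hu
      exact List.mem_toFinset.2 (hsubF v hv)
    · rw [List.toFinset_card_of_nodup hfn, hfl, Finset.card_image_of_injective _ vc_injective]
      rw [hS16] at hc
      omega
  refine ⟨hSe, hS16, fun v => ⟨hsubF v, fun h => ?_⟩⟩
  obtain ⟨w, hw, e⟩ := Finset.mem_image.1 (himg ▸ List.mem_toFinset.2 h)
  exact vc_injective e ▸ hw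

/-! ### The distinguished subgroup -/

theorem elemL_group : (memV elemL (2 * oneC) && elemL.all fun p => !flag p && memV sylL p &&
    Nat.beq (sMul p p) (2 * oneC) && elemL.all fun q =>
      memV elemL (sMul p q) && Nat.beq (sMul p q) (sMul q p)) = true := by decide +kernel

theorem fixL_space : (memV fixL 0 && fixL.all fun u => Nat.blt u 4096 && Nat.beq (nfC u) 0 &&
    memV fixL (smC 2 u) && (fixL.all fun w => memV fixL (Nat.xor u w)) &&
    elemL.all fun p => Nat.beq (sActC p u) u) = true := by decide +kernel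

theorem fixL_perp_check : ((List.range 4096).all fun u => memV fixL u || fixL.any fun w =>
    !Nat.beq (nfC (Nat.xor u w)) (Nat.xor (nfC u) (nfC w))) = true := by decide +kernel

/-- the fixed space is its own orthogonal -/
theorem fixL_perp (v : V6) (h : ∀ w, vc w ∈ fixL → nf (v + w) = nf v + nf w) : vc v ∈ fixL := by
  have hc := List.all_eq_true.1 fixL_perp_check (vc v) (List.mem_range.2 (vc_lt v))
  simp only [Bool.or_eq_true, List.any_eq_true, memV_iff, Bool.not_eq_true'] at hc
  refine hc.resolve_right fun ⟨u, hu, hh⟩ => ?_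
  have hs := fixL_space
  simp only [Bool.and_eq_true, List.all_eq_true, Nat.blt_eq] at hs
  have hu4 : u < 4096 := (hs.2 u hu).1.1.1.1
  rw [← Bool.not_eq_true, Nat.beq_eq] at hh
  have hl : ∀ a, nfC a < 4 := fun a => dot6_lt _ _
  refine hh (kOf_inj _ (hl _) _ (xor_lt (hl _) (hl _)) ?_)
  have e : Nat.xor (vc v) u = vc (v + vOf u) := by rw [vc_add, vc_vOf hu4]
  have key2 : kOf (nfC (vc (v + vOf u))) = kOf (Nat.xor (nfC (vc v)) (nfC u)) := by
    rw [kOf_add _ (hl _) _ (hl _), kOf_nfC', kOf_nfC', kOf_nfC]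
    exact h (vOf u) (by rw [vc_vOf hu4]; exact hu)
  rw [← e] at key2
  exact key2

end CfsgLib.Spor.LargeFi
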