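import Cfsg.Agent.Lib.Spor.LargeFi.Vec
import Cfsg.Agent.Lib.Spor.LargeFi.OrbitData

/-!
The two orbits of the first subgroup `3.U₄(3)` on non-zero isotropic vectors.
-/

set_option autoImplicit false
set_option maxRecDepth 100000

namespace CfsgLib.Spor.LargeFi

open CfsgLib.Spor.U62
open Matrix

/-- a bit of a mask -/
def inM (m u : ℕ) : Bool := Nat.beq (Nat.land (Nat.shiftRight m u) 1) 1

/-- the mask of a list -/
def mask (l : List ℕ) : ℕ := l.foldl (fun m u => Nat.lor m (Nat.shiftLeft 1 u)) 0

theorem inM_iff_testBit (m u : ℕ) : inM m u = true ↔ m.testBit u = true := by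
  rw [inM, Nat.beq_eq, Nat.testBit_eq_decide_div_mod_eq, decide_eq_true_eq]
  show (m >>> u) &&& 1 = 1 ↔ _
  rw [Nat.and_one_is_mod, Nat.shiftRight_eq_div_pow]

theorem testBit_mask (u : ℕ) : ∀ (l : List ℕ) (m : ℕ),
    (l.foldl (fun m u => Nat.lor m (Nat.shiftLeft 1 u)) m).testBit u = true ↔
      m.testBit u = true ∨ u ∈ l := by
  intro l
  induction l with
  | nil => simp
  | cons x r ih =>
    intro m
    rw [List.foldl_cons, ih]
    show ((m ||| 1 <<< x).testBit u = true ∨ _) ↔ _
    rw [Nat.testBit_lor, Bool.or_eq_true, Nat.one_shiftLeft, Nat.testBit_two_pow,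
      decide_eq_true_eq, List.mem_cons]
    tauto

theorem inM_mask {l : List ℕ} {u : ℕ} : inM (mask l) u = true ↔ u ∈ l := by
  rw [inM_iff_testBit, mask, testBit_mask]
  simp

/-- strictly increasing -/
def incrB : List ℕ → Bool
  | a :: b :: r => Nat.blt a b && incrB (b :: r)
  | _ => true

theorem incrB_spec : ∀ {l : List ℕ}, incrB l = true → l.IsChain (fun a b => a < b)
  | [], _ => List.IsChain.nil
  | [a], _ => List.IsChain.singleton a
  | a :: b :: r, h => by
    simp only [incrB, Bool.and_eq_true, Nat.blt_eq] at h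
    exact List.IsChain.cons_cons h.1 (incrB_spec h.2)

theorem small_mask : Nat.beq (mask smallL) smallM = true := by decide +kernel
theorem big_mask : Nat.beq (mask bigL) bigM = true := by decide +kernel

theorem small_tree_mask : Nat.beq (mask (smallRoot :: smallTree.map Prod.fst)) smallM = true := by
  decide +kernel

theorem big_tree_mask : Nat.beq (mask (bigRoot :: bigTree.map Prod.fst)) bigM = true := by
  decide +kernel

theorem mem_smallL {u : ℕ} : u ∈ smallL ↔ inM smallM u = true := by
  rw [← Nat.eq_of_beq_eq_true small_mask, inM_mask]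

theorem mem_bigL {u : ℕ} : u ∈ bigL ↔ inM bigM u = true := by
  rw [← Nat.eq_of_beq_eq_true big_mask, inM_mask]

theorem small_tree : treeB (gens 0) smallRoot smallTree [] = true := by decide +kernel
theorem big_tree : treeB (gens 0) bigRoot bigTree [] = true := by decide +kernel

theorem small_closed : ((gens 0).all fun c => smallL.all fun u => inM smallM (mvC c u)) = true := by
  decide +kernel

theorem iso_cover : ((List.range 4096).all fun u => !Nat.beq (nfC u) 0 || Nat.beq u 0 ||
    inM smallM u || inM bigM u) = true := by decide +kernel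

theorem small_iso : (smallL.all fun u => Nat.beq (nfC u) 0 && !Nat.beq u 0 && Nat.blt u 4096 &&
    !inM bigM u) = true := by decide +kernel

theorem big_iso : (bigL.all fun u => Nat.beq (nfC u) 0 && !Nat.beq u 0 && Nat.blt u 4096) = true := by
  decide +kernel

theorem lists_incr : (incrB smallL && incrB bigL) = true := by decide +kernel

theorem list_lengths : (Nat.beq smallL.length 378 && Nat.beq bigL.length 1701) = true := by
  decide +kernel

/-- the orbit of 378 vectors -/
def Small (v : V6) : Prop := vc v ∈ smallL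

/-- the orbit of 1701 vectors -/
def Big (v : V6) : Prop := vc v ∈ bigL

/-- the first representative -/
def smallV : V6 := vOf smallRoot

/-- the second representative -/
def bigV : V6 := vOf bigRoot

theorem smallRoot_mem : Nat.beq (vc smallV) smallRoot && inM smallM smallRoot = true := by
  decide +kernel

theorem bigRoot_mem : Nat.beq (vc bigV) bigRoot && inM bigM bigRoot = true := by
  decide +kernel

theorem small_smallV : Small smallV := by
  have h := smallRoot_mem
  rw [Bool.and_eq_true, Nat.beq_eq] at h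
  rw [Small, h.1]; exact mem_smallL.2 h.2

theorem big_bigV : Big bigV := by
  have h := bigRoot_mem
  rw [Bool.and_eq_true, Nat.beq_eq] at h
  rw [Big, h.1]; exact mem_bigL.2 h.2

theorem smul_gens {H : Subgroup U6} {c : ℕ} (hc : In H c) (u : ℕ) :
    ∃ g ∈ H, ∀ v, vc v = u → vc (mat g *ᵥ v) = mvC c u := by
  obtain ⟨g, hg, rfl⟩ := hc
  exact ⟨g, hg, fun v hv => by rw [vc_mat, hv]⟩

theorem Small.map {v : V6} (h : Small v) {g : U6} (hg : g ∈ KS 0) : Small (mat g *ᵥ v) := by
  let S : Set U6 := {g | ∀ v, Small v → Small (mat g *ᵥ v)}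
  have hone : (1 : U6) ∈ S := fun v hv => by rwa [map_one, Matrix.one_mulVec]
  have hmul : ∀ a ∈ S, ∀ b ∈ S, a * b ∈ S := fun a ha b hb v hv => by
    rw [map_mul, ← Matrix.mulVec_mulVec]; exact ha _ (hb v hv)
  refine (?_ : g ∈ S) v h
  have hg' : g ∈ Submonoid.closure {x : U6 | cd x ∈ gens 0} := by
    rw [← Subgroup.closure_toSubmonoid_of_finite]; exact hg
  clear hg
  induction hg' using Submonoid.closure_induction with
  | mem x hx =>
    intro v hv
    have e := List.all_eq_true.1 (List.all_eq_true.1 small_closed _ hx) _ hv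
    rw [Small, vc_mat]
    exact mem_smallL.2 e
  | one => exact hone
  | mul a b _ _ ha hb => exact hmul a ha b hb

theorem orbit_of_tree {root : ℕ} {r : List (ℕ × ℕ × ℕ)} {m : ℕ} {l : List ℕ}
    (ht : treeB (gens 0) root r [] = true) (hm : Nat.beq (mask (root :: r.map Prod.fst)) m = true)
    (hl : ∀ {u}, u ∈ l ↔ inM m u = true) {v : V6} (hv : vc v ∈ l) :
    ∃ g ∈ KS 0, mat g *ᵥ vOf root = v := by
  let P : ℕ → Prop := fun u => ∃ g ∈ KS 0, mat g *ᵥ vOf root = vOf u
  have h1 : P root := ⟨1, Subgroup.one_mem _, by rw [map_one, Matrix.one_mulVec]⟩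
  have hone : ofCode oneC = 1 := by
    rw [← cd_one, ← mat_eq, map_one]
  have hg : ∀ c ∈ gens 0, ∀ u, P u → P (mvC c u) := by
    rintro c hc u ⟨g, hg, e⟩
    obtain ⟨a, ha, rfl⟩ := gens_mem 0 c hc
    refine ⟨a * g, Subgroup.mul_mem _ ha hg, ?_⟩
    rw [map_mul, ← Matrix.mulVec_mulVec, e, vOf_mvC, ← mat_eq]
  have hall := mem_of_treeB h1 hg (fun u hu => by
    obtain ⟨g, hg', e⟩ := hu
    exact ⟨g, hg', by rw [e, vOf_mvC, hone, Matrix.one_mulVec]⟩) r [] ht (fun _ h => by simp at h)
  have hv' : vc v ∈ root :: r.map Prod.fst := by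
    rw [hl, ← Nat.eq_of_beq_eq_true hm, inM_mask] at hv; exact hv
  have hP : P (vc v) := by
    rcases List.mem_cons.1 hv' with h | h
    · exact h ▸ h1
    · obtain ⟨e, he, h'⟩ := List.mem_map.1 h
      exact h' ▸ hall e he
  obtain ⟨g, hg', e⟩ := hP
  exact ⟨g, hg', e.trans (vOf_vc v)⟩

theorem Small.exists_map {v : V6} (h : Small v) : ∃ g ∈ KS 0, mat g *ᵥ smallV = v :=
  orbit_of_tree small_tree small_tree_mask mem_smallL h

theorem Big.exists_map {v : V6} (h : Big v) : ∃ g ∈ KS 0, mat g *ᵥ bigV = v :=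
  orbit_of_tree big_tree big_tree_mask mem_bigL h

theorem nf_mat (g : U6) (v : V6) : nf (mat g *ᵥ v) = nf v := g.2 v v

theorem vc_zero : vc 0 = 0 := by decide +kernel

theorem small_or_big {v : V6} (h0 : nf v = 0) (hne : v ≠ 0) : Small v ∨ Big v := by
  have h := List.all_eq_true.1 iso_cover (vc v) (List.mem_range.2 (vc_lt v))
  simp only [Bool.or_eq_true, Bool.not_eq_true', ← Bool.not_eq_true, Nat.beq_eq] at h
  rcases h with ((h | h) | h) | h
  · exact absurd ((nf_eq_zero_iff v).1 h0) h
  · exact absurd (vc_injective (h.trans vc_zero.symm)) hne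
  · exact Or.inl (mem_smallL.2 h)
  · exact Or.inr (mem_bigL.2 h)

theorem Small.isotropic {v : V6} (h : Small v) : nf v = 0 ∧ v ≠ 0 := by
  have h' := List.all_eq_true.1 small_iso _ h
  simp only [Bool.and_eq_true, Nat.beq_eq, Bool.not_eq_true', ← Bool.not_eq_true] at h'
  exact ⟨(nf_eq_zero_iff v).2 h'.1.1.1, fun e => h'.1.1.2 (by rw [e, vc_zero])⟩

theorem Big.isotropic {v : V6} (h : Big v) : nf v = 0 ∧ v ≠ 0 := by
  have h' := List.all_eq_true.1 big_iso _ h
  simp only [Bool.and_eq_true, Nat.beq_eq, Bool.not_eq_true', ← Bool.not_eq_true] at h'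
  exact ⟨(nf_eq_zero_iff v).2 h'.1.1, fun e => h'.1.2 (by rw [e, vc_zero])⟩

theorem not_small_big {v : V6} (h : Small v) (h' : Big v) : False := by
  have e := List.all_eq_true.1 small_iso _ h
  simp only [Bool.and_eq_true, Bool.not_eq_true'] at e
  rw [mem_bigL.1 h'] at e
  exact Bool.noConfusion e.2

theorem Big.map {v : V6} (h : Big v) {g : U6} (hg : g ∈ KS 0) : Big (mat g *ᵥ v) := by
  obtain ⟨h0, hne⟩ := h.isotropic
  refine (small_or_big (by rw [nf_mat, h0]) ?_).resolve_left fun hs => ?_
  · intro e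
    apply hne
    have := congrArg (mat g⁻¹ *ᵥ ·) e
    simpa [Matrix.mulVec_mulVec, ← map_mul] using this
  · have := Small.map hs (Subgroup.inv_mem _ hg)
    rw [Matrix.mulVec_mulVec, ← map_mul, inv_mul_cancel, map_one, Matrix.one_mulVec] at this
    exact not_small_big this h

theorem small_nodup : smallL.Nodup := by
  have h := lists_incr
  rw [Bool.and_eq_true] at h
  exact (List.isChain_iff_pairwise.1 (incrB_spec h.1)).imp fun hh => Nat.ne_of_lt hh

theorem big_nodup : bigL.Nodup := by
  have h := lists_incr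
  rw [Bool.and_eq_true] at h
  exact (List.isChain_iff_pairwise.1 (incrB_spec h.2)).imp fun hh => Nat.ne_of_lt hh

theorem ncard_of_list {l : List ℕ} (hnd : l.Nodup) (hlt : ∀ u ∈ l, u < 4096) :
    {v : V6 | vc v ∈ l}.ncard = l.length := by
  classical
  rw [← List.toFinset_card_of_nodup hnd, ← Set.ncard_coe_finset]
  refine Set.ncard_congr (fun v _ => vc v) (fun v hv => List.mem_toFinset.2 hv)
    (fun a b _ _ e => vc_injective e) fun u hu => ?_
  have hu' : u ∈ l := List.mem_toFinset.1 hu
  refine ⟨vOf u, ?_, vc_vOf (hlt u hu')⟩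
  show vc (vOf u) ∈ l
  rw [vc_vOf (hlt u hu')]; exact hu'

theorem ncard_small : {v : V6 | Small v}.ncard = 378 := by
  have h := list_lengths
  simp only [Bool.and_eq_true, Nat.beq_eq] at h
  rw [show {v : V6 | Small v} = {v : V6 | vc v ∈ smallL} from rfl,
    ncard_of_list small_nodup (fun u hu => ?_), h.1]
  have h' := List.all_eq_true.1 small_iso u hu
  simp only [Bool.and_eq_true, Nat.blt_eq] at h'
  exact h'.1.2

theorem ncard_big : {v : V6 | Big v}.ncard = 1701 := by
  have h := list_lengths
  simp only [Bool.and_eq_true, Nat.beq_eq] at h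
  rw [show {v : V6 | Big v} = {v : V6 | vc v ∈ bigL} from rfl,
    ncard_of_list big_nodup (fun u hu => ?_), h.2]
  have h' := List.all_eq_true.1 big_iso u hu
  simp only [Bool.and_eq_true, Nat.blt_eq] at h'
  exact h'.2

end CfsgLib.Spor.LargeFi
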