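import Cfsg.Agent.Lib.Spor.LargeFi.ACodeData
import Cfsg.Agent.Lib.Spor.LargeFi.Elem
import Cfsg.Agent.Lib.Spor.LargeFi.Orbits
import Cfsg.Agent.Lib.Spor.GolayCode

/-!
Codes for the elementary subgroup of order `2^11`: bit `0` is the central involution, the next six
bits a vector of the singular space and the last four an element of the distinguished group.
-/

set_option autoImplicit false
set_option maxRecDepth 100000

namespace CfsgLib.Spor.LargeFi

open CfsgLib.Spor.U62

/-- the vector of six coordinate bits -/
def wV (c : ℕ) : ℕ := c % 4 * 5 + c / 4 % 4 * 80 + c / 16 % 4 * 1280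

/-- the coordinate bits of a vector of the singular space -/
def wK (u : ℕ) : ℕ := u % 4 + 4 * (u / 16 % 4) + 16 * (u / 256 % 4)

/-- the part in the distinguished group -/
def pI (n : ℕ) : ℕ := n / 128

/-- the vector part -/
def wI (n : ℕ) : ℕ := n / 2 % 64

/-- the code of the element with given coordinates -/
def peC (p : ℕ) : ℕ := aPE.getD p (2 * oneC)

/-- the bit of the commutator form -/
def bC (u v : ℕ) : ℕ := dot6 (entV u) (fun k => sqN (entV v k)) / 2

/-- the displacement of a vector by an element of the distinguished group -/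
def dP (p v : ℕ) : ℕ := Nat.xor (sActC (peC p) v) v

/-- conjugation by the scalar -/
def xC (n : ℕ) : ℕ := pI n * 128 + wK (smC 2 (wV (wI n))) * 2 + n % 2

/-- the sign of a commutator -/
def eC (p v : ℕ) : ℕ := bC v (smC 2 (dP p v))

/-- conjugation by an element of the extraspecial group with vector `v` -/
def qC (v n : ℕ) : ℕ :=
  Nat.xor n (Nat.xor (wK (dP (pI n) v) * 2) (Nat.xor (eC (pI n) v) (bC v (wV (wI n)))))

/-- the permutation of the coordinates by a normalising element -/
def kP (j p : ℕ) : ℕ := (aKT.getD j []).getD p p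

/-- the steps inside a coset: the scalar and the twelve basis vectors -/
def cosStep (u q j : ℕ) : Bool :=
  if Nat.beq j 0 then Nat.beq u (xC q) else Nat.blt j 13 && Nat.beq u (qC (2 ^ (j - 1)) q)

/-- the step on pairs -/
def pairStep (u q j : ℕ) : Bool :=
  Nat.blt j 3 && Nat.beq u (kP j (q / 16) * 16 + kP j (q % 16))

/-- the class of a pair -/
def clsB (a b : ℕ) : Bool := memV (aPairRoot1 :: aPairTree1.map Prod.fst) (a * 16 + b)

/-- the value of the relation on a pair -/
def tOf (t0 t1 a b : ℕ) : ℕ := if clsB a b then t1 else t0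

/-- the signs determined by the relation, with basis signs zero -/
def sAux (t0 t1 : ℕ) : ℕ → ℕ → ℕ
  | 0, _ => 0
  | k + 1, c =>
    if c.testBit k && !Nat.beq (c % 2 ^ k) 0 then
      Nat.xor (sAux t0 t1 k (c % 2 ^ k)) (tOf t0 t1 (2 ^ k) (c % 2 ^ k))
    else sAux t0 t1 k (c % 2 ^ k)

/-- the signs -/
def sT (t0 t1 c : ℕ) : ℕ := sAux t0 t1 4 c

/-- the coordinate bits of the small vectors -/
def smallW : List ℕ := (List.range 64).filter fun c => inM smallM (wV c)

/-- the candidate as a list -/
def dL (t0 t1 : ℕ) : List ℕ :=
  (smallW.flatMap fun w => [w * 2, w * 2 + 1]) ++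
    (List.range 15).flatMap fun i => (aV16.getD (i + 1) []).map fun v =>
      qC v ((i + 1) * 128 + sT t0 t1 (i + 1))

/-- the mask of the candidate -/
def dM (t0 t1 : ℕ) : ℕ := CfsgLib.Spor.LargeFi.mask (dL t0 t1)

/-- the number of partners -/
def degD (t0 t1 a : ℕ) : ℕ :=
  ((dL t0 t1).filter fun b => inM (dM t0 t1) (Nat.xor a b)).length

/-! ### Checks -/

theorem wK_wV : ((List.range 64).all fun c => Nat.beq (wK (wV c)) c && memV fixL (wV c) &&
    Nat.blt (wV c) 4096) = true := by decide +kernel

theorem wV_wK : (fixL.all fun u => Nat.beq (wV (wK u)) u && Nat.blt (wK u) 64) = true := by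
  decide +kernel

theorem wV_xor : ((List.range 64).all fun a => (List.range 64).all fun b =>
    Nat.beq (wV (Nat.xor a b)) (Nat.xor (wV a) (wV b))) = true := by decide +kernel

theorem aPE_facts : ((List.range 16).all fun a => memV elemL (peC a) &&
    (List.range 16).all fun b => Nat.beq (peC (Nat.xor a b)) (sMul (peC a) (peC b)) &&
      (Nat.beq a b || !Nat.beq (peC a) (peC b))) = true := by decide +kernel

theorem aPE_zero : Nat.beq (peC 0) (2 * oneC) = true := by decide +kernel

theorem xC_lt : ((List.range 2048).all fun n => Nat.blt (xC n) 2048 &&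
    (!Nat.beq (xC n) n || Nat.beq (wI n) 0)) = true := by decide +kernel

theorem nrm_facts : ((List.range 3).all fun j => fixL.all fun w =>
    memV fixL (mvC (nrmG.getD j oneC) w)) = true := by decide +kernel

theorem nrm_pe : ((List.range 3).all fun j => (List.range 16).all fun p =>
    Nat.blt (kP j p) 16 && (Nat.beq p 0 || !Nat.beq (kP j p) 0) &&
      Nat.beq (mulC (nrmG.getD j oneC) (base (peC p)))
        (mulC (base (peC (kP j p))) (nrmG.getD j oneC))) = true := by decide +kernel

theorem pTree_ok : treeR (fun u q j => Nat.blt j 3 && Nat.beq u (kP j q)) 1 aPTree [] = true := by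
  decide +kernel

theorem pTree_cover : ((List.range 15).all fun i => memV (1 :: aPTree.map Prod.fst) (i + 1)) = true := by
  decide +kernel

theorem pairTree0_ok : treeR pairStep aPairRoot0 aPairTree0 [] = true := by decide +kernel

theorem pairTree1_ok : treeR pairStep aPairRoot1 aPairTree1 [] = true := by decide +kernel

theorem pair_cover : ((List.range 16).all fun a => (List.range 16).all fun b =>
    Nat.beq a 0 || Nat.beq b 0 || Nat.beq a b || clsB a b ||
      memV (aPairRoot0 :: aPairTree0.map Prod.fst) (a * 16 + b)) = true := by decide +kernel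

theorem cosT0_ok : treeR cosStep 128 aCosT0 [] = true := by decide +kernel

theorem cosT1_ok : treeR cosStep 129 aCosT1 [] = true := by decide +kernel

theorem cosT2_ok : treeR cosStep aCosRoot2 aCosT2 [] = true := by decide +kernel

/-- the three orbits in the first coset -/
def cosOrb (i : ℕ) : List ℕ :=
  if Nat.beq i 0 then 128 :: aCosT0.map Prod.fst
  else if Nat.beq i 1 then 129 :: aCosT1.map Prod.fst
  else aCosRoot2 :: aCosT2.map Prod.fst

theorem cos_cover : ((List.range 128).all fun i => memV (cosOrb 0) (128 + i) ||
    memV (cosOrb 1) (128 + i) || memV (cosOrb 2) (128 + i)) = true := by decide +kernel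

theorem cos_lengths : (Nat.beq (cosOrb 0).length 16 && Nat.beq (cosOrb 1).length 16 &&
    Nat.beq (cosOrb 2).length 96) = true := by decide +kernel

theorem cos_disjoint : (((cosOrb 0) ++ cosOrb 1 ++ cosOrb 2).Nodup) ∧
    ∀ n ∈ (cosOrb 0) ++ cosOrb 1 ++ cosOrb 2, 128 ≤ n ∧ n < 256 := by decide +kernel

theorem small_big_count : Nat.beq smallW.length 18 &&
    Nat.beq ((List.range 64).filter fun c => inM bigM (wV c)).length 45 &&
    ((List.range 64).all fun c => Nat.beq c 0 || inM smallM (wV c) || inM bigM (wV c)) &&
    ((List.range 64).all fun c => !(inM smallM (wV c) && inM bigM (wV c))) = true := by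
  decide +kernel

theorem small_flip : (smallW.all fun w => aFlip.any fun v => Nat.blt v 4096 &&
    Nat.beq (qC v (w * 2)) (w * 2 + 1) && Nat.beq (qC v (w * 2 + 1)) (w * 2)) = true := by
  decide +kernel

theorem v16_facts : ((List.range 15).all fun i => Nat.beq (aV16.getD (i + 1) []).length 16 &&
    (List.range 2).all fun b =>
      let l := (aV16.getD (i + 1) []).map fun v => qC v ((i + 1) * 128 + b)
      decide l.Nodup && l.all fun n => Nat.blt n 2048 && Nat.beq (pI n) (i + 1)) = true := by
  decide +kernel

theorem v16_lt : (aV16.all fun l => l.all fun v => Nat.blt v 4096) = true := by decide +kernel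

/-! ### The candidates -/

theorem deg_good : ((dL 0 1).all fun a => Nat.beq (degD 0 1 a) 44) = true := by decide +kernel

theorem deg_bad : ([(0, 0), (1, 0), (1, 1)].all fun t => (dL t.1 t.2).any fun a =>
    !Nat.beq (degD t.1 t.2 a) 44) = true := by decide +kernel

theorem deg_small : ([(0, 0), (1, 0), (1, 1)].all fun t => (dL t.1 t.2).any fun a =>
    Nat.beq (degD t.1 t.2 a) 44) = true := by decide +kernel

theorem dL_facts : ([(0, 0), (0, 1), (1, 0), (1, 1)].all fun t =>
    Nat.beq (dL t.1 t.2).length 276 && decide (dL t.1 t.2).Nodup) = true := by decide +kernel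

/-! ### The points -/

/-- the coordinate vector of a point -/
def qgC (p : Cfsg.GolayPt) : ℕ := aQG.getD (idx p) 0

/-- the sum of the coordinate vectors over a mask -/
def qgSum (m : ℕ) : ℕ :=
  (List.range 24).foldl (fun a i => if m.testBit i then Nat.xor a (aQG.getD i 0) else a) 0

theorem qg_code : (CfsgLib.Spor.genList.all fun m => Nat.beq (qgSum m) 0) = true := by decide +kernel

theorem qg_duads : ((List.range 24).all fun i => (List.range 24).all fun j => Nat.beq i j ||
    inM (dM 0 1) (Nat.xor (aQG.getD i 0) (aQG.getD j 0))) = true := by decide +kernel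

theorem qg_cover : ((dL 0 1).all fun n => (List.range 24).any fun i => (List.range 24).any fun j =>
    !Nat.beq i j && Nat.beq n (Nat.xor (aQG.getD i 0) (aQG.getD j 0))) = true := by decide +kernel

theorem qg_gen : ((List.range 11).all fun k => (List.range 24).any fun i => (List.range 24).any fun j =>
    (List.range 24).any fun l => (List.range 24).any fun m =>
      Nat.beq (2 ^ k) (Nat.xor (Nat.xor (aQG.getD i 0) (aQG.getD j 0))
        (Nat.xor (aQG.getD l 0) (aQG.getD m 0)))) = true := by decide +kernel

theorem qg_lt : ((List.range 24).all fun i => Nat.blt (aQG.getD i 0) 2048) = true := by decide +kernel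

end CfsgLib.Spor.LargeFi
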