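import Mathlib

/-!
Data for the coordinates on the elementary subgroup of order `2^11`.
-/

set_option autoImplicit false
set_option maxRecDepth 100000

namespace CfsgLib.Spor.LargeFi

/-- the codes of the sixteen elements, indexed by their coordinates -/
def aPE : List ℕ := [
  2361327365419528388610, 590872273312179847170, 590872279907638976520, 2361327358824069210120,
  786916956493568445090, 2557372048600916986530, 2557372042005457808040, 786916963089027574440,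
  994493845435603391970, 2764948937542951933410, 2764948930947492754920, 994493852031062521320,
  2937929209203047833410, 1167474117095699291970, 1167474123691158421320, 2937929202607588654920]

/-- the permutations of the coordinates by the three normalising elements -/
def aKT : List (List ℕ) := [
  [0, 1, 2, 3, 4, 5, 6, 7, 8, 9, 10, 11, 12, 13, 14, 15],
  [0, 13, 3, 14, 11, 6, 8, 5, 7, 10, 4, 9, 12, 1, 15, 2],
  [0, 13, 9, 4, 6, 11, 15, 2, 12, 1, 5, 8, 10, 7, 3, 14]]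

/-- the transitivity tree on non-zero coordinates -/
def aPTree : List (ℕ × ℕ × ℕ) := [
  (13, 0, 1), (7, 0, 2), (5, 0, 1), (2, 1, 2), (6, 1, 1), (11, 2, 2), (3, 2, 1), (9, 3, 2),
  (8, 3, 1), (15, 4, 2), (14, 3, 1), (4, 4, 2), (10, 4, 1), (12, 4, 2)]

/-- root of a class of pairs -/
def aPairRoot0 : ℕ := 18

/-- tree of a class of pairs -/
def aPairTree0 : List (ℕ × ℕ × ℕ) := [
  (211, 0, 1), (217, 1, 2), (30, 1, 1), (116, 2, 2), (26, 2, 1), (113, 3, 2), (223, 3, 1),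
  (91, 3, 1), (38, 4, 2), (212, 4, 1), (213, 5, 2), (93, 5, 1), (45, 6, 2), (126, 6, 2),
  (105, 6, 1), (184, 7, 2), (56, 7, 1), (159, 8, 2), (27, 8, 1), (118, 9, 2), (22, 9, 1),
  (123, 10, 2), (97, 10, 1), (183, 11, 2), (49, 11, 1), (151, 12, 2), (95, 12, 1), (35, 13, 2),
  (138, 13, 1), (241, 14, 2), (140, 14, 2), (231, 14, 1), (76, 15, 2), (162, 15, 1),
  (216, 15, 2), (88, 15, 1), (47, 16, 2), (89, 15, 1), (40, 16, 2), (141, 16, 1), (253, 17, 2),
  (149, 17, 1), (130, 18, 2), (237, 18, 1), (77, 19, 2), (165, 19, 1), (98, 19, 1),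
  (190, 20, 2), (62, 20, 1), (148, 21, 2), (197, 21, 2), (124, 20, 1), (202, 21, 2),
  (245, 21, 1), (50, 22, 2), (188, 22, 1), (106, 23, 2), (67, 23, 1), (23, 23, 1), (103, 23, 1),
  (158, 23, 2), (177, 23, 2), (55, 23, 1), (156, 24, 2), (199, 24, 2), (33, 24, 1),
  (166, 24, 1), (115, 24, 1), (201, 25, 2), (70, 23, 1), (131, 23, 1), (249, 24, 2),
  (239, 23, 1), (171, 23, 1), (198, 23, 1), (92, 23, 1), (42, 24, 2), (196, 24, 1),
  (235, 24, 2), (227, 24, 1), (73, 25, 2), (132, 24, 1), (100, 24, 2), (210, 24, 2),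
  (133, 24, 1), (242, 25, 2), (175, 25, 1), (19, 26, 2), (157, 26, 1), (229, 26, 1),
  (66, 27, 2), (172, 27, 1), (61, 26, 1), (72, 26, 1), (94, 26, 1), (36, 27, 2), (161, 27, 2),
  (111, 27, 2), (225, 26, 2), (200, 24, 1), (108, 24, 1), (186, 25, 2), (52, 25, 1),
  (203, 25, 1), (254, 24, 1), (139, 22, 1), (246, 23, 2), (121, 23, 2), (233, 22, 2),
  (222, 21, 1), (59, 20, 2), (179, 20, 1), (90, 20, 2), (71, 20, 2), (150, 18, 2), (250, 14, 2),
  (168, 12, 2), (31, 7, 1), (181, 5, 2)]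

/-- root of a class of pairs -/
def aPairRoot1 : ℕ := 20

/-- tree of a class of pairs -/
def aPairTree1 : List (ℕ × ℕ × ℕ) := [
  (219, 0, 1), (214, 1, 2), (25, 1, 1), (120, 2, 2), (24, 2, 1), (127, 3, 2), (218, 3, 1),
  (209, 4, 2), (87, 4, 1), (44, 5, 2), (215, 5, 1), (220, 6, 2), (82, 6, 1), (46, 7, 2),
  (117, 7, 2), (29, 7, 1), (125, 8, 2), (101, 8, 1), (178, 9, 2), (60, 9, 1), (154, 10, 2),
  (21, 10, 1), (114, 11, 2), (28, 11, 1), (122, 12, 2), (99, 12, 1), (185, 13, 2), (63, 13, 1),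
  (147, 14, 2), (86, 14, 1), (43, 15, 2), (81, 14, 1), (39, 15, 2), (134, 15, 1), (251, 16, 2),
  (137, 16, 2), (236, 16, 1), (74, 17, 2), (164, 17, 1), (83, 16, 1), (41, 17, 2), (84, 16, 1),
  (37, 17, 2), (142, 17, 1), (244, 18, 2), (129, 18, 2), (226, 18, 1), (78, 19, 2),
  (174, 19, 1), (104, 19, 1), (191, 20, 2), (57, 20, 1), (152, 21, 2), (109, 21, 1),
  (189, 22, 2), (53, 22, 1), (146, 23, 2), (207, 23, 2), (232, 23, 2), (193, 23, 2),
  (252, 23, 1), (58, 24, 2), (180, 24, 1), (75, 24, 1), (110, 24, 1), (145, 24, 2),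
  (107, 24, 1), (182, 25, 2), (54, 25, 1), (155, 26, 2), (195, 26, 2), (230, 26, 2),
  (205, 26, 2), (243, 26, 1), (79, 25, 1), (135, 25, 1), (234, 24, 1), (65, 25, 2),
  (167, 25, 1), (247, 25, 2), (163, 23, 1), (194, 23, 1), (173, 22, 2), (228, 21, 1),
  (69, 22, 2), (143, 20, 1), (248, 19, 2), (169, 17, 1), (206, 17, 1)]

/-- orbit tree in the first coset -/
def aCosT0 : List (ℕ × ℕ × ℕ) := [
  (137, 0, 5), (145, 1, 6), (161, 2, 9), (193, 3, 10), (153, 3, 6), (168, 4, 9), (200, 5, 10),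
  (176, 5, 9), (208, 6, 10), (225, 6, 10), (184, 5, 9), (216, 6, 10), (232, 6, 10), (240, 6, 0),
  (248, 5, 0)]

/-- orbit tree in the first coset -/
def aCosT1 : List (ℕ × ℕ × ℕ) := [
  (136, 0, 5), (144, 1, 6), (160, 2, 9), (192, 3, 10), (152, 3, 6), (169, 4, 9), (201, 5, 10),
  (177, 5, 9), (209, 6, 10), (224, 6, 10), (185, 5, 9), (217, 6, 10), (233, 6, 10), (241, 6, 0),
  (249, 5, 0)]

/-- root of the long orbit -/
def aCosRoot2 : ℕ := 130

/-- orbit tree in the first coset -/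
def aCosT2 : List (ℕ × ℕ × ℕ) := [
  (132, 0, 0), (131, 1, 2), (139, 2, 5), (147, 3, 6), (163, 4, 9), (195, 5, 10), (134, 5, 0),
  (133, 6, 1), (141, 7, 5), (149, 8, 6), (165, 9, 9), (197, 10, 10), (138, 10, 5), (146, 11, 6),
  (162, 12, 9), (194, 13, 10), (155, 13, 6), (170, 14, 9), (202, 15, 10), (157, 15, 0),
  (178, 16, 9), (210, 17, 10), (227, 17, 10), (229, 17, 0), (135, 17, 1), (143, 18, 5),
  (151, 19, 6), (167, 20, 9), (199, 21, 10), (140, 21, 5), (148, 22, 6), (164, 23, 9),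
  (196, 24, 10), (172, 24, 9), (204, 25, 10), (159, 25, 0), (180, 26, 9), (212, 27, 10),
  (231, 26, 0), (154, 26, 6), (171, 27, 9), (203, 28, 10), (156, 28, 0), (179, 29, 9),
  (211, 30, 10), (226, 30, 10), (228, 30, 0), (186, 30, 9), (218, 31, 10), (234, 31, 10),
  (244, 31, 0), (188, 31, 9), (220, 32, 10), (242, 32, 10), (252, 32, 0), (236, 31, 5),
  (142, 31, 5), (150, 32, 6), (166, 33, 9), (198, 34, 10), (174, 34, 9), (206, 35, 10),
  (182, 35, 9), (214, 36, 10), (173, 34, 9), (205, 35, 10), (158, 35, 0), (181, 36, 9),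
  (213, 37, 10), (230, 36, 0), (246, 35, 0), (190, 35, 9), (222, 36, 10), (254, 35, 0),
  (238, 35, 5), (187, 35, 9), (219, 36, 10), (235, 36, 10), (245, 36, 0), (189, 36, 9),
  (221, 37, 10), (243, 37, 10), (253, 37, 0), (237, 36, 5), (250, 36, 10), (175, 28, 9),
  (207, 29, 10), (183, 29, 9), (215, 30, 10), (247, 23, 0), (191, 23, 9), (223, 24, 10),
  (255, 23, 0), (239, 23, 5), (251, 18, 10)]

/-- vectors giving the sixteen translates in each coset -/
def aV16 : List (List ℕ) := [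
  [], [0, 16, 32, 48, 256, 272, 288, 304, 512, 528, 544, 560, 768, 784, 800, 816],
  [0, 1, 2, 3, 256, 257, 258, 259, 512, 513, 514, 515, 768, 769, 770, 771],
  [0, 1, 2, 3, 16, 17, 18, 19, 32, 33, 34, 35, 48, 49, 50, 51],
  [0, 17, 34, 51, 1, 16, 35, 50, 2, 19, 32, 49, 3, 18, 33, 48],
  [0, 17, 34, 51, 16, 1, 50, 35, 32, 49, 2, 19, 48, 33, 18, 3],
  [0, 256, 512, 768, 257, 1, 769, 513, 514, 770, 2, 258, 771, 515, 259, 3],
  [0, 17, 34, 51, 16, 1, 50, 35, 32, 49, 2, 19, 48, 33, 18, 3],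
  [0, 33, 50, 19, 2, 35, 48, 17, 3, 34, 49, 16, 1, 32, 51, 18],
  [0, 19, 33, 50, 48, 35, 17, 2, 16, 3, 49, 34, 32, 51, 1, 18],
  [0, 512, 768, 256, 258, 770, 514, 2, 515, 3, 259, 771, 769, 257, 1, 513],
  [0, 19, 33, 50, 48, 35, 17, 2, 16, 3, 49, 34, 32, 51, 1, 18],
  [0, 18, 35, 49, 32, 50, 3, 17, 48, 34, 19, 1, 16, 2, 51, 33],
  [0, 49, 18, 35, 3, 50, 17, 32, 1, 48, 19, 34, 2, 51, 16, 33],
  [0, 18, 35, 49, 32, 50, 3, 17, 48, 34, 19, 1, 16, 2, 51, 33],
  [0, 768, 256, 512, 259, 515, 3, 771, 513, 257, 769, 1, 770, 2, 514, 258]]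

/-- the images of the 24 points -/
def aQG : List ℕ := [
  0, 2, 4, 7, 263, 391, 1757, 294, 632, 1670, 358, 1713, 326, 1096, 414, 594, 556, 406, 1031,
  519, 1082, 1140, 1771, 398]

/-- vectors flipping the small elements -/
def aFlip : List ℕ := [
  1, 2, 16, 32, 256, 512]

end CfsgLib.Spor.LargeFi
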