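import Cfsg.Agent.Lib.Spor.LargeFi.Model

/-!
The two orbits of the centraliser on non-central involutions of the extraspecial subgroup.
-/

set_option autoImplicit false

namespace CfsgLib.Spor.LargeFi

open CfsgLib.Spor.U62 CfsgLib.ThreeTransp
open Matrix

variable {H : Type*} [Group H] [Finite H] {Q : Subgroup H} [Q.Normal] {z : H}

namespace Model

variable (D : Model Q z)

omit [Finite H] in
theorem act_mul_apply (a b : H) (v : V6) : D.act (a * b) v = D.act a (D.act b v) := by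
  rw [map_mul]; rfl

omit [Finite H] in
theorem act_inv_apply (a : H) (v : V6) : D.act a⁻¹ (D.act a v) = v := by
  rw [← D.act_mul_apply, inv_mul_cancel, map_one]; rfl

omit [Finite H] in
theorem act_injective (a : H) : Function.Injective (D.act a) :=
  Function.LeftInverse.injective (D.act_inv_apply a)

omit [Finite H] in
theorem vec_eq {a b : Q} (h : D.vec a = D.vec b) : (b : H) = a ∨ (b : H) = z * a := by
  have h1 : D.vec (b * a⁻¹) = 0 := by
    have e1 : D.vec (b * a⁻¹) + D.vec a = D.vec b := by rw [← D.vec_mul, inv_mul_cancel_right]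
    exact add_right_cancel (e1.trans (h.symm.trans (zero_add _).symm))
  rcases (D.vec_eq_zero _).1 h1 with e | e <;> rw [Subgroup.coe_mul, Subgroup.coe_inv,
    mul_inv_eq_iff_eq_mul] at e
  · left; rw [e, one_mul]
  · right; exact e

omit [Finite H] in
theorem vec_conj' (h : H) (a : Q) (hm : h * (a : H) * h⁻¹ ∈ Q) :
    D.vec ⟨h * (a : H) * h⁻¹, hm⟩ = D.act h (D.vec a) := by
  rw [← D.vec_conj]; rfl

omit [Finite H] in
theorem moves {a : Q} (h0 : D.vec a ≠ 0) : ∃ p ∈ Q, p * (a : H) * p⁻¹ = z * a := by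
  by_contra hno
  push Not at hno
  refine h0 ((D.vec_eq_zero a).2 (D.xc.center a a.2 fun p hp => ?_))
  exact mul_inv_eq_iff_eq_mul.1 ((D.xc.commEl p hp a a.2).resolve_right (hno p hp))

omit [Finite H] in
/-- Elements with the same non-zero vector are conjugate. -/
theorem conj_of_vec {a b : Q} (h : D.vec a = D.vec b) (h0 : D.vec a ≠ 0) :
    ∃ p ∈ Q, p * (a : H) * p⁻¹ = b := by
  rcases D.vec_eq h with e | e
  · exact ⟨1, one_mem _, by rw [e, one_mul, inv_one, mul_one]⟩
  · obtain ⟨p, hp, e'⟩ := D.moves h0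
    exact ⟨p, hp, e'.trans e.symm⟩

omit [Finite H] in
theorem conj_of_act {h : H} {a b : Q} (e : D.act h (D.vec a) = D.vec b) (h0 : D.vec b ≠ 0) :
    ∃ k : H, k * (a : H) * k⁻¹ = b ∧ D.act k = D.act h := by
  have hm : h * (a : H) * h⁻¹ ∈ Q := (inferInstance : Q.Normal).conj_mem _ a.2 h
  have hv : D.vec ⟨_, hm⟩ = D.vec b := (D.vec_conj' h a hm).trans e
  obtain ⟨p, hp, e'⟩ := D.conj_of_vec hv (hv ▸ h0)
  refine ⟨p * h, ?_, by rw [map_mul, (D.ker_act p).2 hp, one_mul]⟩
  rw [← e', _root_.mul_inv_rev]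
  simp [mul_assoc]

omit [Finite H] in
theorem small_of_M {h : H} (hh : h ∈ D.M) {v : V6} (hv : Small v) : Small (D.act h v) := by
  obtain ⟨g, hg, e⟩ := D.M_lin h hh
  rw [e]; exact hv.map hg

omit [Finite H] in
theorem big_of_M {h : H} (hh : h ∈ D.M) {v : V6} (hv : Big v) : Big (D.act h v) := by
  obtain ⟨g, hg, e⟩ := D.M_lin h hh
  rw [e]; exact hv.map hg

omit [Finite H] in
theorem exists_small {v : V6} (hv : Small v) : ∃ h ∈ D.M, D.act h smallV = v := by
  obtain ⟨g, hg, e⟩ := hv.exists_map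
  obtain ⟨h, hh, he⟩ := D.KS_lift g hg
  exact ⟨h, hh, (he _).trans e⟩

omit [Finite H] in
theorem exists_big {v : V6} (hv : Big v) : ∃ h ∈ D.M, D.act h bigV = v := by
  obtain ⟨g, hg, e⟩ := hv.exists_map
  obtain ⟨h, hh, he⟩ := D.KS_lift g hg
  exact ⟨h, hh, (he _).trans e⟩

omit [Finite H] in
theorem M_normal : D.M.Normal := Subgroup.normal_of_index_eq_two D.M_index

omit [Finite H] in
theorem act_small (h : H) {v : V6} (hv : Small v) : Small (D.act h v) := by
  haveI := D.M_normal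
  obtain ⟨h0, hne⟩ := hv.isotropic
  have h0' : nf (D.act h v) = 0 := by rw [D.act_nf, h0]
  have hne' : D.act h v ≠ 0 := fun e => hne (D.act_injective h (e.trans (map_zero _).symm))
  refine (small_or_big h0' hne').resolve_right fun hb => ?_
  have hsub : {w : V6 | Big w} ⊆ D.act h '' {w : V6 | Small w} := by
    intro w hw
    obtain ⟨a, ha, ea⟩ := D.exists_big hw
    obtain ⟨b, hb', eb⟩ := D.exists_big hb
    refine ⟨D.act (h⁻¹ * (a * b⁻¹) * h) v, D.small_of_M ?_ hv, ?_⟩
    · simpa using D.M_normal.conj_mem _ (D.M.mul_mem ha (D.M.inv_mem hb')) h⁻¹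
    · rw [← D.act_mul_apply, show h * (h⁻¹ * (a * b⁻¹) * h) = a * b⁻¹ * h by simp [mul_assoc],
        D.act_mul_apply, ← eb, D.act_mul_apply, D.act_inv_apply, ea]
  have h1 := Set.ncard_le_ncard hsub (Set.toFinite _)
  have h2 : (D.act h '' {w : V6 | Small w}).ncard ≤ {w : V6 | Small w}.ncard :=
    Set.ncard_image_le (Set.toFinite _)
  rw [ncard_big] at h1
  rw [ncard_small] at h2
  omega

omit [Finite H] in
theorem act_big (h : H) {v : V6} (hv : Big v) : Big (D.act h v) := by
  obtain ⟨h0, hne⟩ := hv.isotropic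
  have h0' : nf (D.act h v) = 0 := by rw [D.act_nf, h0]
  have hne' : D.act h v ≠ 0 := fun e => hne (D.act_injective h (e.trans (map_zero _).symm))
  refine (small_or_big h0' hne').resolve_left fun hs => ?_
  have := D.act_small h⁻¹ hs
  rw [D.act_inv_apply] at this
  exact not_small_big this hv

omit [Finite H] in
theorem invol_vec {a : Q} (h1 : (a : H) * a = 1) (hne1 : (a : H) ≠ 1) (hnez : (a : H) ≠ z) :
    Small (D.vec a) ∨ Big (D.vec a) := by
  refine small_or_big ((D.vec_sq a).1 h1) fun e => ?_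
  rcases (D.vec_eq_zero a).1 e with e' | e'
  exacts [hne1 e', hnez e']

omit [Finite H] in
theorem conj_of_small {a b : Q} (ha : Small (D.vec a)) (hb : Small (D.vec b)) :
    ∃ k : H, k * (a : H) * k⁻¹ = b := by
  obtain ⟨h, -, eh⟩ := D.exists_small ha
  obtain ⟨k, -, ek⟩ := D.exists_small hb
  obtain ⟨j, hj, -⟩ := D.conj_of_act (h := k * h⁻¹) (a := a) (b := b)
    (by rw [D.act_mul_apply, ← eh, D.act_inv_apply, ek]) hb.isotropic.2
  exact ⟨j, hj⟩

omit [Finite H] in
theorem conj_of_big {a b : Q} (ha : Big (D.vec a)) (hb : Big (D.vec b)) :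
    ∃ k : H, k * (a : H) * k⁻¹ = b := by
  obtain ⟨h, -, eh⟩ := D.exists_big ha
  obtain ⟨k, -, ek⟩ := D.exists_big hb
  obtain ⟨j, hj, -⟩ := D.conj_of_act (h := k * h⁻¹) (a := a) (b := b)
    (by rw [D.act_mul_apply, ← eh, D.act_inv_apply, ek]) hb.isotropic.2
  exact ⟨j, hj⟩

end Model

end CfsgLib.Spor.LargeFi
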