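import Cfsg.Agent.Lib.Spor.LargeFi.ACodeChk
import Cfsg.Agent.Lib.Spor.LargeFi.TwoOrbits

/-!
Coordinates on the elementary subgroup of order `2^11`, and the conjugations by the scalar, by the
extraspecial group and by normalising elements in these coordinates.
-/

set_option autoImplicit false
set_option maxRecDepth 100000

namespace CfsgLib.Spor.LargeFi

open CfsgLib.Spor.U62 CfsgLib.ThreeTransp
open Matrix

theorem xor_high_check : ((List.range 2048).all fun n =>
    Nat.beq (Nat.xor (Nat.xor (pI n * 128) (wI n * 2)) (n % 2)) n && Nat.blt (pI n) 16 &&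
      Nat.blt (wI n) 64) = true := by decide +kernel

theorem wV_bits : ((List.range 6).all fun i => Nat.beq (2 ^ i * 2) (2 ^ (i + 1))) = true := by
  decide +kernel

theorem kOf_im_zero : ∀ x < 4, (kOf x).im = 0 ↔ x / 2 = 0 := by decide +kernel

theorem bC_lt (u v : ℕ) : bC u v < 2 := by
  have := dot6_lt (entV u) (fun k => sqN (entV v k))
  unfold bC; omega

theorem herm_im_zero (u v : V6) : (Cfsg.hermForm 6 K4 2 u v).im = 0 ↔ bC (vc u) (vc v) = 0 := by
  have hs : ∀ x < 4, kOf (sqN x) = kOf x ^ 2 := by decide +kernel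
  have e : kOf (dot6 (entV (vc u)) (fun k => sqN (entV (vc v) k))) = Cfsg.hermForm 6 K4 2 u v := by
    rw [kOf_dot6 (fun k => entV_lt _ _) fun k => sqN_lt _, Cfsg.hermForm]
    refine Finset.sum_congr rfl fun i _ => ?_
    rw [hs _ (entV_lt _ _)]
    exact congrArg₂ (fun a b => a * b ^ 2) (congrFun (vOf_vc u) i) (congrFun (vOf_vc v) i)
  rw [← e, kOf_im_zero _ (dot6_lt _ _)]
  rfl

/-- induction on codes of a given length -/
theorem bits_induction {P : ℕ → Prop} (h0 : P 0) {k : ℕ} (hb : ∀ j < k, P (2 ^ j))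
    (hx : ∀ a b, a < 2 ^ k → b < 2 ^ k → P a → P b → P (Nat.xor a b)) :
    ∀ n < 2 ^ k, P n := by
  have key : ∀ i ≤ k, ∀ n < 2 ^ i, P n := by
    intro i
    induction i with
    | zero => intro _ n hn; obtain rfl : n = 0 := by simpa using hn
              exact h0
    | succ i ih =>
      intro hi n hn
      rcases Nat.lt_or_ge n (2 ^ i) with h | h
      · exact ih (by omega) n h
      · have hlt : n - 2 ^ i < 2 ^ i := by rw [pow_succ] at hn; omega
        have e : Nat.xor (2 ^ i) (n - 2 ^ i) = n := by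
          show 2 ^ i ^^^ (n - 2 ^ i) = n
          have h1 := Nat.two_pow_add_eq_or_of_lt hlt 1
          rw [mul_one] at h1
          have h2 : 2 ^ i + (n - 2 ^ i) = n := by omega
          have h3 : 2 ^ i ^^^ (n - 2 ^ i) = 2 ^ i ||| (n - 2 ^ i) := by
            refine Nat.eq_of_testBit_eq fun j => ?_
            rw [Nat.testBit_xor, Nat.testBit_lor]
            rcases eq_or_ne i j with rfl | hne
            · rw [Nat.testBit_two_pow_self, Nat.testBit_lt_two_pow hlt]; rfl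
            · simp [Nat.testBit_two_pow_of_ne hne]
          rw [h3, ← h1, h2]
        rw [← e]
        exact hx _ _ (Nat.pow_lt_pow_right (by norm_num) (by omega))
          (hlt.trans_le (Nat.pow_le_pow_right (by norm_num) (by omega)))
          (hb i (by omega)) (ih (by omega) _ hlt)
  exact key k le_rfl

theorem z_out {H : Type*} [Group H] (z a b c : H) (hz : ∀ y, y * z = z * y) :
    z * a * (z * b) * (z * c) = z * z * z * (a * b * c) := by
  have h1 : ∀ y w : H, y * (z * w) = z * (y * w) := fun y w => by rw [← mul_assoc, hz, mul_assoc]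
  simp only [mul_assoc]
  rw [h1 b, h1 a, h1 a]

theorem mul_inv_cancel_left_aux {H : Type*} [Group H] (z a d : H) (hz : ∀ y, y * z = z * y) :
    z * a * d = a * d * a⁻¹ * (z * a) := by
  have h1 : ∀ y w : H, y * (z * w) = z * (y * w) := fun y w => by rw [← mul_assoc, hz, mul_assoc]
  rw [h1]
  simp [mul_assoc]

namespace Model

variable {H : Type*} [Group H] [Finite H] {Q : Subgroup H} [Q.Normal] {z : H}

/-- a choice of the scalar and of four lifts -/
structure ABase (D : Model Q z) where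
  /-- the scalar -/
  x : H
  x_three : x ^ 3 = 1
  x_act : ∀ v, D.act x v = om • v
  /-- lifts of four generators -/
  d : ℕ → H
  d_comm : ∀ i, i < 4 → d i * x = x * d i
  d_act : ∀ i, i < 4 → ∀ v, D.act (d i) v = sAct (peC (2 ^ i)) v

theorem exists_aBase (D : Model Q z) : Nonempty (ABase D) := by
  obtain ⟨x, hx3, hx⟩ := D.exists_scalar
  have h : ∀ i, ∃ d, i < 4 → d * x = x * d ∧ ∀ v, D.act d v = sAct (peC (2 ^ i)) v := by
    intro i
    by_cases hi : i < 4
    · have hm : peC (2 ^ i) ∈ elemL := by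
        have h := aPE_facts
        simp only [List.all_eq_true, Bool.and_eq_true, memV_iff, List.mem_range] at h
        exact (h _ (Nat.pow_lt_pow_right (by norm_num) hi : 2 ^ i < 2 ^ 4)).1
      obtain ⟨d, hd, ed⟩ := D.lift_elem hx3 hx hm
      exact ⟨d, fun _ => ⟨hd, ed⟩⟩
    · exact ⟨1, fun h => absurd h hi⟩
  choose d hd using h
  exact ⟨⟨x, hx3, hx, d, fun i hi => (hd i hi).1, fun i hi => (hd i hi).2⟩⟩

variable {D : Model Q z} (B : ABase D)

omit [Finite H] in
theorem fixU_of_vec {a : H} (ha : a ∈ Q) (hv : vc (D.vec ⟨a, ha⟩) ∈ fixL) : a ∈ D.fixU := ⟨ha, hv⟩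

omit [Finite H] in
theorem z_mem_fixU : z ∈ D.fixU :=
  ⟨D.xc.mem, by rw [(D.vec_eq_zero _).2 (Or.inr rfl), vc_zero']; exact fixL_facts.1⟩

theorem bigA_comm {a b : H} (ha : a ∈ D.bigA) (hb : b ∈ D.bigA) : a * b = b * a :=
  congrArg Subtype.val (D.bigA_elementary.1.is_comm.comm (⟨a, ha⟩ : D.bigA) ⟨b, hb⟩)

theorem bigA_sq {a : H} (ha : a ∈ D.bigA) : a * a = 1 :=
  (pow_two a).symm.trans (D.bigA_elementary.2 a ha)

theorem bigA_inv {a : H} (ha : a ∈ D.bigA) : a⁻¹ = a := inv_eq_of_mul_eq_one_right (bigA_sq ha)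

theorem std_norm_bigA' {s a : H} (hs : s ∈ Q) (ha : a ∈ D.bigA) : s * a * s⁻¹ ∈ D.bigA := by
  have h := Subgroup.mem_centralizer_iff.1 ha.2
  obtain ⟨p, hp, e⟩ := ha.1
  refine ⟨⟨p, hp, fun v => ?_⟩, Subgroup.mem_centralizer_iff.2 fun u hu => ?_⟩
  · rw [D.act_mul_apply, D.act_mul_apply, e, (D.ker_act s).2 hs,
      (D.ker_act s⁻¹).2 (inv_mem hs)]
    rfl
  · have key : ∀ t ∈ Q, t * u * t⁻¹ = u ∨ t * u * t⁻¹ = z * u := fun t ht => D.xc.commEl t ht u hu.1
    have hz : ∀ y, y * z = z * y := D.zc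
    have hc : s⁻¹ * u * s * a = a * (s⁻¹ * u * s) := by
      rcases key s⁻¹ (inv_mem hs) with h' | h' <;> rw [inv_inv] at h' <;> rw [h']
      · exact h u hu
      · rw [mul_assoc, h u hu, ← mul_assoc a, hz a, mul_assoc]
    calc u * (s * a * s⁻¹) = s * (s⁻¹ * u * s * a) * s⁻¹ := by simp [mul_assoc]
      _ = s * a * s⁻¹ * u := by rw [hc]; simp [mul_assoc]

theorem fixU_le_bigA {a : H} (ha : a ∈ D.fixU) : a ∈ D.bigA := by
  have : a ∈ D.bigA ⊓ Q := by rw [D.bigA_inf]; exact ha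
  exact this.1

namespace ABase

/-- conjugation by the scalar -/
def cx : H ≃* H := MulAut.conj B.x

/-- the canonical elements over the singular space -/
def CN (u : H) : Prop := u ∈ D.fixU ∧ u * B.cx u * B.cx (B.cx u) = 1

omit [Finite H] in
theorem cx_three (u : H) : B.cx (B.cx (B.cx u)) = u := by
  show B.x * (B.x * (B.x * u * B.x⁻¹) * B.x⁻¹) * B.x⁻¹ = u
  have h : B.x * (B.x * B.x) = 1 := by rw [← pow_two, ← pow_succ', B.x_three]
  calc B.x * (B.x * (B.x * u * B.x⁻¹) * B.x⁻¹) * B.x⁻¹ =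
      (B.x * (B.x * B.x)) * u * (B.x * (B.x * B.x))⁻¹ := by simp [mul_assoc]
    _ = u := by rw [h]; simp

omit [Finite H] in
theorem cx_z : B.cx z = z := mul_inv_eq_iff_eq_mul.2 (D.zc _)

omit [Finite H] in
theorem vec_cx {u : H} (hu : u ∈ Q) (hm : B.cx u ∈ Q) :
    D.vec ⟨B.cx u, hm⟩ = om • D.vec ⟨u, hu⟩ := by
  rw [← B.x_act]; exact D.vec_conj' B.x ⟨u, hu⟩ hm

omit [Finite H] in
theorem cx_fixU {u : H} (hu : u ∈ D.fixU) : B.cx u ∈ D.fixU := by
  obtain ⟨hq, hv⟩ := hu
  have hm : B.cx u ∈ Q := (inferInstance : Q.Normal).conj_mem _ hq B.x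
  refine ⟨hm, ?_⟩
  rw [B.vec_cx hq hm, vc_om_smul]
  exact (fixL_facts.2 _ hv).2.2.1

omit [Finite H] in
theorem CN_one : B.CN 1 := ⟨one_mem _, by simp⟩

omit [Finite H] in
theorem CN_mul {a b : H} (ha : B.CN a) (hb : B.CN b) : B.CN (a * b) := by
  refine ⟨mul_mem ha.1 hb.1, ?_⟩
  have h1 := B.cx_fixU ha.1
  have h3 := B.cx_fixU hb.1
  have h4 := B.cx_fixU h1
  rw [map_mul, map_mul]
  calc a * b * (B.cx a * B.cx b) * (B.cx (B.cx a) * B.cx (B.cx b))
      = a * (b * B.cx a) * (B.cx b * B.cx (B.cx a)) * B.cx (B.cx b) := by simp [mul_assoc]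
    _ = a * B.cx a * (b * B.cx (B.cx a)) * B.cx b * B.cx (B.cx b) := by
        rw [D.fixU_comm hb.1 h1, D.fixU_comm h3 h4]; simp [mul_assoc]
    _ = (a * B.cx a * B.cx (B.cx a)) * (b * B.cx b * B.cx (B.cx b)) := by
        rw [D.fixU_comm hb.1 h4]; simp [mul_assoc]
    _ = 1 := by rw [ha.2, hb.2, one_mul]

omit [Finite H] in
theorem CN_cx {a : H} (ha : B.CN a) : B.CN (B.cx a) :=
  ⟨B.cx_fixU ha.1, by rw [← map_mul, ← map_mul, ha.2, map_one]⟩

omit [Finite H] in
theorem CN_unique {a b : H} (ha : B.CN a) (hb : B.CN b) (hqa : a ∈ Q) (hqb : b ∈ Q)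
    (h : D.vec ⟨a, hqa⟩ = D.vec ⟨b, hqb⟩) : a = b := by
  rcases D.vec_eq h with e | e
  · exact e.symm
  · exfalso
    change b = z * a at e
    have := hb.2
    rw [e, map_mul, map_mul, B.cx_z, B.cx_z] at this
    have hz : ∀ y, y * z = z * y := D.zc
    apply D.xc.ne_one
    calc z = z * (z * z) * (a * B.cx a * B.cx (B.cx a)) := by rw [D.xc.inv, ha.2, mul_one, mul_one]
      _ = z * a * (z * B.cx a) * (z * B.cx (B.cx a)) := by
          simp only [← mul_assoc]
          rw [show z * a * z = z * z * a by rw [mul_assoc, hz a, ← mul_assoc],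
            show z * z * a * B.cx a * z = z * z * z * a * B.cx a by
              rw [mul_assoc, hz (B.cx a), ← mul_assoc, mul_assoc (z * z) a z, hz a]
              simp [mul_assoc]]
      _ = 1 := this

/-- a canonical generator over the singular space -/
noncomputable def cgen (i : ℕ) : H :=
  let u : H := ((Classical.choose (D.vec_surj (om • vOf (wV (2 ^ i)))) : Q) : H)
  u * B.cx u

/-- the eleven generators -/
noncomputable def gen (j : ℕ) : H :=
  if j = 0 then z else if j < 7 then B.cgen (j - 1) else if j < 11 then B.d (j - 7) else 1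

/-- a product of generators -/
noncomputable def pr : ℕ → ℕ → H
  | 0, _ => 1
  | k + 1, n => pr k n * (if n.testBit k then B.gen k else 1)

/-- the element with given coordinates -/
noncomputable def el (n : ℕ) : H := B.pr 11 n

omit [Finite H] in
theorem cgen_spec {i : ℕ} (hi : i < 6) :
    B.CN (B.cgen i) ∧ ∃ hq : B.cgen i ∈ Q, D.vec ⟨B.cgen i, hq⟩ = vOf (wV (2 ^ i)) := by
  set u : Q := Classical.choose (D.vec_surj (om • vOf (wV (2 ^ i)))) with hu
  have hvu : D.vec u = om • vOf (wV (2 ^ i)) :=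
    Classical.choose_spec (D.vec_surj (om • vOf (wV (2 ^ i))))
  have hw := List.all_eq_true.1 wK_wV (2 ^ i)
    (List.mem_range.2 (Nat.pow_lt_pow_right (by norm_num) hi : 2 ^ i < 2 ^ 6))
  simp only [Bool.and_eq_true, memV_iff, Nat.blt_eq] at hw
  have hm : B.cx u ∈ Q := (inferInstance : Q.Normal).conj_mem _ u.2 B.x
  have hcq : B.cgen i ∈ Q := mul_mem u.2 hm
  have huf : (u : H) ∈ D.fixU := ⟨u.2, by
    rw [show (⟨(u : H), u.2⟩ : Q) = u from rfl, hvu, vc_om_smul, vc_vOf hw.2]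
    exact (fixL_facts.2 _ hw.1.2).2.2.1⟩
  have h1 := B.cx_fixU huf
  have h2 := B.cx_fixU h1
  have hvec : D.vec ⟨B.cgen i, hcq⟩ = vOf (wV (2 ^ i)) := by
    rw [show (⟨B.cgen i, hcq⟩ : Q) = u * ⟨B.cx u, hm⟩ from rfl, D.vec_mul, B.vec_cx u.2 hm,
      show (⟨(u : H), u.2⟩ : Q) = u from rfl, hvu, smul_smul, ← add_smul,
      show om + om * om = (1 : K4) by decide +kernel, one_smul]
  refine ⟨⟨mul_mem huf h1, ?_⟩, hcq, hvec⟩
  show (u : H) * B.cx u * B.cx ((u : H) * B.cx u) * B.cx (B.cx ((u : H) * B.cx u)) = 1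
  rw [map_mul, map_mul, B.cx_three]
  calc (u : H) * B.cx u * (B.cx u * B.cx (B.cx u)) * (B.cx (B.cx u) * u)
      = u * ((B.cx u * B.cx u) * (B.cx (B.cx u) * B.cx (B.cx u))) * u := by simp [mul_assoc]
    _ = 1 := by rw [D.fixU_sq h1, D.fixU_sq h2, mul_one, mul_one, D.fixU_sq huf]

theorem gen_mem (j : ℕ) : B.gen j ∈ D.bigA := by
  unfold gen
  split_ifs with h0 h7 h11
  · exact fixU_le_bigA z_mem_fixU
  · exact fixU_le_bigA (B.cgen_spec (by omega)).1.1
  · have hp : peC (2 ^ (j - 7)) ∈ elemL := by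
      have h := aPE_facts
      simp only [List.all_eq_true, Bool.and_eq_true, memV_iff, List.mem_range] at h
      exact (h _ (Nat.pow_lt_pow_right (by norm_num) (by omega : j - 7 < 4) : 2 ^ (j - 7) < 2 ^ 4)).1
    exact ⟨⟨_, hp, B.d_act _ (by omega)⟩, Subgroup.mem_centralizer_iff.2 fun u hu =>
      (D.lift_cent_fixU B.x_act (B.d_comm _ (by omega)) hp (B.d_act _ (by omega)) hu).symm⟩
  · exact one_mem _

theorem pr_mem : ∀ k n, B.pr k n ∈ D.bigA
  | 0, _ => one_mem _
  | k + 1, n => mul_mem (pr_mem k n) (by split_ifs <;> [exact B.gen_mem k; exact one_mem _])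

theorem el_mem (n : ℕ) : B.el n ∈ D.bigA := B.pr_mem 11 n

theorem pr_xor : ∀ k a b, B.pr k (Nat.xor a b) = B.pr k a * B.pr k b
  | 0, _, _ => (mul_one 1).symm
  | k + 1, a, b => by
    show B.pr k (Nat.xor a b) * (if (a ^^^ b).testBit k then B.gen k else 1) =
      B.pr k a * (if a.testBit k then B.gen k else 1) * (B.pr k b * if b.testBit k then B.gen k else 1)
    rw [pr_xor k a b, Nat.testBit_xor]
    have hg := B.gen_mem k
    have hb := B.pr_mem k b
    cases a.testBit k <;> cases b.testBit k <;> simp only [Bool.bne_false, Bool.bne_true, Bool.not_false,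
      Bool.not_true, if_true, if_false, Bool.false_eq_true, mul_one]
    · rw [mul_assoc]
    · rw [mul_assoc, mul_assoc, bigA_comm hg hb]
    · rw [mul_assoc (B.pr k a) (B.gen k), ← mul_assoc (B.gen k), bigA_comm hg hb, mul_assoc (B.pr k b),
        bigA_sq hg, mul_one]

theorem el_xor (a b : ℕ) : B.el (Nat.xor a b) = B.el a * B.el b := B.pr_xor 11 a b

omit [Finite H] in
theorem el_zero : B.el 0 = 1 := by simp [el, pr]

omit [Finite H] in
theorem el_pow {j : ℕ} (hj : j < 11) : B.el (2 ^ j) = B.gen j := by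
  have key : ∀ k, B.pr k (2 ^ j) = if j < k then B.gen j else 1 := by
    intro k
    induction k with
    | zero => simp [pr]
    | succ k ih =>
      show B.pr k (2 ^ j) * (if (2 ^ j).testBit k then B.gen k else 1) = _
      rw [ih, Nat.testBit_two_pow]
      rcases Nat.lt_trichotomy j k with h | h | h
      · rw [if_pos h, if_neg (by simp; omega), if_pos (by omega), mul_one]
      · subst h
        rw [if_neg (lt_irrefl _), if_pos (by simp), if_pos (by omega), one_mul]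
      · rw [if_neg (by omega), if_neg (by simp; omega), if_neg (by omega), one_mul]
  rw [el, key, if_pos hj]

omit [Finite H] in
theorem el_one : B.el 1 = z := by
  have h := B.el_pow (j := 0) (by norm_num)
  simpa [gen] using h

theorem el_split {n : ℕ} (hn : n < 2048) :
    B.el n = B.el (pI n * 128) * B.el (wI n * 2) * B.el (n % 2) ∧ pI n < 16 ∧ wI n < 64 := by
  have h := List.all_eq_true.1 xor_high_check n (List.mem_range.2 hn)
  simp only [Bool.and_eq_true, Nat.beq_eq, Nat.blt_eq] at h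
  refine ⟨?_, h.1.2, h.2⟩
  conv_lhs => rw [← h.1.1]
  rw [B.el_xor, B.el_xor]

theorem cpart {c : ℕ} (hc : c < 64) :
    B.CN (B.el (c * 2)) ∧ ∃ hq : B.el (c * 2) ∈ Q, D.vec ⟨B.el (c * 2), hq⟩ = vOf (wV c) := by
  refine bits_induction (k := 6) (P := fun c => B.CN (B.el (c * 2)) ∧
    ∃ hq : B.el (c * 2) ∈ Q, D.vec ⟨B.el (c * 2), hq⟩ = vOf (wV c)) ?_ ?_ ?_ c hc
  · have e : B.el (0 * 2) = 1 := by rw [Nat.zero_mul]; exact B.el_zero
    refine ⟨e ▸ B.CN_one, e ▸ one_mem _, ?_⟩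
    rw [show wV 0 = 0 from rfl, show vOf 0 = 0 by decide +kernel]
    exact (D.vec_eq_zero _).2 (Or.inl e)
  · intro j hj
    have e : B.el (2 ^ j * 2) = B.cgen j := by
      rw [← pow_succ, B.el_pow (by omega), gen, if_neg (by omega), if_pos (by omega)]
      rfl
    obtain ⟨h1, hq, h2⟩ := B.cgen_spec hj
    refine ⟨e ▸ h1, e ▸ hq, ?_⟩
    rw [← h2]
    congr 1
    exact Subtype.ext e
  · rintro a b ha hb ⟨ca, qa, va⟩ ⟨cb, qb, vb⟩
    have e : B.el (Nat.xor a b * 2) = B.el (a * 2) * B.el (b * 2) := by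
      rw [← B.el_xor]
      congr 1
      show (a ^^^ b) * 2 = a * 2 ^^^ b * 2
      have h : ∀ m : ℕ, m * 2 = m <<< 1 := fun m => by rw [Nat.shiftLeft_eq]
      simp only [h, Nat.shiftLeft_xor_distrib]
    refine ⟨by rw [e]; exact B.CN_mul ca cb, by rw [e]; exact mul_mem qa qb, ?_⟩
    have h := List.all_eq_true.1 (List.all_eq_true.1 wV_xor a (List.mem_range.2 ha)) b (List.mem_range.2 hb)
    rw [Nat.beq_eq] at h
    rw [show (⟨B.el (Nat.xor a b * 2), by rw [e]; exact mul_mem qa qb⟩ : Q) = ⟨_, qa⟩ * ⟨_, qb⟩ from Subtype.ext e, D.vec_mul, va, vb, h]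
    exact (vOf_xor _ _).symm

theorem ppart {p : ℕ} (hp : p < 16) :
    B.el (p * 128) * B.x = B.x * B.el (p * 128) ∧
      ∀ v, D.act (B.el (p * 128)) v = sAct (peC p) v := by
  refine bits_induction (k := 4) (P := fun p => B.el (p * 128) * B.x = B.x * B.el (p * 128) ∧
      ∀ v, D.act (B.el (p * 128)) v = sAct (peC p) v) ?_ ?_ ?_ p hp
  · have e : B.el (0 * 128) = 1 := by rw [Nat.zero_mul]; exact B.el_zero
    refine ⟨by rw [e, one_mul, mul_one], fun v => ?_⟩
    rw [e, map_one, Nat.eq_of_beq_eq_true aPE_zero, sAct_one]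
    rfl
  · intro j hj
    have e : B.el (2 ^ j * 128) = B.d j := by
      rw [show (128 : ℕ) = 2 ^ 7 by norm_num, ← pow_add, B.el_pow (by omega), gen, if_neg (by omega),
        if_neg (by omega), if_pos (by omega), Nat.add_sub_cancel]
    exact ⟨by rw [e]; exact B.d_comm j hj, fun v => by rw [e]; exact B.d_act j hj v⟩
  · rintro a b ha hb ⟨ca, aa⟩ ⟨cb, ab⟩
    have e : B.el (Nat.xor a b * 128) = B.el (a * 128) * B.el (b * 128) := by
      rw [← B.el_xor]
      congr 1
      show (a ^^^ b) * 128 = a * 128 ^^^ b * 128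
      have h : ∀ m : ℕ, m * 128 = m <<< 7 := fun m => by rw [Nat.shiftLeft_eq]
      simp only [h, Nat.shiftLeft_xor_distrib]
    have h := List.all_eq_true.1 aPE_facts a (List.mem_range.2 ha)
    simp only [Bool.and_eq_true, List.all_eq_true, List.mem_range, Nat.beq_eq] at h
    refine ⟨?_, fun v => ?_⟩
    · rw [e]; exact ((show Commute _ B.x from ca).mul_left cb).eq
    · rw [e, D.act_mul_apply, ab, aa, ← sAct_sMul, (h.2 b hb).1]

omit [Finite H] in
theorem act_fixU {u : H} (hu : u ∈ D.fixU) (v : V6) : D.act u v = v := by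
  rw [(D.ker_act u).2 hu.1]; rfl

theorem low_mem (n : ℕ) : B.el (n % 2) = 1 ∨ B.el (n % 2) = z := by
  rcases Nat.mod_two_eq_zero_or_one n with h | h <;> rw [h]
  · exact Or.inl B.el_zero
  · exact Or.inr B.el_one

theorem low_fixU (n : ℕ) : B.el (n % 2) ∈ D.fixU := by
  rcases B.low_mem n with e | e <;> rw [e]
  · exact one_mem _
  · exact z_mem_fixU

theorem act_el {n : ℕ} (hn : n < 2048) (v : V6) : D.act (B.el n) v = sAct (peC (pI n)) v := by
  obtain ⟨e, hp, hw⟩ := B.el_split hn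
  rw [e, D.act_mul_apply, D.act_mul_apply, act_fixU (B.low_fixU n), act_fixU (B.cpart hw).1.1,
    (B.ppart hp).2]

omit [Finite H] in
theorem pI_unique {a b : ℕ} (ha : a < 16) (hb : b < 16)
    (h : ∀ v, sAct (peC a) v = sAct (peC b) v) : a = b := by
  have hf := aPE_facts
  simp only [List.all_eq_true, Bool.and_eq_true, List.mem_range, memV_iff, Bool.or_eq_true,
    Nat.beq_eq, Bool.not_eq_true'] at hf
  have e : peC a = peC b := sylL_act_inj (elem_facts (hf a ha).1).1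
    (sylL_can (elem_facts (hf b hb).1).1).1 h
  refine ((hf a ha).2 b hb).2.resolve_right fun h' => ?_
  rw [e] at h'
  simp at h'

theorem el_injOn {a b : ℕ} (ha : a < 2048) (hb : b < 2048) (h : B.el a = B.el b) : a = b := by
  have h0 : ∀ n < 2048, B.el n = 1 → n = 0 := by
    intro n hn he
    obtain ⟨e, hp, hw⟩ := B.el_split hn
    have hp0 : pI n = 0 := pI_unique hp (by norm_num) fun v => by
      rw [← B.act_el hn, he, map_one, Nat.eq_of_beq_eq_true aPE_zero, sAct_one]; rfl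
    rw [hp0, Nat.zero_mul, B.el_zero, one_mul, he] at e
    obtain ⟨-, hq, hv⟩ := B.cpart hw
    have hw0 : wI n = 0 := by
      have h1 : D.vec ⟨B.el (wI n * 2), hq⟩ = 0 := (D.vec_eq_zero _).2 (by
        have h2 : B.el (wI n * 2) = (B.el (n % 2))⁻¹ := eq_inv_of_mul_eq_one_left e.symm
        rcases B.low_mem n with e' | e' <;> rw [e'] at h2
        · exact Or.inl (h2.trans inv_one)
        · exact Or.inr (h2.trans (inv_eq_of_mul_eq_one_right D.xc.inv)))
      rw [hv] at h1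
      have hk := List.all_eq_true.1 wK_wV (wI n) (List.mem_range.2 hw)
      simp only [Bool.and_eq_true, Nat.beq_eq, Nat.blt_eq] at hk
      have h2 := congrArg vc h1
      rw [vc_vOf hk.2, vc_zero'] at h2
      rw [← hk.1.1, h2]
      rfl
    rw [hw0, Nat.zero_mul, B.el_zero, one_mul] at e
    have hb0 : n % 2 = 0 := by
      rcases Nat.mod_two_eq_zero_or_one n with h1 | h1
      · exact h1
      · rw [h1, B.el_one] at e; exact absurd e.symm D.xc.ne_one
    have hx := List.all_eq_true.1 xor_high_check n (List.mem_range.2 hn)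
    simp only [Bool.and_eq_true, Nat.beq_eq] at hx
    rw [← hx.1.1, hp0, hw0, hb0]
    rfl
  have hlt : Nat.xor a b < 2048 := Nat.xor_lt_two_pow (n := 11) ha hb
  have h1 := h0 _ hlt (by rw [B.el_xor, h, bigA_sq (B.el_mem b)])
  exact Nat.xor_eq_zero_iff.1 h1

theorem el_surj {a : H} (ha : a ∈ D.bigA) : ∃ n < 2048, B.el n = a := by
  let f : Fin 2048 → D.bigA := fun n => ⟨B.el n, B.el_mem n⟩
  have hf : Function.Injective f := fun a b h =>
    Fin.ext (B.el_injOn a.2 b.2 (congrArg Subtype.val h))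
  obtain ⟨n, hn⟩ := ((Nat.bijective_iff_injective_and_card f).2
    ⟨hf, by rw [Nat.card_fin, D.card_bigA]; norm_num⟩).2 ⟨a, ha⟩
  exact ⟨n, n.2, congrArg Subtype.val hn⟩

theorem x_conj {n : ℕ} (hn : n < 2048) : B.x * B.el n * B.x⁻¹ = B.el (xC n) := by
  obtain ⟨e, hp, hw⟩ := B.el_split hn
  have hxl : smC 2 (wV (wI n)) ∈ fixL := by
    have hk := List.all_eq_true.1 wK_wV (wI n) (List.mem_range.2 hw)
    simp only [Bool.and_eq_true, memV_iff] at hk
    exact (fixL_facts.2 _ hk.1.2).2.2.1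
  have hk2 := List.all_eq_true.1 wV_wK _ hxl
  simp only [Bool.and_eq_true, Nat.beq_eq, Nat.blt_eq] at hk2
  have hc' : wK (smC 2 (wV (wI n))) < 64 := hk2.2
  obtain ⟨c1, q1, v1⟩ := B.cpart hw
  obtain ⟨c2, q2, v2⟩ := B.cpart hc'
  have hm : B.cx (B.el (wI n * 2)) ∈ Q := (inferInstance : Q.Normal).conj_mem _ q1 B.x
  have hkw := List.all_eq_true.1 wK_wV (wI n) (List.mem_range.2 hw)
  simp only [Bool.and_eq_true, Nat.blt_eq] at hkw
  have ew : B.cx (B.el (wI n * 2)) = B.el (wK (smC 2 (wV (wI n))) * 2) :=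
    B.CN_unique (B.CN_cx c1) c2 hm q2 (by
      rw [B.vec_cx q1 hm, v1, v2, hk2.1]
      exact vc_injective (by
        rw [vc_om_smul, vc_vOf hkw.2, vc_vOf (fixL_facts.2 _ hxl).1]))
  have ex : xC n = Nat.xor (Nat.xor (pI n * 128) (wK (smC 2 (wV (wI n))) * 2)) (n % 2) := by
    have h1 := List.all_eq_true.1 xor_high_check (xC n) (List.mem_range.2 (by
      have := List.all_eq_true.1 xC_lt n (List.mem_range.2 hn)
      simp only [Bool.and_eq_true, Nat.blt_eq] at this; exact this.1))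
    simp only [Bool.and_eq_true, Nat.beq_eq] at h1
    conv_lhs => rw [← h1.1.1]
    have a1 : pI (xC n) = pI n := by simp only [xC, pI]; omega
    have a2 : wI (xC n) = wK (smC 2 (wV (wI n))) := by simp only [xC, wI, pI] at hc' ⊢; omega
    have a3 : xC n % 2 = n % 2 := by simp only [xC]; omega
    rw [a1, a2, a3]
  rw [ex, B.el_xor, B.el_xor, e]
  show B.cx (B.el (pI n * 128) * B.el (wI n * 2) * B.el (n % 2)) = _
  rw [map_mul, map_mul, ew]
  congr 1
  · congr 1
    exact mul_inv_eq_iff_eq_mul.2 (B.ppart hp).1.symm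
  · rcases B.low_mem n with h | h <;> rw [h]
    · exact map_one _
    · exact B.cx_z

theorem el_bit {b : ℕ} (hb : b < 2) : B.el b = 1 ∧ b = 0 ∨ B.el b = z ∧ b = 1 := by
  rcases (show b = 0 ∨ b = 1 by omega) with rfl | rfl
  · exact Or.inl ⟨B.el_zero, rfl⟩
  · exact Or.inr ⟨B.el_one, rfl⟩

/-- conjugation of an element over the singular space -/
theorem q_conj_fix {q : Q} {u : H} (hu : u ∈ D.fixU) (hq : u ∈ Q) :
    (q : H) * u * (q : H)⁻¹ = B.el (bC (vc (D.vec q)) (vc (D.vec ⟨u, hq⟩))) * u := by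
  rcases B.el_bit (bC_lt (vc (D.vec q)) (vc (D.vec ⟨u, hq⟩))) with ⟨e, h0⟩ | ⟨e, h1⟩ <;> rw [e]
  · rw [one_mul]
    exact mul_inv_eq_iff_eq_mul.2 ((D.vec_comm q ⟨u, hq⟩).2 ((herm_im_zero _ _).2 h0))
  · refine (D.xc.commEl q q.2 u hq).resolve_left fun h => ?_
    have := (herm_im_zero _ _).1 ((D.vec_comm q ⟨u, hq⟩).1 (mul_inv_eq_iff_eq_mul.1 h))
    omega

/-- the commutator of an element of the extraspecial group with a lift -/
theorem q_conj_p {q : Q} {p : ℕ} (hp : p < 16) :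
    (q : H) * B.el (p * 128) * (q : H)⁻¹ =
      B.el (p * 128) * (B.el (wK (dP p (vc (D.vec q))) * 2) * B.el (eC p (vc (D.vec q)))) ∧
      dP p (vc (D.vec q)) ∈ fixL := by
  set d := B.el (p * 128) with hd
  obtain ⟨hdx, hda⟩ := B.ppart hp
  rw [← hd] at hdx hda
  have hdA : d ∈ D.bigA := B.el_mem _
  -- the commutators of the three conjugates
  let r : H → H := fun s => d * (s * d * s⁻¹)
  have hr : ∀ s ∈ Q, r s ∈ D.fixU := by
    intro s hs
    have h1 : r s ∈ D.bigA := mul_mem hdA (D.std_norm_bigA' hs hdA)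
    have h2 : r s ∈ Q := by
      have : d * s * d⁻¹ * s⁻¹ ∈ Q :=
        mul_mem ((inferInstance : Q.Normal).conj_mem _ hs d) (inv_mem hs)
      rw [bigA_inv hdA] at this
      simpa [r, mul_assoc] using this
    rw [← D.bigA_inf]; exact ⟨h1, h2⟩
  have hvec : ∀ (s : Q) (hm : r s ∈ Q),
      D.vec ⟨r s, hm⟩ = D.act d (D.vec s) + D.vec s := by
    intro s hm
    have hcm : d * (s : H) * d⁻¹ ∈ Q := (inferInstance : Q.Normal).conj_mem _ s.2 d
    have e : (⟨r s, hm⟩ : Q) = ⟨_, hcm⟩ * s⁻¹ := Subtype.ext (by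
      show r s = d * (s : H) * d⁻¹ * (s : H)⁻¹
      rw [bigA_inv hdA]; simp [r, mul_assoc])
    rw [e, D.vec_mul, D.vec_inv, D.vec_conj' d s hcm]
  have hcxd : B.cx d = d := mul_inv_eq_iff_eq_mul.2 hdx.symm
  have hrx : ∀ s, B.cx (r s) = r (B.cx s) := by
    intro s
    show B.cx (d * (s * d * s⁻¹)) = _
    rw [map_mul, map_mul, map_mul, map_inv, hcxd]
  have h0 := hr q q.2
  have hm0 : r q ∈ Q := h0.1
  have hfl : dP p (vc (D.vec q)) ∈ fixL := by
    obtain ⟨_, hv⟩ := h0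
    rw [hvec q hm0, vc_add, hda, vc_sAct] at hv
    exact hv
  refine ⟨?_, hfl⟩
  have hk := List.all_eq_true.1 wV_wK _ hfl
  simp only [Bool.and_eq_true, Nat.beq_eq, Nat.blt_eq] at hk
  obtain ⟨cw, qw, vw⟩ := B.cpart hk.2
  have hvr : D.vec ⟨r q, hm0⟩ = vOf (dP p (vc (D.vec q))) := by
    refine vc_injective ?_
    rw [hvec q hm0, vc_add, hda, vc_sAct, vc_vOf (fixL_facts.2 _ hfl).1]
    rfl
  have heq : D.vec ⟨_, qw⟩ = D.vec ⟨r q, hm0⟩ := by rw [vw, hvr, hk.1]
  -- the sign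
  have hq1 : B.cx (q : H) ∈ Q := (inferInstance : Q.Normal).conj_mem _ q.2 B.x
  have hq2 : B.cx (B.cx (q : H)) ∈ Q := (inferInstance : Q.Normal).conj_mem _ hq1 B.x
  have hv12 : D.vec (q * ⟨_, hq1⟩) = D.vec ⟨_, hq2⟩ := by
    rw [D.vec_mul, B.vec_cx hq1 hq2, B.vec_cx q.2 hq1, show (⟨(q : H), q.2⟩ : Q) = q from rfl,
      smul_smul]
    conv_lhs => rw [← one_smul K4 (D.vec q)]
    rw [smul_smul, mul_one, ← add_smul, show (1 : K4) + om = om * om by decide +kernel]
  have hsame : r (B.cx (B.cx (q : H))) = r ((q : H) * B.cx (q : H)) := by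
    rcases D.vec_eq hv12 with e | e <;> change B.cx (B.cx (q : H)) = _ at e
    · rw [e]; rfl
    · rw [e]
      show d * (z * ((q : H) * B.cx q) * d * (z * ((q : H) * B.cx q))⁻¹) =
        d * ((q : H) * B.cx q * d * ((q : H) * B.cx q)⁻¹)
      congr 1
      rw [mul_inv_eq_iff_eq_mul, mul_inv_cancel_left_aux z _ _ D.zc]
  have hprod : r ((q : H) * B.cx q) = r q * ((q : H) * r (B.cx q) * (q : H)⁻¹) := by
    show d * ((q : H) * B.cx q * d * ((q : H) * B.cx q)⁻¹) =
      d * (q * d * (q : H)⁻¹) * (q * (d * (B.cx q * d * (B.cx (q : H))⁻¹)) * (q : H)⁻¹)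
    have hdd : d * d = 1 := bigA_sq hdA
    simp only [_root_.mul_inv_rev, mul_assoc]
    congr 1
    rw [inv_mul_cancel_left, ← mul_assoc d d, hdd, one_mul]
  have h1f := hr _ hq1
  have hm1 : r (B.cx (q : H)) ∈ Q := h1f.1
  have hB := B.q_conj_fix (q := q) h1f hm1
  have hv1 : vc (D.vec ⟨_, hm1⟩) = smC 2 (dP p (vc (D.vec q))) := by
    have hm' : B.cx (r q) ∈ Q := (inferInstance : Q.Normal).conj_mem _ hm0 B.x
    rw [show (⟨r (B.cx (q : H)), hm1⟩ : Q) = ⟨B.cx (r q), hm'⟩ from Subtype.ext (hrx _).symm,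
      B.vec_cx hm0 hm', vc_om_smul, hvr, vc_vOf (fixL_facts.2 _ hfl).1]
  rw [hv1] at hB
  set e1 := B.el (eC p (vc (D.vec q))) with he1
  have hB' : (q : H) * r (B.cx q) * (q : H)⁻¹ = e1 * r (B.cx q) := hB
  rw [hB', ← hsame, ← hrx, ← hrx] at hprod
  -- product of the three conjugates is the sign
  have he1c : e1 = 1 ∨ e1 = z := by
    rcases B.el_bit (show eC p (vc (D.vec q)) < 2 from bC_lt _ _) with ⟨e, -⟩ | ⟨e, -⟩
    · exact Or.inl e
    · exact Or.inr e
  have he1f : e1 ∈ D.fixU := by rcases he1c with e | e <;> rw [e]; exacts [one_mem _, z_mem_fixU]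
  have hc1 := B.cx_fixU h0
  have hc2 := B.cx_fixU hc1
  have htr : r q * B.cx (r q) * B.cx (B.cx (r q)) = e1 := by
    rw [hprod]
    calc r q * B.cx (r q) * (r q * (e1 * B.cx (r q)))
        = r q * (B.cx (r q) * r q) * e1 * B.cx (r q) := by simp [mul_assoc]
      _ = (r q * r q) * (B.cx (r q) * e1) * B.cx (r q) := by
          rw [D.fixU_comm hc1 h0]; simp [mul_assoc]
      _ = e1 * (B.cx (r q) * B.cx (r q)) := by
          rw [D.fixU_sq h0, one_mul, D.fixU_comm hc1 he1f, mul_assoc]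
      _ = e1 := by rw [D.fixU_sq hc1, mul_one]
  have key : r q = B.el (wK (dP p (vc (D.vec q))) * 2) * e1 := by
    rcases D.vec_eq heq with e | e
    · change r q = _ at e
      have : e1 = 1 := by rw [← htr, e]; exact cw.2
      rw [this, mul_one]; exact e
    · change r q = z * _ at e
      set u := B.el (wK (dP p (vc (D.vec q))) * 2)
      have : e1 = z := by
        rw [← htr, e, map_mul, map_mul, B.cx_z, B.cx_z]
        calc z * u * (z * B.cx u) * (z * B.cx (B.cx u)) = z * z * z * (u * B.cx u * B.cx (B.cx u)) :=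
              z_out z _ _ _ D.zc
          _ = z := by rw [cw.2, mul_one, D.xc.inv, one_mul]
      rw [this, e, D.zc u]
  rw [← key]
  show _ = d * (d * ((q : H) * d * (q : H)⁻¹))
  rw [← mul_assoc d d, bigA_sq hdA, one_mul]

theorem q_conj {q : Q} {n : ℕ} (hn : n < 2048) :
    (q : H) * B.el n * (q : H)⁻¹ = B.el (qC (vc (D.vec q)) n) := by
  obtain ⟨e, hp, hw⟩ := B.el_split hn
  obtain ⟨hP, -⟩ := B.q_conj_p (q := q) hp
  obtain ⟨cw, qw, vw⟩ := B.cpart hw
  have hC := B.q_conj_fix (q := q) cw.1 qw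
  have hkw := List.all_eq_true.1 wK_wV (wI n) (List.mem_range.2 hw)
  simp only [Bool.and_eq_true, Nat.blt_eq] at hkw
  rw [vw, vc_vOf hkw.2] at hC
  have hL : (q : H) * B.el (n % 2) * (q : H)⁻¹ = B.el (n % 2) := by
    rcases B.low_mem n with h | h <;> rw [h]
    · simp
    · exact mul_inv_eq_iff_eq_mul.2 (D.zc _)
  have hsplit : (q : H) * B.el n * (q : H)⁻¹ = ((q : H) * B.el (pI n * 128) * (q : H)⁻¹) *
      ((q : H) * B.el (wI n * 2) * (q : H)⁻¹) * ((q : H) * B.el (n % 2) * (q : H)⁻¹) := by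
    rw [e]; simp [mul_assoc]
  rw [hsplit, hP, hC, hL, qC, B.el_xor, B.el_xor, B.el_xor, e]
  have m1 := B.el_mem (pI n * 128)
  have m2 := B.el_mem (wK (dP (pI n) (vc (D.vec q))) * 2)
  have m3 := B.el_mem (eC (pI n) (vc (D.vec q)))
  have m4 := B.el_mem (bC (vc (D.vec q)) (wV (wI n)))
  have m5 := B.el_mem (wI n * 2)
  have m6 := B.el_mem (n % 2)
  letI : CommGroup D.bigA := { (inferInstance : Group D.bigA) with
    mul_comm := fun a b => Subtype.ext (bigA_comm a.2 b.2) }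
  have key : (⟨_, m1⟩ : D.bigA) * (⟨_, m2⟩ * ⟨_, m3⟩) * (⟨_, m4⟩ * ⟨_, m5⟩) * ⟨_, m6⟩ =
      (⟨_, m1⟩ : D.bigA) * ⟨_, m5⟩ * ⟨_, m6⟩ * (⟨_, m2⟩ * (⟨_, m3⟩ * ⟨_, m4⟩)) := by
    ac_rfl
  exact congrArg Subtype.val key

/-- a normalising element -/
theorem exists_nrm {j : ℕ} (hj : j < 3) : ∃ k : H, k * B.x = B.x * k ∧
    (∀ a ∈ D.bigA, k * a * k⁻¹ ∈ D.bigA) ∧
    ∀ n < 2048, ∀ m < 2048, k * B.el n * k⁻¹ = B.el m → pI m = kP j (pI n) := by
  have hlen : j < nrmG.length := hj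
  have h := realG_cases
  simp only [Bool.and_eq_true, List.all_eq_true, memV_iff] at h
  obtain ⟨g, hg, eg⟩ := mem_realT_in (h.1.1.1.2 _ (List.getElem_mem hlen))
  obtain ⟨k, hk, ek⟩ := D.lift_cent B.x_three B.x_act hg
  have hact : ∀ v, D.act k v = ofCode (nrmG.getD j oneC) *ᵥ v := fun v => by
    rw [ek, mat_eq, eg, List.getD_eq_getElem _ _ hlen]
  have hnf := List.all_eq_true.1 nrm_facts j (List.mem_range.2 hj)
  simp only [List.all_eq_true, memV_iff] at hnf
  have hfix : ∀ u ∈ D.fixU, k * u * k⁻¹ ∈ D.fixU := by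
    rintro u ⟨hq, hv⟩
    have hm : k * u * k⁻¹ ∈ Q := (inferInstance : Q.Normal).conj_mem _ hq k
    refine ⟨hm, ?_⟩
    rw [D.vec_conj' k ⟨u, hq⟩ hm, hact, vc_mulVec]
    exact hnf _ hv
  have hfix' : D.fixU.map (MulAut.conj k).toMonoidHom = D.fixU :=
    Subgroup.eq_of_le_of_card_ge (by rintro _ ⟨u, hu, rfl⟩; exact hfix u hu)
      (by rw [Subgroup.card_map_of_injective (MulAut.conj k).injective])
  have hpe := List.all_eq_true.1 nrm_pe j (List.mem_range.2 hj)
  simp only [List.all_eq_true, List.mem_range, Bool.and_eq_true, Nat.beq_eq, Nat.blt_eq] at hpe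
  have hpf := aPE_facts
  simp only [List.all_eq_true, Bool.and_eq_true, List.mem_range, memV_iff] at hpf
  have hconjact : ∀ n < 2048, ∀ v, D.act (k * B.el n * k⁻¹) v = sAct (peC (kP j (pI n))) v := by
    intro n hn v
    obtain ⟨-, hp, -⟩ := B.el_split hn
    obtain ⟨⟨hlt, -⟩, hmul⟩ := hpe _ hp
    have hflag : ∀ a < 16, peC a = 2 * base (peC a) := fun a ha => by
      conv_lhs => rw [parts (peC a), (elem_facts (hpf a ha).1).2.1]
      simp
    have hv : v = ofCode (nrmG.getD j oneC) *ᵥ D.act k⁻¹ v := by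
      rw [← hact, ← D.act_mul_apply, mul_inv_cancel, map_one]; rfl
    conv_rhs => rw [hv, hflag _ hlt, sAct_two_mul, Matrix.mulVec_mulVec, ← ofCode_mulC, ← hmul,
      ofCode_mulC, ← Matrix.mulVec_mulVec, ← sAct_two_mul (base (peC (pI n))), ← hflag _ hp]
    rw [D.act_mul_apply, D.act_mul_apply, hact, B.act_el hn]
  refine ⟨k, hk, fun a ha => ?_, fun n hn m hm e => ?_⟩
  · obtain ⟨n, hn, rfl⟩ := B.el_surj ha
    obtain ⟨-, hp, -⟩ := B.el_split hn
    refine ⟨⟨_, (hpf _ (hpe _ hp).1.1).1, hconjact n hn⟩, Subgroup.mem_centralizer_iff.2 fun u hu => ?_⟩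
    obtain ⟨u', hu', rfl⟩ := Subgroup.mem_map.1 (hfix'.ge hu)
    show k * u' * k⁻¹ * (k * B.el n * k⁻¹) = k * B.el n * k⁻¹ * (k * u' * k⁻¹)
    have := Subgroup.mem_centralizer_iff.1 (B.el_mem n).2 u' hu'
    calc k * u' * k⁻¹ * (k * B.el n * k⁻¹) = k * (u' * B.el n) * k⁻¹ := by simp [mul_assoc]
      _ = _ := by rw [this]; simp [mul_assoc]
  · obtain ⟨-, hp, -⟩ := B.el_split hn
    obtain ⟨-, hp', -⟩ := B.el_split hm
    exact pI_unique hp' (hpe _ hp).1.1 fun v => by rw [← B.act_el hm, ← e]; exact hconjact n hn v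

end ABase

end Model

end CfsgLib.Spor.LargeFi
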