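import Cfsg.Agent.Lib.Spor.LargeFi.Elem
import Cfsg.Agent.Lib.Spor.LargeFi.Setup

/-!
In a group of large Fischer type every Sylow 2-subgroup of the centraliser of the involution has
exactly one elementary abelian subgroup of largest order.
-/

set_option autoImplicit false

namespace CfsgLib.Spor.LargeFi

variable {G : Type*} [Group G] [Finite G] {z : G}

theorem card_centralizer_of_type {Q : Subgroup (Subgroup.centralizer ({z} : Set G))} [Q.Normal]
    (hF : Cfsg.IsOfLargeFischerTypeAt z Q) :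
    Nat.card (Subgroup.centralizer ({z} : Set G)) = 2 ^ 21 * 76545 := by
  obtain ⟨⟨-, -, -, hcard, -⟩, N, M, hNn, hMn, hQN, hNM, hN, ⟨K, _, _, hK, ⟨e⟩⟩, hM⟩ := hF
  haveI := hNn
  have h1 := M.card_mul_index
  have h2 := (N.subgroupOf M).card_mul_index
  rw [index_eq hK e, Nat.card_congr (Subgroup.subgroupOfEquivOfLe hNM).toEquiv, hN, hcard] at h2
  rw [hM, ← h2] at h1
  omega

/-- The standard subgroup is a Sylow 2-subgroup. -/
theorem exists_sylow_std {Q : Subgroup (Subgroup.centralizer ({z} : Set G))} [Q.Normal]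
    (hF : Cfsg.IsOfLargeFischerTypeAt z Q) (D : Model Q (zH z)) (hO : D.HasOuter) :
    ∃ P : Sylow 2 (Subgroup.centralizer ({z} : Set G)), (P : Subgroup _) = D.std := by
  haveI : Fact (Nat.Prime 2) := ⟨Nat.prime_two⟩
  have hstd := D.card_std hO
  obtain ⟨P, hP⟩ := (IsPGroup.of_card hstd).exists_le_sylow
  refine ⟨P, (Subgroup.eq_of_le_of_card_ge hP ?_).symm⟩
  obtain ⟨k, hk⟩ := IsPGroup.iff_card.1 P.2
  rw [hk, hstd]
  refine Nat.pow_le_pow_right (by norm_num) ?_
  by_contra hlt
  have hd := Subgroup.card_subgroup_dvd_card (P : Subgroup (Subgroup.centralizer ({z} : Set G)))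
  rw [card_centralizer_of_type hF, hk] at hd
  have h1 : 2 ^ 22 ∣ 2 ^ 21 * 76545 := (pow_dvd_pow 2 (by omega : 22 ≤ k)).trans hd
  norm_num at h1

theorem unique_elementary {Q : Subgroup (Subgroup.centralizer ({z} : Set G))} [Q.Normal]
    (hF : Cfsg.IsOfLargeFischerTypeAt z Q) (hout : ∀ D : Model Q (zH z), D.HasOuter)
    (T : Sylow 2 ↥(Subgroup.centralizer ({z} : Set G))) :
    ∃ A : Subgroup ↥(T : Subgroup (Subgroup.centralizer ({z} : Set G))),
      Cfsg.maxElementaryAbelianSubgroups 2 ↥(T : Subgroup (Subgroup.centralizer ({z} : Set G))) = {A} ∧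
      Nat.card A = 2 ^ 11 ∧
      Nat.card ↥(A.map (T : Subgroup (Subgroup.centralizer ({z} : Set G))).subtype ⊓ Q) = 2 ^ 7 ∧
      Nat.card ↥((A.map (T : Subgroup (Subgroup.centralizer ({z} : Set G))).subtype).map
        (QuotientGroup.mk' Q)) = 16 := by
  haveI : Fact (Nat.Prime 2) := ⟨Nat.prime_two⟩
  obtain ⟨D⟩ := model_of_type hF
  obtain ⟨P, hP⟩ := exists_sylow_std hF D (hout D)
  obtain ⟨g, hg⟩ := MulAction.exists_smul_eq (Subgroup.centralizer ({z} : Set G)) P T
  have hT : (T : Subgroup _) = D.std.map (MulAut.conj g).toMonoidHom := by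
    rw [← hg, ← hP]
    rfl
  let c := MulAut.conj g
  let A0 := D.bigA.map c.toMonoidHom
  have hA0 : A0 ≤ T := by rw [hT]; exact Subgroup.map_mono D.bigA_le_std
  let A := A0.subgroupOf T
  have hmapA : A.map (T : Subgroup _).subtype = A0 := Subgroup.map_subgroupOf_eq_of_le hA0
  have hel : Cfsg.IsElementaryAbelian 2 A := by
    obtain ⟨⟨hcomm⟩, hexp⟩ := D.bigA_elementary
    refine ⟨⟨⟨fun a b => Subtype.ext (Subtype.ext ?_)⟩⟩, fun a ha => ?_⟩
    · obtain ⟨x, hx, ex⟩ := Subgroup.mem_map.1 a.2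
      obtain ⟨y, hy, ey⟩ := Subgroup.mem_map.1 b.2
      show ((a : T) : Subgroup.centralizer ({z} : Set G)) * (b : T) = (b : T) * (a : T)
      change c x = ((a : T) : Subgroup.centralizer ({z} : Set G)) at ex
      change c y = ((b : T) : Subgroup.centralizer ({z} : Set G)) at ey
      rw [← ex, ← ey, ← map_mul, ← map_mul]
      exact congrArg c (congrArg Subtype.val (hcomm.comm ⟨x, hx⟩ ⟨y, hy⟩))
    · obtain ⟨x, hx, ex⟩ := Subgroup.mem_map.1 (show (a : Subgroup.centralizer ({z} : Set G)) ∈ A0 from ha)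
      refine Subtype.ext ?_
      show (a : Subgroup.centralizer ({z} : Set G)) ^ 2 = 1
      rw [← ex, ← map_pow, hexp x hx, map_one]
  have hcard : Nat.card A = 2 ^ 11 := by
    rw [← D.card_bigA, Nat.card_congr (Subgroup.subgroupOfEquivOfLe hA0).toEquiv]
    exact Subgroup.card_map_of_injective c.injective
  have hinf : Nat.card ↥(A0 ⊓ Q) = 2 ^ 7 := by
    have hQ : Q.map c.toMonoidHom = Q := by
      apply Subgroup.eq_of_le_of_card_ge
      · rintro _ ⟨q, hq, rfl⟩
        exact (inferInstance : Q.Normal).conj_mem _ hq g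
      · rw [Subgroup.card_map_of_injective c.injective]
    rw [← hQ, ← Subgroup.map_inf_eq _ _ _ c.injective, Subgroup.card_map_of_injective c.injective,
      D.bigA_inf, D.card_fixU]
    rfl
  refine ⟨A, ?_, hcard, by rw [hmapA]; exact hinf, ?_⟩
  · have hstd : ∀ B : Subgroup ↥(T : Subgroup (Subgroup.centralizer ({z} : Set G))),
        Cfsg.IsElementaryAbelian 2 B → 2 ^ 11 ≤ Nat.card B → B = A := by
      intro B hB hBc
      let B0 := (B.map (T : Subgroup _).subtype).map c.symm.toMonoidHom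
      have hB0 : Nat.card B0 = Nat.card B := by
        rw [Subgroup.card_map_of_injective c.symm.injective,
          Subgroup.card_map_of_injective (Subgroup.subtype_injective _)]
      have hel0 : Cfsg.IsElementaryAbelian 2 B0 := by
        obtain ⟨⟨hcomm⟩, hexp⟩ := hB
        refine ⟨⟨⟨fun a b => Subtype.ext ?_⟩⟩, fun a ha => ?_⟩
        · obtain ⟨_, ⟨x, hx, rfl⟩, ex⟩ := Subgroup.mem_map.1 a.2
          obtain ⟨_, ⟨y, hy, rfl⟩, ey⟩ := Subgroup.mem_map.1 b.2
          show (a : Subgroup.centralizer ({z} : Set G)) * b = b * a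
          rw [← ex, ← ey, ← map_mul, ← map_mul, ← map_mul, ← map_mul]
          exact congrArg _ (congrArg _ (congrArg Subtype.val (hcomm.comm ⟨x, hx⟩ ⟨y, hy⟩)))
        · obtain ⟨_, ⟨x, hx, rfl⟩, ex⟩ := Subgroup.mem_map.1 ha
          rw [← ex, ← map_pow, ← map_pow, hexp x hx, map_one, map_one]
      have hle : B0 ≤ D.std := by
        rintro _ ⟨_, ⟨b, -, rfl⟩, rfl⟩
        obtain ⟨y, hy, ey⟩ := Subgroup.mem_map.1
          (hT.le b.2 : (b : Subgroup.centralizer ({z} : Set G)) ∈ D.std.map c.toMonoidHom)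
        show c.symm (b : Subgroup.centralizer ({z} : Set G)) ∈ D.std
        rw [← ey]
        show c.symm (c y) ∈ D.std
        rwa [MulEquiv.symm_apply_apply]
      have heq := D.eq_bigA B0 hel0 hle (hB0.symm ▸ hBc)
      refine Subgroup.map_injective
        (Subgroup.subtype_injective (T : Subgroup (Subgroup.centralizer ({z} : Set G)))) ?_
      rw [hmapA]
      show B.map _ = D.bigA.map c.toMonoidHom
      rw [← heq]
      show _ = ((B.map (T : Subgroup _).subtype).map c.symm.toMonoidHom).map c.toMonoidHom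
      rw [Subgroup.map_map, show c.toMonoidHom.comp c.symm.toMonoidHom = MonoidHom.id _ from
        MonoidHom.ext fun y => c.apply_symm_apply y, Subgroup.map_id]
    ext B
    refine ⟨fun hB => hstd B hB.1 (hcard ▸ hB.2 A hel), fun hB => ?_⟩
    rw [Set.mem_singleton_iff.1 hB]
    refine ⟨hel, fun B hB => ?_⟩
    by_cases hle : Nat.card B ≤ Nat.card A
    · exact hle
    · exact (hstd B hB (by rw [hcard] at hle; omega)).symm ▸ le_rfl
  · rw [hmapA]
    have h1 := Model.card_split (Q := Q) A0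
    have h2 : Nat.card A0 = 2 ^ 11 := by
      rw [← hcard]; exact (Nat.card_congr (Subgroup.subgroupOfEquivOfLe hA0).toEquiv).symm
    rw [hinf, h2] at h1
    omega

end CfsgLib.Spor.LargeFi
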