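import Cfsg.Agent.Lib.Spor.LargeFi.Outer
import Cfsg.Agent.Lib.Spor.LargeFi.ElemType

/-!
The Thompson subgroup of a group of large Fischer type: it is self-centralising, elementary
abelian of order `2^11`, and its normaliser controls its fusion.
-/

set_option autoImplicit false

namespace CfsgLib.Spor.LargeFi

open CfsgLib.Spor.U62 CfsgLib.ThreeTransp

/-- only the distinguished codes fix the singular space pointwise -/
theorem fixL_stab_check : (sylL.all fun p => memV elemL p ||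
    fixL.any fun u => !Nat.beq (sActC p u) u) = true := by decide +kernel

theorem polB_self (u : V6) : polB u u = 0 := by
  rw [polB, v6_two, show nf (0 : V6) = 0 by simp [nf, Cfsg.hermForm], zero_add]
  exact k_two _

namespace Model

variable {H : Type*} [Group H] [Finite H] {Q : Subgroup H} [Q.Normal] {z : H} (D : Model Q z)

theorem std_norm_bigA {s a : H} (hs : s ∈ D.std) (ha : a ∈ D.bigA) : s * a * s⁻¹ ∈ D.bigA := by
  have hel : Cfsg.IsElementaryAbelian 2 (D.bigA.map (MulAut.conj s).toMonoidHom) := by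
    obtain ⟨⟨hcomm⟩, hexp⟩ := D.bigA_elementary
    refine ⟨⟨⟨fun x y => Subtype.ext ?_⟩⟩, fun x hx => ?_⟩
    · obtain ⟨x', hx', ex⟩ := Subgroup.mem_map.1 x.2
      obtain ⟨y', hy', ey⟩ := Subgroup.mem_map.1 y.2
      show (x : H) * y = y * x
      rw [← ex, ← ey, ← map_mul, ← map_mul]
      exact congrArg _ (congrArg Subtype.val (hcomm.comm ⟨x', hx'⟩ ⟨y', hy'⟩))
    · obtain ⟨x', hx', ex⟩ := Subgroup.mem_map.1 hx
      rw [← ex, ← map_pow, hexp x' hx', map_one]
  have heq := D.eq_bigA _ hel (fun x hx => by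
      obtain ⟨x', hx', ex⟩ := Subgroup.mem_map.1 hx
      rw [← ex]
      exact D.std.mul_mem (D.std.mul_mem hs (D.bigA_le_std hx')) (D.std.inv_mem hs))
    (by rw [Subgroup.card_map_of_injective (MulAut.conj s).injective, D.card_bigA])
  rw [← heq]
  exact ⟨a, ha, rfl⟩

/-- elements centralising the big subgroup square into `Q` -/
theorem cent_bigA_sq {h : H} (hc : h ∈ Subgroup.centralizer (D.bigA : Set H)) :
    h * h ∈ Q ∧ ∀ v, vc v ∈ fixL → D.act h v = v := by
  have hfix : ∀ v, vc v ∈ fixL → D.act h v = v := by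
    intro v hv
    obtain ⟨a, rfl⟩ := D.vec_surj v
    have ha : (a : H) ∈ D.bigA ⊓ Q := by rw [D.bigA_inf]; exact ⟨a.2, hv⟩
    rw [← D.vec_conj]
    congr 1
    exact Subtype.ext (by
      rw [MulAut.conjNormal_apply]
      exact mul_inv_eq_iff_eq_mul.2 (Subgroup.mem_centralizer_iff.1 hc _ ha.1).symm)
  refine ⟨(D.ker_act _).1 (AddMonoidHom.ext fun v => ?_), hfix⟩
  show D.act (h * h) v = v
  have hpol : ∀ u w, polB (D.act h u) (D.act h w) = polB u w := by
    intro u w
    rw [polB, polB, ← map_add, D.act_nf, D.act_nf, D.act_nf]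
  have hd : vc (D.act h v + v) ∈ fixL := by
    refine fixL_perp _ fun w hw => ?_
    have e : polB (D.act h v + v) w = 0 := by
      rw [polB_add_left]
      conv_lhs => arg 1; arg 2; rw [← hfix w hw]
      rw [hpol]; exact k_two _
    rw [polB] at e
    have e2 := congrArg (fun t => t + (nf (D.act h v + v) + nf w)) e
    simp only [zero_add] at e2
    rw [← e2]
    calc nf (D.act h v + v + w) = nf (D.act h v + v + w) +
          (nf (D.act h v + v) + nf (D.act h v + v)) + (nf w + nf w) := by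
          rw [k_two, k_two, add_zero, add_zero]
      _ = _ := by abel
  have e := hfix _ hd
  rw [map_add, ← D.act_mul_apply, add_comm (D.act h v) v] at e
  exact add_right_cancel e

/-- the big subgroup is self-centralising -/
theorem cent_bigA (P : Sylow 2 H) (hP : (P : Subgroup H) = D.std) :
    Subgroup.centralizer (D.bigA : Set H) = D.bigA := by
  refine le_antisymm (fun c hc => ?_) fun a ha => Subgroup.mem_centralizer_iff.2 fun b hb =>
    congrArg Subtype.val (D.bigA_elementary.1.is_comm.comm (⟨b, hb⟩ : D.bigA) ⟨a, ha⟩)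
  haveI : Fact (Nat.Prime 2) := ⟨Nat.prime_two⟩
  have hQ2 : IsPGroup 2 Q := IsPGroup.of_card D.card_Q
  have hC : IsPGroup 2 (Subgroup.centralizer (D.bigA : Set H)) := by
    intro x
    obtain ⟨k, hk⟩ := hQ2 ⟨(x : H) * x, (D.cent_bigA_sq x.2).1⟩
    refine ⟨k + 1, Subtype.ext ?_⟩
    have hk' := congrArg Subtype.val hk
    simp only [SubmonoidClass.coe_pow, OneMemClass.coe_one] at hk' ⊢
    rw [pow_succ', pow_mul, pow_two]
    exact hk'
  have hnorm : D.std ≤ Subgroup.normalizer (Subgroup.centralizer (D.bigA : Set H) : Set H) := by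
    intro s hs
    rw [Subgroup.mem_normalizer_iff]
    have key : ∀ s ∈ D.std, ∀ x, x ∈ Subgroup.centralizer (D.bigA : Set H) →
        s * x * s⁻¹ ∈ Subgroup.centralizer (D.bigA : Set H) := by
      intro s hs x hx
      refine Subgroup.mem_centralizer_iff.2 fun a ha => ?_
      have h1 := Subgroup.mem_centralizer_iff.1 hx (s⁻¹ * a * s)
        (by simpa using D.std_norm_bigA (inv_mem hs) ha)
      calc a * (s * x * s⁻¹) = s * (s⁻¹ * a * s * x) * s⁻¹ := by simp [mul_assoc]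
        _ = s * x * s⁻¹ * a := by rw [h1]; simp [mul_assoc]
    refine fun x => ⟨key s hs x, fun hx => ?_⟩
    simpa [mul_assoc] using key s⁻¹ (inv_mem hs) _ hx
  have hsup : IsPGroup 2 ↥(Subgroup.centralizer (D.bigA : Set H) ⊔ D.std) :=
    IsPGroup.to_sup_of_normal_left' hC (hP ▸ P.2) hnorm
  have hle : c ∈ D.std := by
    have he := P.3 hsup (hP ▸ le_sup_right)
    rw [← hP, ← he]
    exact Subgroup.mem_sup_left hc
  obtain ⟨p, hp, e⟩ := hle
  have hpe : p ∈ elemL := by
    have h := fixL_stab_check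
    simp only [List.all_eq_true, Bool.or_eq_true, memV_iff, List.any_eq_true, Bool.not_eq_true'] at h
    refine (h p hp).resolve_right fun ⟨u, hu, hne⟩ => ?_
    have e1 := (D.cent_bigA_sq hc).2 (vOf u) (by rw [vc_vOf (fixL_facts.2 u hu).1]; exact hu)
    rw [e] at e1
    have e2 := congrArg vc e1
    rw [vc_sAct, vc_vOf (fixL_facts.2 u hu).1] at e2
    simp [e2] at hne
  refine ⟨⟨p, hpe, e⟩, Subgroup.mem_centralizer_iff.2 fun u hu => ?_⟩
  have hu' : u ∈ D.bigA ⊓ Q := by rw [D.bigA_inf]; exact hu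
  exact Subgroup.mem_centralizer_iff.1 hc u hu'.1

end Model

variable {G : Type*} [Group G] [Finite G] {z : G}

/-- Burnside: an abelian subgroup which is the only one of its conjugates in any Sylow subgroup has
a normaliser controlling its fusion. -/
theorem fusion_of_closed {p : ℕ} [Fact p.Prime] {A : Subgroup G} (hA : IsPGroup p A)
    (hcomm : ∀ a ∈ A, ∀ b ∈ A, a * b = b * a)
    (hclosed : ∀ (S : Sylow p G) (x y : G), A.map (MulAut.conj x).toMonoidHom ≤ S →
      A.map (MulAut.conj y).toMonoidHom ≤ S →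
        A.map (MulAut.conj x).toMonoidHom = A.map (MulAut.conj y).toMonoidHom)
    {a : G} (ha : a ∈ A) {g : G} (hga : g * a * g⁻¹ ∈ A) :
    ∃ m ∈ Subgroup.normalizer (A : Set G), m * a * m⁻¹ = g * a * g⁻¹ := by
  let C : Subgroup G := Subgroup.centralizer ({a} : Set G)
  have hA1 : A ≤ C := fun b hb => Subgroup.mem_centralizer_singleton_iff.2 (hcomm b hb a ha)
  have hA2 : A.map (MulAut.conj g⁻¹).toMonoidHom ≤ C := by
    rintro _ ⟨b, hb, rfl⟩
    refine Subgroup.mem_centralizer_singleton_iff.2 ?_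
    show g⁻¹ * b * g⁻¹⁻¹ * a = a * (g⁻¹ * b * g⁻¹⁻¹)
    have := hcomm b hb _ hga
    calc g⁻¹ * b * g⁻¹⁻¹ * a = g⁻¹ * (b * (g * a * g⁻¹)) * g := by simp [mul_assoc]
      _ = a * (g⁻¹ * b * g⁻¹⁻¹) := by rw [this]; simp [mul_assoc]
  have hp2 : IsPGroup p (A.map (MulAut.conj g⁻¹).toMonoidHom) := hA.map _
  obtain ⟨S1, hS1⟩ := (hA.comap_subtype (K := C)).exists_le_sylow
  obtain ⟨S2, hS2⟩ := (hp2.comap_subtype (K := C)).exists_le_sylow
  obtain ⟨c, hc⟩ := MulAction.exists_smul_eq C S2 S1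
  obtain ⟨T, hT⟩ := (S1.2.map C.subtype).exists_le_sylow
  have h1 : A.map (MulAut.conj (1 : G)).toMonoidHom ≤ T := by
    rintro _ ⟨b, hb, rfl⟩
    refine hT ⟨⟨b, hA1 hb⟩, hS1 hb, ?_⟩
    simp
  have h2 : A.map (MulAut.conj ((c : G) * g⁻¹)).toMonoidHom ≤ T := by
    rintro _ ⟨b, hb, rfl⟩
    let y : C := ⟨g⁻¹ * b * g⁻¹⁻¹, hA2 ⟨b, hb, rfl⟩⟩
    have hy : c * y * c⁻¹ ∈ (S1 : Subgroup C) := by
      rw [← hc]
      exact ⟨y, hS2 (show (y : G) ∈ A.map (MulAut.conj g⁻¹).toMonoidHom from ⟨b, hb, rfl⟩), rfl⟩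
    refine hT ⟨_, hy, ?_⟩
    show (c : G) * (g⁻¹ * b * g⁻¹⁻¹) * (c : G)⁻¹ = (c : G) * g⁻¹ * b * ((c : G) * g⁻¹)⁻¹
    simp [mul_assoc]
  have heq := hclosed T _ _ h1 h2
  have hone : A.map (MulAut.conj (1 : G)).toMonoidHom = A := by
    rw [show (MulAut.conj (1 : G)).toMonoidHom = MonoidHom.id G by ext; simp, Subgroup.map_id]
  rw [hone] at heq
  have hn : ((c : G) * g⁻¹) ∈ Subgroup.normalizer (A : Set G) := by
    rw [Subgroup.mem_normalizer_iff]
    intro b
    refine ⟨fun hb => ?_, fun hb => ?_⟩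
    · exact heq.symm.le ⟨b, hb, rfl⟩
    · obtain ⟨b', hb', e⟩ := heq.le hb
      rwa [← (MulAut.conj ((c : G) * g⁻¹)).injective (show MulAut.conj ((c : G) * g⁻¹) b' =
        MulAut.conj ((c : G) * g⁻¹) b from e)]
  refine ⟨((c : G) * g⁻¹)⁻¹, inv_mem hn, ?_⟩
  have hca : (c : G)⁻¹ * a * c = a := by
    rw [mul_assoc, ← Subgroup.mem_centralizer_singleton_iff.1 c.2, inv_mul_cancel_left]
  calc ((c : G) * g⁻¹)⁻¹ * a * ((c : G) * g⁻¹)⁻¹⁻¹ = g * ((c : G)⁻¹ * a * c) * g⁻¹ := by
        simp [mul_assoc]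
    _ = _ := by rw [hca]

/-- the Thompson subgroup in terms of a model -/
structure AData (Q : Subgroup (Subgroup.centralizer ({z} : Set G))) [Q.Normal]
    (D : Model Q (zH z)) (A : Subgroup G) : Prop where
  exists_conj : ∃ g : G,
    A = (D.bigA.map (Subgroup.centralizer ({z} : Set G)).subtype).map (MulAut.conj g).toMonoidHom
  elem : Cfsg.IsElementaryAbelian 2 A
  card : Nat.card A = 2 ^ 11
  cent : Subgroup.centralizer (A : Set G) = A
  fusion : ∀ a ∈ A, ∀ g : G, g * a * g⁻¹ ∈ A →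
    ∃ m ∈ Subgroup.normalizer (A : Set G), m * a * m⁻¹ = g * a * g⁻¹

theorem isElementary_map {H : Type*} [Group H] {S : Subgroup H} (hS : Cfsg.IsElementaryAbelian 2 S)
    (f : H →* G) : Cfsg.IsElementaryAbelian 2 (S.map f) := by
  obtain ⟨⟨hcomm⟩, hexp⟩ := hS
  refine ⟨⟨⟨fun x y => Subtype.ext ?_⟩⟩, fun x hx => ?_⟩
  · obtain ⟨x', hx', ex⟩ := Subgroup.mem_map.1 x.2
    obtain ⟨y', hy', ey⟩ := Subgroup.mem_map.1 y.2
    show (x : G) * y = y * x
    rw [← ex, ← ey, ← map_mul, ← map_mul]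
    exact congrArg _ (congrArg Subtype.val (hcomm.comm ⟨x', hx'⟩ ⟨y', hy'⟩))
  · obtain ⟨x', hx', ex⟩ := Subgroup.mem_map.1 hx
    rw [← ex, ← map_pow, hexp x' hx', map_one]

/-- the standard group is a Sylow 2-subgroup of the whole group -/
theorem sylow_std {Q : Subgroup (Subgroup.centralizer ({z} : Set G))} [Q.Normal]
    (hF : Cfsg.IsOfLargeFischerTypeAt z Q) (D : Model Q (zH z)) :
    ∃ P : Sylow 2 G, (P : Subgroup G) = D.std.map (Subgroup.centralizer ({z} : Set G)).subtype := by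
  haveI : Fact (Nat.Prime 2) := ⟨Nat.prime_two⟩
  obtain ⟨P0, hP0⟩ := exists_sylow_std hF D (hasOuter_of_type hF D)
  let S : Subgroup G := D.std.map (Subgroup.centralizer ({z} : Set G)).subtype
  have hS : IsPGroup 2 S := (hP0 ▸ P0.2 : IsPGroup 2 D.std).map _
  obtain ⟨P, hP⟩ := hS.exists_le_sylow
  refine ⟨P, le_antisymm (fun x hx => ?_) hP⟩
  by_contra hxS
  let S' := S.subgroupOf (P : Subgroup G)
  have hlt : S' < ⊤ := lt_top_iff_ne_top.2 fun h => hxS (h.ge (Subgroup.mem_top (⟨x, hx⟩ : P)))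
  haveI : Group.IsNilpotent (P : Subgroup G) := P.2.isNilpotent
  have hn : S' < Subgroup.normalizer (S' : Set (P : Subgroup G)) :=
    normalizerCondition_of_isNilpotent S' hlt
  obtain ⟨⟨y, hyP⟩, hy, hy'⟩ := SetLike.exists_of_lt hn
  have hyS : ∀ s, s ∈ S ↔ y * s * y⁻¹ ∈ S := by
    intro s
    refine ⟨fun hs => (Subgroup.mem_normalizer_iff.1 hy ⟨s, hP hs⟩).1 hs, fun hs => ?_⟩
    have hsP : s ∈ (P : Subgroup G) := by
      have := (P : Subgroup G).mul_mem ((P : Subgroup G).mul_mem ((P : Subgroup G).inv_mem hyP) (hP hs)) hyP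
      simpa [mul_assoc] using this
    exact (Subgroup.mem_normalizer_iff.1 hy ⟨s, hsP⟩).2 hs
  have hQS : Q ≤ D.std := fun q hq =>
    ⟨_, one_mem_sylL, fun v => by rw [(D.ker_act q).2 hq, sAct_one]; rfl⟩
  have hzS : z ∈ S := ⟨zH z, hQS D.xc.mem, rfl⟩
  obtain ⟨w, hw, ew⟩ := (hyS z).1 hzS
  have hwQ : w ∈ Q := D.xc.cent (Subgroup.mem_centralizer_iff.2 fun q hq => Subtype.ext (by
    show (q : G) * (w : G) = (w : G) * q
    rw [show (w : G) = y * z * y⁻¹ from ew]
    have hmem : y⁻¹ * (q : G) * y ∈ S := (hyS _).2 (by simpa [mul_assoc] using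
      (show (q : G) ∈ S from ⟨q, hQS hq, rfl⟩))
    obtain ⟨u, hu, eu⟩ := hmem
    have hcz : (y⁻¹ * (q : G) * y) * z = z * (y⁻¹ * (q : G) * y) := by
      rw [← eu]; exact congrArg Subtype.val (zH_comm u)
    calc (q : G) * (y * z * y⁻¹) = y * ((y⁻¹ * (q : G) * y) * z) * y⁻¹ := by simp [mul_assoc]
      _ = (y * z * y⁻¹) * q := by rw [hcz]; simp [mul_assoc]))
  have hwc : ∀ q ∈ Q, q * w = w * q := by
    intro q hq
    refine Subtype.ext ?_
    show (q : G) * (w : G) = (w : G) * q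
    rw [show (w : G) = y * z * y⁻¹ from ew]
    have hmem : y⁻¹ * (q : G) * y ∈ S := (hyS _).2 (by simpa [mul_assoc] using
      (show (q : G) ∈ S from ⟨q, hQS hq, rfl⟩))
    obtain ⟨u, hu, eu⟩ := hmem
    have hcz : (y⁻¹ * (q : G) * y) * z = z * (y⁻¹ * (q : G) * y) := by
      rw [← eu]; exact congrArg Subtype.val (zH_comm u)
    calc (q : G) * (y * z * y⁻¹) = y * ((y⁻¹ * (q : G) * y) * z) * y⁻¹ := by simp [mul_assoc]
      _ = (y * z * y⁻¹) * q := by rw [hcz]; simp [mul_assoc]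
  have hyz : y * z * y⁻¹ = z := by
    rcases D.xc.center w hwQ hwc with e | e
    · exfalso
      rw [e] at ew
      have h1 : y * z * y⁻¹ = 1 := ew.symm
      rw [mul_inv_eq_one] at h1
      exact D.xc.ne_one (Subtype.ext (mul_eq_left.1 h1))
    · rw [← (show (w : G) = y * z * y⁻¹ from ew), e]; rfl
  have hyH : y ∈ Subgroup.centralizer ({z} : Set G) :=
    Subgroup.mem_centralizer_singleton_iff.2 (mul_inv_eq_iff_eq_mul.1 hyz)
  have hPH : IsPGroup 2 ((P : Subgroup G).comap (Subgroup.centralizer ({z} : Set G)).subtype) :=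
    P.2.comap_subtype
  have hstd : (P : Subgroup G).comap (Subgroup.centralizer ({z} : Set G)).subtype = D.std := by
    rw [← hP0]
    exact P0.3 hPH (by rw [hP0]; exact fun s hs => hP ⟨s, hs, rfl⟩)
  exact hy' ⟨⟨y, hyH⟩, hstd.le (show (⟨y, hyH⟩ : Subgroup.centralizer ({z} : Set G)) ∈
    (P : Subgroup G).comap _ from hyP), rfl⟩

/-- an elementary abelian subgroup of largest order in a Sylow 2-subgroup is the conjugate of the
big one -/
theorem max_elementary {Q : Subgroup (Subgroup.centralizer ({z} : Set G))} [Q.Normal]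
    (hF : Cfsg.IsOfLargeFischerTypeAt z Q) (D : Model Q (zH z)) (T : Sylow 2 G) :
    ∃ g : G, (D.bigA.map (Subgroup.centralizer ({z} : Set G)).subtype).map
        (MulAut.conj g).toMonoidHom ≤ T ∧
      ∀ B : Subgroup G, Cfsg.IsElementaryAbelian 2 B → B ≤ T → 2 ^ 11 ≤ Nat.card B →
        B = (D.bigA.map (Subgroup.centralizer ({z} : Set G)).subtype).map
          (MulAut.conj g).toMonoidHom := by
  haveI : Fact (Nat.Prime 2) := ⟨Nat.prime_two⟩
  obtain ⟨P, hP⟩ := sylow_std hF D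
  obtain ⟨g, hg⟩ := MulAction.exists_smul_eq G P T
  have hT : (T : Subgroup G) = (P : Subgroup G).map (MulAut.conj g).toMonoidHom := by
    rw [← hg]; rfl
  refine ⟨g, ?_, fun B hB hBT hBc => ?_⟩
  · rw [hT, hP]; exact Subgroup.map_mono (Subgroup.map_mono D.bigA_le_std)
  let B' : Subgroup G := B.map (MulAut.conj g).symm.toMonoidHom
  have hB'P : B' ≤ P := by
    rintro _ ⟨b, hb, rfl⟩
    obtain ⟨x, hx, ex⟩ := Subgroup.mem_map.1 (hT.le (hBT hb))
    rw [← ex]
    show (MulAut.conj g).symm (MulAut.conj g x) ∈ _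
    rwa [MulEquiv.symm_apply_apply]
  have hB'H : B' ≤ Subgroup.centralizer ({z} : Set G) :=
    hB'P.trans (hP ▸ Subgroup.map_subtype_le _)
  have hmap := Subgroup.map_subgroupOf_eq_of_le hB'H
  have hel' := isElementary_map hB (MulAut.conj g).symm.toMonoidHom
  have hel : Cfsg.IsElementaryAbelian 2 (B'.subgroupOf (Subgroup.centralizer ({z} : Set G))) := by
    obtain ⟨⟨hcomm⟩, hexp⟩ := hel'
    exact ⟨⟨⟨fun x y => Subtype.ext (Subtype.ext (congrArg Subtype.val
      (hcomm.comm ⟨_, x.2⟩ ⟨_, y.2⟩) :))⟩⟩, fun x hx => Subtype.ext (hexp _ hx)⟩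
  have heq := D.eq_bigA _ hel (fun x hx => by
      obtain ⟨s, hs, es⟩ := hP.le (hB'P hx)
      rwa [Subgroup.subtype_injective _ es] at hs)
    (by
      rw [Nat.card_congr (Subgroup.subgroupOfEquivOfLe hB'H).toEquiv,
        Subgroup.card_map_of_injective (MulAut.conj g).symm.injective]
      exact hBc)
  rw [← heq, hmap, Subgroup.map_map,
    show (MulAut.conj g).toMonoidHom.comp (MulAut.conj g).symm.toMonoidHom = MonoidHom.id _ from
      MonoidHom.ext fun y => (MulAut.conj g).apply_symm_apply y, Subgroup.map_id]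

/-- the Thompson subgroup -/
theorem thompson_data {Q : Subgroup (Subgroup.centralizer ({z} : Set G))} [Q.Normal]
    (hF : Cfsg.IsOfLargeFischerTypeAt z Q) (D : Model Q (zH z)) (T : Sylow 2 G) :
    AData Q D (Cfsg.thompsonSubgroupOf 2 (T : Subgroup G)) := by
  haveI : Fact (Nat.Prime 2) := ⟨Nat.prime_two⟩
  obtain ⟨g, hle, huni⟩ := max_elementary hF D T
  set A : Subgroup G :=
    (D.bigA.map (Subgroup.centralizer ({z} : Set G)).subtype).map (MulAut.conj g).toMonoidHom with hA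
  have hel : Cfsg.IsElementaryAbelian 2 A := isElementary_map (isElementary_map D.bigA_elementary _) _
  have hcard : Nat.card A = 2 ^ 11 := by
    rw [hA, Subgroup.card_map_of_injective (MulAut.conj g).injective,
      Subgroup.card_map_of_injective (Subgroup.subtype_injective _), D.card_bigA]
  have hset : Cfsg.maxElementaryAbelianSubgroups 2 ↥(T : Subgroup G) =
      {A.subgroupOf (T : Subgroup G)} := by
    have hA' : Cfsg.IsElementaryAbelian 2 (A.subgroupOf (T : Subgroup G)) := by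
      obtain ⟨⟨hcomm⟩, hexp⟩ := hel
      exact ⟨⟨⟨fun x y => Subtype.ext (Subtype.ext (congrArg Subtype.val
        (hcomm.comm ⟨_, x.2⟩ ⟨_, y.2⟩) :))⟩⟩, fun x hx => Subtype.ext (hexp _ hx)⟩
    have hA'c : Nat.card (A.subgroupOf (T : Subgroup G)) = 2 ^ 11 := by
      rw [Nat.card_congr (Subgroup.subgroupOfEquivOfLe hle).toEquiv, hcard]
    have key : ∀ B : Subgroup ↥(T : Subgroup G), Cfsg.IsElementaryAbelian 2 B →
        2 ^ 11 ≤ Nat.card B → B = A.subgroupOf (T : Subgroup G) := by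
      intro B hB hBc
      have := huni _ (isElementary_map hB (T : Subgroup G).subtype) (Subgroup.map_subtype_le B)
        (by rwa [Subgroup.card_map_of_injective (Subgroup.subtype_injective _)])
      refine Subgroup.map_injective (Subgroup.subtype_injective _) ?_
      rw [Subgroup.map_subgroupOf_eq_of_le hle]
      exact this
    ext B
    refine ⟨fun hB => key B hB.1 (hA'c ▸ hB.2 _ hA'), fun hB => ?_⟩
    rw [Set.mem_singleton_iff.1 hB]
    refine ⟨hA', fun B' hB' => ?_⟩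
    by_contra hlt
    push Not at hlt
    rw [key B' hB' (by omega)] at hlt
    exact lt_irrefl _ hlt
  have hJ : Cfsg.thompsonSubgroupOf 2 (T : Subgroup G) = A := by
    rw [Cfsg.thompsonSubgroupOf, Cfsg.thompsonSubgroup, hset, sSup_singleton,
      Subgroup.map_subgroupOf_eq_of_le hle]
  rw [hJ]
  refine ⟨⟨g, rfl⟩, hel, hcard, ?_, fun a ha x hx => ?_⟩
  · obtain ⟨P0, hP0⟩ := exists_sylow_std hF D (hasOuter_of_type hF D)
    refine le_antisymm (fun c hc => ?_) fun a ha => Subgroup.mem_centralizer_iff.2 fun b hb =>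
      congrArg Subtype.val (hel.1.is_comm.comm (⟨b, hb⟩ : A) ⟨a, ha⟩)
    have hc' : ∀ b ∈ D.bigA, (g⁻¹ * c * g) * (b : G) = (b : G) * (g⁻¹ * c * g) := by
      intro b hb
      have := Subgroup.mem_centralizer_iff.1 hc (g * (b : G) * g⁻¹) ⟨b, ⟨b, hb, rfl⟩, rfl⟩
      calc g⁻¹ * c * g * (b : G) = g⁻¹ * (c * (g * (b : G) * g⁻¹)) * g := by simp [mul_assoc]
        _ = (b : G) * (g⁻¹ * c * g) := by rw [← this]; simp [mul_assoc]
    have hzA : zH z ∈ D.bigA := by
      have : zH z ∈ D.bigA ⊓ Q := by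
        rw [D.bigA_inf]
        exact ⟨D.xc.mem, by
          rw [(D.vec_eq_zero _).2 (Or.inr rfl), vc_zero']; exact fixL_facts.1⟩
      exact this.1
    have hcH : g⁻¹ * c * g ∈ Subgroup.centralizer ({z} : Set G) :=
      Subgroup.mem_centralizer_singleton_iff.2 (hc' _ hzA)
    have hmem : (⟨g⁻¹ * c * g, hcH⟩ : Subgroup.centralizer ({z} : Set G)) ∈ D.bigA := by
      rw [← D.cent_bigA P0 hP0]
      exact Subgroup.mem_centralizer_iff.2 fun b hb => Subtype.ext (hc' b hb).symm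
    exact ⟨g⁻¹ * c * g, ⟨_, hmem, rfl⟩, by simp [mul_assoc]⟩
  · refine fusion_of_closed (IsPGroup.of_card hcard)
      (fun u hu v hv => congrArg Subtype.val (hel.1.is_comm.comm (⟨u, hu⟩ : A) ⟨v, hv⟩))
      (fun S u w hu hw => ?_) ha hx
    obtain ⟨k, -, hk⟩ := max_elementary hF D S
    have hb : ∀ u : G, 2 ^ 11 ≤ Nat.card (A.map (MulAut.conj u).toMonoidHom) := fun u => by
      rw [Subgroup.card_map_of_injective (MulAut.conj u).injective, hcard]
    rw [hk _ (isElementary_map hel _) hu (hb u), hk _ (isElementary_map hel _) hw (hb w)]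

end CfsgLib.Spor.LargeFi
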