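import Cfsg.Agent.Lib.Spor.LargeFi.ACoord
import Cfsg.Agent.Lib.Spor.LargeFi.AFacts

/-!
The orbits of the normaliser of the elementary subgroup of order `2^11`, in coordinates.
-/

set_option autoImplicit false
set_option maxRecDepth 100000

namespace CfsgLib.Spor.LargeFi

open CfsgLib.Spor.U62 CfsgLib.ThreeTransp

theorem low_count : Nat.beq ((List.range 128).filter fun n =>
    Nat.beq n 1 || inM bigM (wV (wI n))).length 91 = true := by decide +kernel

theorem low_small : ((List.range 128).all fun n =>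
    (!(Nat.beq n 0) && !(Nat.beq n 1 || inM bigM (wV (wI n)))) ==
      smallW.any fun w => Nat.beq n (w * 2) || Nat.beq n (w * 2 + 1)) = true := by decide +kernel

theorem code_bounds : ([(0, 0), (0, 1), (1, 0), (1, 1)].all fun t => (dL t.1 t.2).all fun n =>
    Nat.blt n 2048) = true := by decide +kernel

theorem sT_lt : ([(0, 0), (0, 1), (1, 0), (1, 1)].all fun t => (List.range 16).all fun c =>
    Nat.blt (sT t.1 t.2 c) 2) = true := by decide +kernel

theorem wI_fixed : ((List.range 2048).all fun n => !Nat.beq (xC n) n ||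
    Nat.beq n (pI n * 128) || Nat.beq n (pI n * 128 + 1)) = true := by decide +kernel

theorem cls_roots : (!clsB 1 2 && clsB 1 4 && Nat.beq aPairRoot0 18 && Nat.beq aPairRoot1 20) = true := by
  decide +kernel

theorem kP_zero : ((List.range 3).all fun j => Nat.beq (kP j 0) 0) = true := by decide +kernel

variable {G : Type*} [Group G] [Finite G] {z : G}

section prime

variable {A : Subgroup G}

/-- the action by conjugation of a normalising element -/
theorem conj_fixed {y : G} (hy : y ∈ Subgroup.normalizer (A : Set G)) {r : ℕ} [Fact r.Prime]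
    (hr : orderOf y = r) (S : Set G) (hS : ∀ k ∈ Subgroup.zpowers y, ∀ a ∈ S, k * a * k⁻¹ ∈ S)
    (hSA : S ⊆ A) : S.ncard ≡ {a ∈ S | y * a = a * y}.ncard [MOD r] := by
  letI : MulAction (Subgroup.zpowers y) S :=
    { smul := fun k a => ⟨(k : G) * a * (k : G)⁻¹, hS k k.2 a a.2⟩
      one_smul := fun a => Subtype.ext (by
        show (1 : G) * a * (1 : G)⁻¹ = a
        simp)
      mul_smul := fun k l a => Subtype.ext (by
        show ((k : G) * l) * a * ((k : G) * l)⁻¹ = k * (l * a * (l : G)⁻¹) * (k : G)⁻¹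
        simp [mul_assoc]) }
  have hp : IsPGroup r (Subgroup.zpowers y) :=
    IsPGroup.of_card (n := 1) (by rw [Nat.card_zpowers, hr, pow_one])
  have h := hp.card_modEq_card_fixedPoints S
  have e1 : Nat.card S = S.ncard := Nat.card_coe_set_eq S
  have e2 : Nat.card (MulAction.fixedPoints (Subgroup.zpowers y) S) =
      {a ∈ S | y * a = a * y}.ncard := by
    rw [← Nat.card_coe_set_eq]
    refine Nat.card_congr
      { toFun := fun a => ⟨(a : S), (a : S).2, ?_⟩
        invFun := fun a => ⟨⟨a, a.2.1⟩, fun k => Subtype.ext ?_⟩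
        left_inv := fun _ => rfl
        right_inv := fun _ => rfl }
    · exact mul_inv_eq_iff_eq_mul.1 (congrArg Subtype.val (a.2 ⟨y, Subgroup.mem_zpowers y⟩))
    · show (k : G) * a * (k : G)⁻¹ = a
      obtain ⟨m, hm⟩ := Subgroup.mem_zpowers_iff.1 k.2
      rw [← hm, mul_inv_eq_iff_eq_mul]
      exact (Commute.zpow_left a.2.2 m).eq
  rw [e1, e2] at h
  exact h

end prime

namespace Model.ABase

variable {Q : Subgroup (Subgroup.centralizer ({z} : Set G))} [Q.Normal]
  {D : Model Q (zH z)} (B : D.ABase)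

/-- the elements of the ambient group -/
noncomputable def elG (n : ℕ) : G := ((B.el n : Subgroup.centralizer ({z} : Set G)) : G)

/-- the elementary subgroup in the ambient group -/
def A0 (_ : D.ABase) : Subgroup G := D.bigA.map (Subgroup.centralizer ({z} : Set G)).subtype

/-- its normaliser -/
def M0 (B : D.ABase) : Subgroup G := Subgroup.normalizer (B.A0 : Set G)

/-- the class of the central involution -/
def PC (n : ℕ) : Prop := IsConj z (B.elG n)

theorem elG_mem (n : ℕ) : B.elG n ∈ B.A0 := ⟨_, B.el_mem n, rfl⟩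

theorem elG_surj {a : G} (ha : a ∈ B.A0) : ∃ n < 2048, B.elG n = a := by
  obtain ⟨b, hb, rfl⟩ := ha
  obtain ⟨n, hn, rfl⟩ := B.el_surj hb
  exact ⟨n, hn, rfl⟩

theorem elG_injOn {a b : ℕ} (ha : a < 2048) (hb : b < 2048) (h : B.elG a = B.elG b) : a = b :=
  B.el_injOn ha hb (Subtype.ext h)

theorem elG_xor (a b : ℕ) : B.elG (Nat.xor a b) = B.elG a * B.elG b := by
  show ((B.el (Nat.xor a b) : Subgroup.centralizer ({z} : Set G)) : G) = _
  rw [B.el_xor]
  rfl

theorem elG_one : B.elG 1 = z := congrArg Subtype.val B.el_one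

theorem elG_zero : B.elG 0 = 1 := congrArg Subtype.val B.el_zero

theorem mem_M0_of {h : Subgroup.centralizer ({z} : Set G)}
    (hh : ∀ a ∈ D.bigA, h * a * h⁻¹ ∈ D.bigA) : (h : G) ∈ B.M0 := by
  have e : B.A0.map (MulAut.conj (h : G)).toMonoidHom = B.A0 := by
    refine Subgroup.eq_of_le_of_card_ge ?_ (by
      rw [Subgroup.card_map_of_injective (MulAut.conj (h : G)).injective])
    rintro _ ⟨_, ⟨a, ha, rfl⟩, rfl⟩
    exact ⟨_, hh a ha, rfl⟩
  rw [M0, Subgroup.mem_normalizer_iff]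
  refine fun a => ⟨fun ha => e.le ⟨a, ha, rfl⟩, fun ha => ?_⟩
  obtain ⟨b, hb, e'⟩ := e.ge ha
  rwa [← (MulAut.conj (h : G)).injective (show MulAut.conj (h : G) b = MulAut.conj (h : G) a from e')]

include B in
theorem bigA_conj_inv {h : Subgroup.centralizer ({z} : Set G)}
    (hh : ∀ a ∈ D.bigA, h * a * h⁻¹ ∈ D.bigA) {a : Subgroup.centralizer ({z} : Set G)}
    (ha : a ∈ D.bigA) : h⁻¹ * a * h ∈ D.bigA := by
  have h1 : (h : G)⁻¹ * a * (h : G)⁻¹⁻¹ ∈ B.A0 :=
    (Subgroup.mem_normalizer_iff.1 (inv_mem (B.mem_M0_of hh)) a).1 ⟨a, ha, rfl⟩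
  obtain ⟨b, hb, e⟩ := h1
  have : b = h⁻¹ * a * h := Subtype.ext (by
    rw [inv_inv] at e
    exact e)
  rwa [← this]

theorem cent_A0 (hF : Cfsg.IsOfLargeFischerTypeAt z Q) :
    Subgroup.centralizer (B.A0 : Set G) = B.A0 := by
  obtain ⟨P0, hP0⟩ := exists_sylow_std hF D (hasOuter_of_type hF D)
  refine le_antisymm (fun c hc => ?_) fun a ha => Subgroup.mem_centralizer_iff.2 fun b hb => ?_
  · have hzA : z ∈ B.A0 := by have := B.elG_mem 1; rwa [B.elG_one] at this
    have hcH : c ∈ Subgroup.centralizer ({z} : Set G) :=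
      Subgroup.mem_centralizer_singleton_iff.2 (Subgroup.mem_centralizer_iff.1 hc z hzA).symm
    refine ⟨⟨c, hcH⟩, ?_, rfl⟩
    show (⟨c, hcH⟩ : Subgroup.centralizer ({z} : Set G)) ∈ D.bigA
    rw [← D.cent_bigA P0 hP0]
    exact Subgroup.mem_centralizer_iff.2 fun b hb =>
      Subtype.ext (Subgroup.mem_centralizer_iff.1 hc _ ⟨b, hb, rfl⟩)
  · obtain ⟨a', ha', rfl⟩ := ha
    obtain ⟨b', hb', rfl⟩ := hb
    exact congrArg Subtype.val (Model.bigA_comm hb' ha')

theorem fusion_A0 (hF : Cfsg.IsOfLargeFischerTypeAt z Q) {a : G} (ha : a ∈ B.A0) {g : G}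
    (hga : g * a * g⁻¹ ∈ B.A0) : ∃ m ∈ B.M0, m * a * m⁻¹ = g * a * g⁻¹ := by
  haveI : Fact (Nat.Prime 2) := ⟨Nat.prime_two⟩
  have hel : Cfsg.IsElementaryAbelian 2 B.A0 := isElementary_map D.bigA_elementary _
  have hcard : Nat.card B.A0 = 2 ^ 11 := by
    rw [A0, Subgroup.card_map_of_injective (Subgroup.subtype_injective _), D.card_bigA]
  refine fusion_of_closed (IsPGroup.of_card hcard)
    (fun u hu v hv => congrArg Subtype.val (hel.1.is_comm.comm (⟨u, hu⟩ : B.A0) ⟨v, hv⟩))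
    (fun S u w hu hw => ?_) ha hga
  obtain ⟨k, -, hk⟩ := max_elementary hF D S
  have hb : ∀ u : G, 2 ^ 11 ≤ Nat.card (B.A0.map (MulAut.conj u).toMonoidHom) := fun u => by
    rw [Subgroup.card_map_of_injective (MulAut.conj u).injective, hcard]
  rw [hk _ (isElementary_map hel _) hu (hb u), hk _ (isElementary_map hel _) hw (hb w)]

/-- the code of the image under a normalising element -/
theorem exists_image {m : G} (hm : m ∈ B.M0) {n : ℕ} :
    ∃ n' < 2048, B.elG n' = m * B.elG n * m⁻¹ :=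
  B.elG_surj ((Subgroup.mem_normalizer_iff.1 hm _).1 (B.elG_mem n))

omit [Finite G] in
theorem PC_conj {n n' : ℕ} {m : G} (h : B.elG n' = m * B.elG n * m⁻¹) : B.PC n' ↔ B.PC n := by
  have hc : IsConj (B.elG n) (B.elG n') := isConj_iff.2 ⟨m, h.symm⟩
  exact ⟨fun h' => h'.trans hc.symm, fun h' => h'.trans hc⟩

theorem x_mem_M0 : (B.x : G) ∈ B.M0 := B.mem_M0_of fun a ha => by
  obtain ⟨n, hn, rfl⟩ := B.el_surj ha
  rw [B.x_conj hn]
  exact B.el_mem _

theorem q_mem_M0 (q : Q) : ((q : Subgroup.centralizer ({z} : Set G)) : G) ∈ B.M0 :=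
  B.mem_M0_of fun _ ha => Model.std_norm_bigA' q.2 ha

theorem elG_xC {n : ℕ} (hn : n < 2048) :
    B.elG (xC n) = (B.x : G) * B.elG n * (B.x : G)⁻¹ :=
  (congrArg Subtype.val (B.x_conj hn)).symm

theorem elG_qC (q : Q) {n : ℕ} (hn : n < 2048) : B.elG (qC (vc (D.vec q)) n) =
    ((q : Subgroup.centralizer ({z} : Set G)) : G) * B.elG n *
      ((q : Subgroup.centralizer ({z} : Set G)) : G)⁻¹ :=
  (congrArg Subtype.val (B.q_conj (q := q) hn)).symm

theorem exists_q {v : ℕ} (hv : v < 4096) : ∃ q : Q, vc (D.vec q) = v := by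
  obtain ⟨q, hq⟩ := D.vec_surj (vOf v)
  exact ⟨q, by rw [hq, vc_vOf hv]⟩

/-- the low codes -/
theorem PC_low (hF : Cfsg.IsOfLargeFischerTypeAt z Q) {n : ℕ} (hn : n < 128) :
    B.PC n ↔ (Nat.beq n 1 || inM bigM (wV (wI n))) = true := by
  obtain ⟨e, -, hw⟩ := B.el_split (n := n) (by omega)
  have hp0 : pI n = 0 := by simp only [pI]; omega
  rw [hp0, Nat.zero_mul, B.el_zero, one_mul] at e
  obtain ⟨cw, qw, vw⟩ := B.cpart hw
  have hkw := List.all_eq_true.1 wK_wV (wI n) (List.mem_range.2 hw)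
  simp only [Bool.and_eq_true, Nat.blt_eq] at hkw
  have hlow : B.el (n % 2) ∈ Q := (B.low_fixU n).1
  have hq : B.el n ∈ Q := by rw [e]; exact mul_mem qw hlow
  have hv : D.vec ⟨B.el n, hq⟩ = vOf (wV (wI n)) := by
    rw [show (⟨B.el n, hq⟩ : Q) = ⟨_, qw⟩ * ⟨_, hlow⟩ from Subtype.ext e, D.vec_mul, vw,
      (D.vec_eq_zero ⟨_, hlow⟩).2 (B.low_mem n), add_zero]
  simp only [Bool.or_eq_true, Nat.beq_eq]
  constructor
  · intro hc
    by_cases h1 : n = 1
    · exact Or.inl h1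
    right
    obtain ⟨g, hg⟩ := isConj_iff.1 hc
    have hne : B.elG n ≠ z := fun h => h1 (B.elG_injOn (by omega) (by norm_num) (h.trans B.elG_one.symm))
    have hb := big_of_conj D (g := g) (a := ⟨B.el n, hq⟩) hg hne
    rw [hv, Big, vc_vOf hkw.2, mem_bigL] at hb
    exact hb
  · rintro (rfl | hb)
    · show IsConj z (B.elG 1)
      rw [B.elG_one]
    · obtain ⟨g, a, hg, hne⟩ := exists_conj_in hF
      obtain ⟨k, hk⟩ := D.conj_of_big (big_of_conj D hg hne) (b := ⟨B.el n, hq⟩)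
        (by rw [hv, Big, vc_vOf hkw.2, mem_bigL]; exact hb)
      refine isConj_iff.2 ⟨(k : G) * g, ?_⟩
      have hk' := congrArg Subtype.val hk
      show (k : G) * g * z * ((k : G) * g)⁻¹ = B.elG n
      rw [show B.elG n = (k : G) * ((a : Subgroup.centralizer ({z} : Set G)) : G) * (k : G)⁻¹ from hk'.symm,
        ← hg]
      simp [mul_assoc]

/-- the elements of the first subgroup have first coordinates zero -/
theorem mem_Q_iff {n : ℕ} (hn : n < 2048) : B.el n ∈ Q ↔ pI n = 0 := by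
  obtain ⟨e, hp, hw⟩ := B.el_split hn
  constructor
  · intro hq
    refine pI_unique hp (by norm_num) fun v => ?_
    rw [← B.act_el hn, (D.ker_act _).2 hq, Nat.eq_of_beq_eq_true aPE_zero, sAct_one]
    rfl
  · intro h
    rw [e, h, Nat.zero_mul, B.el_zero, one_mul]
    exact mul_mem (B.cpart hw).1.1.1 (B.low_fixU n).1

theorem pI_xor {a b : ℕ} : pI (Nat.xor a b) = Nat.xor (pI a) (pI b) := by
  show (a ^^^ b) / 128 = a / 128 ^^^ b / 128
  rw [show (128 : ℕ) = 2 ^ 7 by norm_num, ← Nat.shiftRight_eq_div_pow, ← Nat.shiftRight_eq_div_pow,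
    ← Nat.shiftRight_eq_div_pow, Nat.shiftRight_xor_distrib]

/-- a translation of a coset of `A ∩ Q` by an element commuting with the scalar -/
def Moves (a p : ℕ) (h : Subgroup.centralizer ({z} : Set G)) : Prop :=
  h * B.x = B.x * h ∧ (∀ b ∈ D.bigA, h * b * h⁻¹ ∈ D.bigA) ∧
    ∃ m < 2048, h * B.el (a * 128) * h⁻¹ = B.el m ∧ pI m = p

theorem moves_all {p : ℕ} (hp0 : p ≠ 0) (hp : p < 16) : ∃ h, B.Moves 1 p h := by
  refine mem_of_treeR (P := fun p => ∃ h, B.Moves 1 p h) ?_ ?_ _ _ pTree_ok (by simp) p ?_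
  · exact ⟨1, by simp, fun b hb => by simpa using hb, 128, by norm_num, by simp, rfl⟩
  · rintro u q j hu ⟨h, hx, hA, m, hm, e, hmq⟩
    simp only [Bool.and_eq_true, Nat.blt_eq, Nat.beq_eq] at hu
    obtain ⟨k, hkx, hkA, hkp⟩ := B.exists_nrm hu.1
    obtain ⟨m', hm', e'⟩ := B.el_surj (hkA _ (B.el_mem m))
    refine ⟨k * h, ((show Commute k B.x from hkx).mul_left hx).eq, fun b hb => ?_, m', hm', ?_, ?_⟩
    · have := hkA _ (hA b hb)
      simpa [mul_assoc] using this
    · rw [e', ← e]; simp [mul_assoc]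
    · rw [hkp m hm m' hm' e'.symm, hmq, hu.2]
  · have := List.all_eq_true.1 pTree_cover (p - 1) (List.mem_range.2 (by omega))
    rw [memV_iff, Nat.sub_add_cancel (by omega)] at this
    exact this

/-- the codes in a coset -/
noncomputable def cosetPC (p : ℕ) : Finset ℕ := by
  classical exact (Finset.range 2048).filter fun n => pI n = p ∧ B.PC n

theorem mem_cosetPC {p n : ℕ} : n ∈ B.cosetPC p ↔ n < 2048 ∧ pI n = p ∧ B.PC n := by
  classical
  simp [cosetPC]

/-- the transport of a coset -/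
theorem moves_coset {p : ℕ} {h : Subgroup.centralizer ({z} : Set G)} (hh : B.Moves 1 p h)
    {n n' : ℕ} (hn : n < 2048) (hn' : n' < 2048) (e : h * B.el n * h⁻¹ = B.el n') :
    pI n = 1 ↔ pI n' = p := by
  obtain ⟨-, -, m, hm, em, hmp⟩ := hh
  have h1 : h * B.el (Nat.xor n 128) * h⁻¹ = B.el (Nat.xor n' m) := by
    rw [B.el_xor, B.el_xor, ← e, ← em]; simp [mul_assoc]
  have hl1 : Nat.xor n 128 < 2048 := Nat.xor_lt_two_pow (n := 11) hn (by norm_num)
  have hl2 : Nat.xor n' m < 2048 := Nat.xor_lt_two_pow (n := 11) hn' hm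
  have hQ : B.el (Nat.xor n 128) ∈ Q ↔ B.el (Nat.xor n' m) ∈ Q := by
    rw [← h1]
    refine ⟨fun hq => (inferInstance : Q.Normal).conj_mem _ hq h, fun hq => ?_⟩
    simpa [mul_assoc] using (inferInstance : Q.Normal).conj_mem _ hq h⁻¹
  rw [B.mem_Q_iff hl1, B.mem_Q_iff hl2, pI_xor, pI_xor, hmp] at hQ
  have h128 : pI 128 = 1 := rfl
  rw [h128] at hQ
  exact ⟨fun he => Nat.xor_eq_zero_iff.1 (hQ.1 (Nat.xor_eq_zero_iff.2 he)),
    fun he => Nat.xor_eq_zero_iff.1 (hQ.2 (Nat.xor_eq_zero_iff.2 he))⟩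

theorem card_coset {p : ℕ} (hp0 : p ≠ 0) (hp : p < 16) :
    (B.cosetPC p).card = (B.cosetPC 1).card := by
  classical
  obtain ⟨h, hh⟩ := B.moves_all hp0 hp
  obtain ⟨f, hf⟩ : ∃ f : ℕ → ℕ, ∀ n, f n < 2048 ∧ h * B.el n * h⁻¹ = B.el (f n) := by
    choose f hf1 hf2 using fun n => B.el_surj (hh.2.1 _ (B.el_mem n))
    exact ⟨f, fun n => ⟨hf1 n, (hf2 n).symm⟩⟩
  have hPC : ∀ n, B.PC (f n) ↔ B.PC n := fun n =>
    B.PC_conj (m := (h : G)) (congrArg Subtype.val (hf n).2).symm
  refine (Finset.card_bij (fun n _ => f n) (fun n hn => ?_) (fun n hn n' hn' e => ?_) (fun m hm => ?_)).symm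
  · obtain ⟨h1, h2, h3⟩ := B.mem_cosetPC.1 hn
    exact B.mem_cosetPC.2 ⟨(hf n).1, (B.moves_coset hh h1 (hf n).1 (hf n).2).1 h2, (hPC n).2 h3⟩
  · refine B.el_injOn (B.mem_cosetPC.1 hn).1 (B.mem_cosetPC.1 hn').1 ?_
    have := (hf n).2.trans ((congrArg B.el e).trans (hf n').2.symm)
    exact mul_left_cancel (mul_right_cancel this)
  · obtain ⟨h1, h2, h3⟩ := B.mem_cosetPC.1 hm
    obtain ⟨n, hn, en⟩ := B.el_surj (B.bigA_conj_inv hh.2.1 (B.el_mem m))
    have e : h * B.el n * h⁻¹ = B.el m := by rw [en]; simp [mul_assoc]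
    have efn : f n = m := B.el_injOn (hf n).1 h1 ((hf n).2.symm.trans e)
    exact ⟨n, B.mem_cosetPC.2 ⟨hn, (B.moves_coset hh hn h1 e).2 h2, (hPC n).1 (efn ▸ h3)⟩, efn⟩

theorem cos_const {root : ℕ} {tree : List (ℕ × ℕ × ℕ)} (hr : root < 2048)
    (ht : treeR cosStep root tree [] = true) :
    ∀ n ∈ root :: tree.map Prod.fst, B.PC n ↔ B.PC root := by
  intro n hn
  refine (mem_of_treeR (P := fun n => n < 2048 ∧ (B.PC n ↔ B.PC root)) ⟨hr, Iff.rfl⟩ ?_ _ _ ht
    (by simp) n hn).2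
  rintro u q j hu ⟨hq, hPq⟩
  unfold cosStep at hu
  split at hu
  · rw [Nat.beq_eq] at hu
    subst hu
    have h := List.all_eq_true.1 xC_lt q (List.mem_range.2 hq)
    simp only [Bool.and_eq_true, Nat.blt_eq] at h
    exact ⟨h.1, (B.PC_conj (B.elG_xC hq)).trans hPq⟩
  · simp only [Bool.and_eq_true, Nat.blt_eq, Nat.beq_eq] at hu
    obtain ⟨hj, rfl⟩ := hu
    obtain ⟨v, hv⟩ := exists_q (D := D) (v := 2 ^ (j - 1)) (Nat.pow_lt_pow_right (by norm_num)
      (by omega : j - 1 < 12))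
    rw [← hv]
    obtain ⟨n', hn', e⟩ := B.exists_image (B.q_mem_M0 v) (n := q)
    have e' : n' = qC (vc (D.vec v)) q := by
      refine B.elG_injOn hn' ?_ (e.trans (B.elG_qC v hq).symm)
      exact qC_lt hq
    exact ⟨e' ▸ hn', (B.PC_conj (B.elG_qC v hq)).trans hPq⟩
where
  qC_lt {v q : ℕ} (hq : q < 2048) : qC v q < 2048 := by
    have h1 : wK (dP (pI q) v) * 2 < 2048 := by simp only [wK]; omega
    have h2 : eC (pI q) v < 2048 := (bC_lt _ _).trans (by norm_num)
    have h3 : bC v (wV (wI q)) < 2048 := (bC_lt _ _).trans (by norm_num)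
    exact Nat.xor_lt_two_pow (n := 11) hq (Nat.xor_lt_two_pow (n := 11) h1 (Nat.xor_lt_two_pow (n := 11) h2 h3))

/-- the index of the stabiliser -/
theorem card_class_dvd (hF : Cfsg.IsOfLargeFischerTypeAt z Q) :
    {a ∈ (B.A0 : Set G) | IsConj z a}.ncard * Nat.card ↥(B.M0 ⊓ Subgroup.centralizer ({z} : Set G)) =
      Nat.card B.M0 := by
  letI : MulAction B.M0 G :=
    { smul := fun m a => (m : G) * a * (m : G)⁻¹
      one_smul := fun a => by show (1 : G) * a * (1 : G)⁻¹ = a; simp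
      mul_smul := fun m k a => by
        show ((m : G) * k) * a * ((m : G) * k)⁻¹ = m * (k * a * (k : G)⁻¹) * (m : G)⁻¹
        simp [mul_assoc] }
  have hzA : z ∈ B.A0 := by have := B.elG_mem 1; rwa [B.elG_one] at this
  have horb : MulAction.orbit B.M0 z = {a ∈ (B.A0 : Set G) | IsConj z a} := by
    ext a
    constructor
    · rintro ⟨m, rfl⟩
      exact ⟨(Subgroup.mem_normalizer_iff.1 m.2 z).1 hzA, isConj_iff.2 ⟨m, rfl⟩⟩
    · rintro ⟨haA, hc⟩
      obtain ⟨g, hg⟩ := isConj_iff.1 hc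
      obtain ⟨m, hm, e⟩ := B.fusion_A0 hF hzA (g := g) (by rw [hg]; exact haA)
      exact ⟨⟨m, hm⟩, e.trans hg⟩
  have hst : Nat.card (MulAction.stabilizer B.M0 z) =
      Nat.card ↥(B.M0 ⊓ Subgroup.centralizer ({z} : Set G)) := Nat.card_congr
    { toFun := fun m => ⟨(m : B.M0), (m : B.M0).2, Subgroup.mem_centralizer_singleton_iff.2
        (mul_inv_eq_iff_eq_mul.1 (show ((m : B.M0) : G) * z * ((m : B.M0) : G)⁻¹ = z from m.2))⟩
      invFun := fun m => ⟨⟨m, m.2.1⟩, show (m : G) * z * (m : G)⁻¹ = z from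
        mul_inv_eq_iff_eq_mul.2 (Subgroup.mem_centralizer_singleton_iff.1 m.2.2)⟩
      left_inv := fun _ => rfl
      right_inv := fun _ => rfl }
  rw [← horb, ← hst, ← Nat.card_coe_set_eq, Nat.card_congr (MulAction.orbitEquivQuotientStabilizer B.M0 z)]
  exact (Subgroup.card_eq_card_quotient_mul_card_subgroup _).symm

theorem elt_order (hF : Cfsg.IsOfLargeFischerTypeAt z Q) {r : ℕ} (hr : r.Prime)
    (hdvd : r ∣ Nat.card B.M0) (hodd : r ≠ 2) : ∃ y ∈ B.M0, orderOf y = r ∧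
      ∀ S : Set G, (∀ k ∈ B.M0, ∀ a ∈ S, k * a * k⁻¹ ∈ S) → S ⊆ (B.A0 : Set G) →
        S.ncard ≡ {a ∈ S | y * a = a * y}.ncard [MOD r] ∧
        ∃ e < 11, {a ∈ (B.A0 : Set G) | y * a = a * y}.ncard = 2 ^ e := by
  haveI : Fact r.Prime := ⟨hr⟩
  obtain ⟨y, hy⟩ := exists_prime_orderOf_dvd_card' (G := B.M0) r hdvd
  have hy' : orderOf (y : G) = r := by rw [Subgroup.orderOf_coe, hy]
  refine ⟨y, y.2, hy', fun S hS hSA => ⟨conj_fixed y.2 hy' S (fun k hk a ha =>
    hS k (Subgroup.zpowers_le.2 y.2 hk) a ha) hSA, ?_⟩⟩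
  let F : Subgroup G := B.A0 ⊓ Subgroup.centralizer ({(y : G)} : Set G)
  have hF' : {a ∈ (B.A0 : Set G) | (y : G) * a = a * y} = (F : Set G) := by
    ext a
    exact ⟨fun h => ⟨h.1, Subgroup.mem_centralizer_singleton_iff.2 h.2.symm⟩,
      fun h => ⟨h.1, (Subgroup.mem_centralizer_singleton_iff.1 h.2).symm⟩⟩
  have hcard : Nat.card B.A0 = 2 ^ 11 := by
    rw [A0, Subgroup.card_map_of_injective (Subgroup.subtype_injective _), D.card_bigA]
  have hd : Nat.card F ∣ 2 ^ 11 := hcard ▸ Subgroup.card_dvd_of_le inf_le_left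
  obtain ⟨e, he, ee⟩ := (Nat.dvd_prime_pow Nat.prime_two).1 hd
  refine ⟨e, lt_of_le_of_ne he fun h11 => ?_, by
    rw [hF', ← Nat.card_coe_set_eq]; exact ee⟩
  have hFA : F = B.A0 := Subgroup.eq_of_le_of_card_ge inf_le_left (by rw [ee, h11, hcard])
  have hyA : (y : G) ∈ B.A0 := by
    rw [← B.cent_A0 hF]
    refine Subgroup.mem_centralizer_iff.2 fun a ha => ?_
    have : a ∈ F := by rw [hFA]; exact ha
    exact Subgroup.mem_centralizer_singleton_iff.1 this.2
  have hd2 : r ∣ 2 ^ 11 := by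
    rw [← hcard, ← hy']
    rw [← Subgroup.orderOf_mk (y : G) hyA]
    exact orderOf_dvd_natCard _
  exact hodd ((Nat.prime_dvd_prime_iff_eq hr Nat.prime_two).1 (hr.dvd_of_dvd_pow hd2))

theorem not_dvd_M0 (hF : Cfsg.IsOfLargeFischerTypeAt z Q) {r : ℕ} (hr : r.Prime) (hodd : r ≠ 2)
    (h : ∀ f < 12, 1 ≤ f → ¬ r ∣ 2 ^ f - 1) : ¬ r ∣ Nat.card B.M0 := by
  intro hd
  obtain ⟨y, -, -, hy⟩ := B.elt_order hF hr hd hodd
  obtain ⟨hmod, e, he, ee⟩ := hy (B.A0 : Set G)
    (fun k hk a ha => (Subgroup.mem_normalizer_iff.1 hk a).1 ha) le_rfl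
  have hcard : (B.A0 : Set G).ncard = 2 ^ 11 := by
    rw [← Nat.card_coe_set_eq]
    show Nat.card B.A0 = _
    rw [A0, Subgroup.card_map_of_injective (Subgroup.subtype_injective _), D.card_bigA]
  rw [ee, hcard] at hmod
  have h2 : r ∣ 2 ^ e * (2 ^ (11 - e) - 1) := by
    have := (Nat.modEq_iff_dvd' (Nat.pow_le_pow_right (by norm_num) he.le)).1 hmod.symm
    rwa [Nat.mul_sub, ← pow_add, Nat.add_sub_cancel' he.le, mul_one]
  rcases hr.dvd_mul.1 h2 with h3 | h3
  · exact hodd ((Nat.prime_dvd_prime_iff_eq hr Nat.prime_two).1 (hr.dvd_of_dvd_pow h3))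
  · exact h _ (by omega) (by omega) h3

theorem class_card (hF : Cfsg.IsOfLargeFischerTypeAt z Q) :
    {a ∈ (B.A0 : Set G) | IsConj z a}.ncard = 91 + 15 * (B.cosetPC 1).card := by
  classical
  let all : Finset ℕ := (Finset.range 2048).filter fun n => B.PC n
  have h1 : {a ∈ (B.A0 : Set G) | IsConj z a} = B.elG '' (all : Set ℕ) := by
    ext a
    simp only [Set.mem_image, Finset.mem_coe, all, Finset.mem_filter, Finset.mem_range]
    constructor
    · rintro ⟨ha, hc⟩
      obtain ⟨n, hn, rfl⟩ := B.elG_surj ha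
      exact ⟨n, ⟨hn, hc⟩, rfl⟩
    · rintro ⟨n, ⟨-, hc⟩, rfl⟩
      exact ⟨B.elG_mem n, hc⟩
  rw [h1, Set.ncard_image_of_injOn, Set.ncard_coe_finset]
  · have hmaps : ∀ n ∈ all, pI n ∈ Finset.range 16 := fun n hn => by
      simp only [all, Finset.mem_filter, Finset.mem_range] at hn ⊢
      simp only [pI]; omega
    rw [Finset.card_eq_sum_card_fiberwise hmaps, Finset.sum_range_succ']
    have hcos : ∀ p, (all.filter fun n => pI n = p) = B.cosetPC p := fun p => by
      ext n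
      simp only [all, Finset.mem_filter, Finset.mem_range, B.mem_cosetPC]
      tauto
    rw [Finset.sum_congr rfl fun i hi => by
      rw [hcos, B.card_coset (Nat.succ_ne_zero i) (by simp at hi; omega)],
      Finset.sum_const, Finset.card_range, smul_eq_mul, add_comm]
    congr 1
    rw [hcos]
    have he : B.cosetPC 0 = ((List.range 128).filter fun n =>
        Nat.beq n 1 || inM bigM (wV (wI n))).toFinset := by
      ext n
      rw [B.mem_cosetPC, List.mem_toFinset, List.mem_filter, List.mem_range]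
      constructor
      · rintro ⟨hn, hp, hc⟩
        have hn' : n < 128 := by simp only [pI] at hp; omega
        exact ⟨hn', (B.PC_low hF hn').1 hc⟩
      · rintro ⟨hn, hc⟩
        exact ⟨by omega, by simp only [pI]; omega, (B.PC_low hF hn).2 hc⟩
    rw [he, List.toFinset_card_of_nodup (List.nodup_range.filter _), Nat.eq_of_beq_eq_true low_count]
  · intro a ha b hb e
    simp only [Finset.mem_coe, all, Finset.mem_filter, Finset.mem_range] at ha hb
    exact B.elG_injOn ha.1 hb.1 e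

/-- the three orbits in the first coset -/
theorem first_coset (hF : Cfsg.IsOfLargeFischerTypeAt z Q) :
    (B.PC 128 ↔ ¬ B.PC 129) ∧ (B.cosetPC 1).card = 112 := by
  classical
  obtain ⟨hnod, hrange⟩ := cos_disjoint
  have hlen := cos_lengths
  simp only [Bool.and_eq_true, Nat.beq_eq] at hlen
  have hcov : ∀ n, n ∈ cosOrb 0 ∨ n ∈ cosOrb 1 ∨ n ∈ cosOrb 2 ↔ 128 ≤ n ∧ n < 256 := by
    intro n
    refine ⟨fun h => hrange n (by simp only [List.mem_append]; tauto), fun ⟨h1, h2⟩ => ?_⟩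
    have := List.all_eq_true.1 cos_cover (n - 128) (List.mem_range.2 (by omega))
    simp only [Bool.or_eq_true, memV_iff, Nat.add_sub_cancel' h1] at this
    tauto
  have c0 := B.cos_const (by norm_num) cosT0_ok
  have c1 := B.cos_const (by norm_num) cosT1_ok
  have c2 := B.cos_const (show aCosRoot2 < 2048 by decide +kernel) cosT2_ok
  let L : List ℕ := (if B.PC 128 then cosOrb 0 else []) ++ (if B.PC 129 then cosOrb 1 else []) ++
    (if B.PC aCosRoot2 then cosOrb 2 else [])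
  have hL : B.cosetPC 1 = L.toFinset := by
    ext n
    rw [B.mem_cosetPC, List.mem_toFinset]
    constructor
    · rintro ⟨hn, hp, hc⟩
      rcases (hcov n).2 (by simp only [pI] at hp; omega) with h | h | h
      · have := (c0 n h).1 hc
        simp only [L, if_pos this, List.mem_append]; tauto
      · have := (c1 n h).1 hc
        simp only [L, if_pos this, List.mem_append]; tauto
      · have := (c2 n h).1 hc
        simp only [L, if_pos this, List.mem_append]; tauto
    · intro h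
      simp only [L, List.mem_append] at h
      have key : ∀ {l : List ℕ} {c : Prop} [Decidable c], n ∈ (if c then l else []) → c ∧ n ∈ l := by
        intro l c _ h; split_ifs at h with hc
        · exact ⟨hc, h⟩
        · simp at h
      have hfin : n ∈ cosOrb 0 ∨ n ∈ cosOrb 1 ∨ n ∈ cosOrb 2 → B.PC n → n < 2048 ∧ pI n = 1 ∧ B.PC n := by
        intro h hc
        have := (hcov n).1 h
        exact ⟨by omega, by simp only [pI]; omega, hc⟩
      rcases h with (h | h) | h
      · exact hfin (Or.inl (key h).2) ((c0 n (key h).2).2 (key h).1)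
      · exact hfin (Or.inr (Or.inl (key h).2)) ((c1 n (key h).2).2 (key h).1)
      · exact hfin (Or.inr (Or.inr (key h).2)) ((c2 n (key h).2).2 (key h).1)
  have hLn : L.Nodup := by
    refine List.Sublist.nodup ?_ hnod
    refine List.Sublist.append (List.Sublist.append ?_ ?_) ?_ <;> split_ifs <;> simp
  have hk : (B.cosetPC 1).card = (if B.PC 128 then 16 else 0) + (if B.PC 129 then 16 else 0) +
      (if B.PC aCosRoot2 then 96 else 0) := by
    rw [hL, List.toFinset_card_of_nodup hLn]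
    simp only [L, List.length_append, apply_ite List.length, List.length_nil, hlen.1.1, hlen.1.2, hlen.2]
  have hdvd : 91 + 15 * (B.cosetPC 1).card ∣ Nat.card B.M0 :=
    ⟨_, ((B.class_card hF) ▸ B.card_class_dvd hF).symm⟩
  have bad : ∀ r, r.Prime → r ≠ 2 → (∀ f < 12, 1 ≤ f → ¬ r ∣ 2 ^ f - 1) →
      r ∣ 91 + 15 * (B.cosetPC 1).card → False :=
    fun r h1 h2 h3 h4 => B.not_dvd_M0 hF h1 h2 h3 (h4.trans hdvd)
  have n0 : (B.cosetPC 1).card ≠ 0 := fun e =>
    bad 13 (by norm_num) (by norm_num) (by decide +kernel) (by simp [e])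
  have n16 : (B.cosetPC 1).card ≠ 16 := fun e =>
    bad 331 (by norm_num) (by norm_num) (by decide +kernel) (by simp [e])
  have n32 : (B.cosetPC 1).card ≠ 32 := fun e =>
    bad 571 (by norm_num) (by norm_num) (by decide +kernel) (by simp [e])
  have n96 : (B.cosetPC 1).card ≠ 96 := fun e =>
    bad 1531 (by norm_num) (by norm_num) (by decide +kernel) (by simp [e])
  have n128 : (B.cosetPC 1).card ≠ 128 := fun e =>
    bad 2011 (by norm_num) (by norm_num) (by decide +kernel) (by simp [e])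
  by_cases hb0 : B.PC 128 <;> by_cases hb1 : B.PC 129 <;> by_cases hb2 : B.PC aCosRoot2 <;>
    simp only [hb0, hb1, hb2, if_true, if_false] at hk <;>
    simp only [hb0, hb1, not_true, not_false_iff, iff_self, true_and, false_and, and_true,
      true_iff, false_iff] <;>
    omega

theorem coset_dichotomy (hF : Cfsg.IsOfLargeFischerTypeAt z Q) {p : ℕ} (hp0 : p ≠ 0) (hp : p < 16) :
    (B.cosetPC p).card = 112 ∧ (B.PC (p * 128) ↔ ¬ B.PC (p * 128 + 1)) := by
  obtain ⟨h1, h2⟩ := B.first_coset hF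
  refine ⟨(B.card_coset hp0 hp).trans h2, ?_⟩
  obtain ⟨h, hh⟩ := B.moves_all hp0 hp
  obtain ⟨hx, hA, m, hm, em, hmp⟩ := hh
  have hfix : xC m = m := by
    refine B.el_injOn ?_ hm ?_
    · have := List.all_eq_true.1 xC_lt m (List.mem_range.2 hm)
      simp only [Bool.and_eq_true, Nat.blt_eq] at this; exact this.1
    · rw [← B.x_conj hm, ← em]
      have h128 : B.x * B.el (1 * 128) * B.x⁻¹ = B.el (1 * 128) :=
        mul_inv_eq_iff_eq_mul.2 (B.ppart (p := 1) (by norm_num)).1.symm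
      calc B.x * (h * B.el (1 * 128) * h⁻¹) * B.x⁻¹
          = (B.x * h) * B.el (1 * 128) * (B.x * h)⁻¹ := by simp [mul_assoc]
        _ = h * (B.x * B.el (1 * 128) * B.x⁻¹) * h⁻¹ := by rw [← hx]; simp [mul_assoc]
        _ = _ := by rw [h128]
  have hw := List.all_eq_true.1 wI_fixed m (List.mem_range.2 hm)
  simp only [hfix, Bool.or_eq_true, Nat.beq_eq, Bool.not_eq_true', hmp] at hw
  have e129 : h * B.el 129 * h⁻¹ = B.el (Nat.xor m 1) := by
    rw [show (129 : ℕ) = Nat.xor (1 * 128) 1 from rfl, B.el_xor, B.el_xor, ← em, B.el_one]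
    calc h * (B.el (1 * 128) * zH z) * h⁻¹ = h * B.el (1 * 128) * (zH z * h⁻¹) := by simp [mul_assoc]
      _ = _ := by rw [← D.zc h⁻¹]; simp [mul_assoc]
  have p1 : B.PC m ↔ B.PC 128 := B.PC_conj (m := (h : G)) (congrArg Subtype.val em).symm
  have p2 : B.PC (Nat.xor m 1) ↔ B.PC 129 := B.PC_conj (m := (h : G)) (congrArg Subtype.val e129).symm
  rcases hw with (h' | h') | h'
  · exact absurd (Nat.beq_refl m) (by rw [h']; exact Bool.false_ne_true)
  · have ex : Nat.xor m 1 = p * 128 + 1 := by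
      rw [h']
      show (p * 128) ^^^ 1 = _
      rw [Nat.xor_one_of_even ⟨p * 64, by ring⟩]
    rw [← ex, ← h', p1, p2]
    exact h1
  · have ex : Nat.xor m 1 = p * 128 := by
      rw [h']
      show (p * 128 + 1) ^^^ 1 = _
      rw [Nat.xor_one_of_odd ⟨p * 64, by ring⟩, Nat.add_sub_cancel]
    rw [← h', ← ex, p1, p2]
    tauto

/-- an element of order `23` fixes no non-identity element -/
theorem twenty_three (hF : Cfsg.IsOfLargeFischerTypeAt z Q) (S : Set G)
    (hS : ∀ k ∈ B.M0, ∀ a ∈ S, k * a * k⁻¹ ∈ S) (hSA : S ⊆ (B.A0 : Set G)) (h1 : (1 : G) ∉ S) :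
    23 ∣ S.ncard := by
  have hd : 23 ∣ Nat.card B.M0 := by
    refine Dvd.dvd.trans ?_ ⟨_, ((B.class_card hF) ▸ B.card_class_dvd hF).symm⟩
    rw [(B.first_coset hF).2]
    norm_num
  obtain ⟨y, hyM, -, hy⟩ := B.elt_order hF (by norm_num : Nat.Prime 23) hd (by norm_num)
  obtain ⟨hA, e, he, ee⟩ := hy (B.A0 : Set G)
    (fun k hk a ha => (Subgroup.mem_normalizer_iff.1 hk a).1 ha) le_rfl
  have hcard : (B.A0 : Set G).ncard = 2 ^ 11 := by
    rw [← Nat.card_coe_set_eq]
    show Nat.card B.A0 = _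
    rw [A0, Subgroup.card_map_of_injective (Subgroup.subtype_injective _), D.card_bigA]
  rw [ee, hcard] at hA
  have he0 : e = 0 := by
    interval_cases e
    · rfl
    all_goals exact absurd hA (by decide)
  rw [he0, pow_zero, Set.ncard_eq_one] at ee
  obtain ⟨o, ho⟩ := ee
  have ho1 : o = 1 := by
    have : (1 : G) ∈ ({o} : Set G) := ho ▸ ⟨one_mem _, by simp⟩
    exact (Set.mem_singleton_iff.1 this).symm
  obtain ⟨hmod, -⟩ := hy S hS hSA
  have hempty : {a ∈ S | y * a = a * y} = ∅ := by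
    refine Set.eq_empty_iff_forall_notMem.2 fun a ha => ?_
    have : a ∈ ({o} : Set G) := ho ▸ ⟨hSA ha.1, ha.2⟩
    rw [Set.mem_singleton_iff, ho1] at this
    exact h1 (this ▸ ha.1)
  rw [hempty, Set.ncard_empty] at hmod
  exact Nat.modEq_zero_iff_dvd.1 hmod

end Model.ABase

end CfsgLib.Spor.LargeFi
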