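import Cfsg.Agent.Lib.Spor.LargeFi.AOrbit

/-!
The non-central classes in the coordinates of the elementary subgroup of order `2^11`: the signs
are forced, and the normaliser is transitive on the 276 elements.
-/

set_option autoImplicit false
set_option maxRecDepth 100000
set_option linter.constructorNameAsVariable false

namespace CfsgLib.Spor.LargeFi

open CfsgLib.Spor.U62 CfsgLib.ThreeTransp

theorem ecode_check : ((List.range 16).all fun p => (List.range 2).all fun b =>
    Nat.beq (p * 128 + b) (Nat.xor (p * 128) b) && Nat.beq (pI (p * 128 + b)) p &&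
      Nat.blt (p * 128 + b) 2048 && Nat.beq (xC (p * 128 + b)) (p * 128 + b)) = true := by
  decide +kernel

theorem smallW_lt : (smallW.all fun w => Nat.blt w 64 && !Nat.beq w 0) = true := by decide +kernel

theorem smallW_nodup : smallW.Nodup := by decide +kernel

theorem v16_mem_lt {p v : ℕ} (hv : v ∈ aV16.getD p []) : v < 4096 := by
  have h := v16_lt
  simp only [List.all_eq_true, Nat.blt_eq] at h
  by_cases hl : p < aV16.length
  · rw [List.getD_eq_getElem _ _ hl] at hv
    exact h _ (List.getElem_mem hl) v hv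
  · rw [List.getD_eq_default _ _ (not_lt.1 hl)] at hv
    simp at hv

theorem pair_cases (t0 t1 : ℕ) (h0 : t0 < 2) (h1 : t1 < 2) :
    (t0, t1) ∈ [(0, 0), (0, 1), (1, 0), (1, 1)] := by
  interval_cases t0 <;> interval_cases t1 <;> simp

variable {G : Type*} [Group G] [Finite G] {z : G}

namespace Model.ABase

variable {Q : Subgroup (Subgroup.centralizer ({z} : Set G))} [Q.Normal]
  {D : Model Q (zH z)} (B : D.ABase)

/-- the basis lifts avoid the class of the central involution -/
def Normed : Prop := ∀ i < 4, ¬ B.PC (2 ^ (7 + i))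

theorem exists_normed (hF : Cfsg.IsOfLargeFischerTypeAt z Q) (D : Model Q (zH z)) :
    ∃ B : D.ABase, B.Normed := by
  classical
  obtain ⟨B⟩ := D.exists_aBase
  let d : ℕ → Subgroup.centralizer ({z} : Set G) := fun i =>
    if B.PC (2 ^ i * 128) then B.el (2 ^ i * 128) * zH z else B.el (2 ^ i * 128)
  have hzx : zH z * B.x = B.x * zH z := (D.zc B.x).symm
  have hp : ∀ i, i < 4 → 2 ^ i < 16 := fun i hi => Nat.pow_lt_pow_right (a := 2) (n := 4) (by norm_num) hi
  have hdc : ∀ i, i < 4 → d i * B.x = B.x * d i := by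
    intro i hi
    have h := (B.ppart (hp i hi)).1
    simp only [d]
    split
    · exact ((show Commute _ B.x from h).mul_left hzx).eq
    · exact h
  have hda : ∀ i, i < 4 → ∀ v, D.act (d i) v = sAct (peC (2 ^ i)) v := by
    intro i hi v
    simp only [d]
    split
    · rw [D.act_mul_apply, act_fixU z_mem_fixU, (B.ppart (hp i hi)).2]
    · exact (B.ppart (hp i hi)).2 v
  let B' : D.ABase := ⟨B.x, B.x_three, B.x_act, d, hdc, hda⟩
  refine ⟨B', fun i hi => ?_⟩
  have e1 : B'.el (2 ^ (7 + i)) = d i := by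
    rw [B'.el_pow (by omega), gen, if_neg (by omega), if_neg (by omega), if_pos (by omega),
      Nat.add_sub_cancel_left]
  obtain ⟨-, hdi⟩ := B.coset_dichotomy hF (p := 2 ^ i) (by positivity) (hp i hi)
  show ¬ IsConj z ((B'.el (2 ^ (7 + i)) : Subgroup.centralizer ({z} : Set G)) : G)
  rw [e1]
  by_cases hc : B.PC (2 ^ i * 128)
  · have h2 := hdi.1 hc
    simp only [d, if_pos hc]
    intro h
    refine h2 ?_
    show IsConj z (B.elG (2 ^ i * 128 + 1))
    have e := List.all_eq_true.1 (List.all_eq_true.1 ecode_check _ (List.mem_range.2 (hp i hi))) 1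
      (by decide)
    simp only [Bool.and_eq_true, Nat.beq_eq] at e
    rw [e.1.1.1, B.elG_xor, B.elG_one]
    exact h
  · simp only [d, if_neg hc]
    exact hc

/-- the sign of a coordinate -/
noncomputable def sb (p : ℕ) : ℕ := by classical exact if B.PC (p * 128) then 1 else 0

theorem sb_lt (p : ℕ) : B.sb p < 2 := by
  classical
  unfold sb; split_ifs <;> norm_num

/-- the distinguished element of a coset -/
noncomputable def ec (p : ℕ) : ℕ := p * 128 + B.sb p

theorem ec_facts {p : ℕ} (hp : p < 16) :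
    B.ec p = Nat.xor (p * 128) (B.sb p) ∧ pI (B.ec p) = p ∧ B.ec p < 2048 ∧ xC (B.ec p) = B.ec p := by
  have h := List.all_eq_true.1 (List.all_eq_true.1 ecode_check p (List.mem_range.2 hp)) (B.sb p)
    (List.mem_range.2 (B.sb_lt p))
  simp only [Bool.and_eq_true, Nat.beq_eq, Nat.blt_eq] at h
  exact ⟨h.1.1.1, h.1.1.2, h.1.2, h.2⟩

theorem sb_zero : B.sb 0 = 0 := by
  classical
  unfold sb
  rw [if_neg]
  intro h
  have h1 : IsConj z (B.elG 0) := by rw [Nat.zero_mul] at h; exact h
  rw [B.elG_zero] at h1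
  exact D.xc.ne_one (Subtype.ext (isConj_one_left.1 h1))

variable (hF : Cfsg.IsOfLargeFischerTypeAt z Q)
include hF

theorem ec_not_PC {p : ℕ} (hp0 : p ≠ 0) (hp : p < 16) : ¬ B.PC (B.ec p) := by
  classical
  have h := (B.coset_dichotomy hF hp0 hp).2
  unfold ec sb
  split_ifs with hc
  · exact h.1 hc
  · simpa using hc

theorem ec_unique {p m : ℕ} (hp0 : p ≠ 0) (hp : p < 16) (hm : m < 2048) (hpm : pI m = p)
    (hx : xC m = m) (hc : ¬ B.PC m) : m = B.ec p := by
  classical
  have hw := List.all_eq_true.1 wI_fixed m (List.mem_range.2 hm)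
  simp only [hx, Bool.or_eq_true, Nat.beq_eq, Bool.not_eq_true', hpm] at hw
  have h := (B.coset_dichotomy hF hp0 hp).2
  unfold ec sb
  rcases hw with (h' | h') | h'
  · exact absurd (Nat.beq_refl m) (by rw [h']; exact Bool.false_ne_true)
  · rw [if_neg (h' ▸ hc), h', Nat.add_zero]
  · rw [if_pos, h']
    by_contra hh
    exact hh (h.2 (h' ▸ hc))

omit hF in
theorem x_fixed_image {h : Subgroup.centralizer ({z} : Set G)} (hh : h * B.x = B.x * h) {n m : ℕ}
    (hn : n < 2048) (hm : m < 2048) (hx : xC n = n) (e : h * B.el n * h⁻¹ = B.el m) : xC m = m := by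
  refine B.el_injOn ?_ hm ?_
  · have := List.all_eq_true.1 xC_lt m (List.mem_range.2 hm)
    simp only [Bool.and_eq_true, Nat.blt_eq] at this; exact this.1
  · rw [← B.x_conj hm, ← e]
    calc B.x * (h * B.el n * h⁻¹) * B.x⁻¹ = (B.x * h) * B.el n * (B.x * h)⁻¹ := by simp [mul_assoc]
      _ = h * (B.x * B.el n * B.x⁻¹) * h⁻¹ := by rw [← hh]; simp [mul_assoc]
      _ = _ := by rw [B.x_conj hn, hx]

/-- the image of a distinguished element under a normalising element -/
theorem ec_nrm {j : ℕ} (hj : j < 3) {k : Subgroup.centralizer ({z} : Set G)}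
    (hkx : k * B.x = B.x * k) (hkA : ∀ a ∈ D.bigA, k * a * k⁻¹ ∈ D.bigA)
    (hkp : ∀ n < 2048, ∀ m < 2048, k * B.el n * k⁻¹ = B.el m → pI m = kP j (pI n))
    {a : ℕ} (ha : a < 16) : k * B.el (B.ec a) * k⁻¹ = B.el (B.ec (kP j a)) := by
  obtain ⟨h1, h2, h3, h4⟩ := B.ec_facts ha
  by_cases ha0 : a = 0
  · subst ha0
    have e : B.ec 0 = 0 := by rw [ec, B.sb_zero]
    rw [Nat.eq_of_beq_eq_true (List.all_eq_true.1 kP_zero j (List.mem_range.2 hj)), e, B.el_zero]
    simp
  · obtain ⟨m, hm, em⟩ := B.el_surj (hkA _ (B.el_mem (B.ec a)))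
    have hpm : pI m = kP j a := by rw [hkp _ h3 m hm em.symm, h2]
    have hf := List.all_eq_true.1 (List.all_eq_true.1 nrm_pe j (List.mem_range.2 hj)) a
      (List.mem_range.2 ha)
    simp only [Bool.and_eq_true, Nat.blt_eq, Bool.or_eq_true, Nat.beq_eq, Bool.not_eq_true'] at hf
    have hne : kP j a ≠ 0 := fun h => by
      rcases hf.1.2 with h' | h'
      · exact ha0 h'
      · rw [h] at h'; simp at h'
    rw [← em]
    congr 1
    refine B.ec_unique hF hne hf.1.1 hm hpm (B.x_fixed_image hkx h3 hm h4 em.symm) fun hc => ?_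
    exact B.ec_not_PC hF ha0 ha ((B.PC_conj (m := (k : G)) (congrArg Subtype.val em)).1 hc)

omit hF in
/-- the relation on a pair -/
noncomputable def tv (a b : ℕ) : ℕ := Nat.xor (Nat.xor (B.sb a) (B.sb b)) (B.sb (Nat.xor a b))

omit hF in
theorem tv_lt (a b : ℕ) : B.tv a b < 2 :=
  Nat.xor_lt_two_pow (n := 1) (Nat.xor_lt_two_pow (n := 1) (B.sb_lt a) (B.sb_lt b)) (B.sb_lt _)

theorem tv_step {j : ℕ} (hj : j < 3) {a b : ℕ} (ha : a < 16) (hb : b < 16) :
    Nat.xor (kP j a) (kP j b) = kP j (Nat.xor a b) ∧ B.tv (kP j a) (kP j b) = B.tv a b := by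
  obtain ⟨k, hkx, hkA, hkp⟩ := B.exists_nrm hj
  have hab : Nat.xor a b < 16 := Nat.xor_lt_two_pow (n := 4) ha hb
  have hK : ∀ c < 16, kP j c < 16 := fun c hc => by
    have hf := List.all_eq_true.1 (List.all_eq_true.1 nrm_pe j (List.mem_range.2 hj)) c
      (List.mem_range.2 hc)
    simp only [Bool.and_eq_true, Nat.blt_eq] at hf
    exact hf.1.1
  have hx2 : ∀ {u v w : ℕ}, Nat.xor (Nat.xor (B.ec u) (B.ec v)) (B.ec w) =
      Nat.xor (Nat.xor (B.ec u) (B.ec v)) (B.ec w) := fun {_ _ _} => rfl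
  have hsplit : ∀ u v w : ℕ, u < 16 → v < 16 → w < 16 →
      Nat.xor (Nat.xor (B.ec u) (B.ec v)) (B.ec w) =
        Nat.xor (Nat.xor (Nat.xor u v) w * 128)
          (Nat.xor (Nat.xor (B.sb u) (B.sb v)) (B.sb w)) := by
    intro u v w hu hv hw
    rw [(B.ec_facts hu).1, (B.ec_facts hv).1, (B.ec_facts hw).1]
    have h : ∀ m : ℕ, m * 128 = m <<< 7 := fun m => by rw [Nat.shiftLeft_eq]
    show ((u * 128 ^^^ B.sb u) ^^^ (v * 128 ^^^ B.sb v)) ^^^ (w * 128 ^^^ B.sb w) =
      (u ^^^ v ^^^ w) * 128 ^^^ (B.sb u ^^^ B.sb v ^^^ B.sb w)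
    simp only [h, Nat.shiftLeft_xor_distrib]
    ac_rfl
  have e1 : Nat.xor (Nat.xor (B.ec a) (B.ec b)) (B.ec (Nat.xor a b)) = B.tv a b := by
    rw [hsplit _ _ _ ha hb hab, show Nat.xor (Nat.xor a b) (Nat.xor a b) = 0 from Nat.xor_self _,
      Nat.zero_mul]
    exact Nat.zero_xor _
  have e2 : B.el (Nat.xor (Nat.xor (B.ec (kP j a)) (B.ec (kP j b))) (B.ec (kP j (Nat.xor a b)))) =
      B.el (B.tv a b) := by
    rw [B.el_xor, B.el_xor, ← B.ec_nrm hF hj hkx hkA hkp ha, ← B.ec_nrm hF hj hkx hkA hkp hb,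
      ← B.ec_nrm hF hj hkx hkA hkp hab]
    calc k * B.el (B.ec a) * k⁻¹ * (k * B.el (B.ec b) * k⁻¹) * (k * B.el (B.ec (Nat.xor a b)) * k⁻¹)
        = k * (B.el (B.ec a) * B.el (B.ec b) * B.el (B.ec (Nat.xor a b))) * k⁻¹ := by simp [mul_assoc]
      _ = k * B.el (B.tv a b) * k⁻¹ := by rw [← B.el_xor, ← B.el_xor, e1]
      _ = B.el (B.tv a b) := by
        rcases B.el_bit (B.tv_lt a b) with ⟨e, -⟩ | ⟨e, -⟩ <;> rw [e]
        · simp
        · exact mul_inv_eq_iff_eq_mul.2 (D.zc _)
  have hk1 := hK a ha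
  have hk2 := hK b hb
  have hk3 := hK _ hab
  have e3 : Nat.xor (Nat.xor (B.ec (kP j a)) (B.ec (kP j b))) (B.ec (kP j (Nat.xor a b))) = B.tv a b :=
    B.el_injOn (Nat.xor_lt_two_pow (n := 11) (Nat.xor_lt_two_pow (n := 11) (B.ec_facts hk1).2.2.1
    (B.ec_facts hk2).2.2.1) (B.ec_facts hk3).2.2.1) ((B.tv_lt a b).trans (by norm_num)) e2
  have hp : pI (Nat.xor (Nat.xor (B.ec (kP j a)) (B.ec (kP j b))) (B.ec (kP j (Nat.xor a b)))) =
      pI (B.tv a b) := congrArg pI e3
  rw [pI_xor, pI_xor, (B.ec_facts hk1).2.1, (B.ec_facts hk2).2.1, (B.ec_facts hk3).2.1,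
    show pI (B.tv a b) = 0 by simp only [pI]; have := B.tv_lt a b; omega] at hp
  have hp' := Nat.xor_eq_zero_iff.1 hp
  refine ⟨hp', ?_⟩
  rw [hsplit _ _ _ hk1 hk2 hk3, show Nat.xor (Nat.xor (kP j a) (kP j b)) (kP j (Nat.xor a b)) = 0 from hp,
    Nat.zero_mul] at e3
  rw [← e3, tv, hp']
  exact (Nat.zero_xor _).symm

/-- the relation is constant on the two classes of pairs -/
theorem tv_class {root : ℕ} {tree : List (ℕ × ℕ × ℕ)} (hr : root < 256)
    (ht : treeR pairStep root tree [] = true) :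
    ∀ u ∈ root :: tree.map Prod.fst, B.tv (u / 16) (u % 16) = B.tv (root / 16) (root % 16) := by
  intro u hu
  refine (mem_of_treeR (P := fun u => u < 256 ∧ B.tv (u / 16) (u % 16) = B.tv (root / 16) (root % 16))
    ⟨hr, rfl⟩ ?_ _ _ ht (by simp) u hu).2
  rintro u q j hu ⟨hq, hPq⟩
  simp only [pairStep, Bool.and_eq_true, Nat.blt_eq, Nat.beq_eq] at hu
  obtain ⟨hj, rfl⟩ := hu
  have hK : ∀ c < 16, kP j c < 16 := fun c hc => by
    have hf := List.all_eq_true.1 (List.all_eq_true.1 nrm_pe j (List.mem_range.2 hj)) c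
      (List.mem_range.2 hc)
    simp only [Bool.and_eq_true, Nat.blt_eq] at hf
    exact hf.1.1
  have h1 := hK (q / 16) (by omega)
  have h2 := hK (q % 16) (by omega)
  refine ⟨by omega, ?_⟩
  rw [show (kP j (q / 16) * 16 + kP j (q % 16)) / 16 = kP j (q / 16) by omega,
    show (kP j (q / 16) * 16 + kP j (q % 16)) % 16 = kP j (q % 16) by omega,
    (B.tv_step hF hj (by omega) (by omega)).2, hPq]

theorem sb_eq (hN : B.Normed) : ∀ c < 16, sT (B.tv 1 2) (B.tv 1 4) c = B.sb c := by
  classical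
  have hroots := cls_roots
  simp only [Bool.and_eq_true, Nat.beq_eq] at hroots
  have hbas : ∀ i < 4, B.sb (2 ^ i) = 0 := fun i hi => by
    unfold sb
    rw [if_neg]
    have := hN i hi
    rwa [pow_add, mul_comm] at this
  have htv : ∀ a b, a < 16 → b < 16 → a ≠ 0 → b ≠ 0 → a ≠ b →
      tOf (B.tv 1 2) (B.tv 1 4) a b = B.tv a b := by
    intro a b ha hb ha0 hb0 hab
    have h1 : (a * 16 + b) / 16 = a := by omega
    have h2 : (a * 16 + b) % 16 = b := by omega
    unfold tOf
    split
    case isTrue hc =>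
      rw [clsB, memV_iff] at hc
      have := B.tv_class hF (show aPairRoot1 < 256 by decide) pairTree1_ok _ hc
      rw [h1, h2, hroots.2] at this
      exact this.symm
    case isFalse hc =>
      have hcov := List.all_eq_true.1 (List.all_eq_true.1 pair_cover a (List.mem_range.2 ha)) b
        (List.mem_range.2 hb)
      simp only [Bool.or_eq_true, Nat.beq_eq, memV_iff] at hcov
      have hm : a * 16 + b ∈ aPairRoot0 :: aPairTree0.map Prod.fst := by tauto
      have := B.tv_class hF (show aPairRoot0 < 256 by decide) pairTree0_ok _ hm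
      rw [h1, h2, hroots.1.2] at this
      exact this.symm
  have key : ∀ k ≤ 4, ∀ c < 2 ^ k, sAux (B.tv 1 2) (B.tv 1 4) k c = B.sb c := by
    intro k
    induction k with
    | zero =>
      intro _ c hc
      obtain rfl : c = 0 := by simpa using hc
      rw [B.sb_zero]; rfl
    | succ k ih =>
      intro hk c hc
      have hk16 : 2 ^ k < 16 := Nat.pow_lt_pow_right (a := 2) (n := 4) (by norm_num) (by omega)
      have hlt : c % 2 ^ k < 2 ^ k := Nat.mod_lt _ (by positivity)
      have ihr := ih (by omega) _ hlt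
      rw [sAux]
      rcases Nat.lt_or_ge c (2 ^ k) with h | h
      · rw [Nat.testBit_lt_two_pow h, if_neg (by simp), Nat.mod_eq_of_lt h]
        exact ih (by omega) c h
      · have hr : c % 2 ^ k = c - 2 ^ k := by
          rw [Nat.mod_eq_sub_mod h, Nat.mod_eq_of_lt (by rw [pow_succ] at hc; omega)]
        have hbit : c.testBit k = true := by
          rw [Nat.testBit_eq_decide_div_mod_eq]
          have : c / 2 ^ k = 1 := Nat.div_eq_of_lt_le (by simpa using h) (by rw [pow_succ] at hc; omega)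
          simp [this]
        by_cases h0 : c % 2 ^ k = 0
        · rw [if_neg (by simp [h0]), ihr, h0, B.sb_zero]
          have : c = 2 ^ k := by omega
          rw [this, hbas k (by omega)]
        · rw [if_pos (by
            rw [Bool.and_eq_true, hbit, Bool.not_eq_true']
            exact ⟨rfl, by rw [← Bool.not_eq_true, Nat.beq_eq]; exact h0⟩), ihr, htv _ _ hk16 (by omega) (by positivity) h0 (by omega), tv]
          have hxor : Nat.xor (2 ^ k) (c % 2 ^ k) = c := by
            show 2 ^ k ^^^ (c % 2 ^ k) = c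
            refine Nat.eq_of_testBit_eq fun i => ?_
            rw [Nat.testBit_xor, Nat.testBit_mod_two_pow, Nat.testBit_two_pow]
            rcases Nat.lt_trichotomy i k with hi | rfl | hi
            · simp [hi, Nat.ne_of_gt hi]
            · simp [hbit]
            · have hci : c.testBit i = false := Nat.testBit_lt_two_pow
                (hc.trans_le (Nat.pow_le_pow_right (by norm_num) hi))
              simp [Nat.not_lt.2 hi.le, Nat.ne_of_lt hi, hci]
          rw [hxor, hbas k (by omega)]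
          show B.sb (c % 2 ^ k) ^^^ ((0 ^^^ B.sb (c % 2 ^ k)) ^^^ B.sb c) = B.sb c
          rw [Nat.zero_xor, ← Nat.xor_assoc, Nat.xor_self, Nat.zero_xor]
  exact fun c hc => key 4 le_rfl c hc

omit hF in
/-- the codes of the non-central classes -/
noncomputable def dSet : Finset ℕ := by
  classical exact (Finset.range 2048).filter fun n => n ≠ 0 ∧ ¬ B.PC n

omit hF in
theorem mem_dSet {n : ℕ} : n ∈ B.dSet ↔ n < 2048 ∧ n ≠ 0 ∧ ¬ B.PC n := by
  classical
  simp [dSet]

/-- the translates of the distinguished element fill the coset -/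
theorem coset_rest {p : ℕ} (hp0 : p ≠ 0) (hp : p < 16) {n : ℕ} :
    n ∈ (aV16.getD p []).map (fun v => qC v (B.ec p)) ↔ n < 2048 ∧ pI n = p ∧ ¬ B.PC n := by
  classical
  obtain ⟨-, hpe, hel, -⟩ := B.ec_facts hp
  have hv16 := List.all_eq_true.1 v16_facts (p - 1) (List.mem_range.2 (by omega))
  rw [Nat.sub_add_cancel (by omega)] at hv16
  simp only [Bool.and_eq_true, Nat.beq_eq, List.all_eq_true, List.mem_range, decide_eq_true_eq,
    Nat.blt_eq] at hv16
  obtain ⟨hlen, hb⟩ := hv16
  obtain ⟨hnd, hrange⟩ := hb (B.sb p) (B.sb_lt p)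
  have hv : ∀ v ∈ aV16.getD p [], v < 4096 := fun _ => v16_mem_lt
  let E := ((aV16.getD p []).map (fun v => qC v (B.ec p))).toFinset
  let R := (Finset.range 2048).filter fun n => pI n = p ∧ ¬ B.PC n
  have hsub : E ⊆ R := by
    intro m hm
    rw [List.mem_toFinset] at hm
    obtain ⟨h1, h2⟩ := hrange m hm
    obtain ⟨v, hvm, rfl⟩ := List.mem_map.1 hm
    obtain ⟨q, hq⟩ := exists_q (D := D) (hv v hvm)
    refine Finset.mem_filter.2 ⟨Finset.mem_range.2 h1, h2, fun hc => B.ec_not_PC hF hp0 hp ?_⟩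
    rw [← hq] at hc
    exact (B.PC_conj (B.elG_qC q hel)).1 hc
  have hcos : ((Finset.range 2048).filter fun n => pI n = p).card = 128 := by
    rw [show ((Finset.range 2048).filter fun n => pI n = p) =
      (Finset.range 128).image (fun i => p * 128 + i) by
        ext n
        simp only [Finset.mem_filter, Finset.mem_range, Finset.mem_image]
        constructor
        · rintro ⟨h1, h2⟩
          refine ⟨n % 128, Nat.mod_lt _ (by norm_num), ?_⟩
          rw [← h2]; simp only [pI]; omega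
        · rintro ⟨i, h1, rfl⟩
          refine ⟨by omega, ?_⟩
          simp only [pI]; omega,
      Finset.card_image_of_injective _ (fun _ _ h => Nat.add_left_cancel h), Finset.card_range]
  have hR : R.card = 16 := by
    have h1 := Finset.card_filter_add_card_filter_not
      (s := (Finset.range 2048).filter fun n => pI n = p) (fun n => B.PC n)
    rw [Finset.filter_filter, Finset.filter_filter, hcos] at h1
    have h2 : ((Finset.range 2048).filter fun n => pI n = p ∧ B.PC n) = B.cosetPC p := by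
      ext m; rw [B.mem_cosetPC, Finset.mem_filter, Finset.mem_range]
    rw [h2, (B.coset_dichotomy hF hp0 hp).1] at h1
    simp only [R]
    omega
  have hER : E = R := Finset.eq_of_subset_of_card_le hsub (by
    rw [hR]
    show 16 ≤ (List.toFinset _).card
    rw [List.toFinset_card_of_nodup (show (List.map (fun v => qC v (B.ec p)) (aV16.getD p [])).Nodup from hnd),
      List.length_map, hlen])
  rw [← List.mem_toFinset]
  show n ∈ E ↔ _
  rw [hER, Finset.mem_filter, Finset.mem_range]

/-- the parameters -/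
theorem dSet_eq (hN : B.Normed) : B.dSet = (dL (B.tv 1 2) (B.tv 1 4)).toFinset := by
  classical
  have hsb := B.sb_eq hF hN
  ext n
  rw [B.mem_dSet, List.mem_toFinset, dL, List.mem_append, List.mem_flatMap, List.mem_flatMap]
  have hlow : ∀ m < 128, (m ≠ 0 ∧ ¬ B.PC m) ↔ ∃ w ∈ smallW, m ∈ [w * 2, w * 2 + 1] := by
    intro m hm
    have h := List.all_eq_true.1 low_small m (List.mem_range.2 hm)
    rw [beq_iff_eq] at h
    rw [B.PC_low hF hm]
    have h' : ((!(Nat.beq m 0) && !(Nat.beq m 1 || inM bigM (wV (wI m)))) = true) ↔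
        (smallW.any fun w => Nat.beq m (w * 2) || Nat.beq m (w * 2 + 1)) = true := by rw [h]
    simp only [Bool.and_eq_true, Bool.not_eq_true', ← Bool.not_eq_true, Nat.beq_eq, List.any_eq_true,
      Bool.or_eq_true] at h'
    simp only [Bool.or_eq_true, Nat.beq_eq, List.mem_cons, List.not_mem_nil, or_false]
    exact h'
  constructor
  · rintro ⟨hn, hn0, hc⟩
    rcases Nat.lt_or_ge n 128 with h | h
    · exact Or.inl ((hlow n h).1 ⟨hn0, hc⟩)
    · right
      have hp : pI n - 1 < 15 := by simp only [pI]; omega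
      have h1 : pI n - 1 + 1 = pI n := by simp only [pI]; omega
      refine ⟨pI n - 1, List.mem_range.2 hp, ?_⟩
      rw [h1, hsb _ (by omega)]
      exact (B.coset_rest hF (by omega) (by omega)).2 ⟨hn, rfl, hc⟩
  · rintro (⟨w, hw, hm⟩ | ⟨i, hi, hm⟩)
    · have hw' := List.all_eq_true.1 smallW_lt w hw
      simp only [Bool.and_eq_true, Nat.blt_eq] at hw'
      have hlt : n < 128 := by
        simp only [List.mem_cons, List.not_mem_nil, or_false] at hm
        omega
      exact ⟨by omega, (hlow n hlt).2 ⟨w, hw, hm⟩⟩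
    · rw [List.mem_range] at hi
      rw [hsb _ (by omega)] at hm
      obtain ⟨h1, h2, h3⟩ := (B.coset_rest hF (Nat.succ_ne_zero i) (by omega)).1 hm
      exact ⟨h1, fun h => by rw [h] at h2; simp [pI] at h2, h3⟩

/-- the orbit of the first distinguished element -/
def InO (n : ℕ) : Prop := ∃ m ∈ B.M0, B.elG n = m * B.elG (B.ec 1) * m⁻¹

theorem high_inO {n : ℕ} (hn : n < 2048) (hp : pI n ≠ 0) (hc : ¬ B.PC n) : B.InO n := by
  have hp16 : pI n < 16 := by simp only [pI]; omega
  obtain ⟨h, hh⟩ := B.moves_all hp hp16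
  obtain ⟨-, hpe, hel, hxe⟩ := B.ec_facts (p := 1) (by norm_num)
  obtain ⟨m, hm, em⟩ := B.el_surj (hh.2.1 _ (B.el_mem (B.ec 1)))
  have hpm : pI m = pI n := (B.moves_coset hh hel hm em.symm).1 hpe
  have hmc : ¬ B.PC m := fun hc' => B.ec_not_PC hF one_ne_zero (by norm_num)
    ((B.PC_conj (m := (h : G)) (congrArg Subtype.val em)).1 hc')
  have hme := B.ec_unique hF hp hp16 hm hpm (B.x_fixed_image hh.1 hel hm hxe em.symm) hmc
  obtain ⟨v, hv, hnv⟩ := List.mem_map.1 ((B.coset_rest hF hp hp16).2 ⟨hn, rfl, hc⟩)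
  obtain ⟨q, hq⟩ := exists_q (D := D) (v16_mem_lt hv)
  refine ⟨((q : Subgroup.centralizer ({z} : Set G)) : G) * h,
    mul_mem (B.q_mem_M0 q) (B.mem_M0_of hh.2.1), ?_⟩
  rw [← hnv, ← hq, B.elG_qC q (hme ▸ hm), ← hme,
    show B.elG m = (h : G) * B.elG (B.ec 1) * (h : G)⁻¹ from congrArg Subtype.val em]
  simp [mul_assoc]

set_option maxHeartbeats 800000 in
/-- the normaliser is transitive on the non-central classes -/
theorem dSet_inO (hN : B.Normed) : ∀ n ∈ B.dSet, B.InO n := by
  classical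
  let O := B.dSet.filter B.InO
  have hS23 : 23 ∣ O.card := by
    have h := B.twenty_three hF (B.elG '' (O : Set ℕ)) ?_ ?_ ?_
    · rwa [Set.InjOn.ncard_image, Set.ncard_coe_finset] at h
      intro a ha b hb e
      exact B.elG_injOn (B.mem_dSet.1 (Finset.mem_filter.1 ha).1).1
        (B.mem_dSet.1 (Finset.mem_filter.1 hb).1).1 e
    · rintro k hk _ ⟨a, ha, rfl⟩
      obtain ⟨hd, m, hm, em⟩ := Finset.mem_filter.1 ha
      obtain ⟨h1, h2, h3⟩ := B.mem_dSet.1 hd
      obtain ⟨a', ha', e'⟩ := B.exists_image hk (n := a)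
      refine ⟨a', Finset.mem_coe.2 (Finset.mem_filter.2 ⟨B.mem_dSet.2 ⟨ha', fun h0 => ?_, fun hc =>
        h3 ((B.PC_conj e').1 hc)⟩, k * m, mul_mem hk hm, ?_⟩), e'⟩
      · rw [h0, B.elG_zero] at e'
        refine h2 (B.elG_injOn h1 (by norm_num) ?_)
        rw [B.elG_zero]
        exact conj_eq_one_iff.1 e'.symm
      · rw [e', em]; simp [mul_assoc]
    · rintro _ ⟨a, -, rfl⟩
      exact B.elG_mem a
    · rintro ⟨a, ha, e⟩
      obtain ⟨h1, h2, -⟩ := B.mem_dSet.1 (Finset.mem_filter.1 ha).1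
      exact h2 (B.elG_injOn h1 (by norm_num) (e.trans B.elG_zero.symm))
  have h276 : B.dSet.card = 276 := by
    rw [B.dSet_eq hF hN]
    have h := List.all_eq_true.1 dL_facts _ (pair_cases _ _ (B.tv_lt 1 2) (B.tv_lt 1 4))
    simp only [Bool.and_eq_true, Nat.beq_eq, decide_eq_true_eq] at h
    rw [List.toFinset_card_of_nodup h.2, h.1]
  -- the complement consists of pairs of small elements
  let W' := smallW.toFinset.filter fun w => ¬ B.InO (w * 2)
  have hflip : ∀ w ∈ smallW, B.InO (w * 2) ↔ B.InO (w * 2 + 1) := by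
    intro w hw
    have hf := List.all_eq_true.1 small_flip w hw
    simp only [List.any_eq_true, Bool.and_eq_true, Nat.blt_eq, Nat.beq_eq] at hf
    obtain ⟨v, -, ⟨hv, e1⟩, e2⟩ := hf
    obtain ⟨q, hq⟩ := exists_q (D := D) hv
    have hwl := List.all_eq_true.1 smallW_lt w hw
    simp only [Bool.and_eq_true, Nat.blt_eq] at hwl
    rw [← hq] at e1 e2
    constructor
    · rintro ⟨m, hm, em⟩
      refine ⟨_, mul_mem (B.q_mem_M0 q) hm, ?_⟩
      rw [← e1, B.elG_qC q (by omega), em]
      simp [mul_assoc]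
    · rintro ⟨m, hm, em⟩
      refine ⟨_, mul_mem (B.q_mem_M0 q) hm, ?_⟩
      rw [← e2, B.elG_qC q (by omega), em]
      simp [mul_assoc]
  have hdiff : B.dSet \ O = (W' ×ˢ Finset.range 2).image fun s => s.1 * 2 + s.2 := by
    ext n
    simp only [Finset.mem_sdiff, O, Finset.mem_filter, Finset.mem_image, Finset.mem_product, W',
      List.mem_toFinset, Finset.mem_range, not_and]
    constructor
    · rintro ⟨hd, hno⟩
      obtain ⟨hn, hn0, hc⟩ := B.mem_dSet.1 hd
      have hp : pI n = 0 := by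
        by_contra hp
        exact hno hd (B.high_inO hF hn hp hc)
      have hd' := hd
      rw [B.dSet_eq hF hN, List.mem_toFinset, dL, List.mem_append, List.mem_flatMap,
        List.mem_flatMap] at hd'
      rcases hd' with ⟨w, hw, hm⟩ | ⟨i, hi, hm⟩
      · simp only [List.mem_cons, List.not_mem_nil, or_false] at hm
        rcases hm with rfl | rfl
        · exact ⟨(w, 0), ⟨⟨hw, hno hd⟩, by norm_num⟩, rfl⟩
        · exact ⟨(w, 1), ⟨⟨hw, fun h => hno hd ((hflip w hw).1 h)⟩, by norm_num⟩, rfl⟩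
      · exfalso
        rw [List.mem_range] at hi
        rw [B.sb_eq hF hN _ (by omega)] at hm
        have := ((B.coset_rest hF (Nat.succ_ne_zero i) (by omega)).1 hm).2.1
        omega
    · rintro ⟨⟨w, b⟩, ⟨⟨hw, hno⟩, hb⟩, rfl⟩
      refine ⟨?_, fun _ => ?_⟩
      · rw [B.dSet_eq hF hN, List.mem_toFinset, dL, List.mem_append, List.mem_flatMap]
        refine Or.inl ⟨w, hw, ?_⟩
        rcases (show b = 0 ∨ b = 1 by omega) with rfl | rfl <;> simp
      · rcases (show b = 0 ∨ b = 1 by omega) with rfl | rfl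
        · simpa using hno
        · exact fun h => hno ((hflip w hw).2 h)
  have hcard : (B.dSet \ O).card = 2 * W'.card := by
    rw [hdiff, Finset.card_image_of_injOn, Finset.card_product, Finset.card_range, mul_comm]
    rintro ⟨a, b⟩ ha ⟨c, d⟩ hc e
    simp only [Finset.mem_coe, Finset.mem_product, Finset.mem_range] at ha hc
    simp only at e
    exact Prod.ext (by show a = c; omega) (by show b = d; omega)
  have hW : W'.card ≤ 18 := by
    refine (Finset.card_filter_le _ _).trans ?_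
    rw [List.toFinset_card_of_nodup smallW_nodup]
    have := small_big_count
    simp only [Bool.and_eq_true, Nat.beq_eq] at this
    rw [this.1.1.1]
  have hsub : O ⊆ B.dSet := Finset.filter_subset _ _
  rw [Finset.card_sdiff_of_subset hsub, h276] at hcard
  have hOle := Finset.card_le_card hsub
  have hO : O = B.dSet := Finset.eq_of_subset_of_card_le hsub (by omega)
  intro n hn
  rw [← hO] at hn
  exact (Finset.mem_filter.1 hn).2

/-- the parameters are forced -/
theorem signs (hN : B.Normed) : B.dSet = (dL 0 1).toFinset := by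
  classical
  have hpair := pair_cases _ _ (B.tv_lt 1 2) (B.tv_lt 1 4)
  have hd := B.dSet_eq hF hN
  set t := ((B.tv 1 2), (B.tv 1 4)) with ht
  have hdeg : ∀ a ∈ dL t.1 t.2, ∀ b ∈ dL t.1 t.2, degD t.1 t.2 a = degD t.1 t.2 b := by
    have h := List.all_eq_true.1 dL_facts t hpair
    simp only [Bool.and_eq_true, Nat.beq_eq, decide_eq_true_eq] at h
    have hdeg' : ∀ a, degD t.1 t.2 a = (B.dSet.filter fun c => Nat.xor a c ∈ B.dSet).card := by
      intro a
      rw [degD, ← List.toFinset_card_of_nodup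
        (List.Nodup.filter (fun b => inM (dM t.1 t.2) (Nat.xor a b)) h.2), List.toFinset_filter, hd]
      refine congrArg Finset.card (Finset.filter_congr fun c _ => ?_)
      rw [dM, inM_mask, List.mem_toFinset]
    intro a ha b hb
    rw [hdeg', hdeg']
    have ha' : a ∈ B.dSet := by rw [hd]; exact List.mem_toFinset.2 ha
    have hb' : b ∈ B.dSet := by rw [hd]; exact List.mem_toFinset.2 hb
    obtain ⟨m₁, hm₁, e₁⟩ := B.dSet_inO hF hN a ha'
    obtain ⟨m₂, hm₂, e₂⟩ := B.dSet_inO hF hN b hb'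
    have hm : m₂ * m₁⁻¹ ∈ B.M0 := mul_mem hm₂ (inv_mem hm₁)
    have eab : B.elG b = m₂ * m₁⁻¹ * B.elG a * (m₂ * m₁⁻¹)⁻¹ := by
      rw [e₂, e₁]; simp [mul_assoc]
    set g := m₂ * m₁⁻¹ with hgdef
    choose f hf1 hf2 using fun n => B.exists_image hm (n := n)
    have hfd : ∀ n < 2048, (f n ∈ B.dSet ↔ n ∈ B.dSet) := by
      intro n hn
      rw [B.mem_dSet, B.mem_dSet, B.PC_conj (hf2 n)]
      have h0 : f n = 0 ↔ n = 0 := by
        constructor
        · intro h0
          have := hf2 n
          rw [h0, B.elG_zero] at this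
          exact B.elG_injOn hn (by norm_num) ((conj_eq_one_iff.1 this.symm).trans B.elG_zero.symm)
        · rintro rfl
          exact B.elG_injOn (hf1 0) (by norm_num) (by rw [hf2, B.elG_zero]; simp)
      simp [hf1 n, hn, h0]
    have hfa : f a = b := B.elG_injOn (hf1 a) (B.mem_dSet.1 hb').1 ((hf2 a).trans eab.symm)
    have hal := (B.mem_dSet.1 ha').1
    have hfx : ∀ c < 2048, f (Nat.xor a c) = Nat.xor b (f c) := by
      intro c hc
      refine B.elG_injOn (hf1 _) (Nat.xor_lt_two_pow (n := 11) (B.mem_dSet.1 hb').1 (hf1 c)) ?_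
      rw [hf2, B.elG_xor, B.elG_xor, hf2 c, ← hfa, hf2 a]
      simp [mul_assoc]
    have hinj : ∀ u < 2048, ∀ v < 2048, f u = f v → u = v := by
      intro u hu v hv e
      refine B.elG_injOn hu hv ?_
      have := hf2 u
      rw [e, hf2 v] at this
      exact (mul_left_cancel (mul_right_cancel this)).symm
    refine Finset.card_bij (fun c _ => f c) (fun c hc => ?_) (fun c hc d hd' e => ?_) (fun d hd' => ?_)
    · obtain ⟨h1, h2⟩ := Finset.mem_filter.1 hc
      have hc' := (B.mem_dSet.1 h1).1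
      refine Finset.mem_filter.2 ⟨(hfd c hc').2 h1, ?_⟩
      rw [← hfx c hc']
      exact (hfd _ (Nat.xor_lt_two_pow (n := 11) hal hc')).2 h2
    · exact hinj c (B.mem_dSet.1 (Finset.mem_filter.1 hc).1).1 d
        (B.mem_dSet.1 (Finset.mem_filter.1 hd').1).1 e
    · obtain ⟨h1, h2⟩ := Finset.mem_filter.1 hd'
      obtain ⟨c, hc', ec⟩ := B.exists_image (inv_mem hm) (n := d)
      have efc : f c = d := by
        refine B.elG_injOn (hf1 c) (B.mem_dSet.1 h1).1 ?_
        rw [hf2, ec]; simp [mul_assoc]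
      refine ⟨c, Finset.mem_filter.2 ⟨(hfd c hc').1 (efc ▸ h1), ?_⟩, efc⟩
      refine (hfd _ (Nat.xor_lt_two_pow (n := 11) hal hc')).1 ?_
      show f (Nat.xor a c) ∈ _
      rw [hfx c hc', efc]
      exact h2
  have hgood : t = (0, 1) := by
    by_contra hne
    have hin : t ∈ [(0, 0), (1, 0), (1, 1)] := by
      simp only [List.mem_cons, List.not_mem_nil, or_false] at hpair ⊢
      tauto
    have h1 := List.all_eq_true.1 deg_bad t hin
    have h2 := List.all_eq_true.1 deg_small t hin
    simp only [List.any_eq_true, Bool.not_eq_true', ← Bool.not_eq_true, Nat.beq_eq] at h1 h2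
    obtain ⟨a, ha, ha'⟩ := h1
    obtain ⟨b, hb, hb'⟩ := h2
    exact ha' ((hdeg a ha b hb).trans hb')
  rw [hd]
  show (dL t.1 t.2).toFinset = _
  rw [hgood]

end Model.ABase

end CfsgLib.Spor.LargeFi
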