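import Cfsg.Agent.Lib.Spor.LargeFi.StabU

/-!
The stabiliser of the second representative vector is `2⁴:A₆`.
-/

set_option autoImplicit false
set_option maxRecDepth 100000

namespace CfsgLib.Spor.LargeFi

open CfsgLib.Spor.U62 CfsgLib.Spor.HSUnitary
open Matrix
open scoped Pointwise

/-- the normal subgroup of order sixteen -/
def OU : Subgroup U6 := span oGens

theorem oGens_prog : (oGens.all fun c => memB stabCodes c && Nat.beq (mvC c bigRoot) bigRoot) = true := by
  decide +kernel

theorem oL_chk : ((memB oL oneC && oL.all fun x => oGens.all fun g => memB oL (mulC x g)) &&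
    incrB oL && Nat.beq oL.length 16 &&
    oL.all fun x => memB (spanTree oGens oL 4 [oneC]) x) = true := by decide +kernel

theorem vc_bigV : vc bigV = bigRoot := by
  have h := bigRoot_mem
  rw [Bool.and_eq_true, Nat.beq_eq] at h
  exact h.1

theorem vc_smallV : vc smallV = smallRoot := by
  have h := smallRoot_mem
  rw [Bool.and_eq_true, Nat.beq_eq] at h
  exact h.1

theorem oGens_in : ∀ c ∈ oGens, In (KV bigV) c := fun c hc => in_KV (by
  rw [vc_bigV]; exact List.all_eq_true.1 oGens_prog c hc)

theorem OU_le : OU ≤ KV bigV := span_le oGens_in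

theorem mem_OU {g : U6} : g ∈ OU ↔ cd g ∈ oL := by
  have h := oL_chk
  simp only [Bool.and_eq_true, List.all_eq_true] at h
  constructor
  · exact fun hg => inList_of_gens (L := oL) (S := oGens)
      (by simp only [Bool.and_eq_true, List.all_eq_true]; exact h.1.1.1) hg
  · intro hg
    have hgens : ∀ c ∈ oGens, In OU c := fun c hc => In.span (by
      obtain ⟨g, -, e⟩ := oGens_in c hc; exact ⟨g, Subgroup.mem_top _, e⟩) hc
    exact (spanTree_in hgens 4 [oneC] (fun c hc => by
      rw [List.mem_singleton] at hc; subst hc; exact ⟨1, Subgroup.one_mem _, cd_one⟩) _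
      (memB_iff.1 (h.2 _ hg))).mem rfl

theorem card_OU : Nat.card OU = 16 := by
  have h := oL_chk
  simp only [Bool.and_eq_true, Nat.beq_eq] at h
  rw [card_eq_length cd_injective
    ((List.isChain_iff_pairwise.1 (incrB_spec h.1.1.2)).imp fun hh => Nat.ne_of_lt hh)
    (fun g hg => mem_OU.1 hg) fun x hx => ?_, h.1.2]
  have hgens : ∀ c ∈ oGens, In OU c := fun c hc => In.span (by
    obtain ⟨g, -, e⟩ := oGens_in c hc; exact ⟨g, Subgroup.mem_top _, e⟩) hc
  exact spanTree_in hgens 4 [oneC] (fun c hc => by
    rw [List.mem_singleton] at hc; subst hc; exact ⟨1, Subgroup.one_mem _, cd_one⟩) x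
    (memB_iff.1 (List.all_eq_true.1 h.2 x hx))

theorem two_part_small : 64 = 2 ^ (25920 : ℕ).factorization 2 := by
  rw [show (25920 : ℕ) = 2 ^ 6 * 405 by norm_num, Nat.factorization_mul (by norm_num) (by norm_num),
    Finsupp.add_apply, Nat.Prime.factorization_pow (by norm_num), Finsupp.single_eq_same,
    Nat.factorization_eq_zero_of_not_dvd (by norm_num), add_zero]
  norm_num

theorem two_part_big : 128 = 2 ^ (5760 : ℕ).factorization 2 := by
  rw [show (5760 : ℕ) = 2 ^ 7 * 45 by norm_num, Nat.factorization_mul (by norm_num) (by norm_num),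
    Finsupp.add_apply, Nat.Prime.factorization_pow (by norm_num), Finsupp.single_eq_same,
    Nat.factorization_eq_zero_of_not_dvd (by norm_num), add_zero]
  norm_num

variable {F9 : Type} [Field F9] [Fintype F9]

theorem normal_two_small (hF9 : Fintype.card F9 = 9) {R : Subgroup U6} (hR : R ≤ KV smallV)
    (hnorm : ∀ g ∈ KV smallV, ∀ r ∈ R, g * r * g⁻¹ ∈ R) (hp : IsPGroup 2 R) : R = ⊥ := by
  have h := small_chk
  rw [Bool.and_eq_true, Nat.beq_eq] at h
  rw [eq_bot_iff]
  intro r hr
  have := normal_two_le vc_smallV h.1 h.2 small_full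
    (fun [_] => by rw [card_KV_small hF9]; exact two_part_small) hR hnorm hp r hr
  rw [List.mem_singleton] at this
  rw [Subgroup.mem_bot]
  exact cd_injective (this.trans cd_one.symm)

theorem normal_two_big (hF9 : Fintype.card F9 = 9) {R : Subgroup U6} (hR : R ≤ KV bigV)
    (hnorm : ∀ g ∈ KV bigV, ∀ r ∈ R, g * r * g⁻¹ ∈ R) (hp : IsPGroup 2 R) : R ≤ OU := by
  have h := big_chk
  rw [Bool.and_eq_true, Nat.beq_eq] at h
  intro r hr
  exact mem_OU.2 (normal_two_le vc_bigV h.1 h.2 big_full
    (fun [_] => by rw [card_KV_big hF9]; exact two_part_big) hR hnorm hp r hr)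

/-- the first permutation -/
def pA : Equiv.Perm (Fin 6) := ⟨![4, 1, 0, 5, 3, 2], ![2, 1, 5, 4, 0, 3], by decide, by decide⟩

/-- the second permutation -/
def pB : Equiv.Perm (Fin 6) := ⟨![3, 0, 2, 1, 4, 5], ![1, 3, 2, 0, 4, 5], by decide, by decide⟩

/-- a block of sixteen vectors -/
def blockSet (i : Fin 6) : Set V6 := {w | vc w ∈ blockL.getD i []}

theorem block_shape : ((List.range 6).all fun i => Nat.beq (blockL.getD i []).length 16 &&
    incrB (blockL.getD i []) && ((blockL.getD i []).all fun u => Nat.blt u 4096) &&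
    (List.range 6).all fun j => Nat.beq i j ||
      (blockL.getD i []).all fun u => !memV (blockL.getD j []) u) = true := by decide +kernel

theorem block_moves : ∀ i : Fin 6,
    ((blockL.getD i []).all fun u => memV (blockL.getD (pA i) []) (mvC altA u) &&
      memV (blockL.getD (pB i) []) (mvC altB u) &&
      oGens.all fun c => memV (blockL.getD i []) (mvC c u)) = true := by decide +kernel

theorem alt_in : ∀ c ∈ [altA, altB], In (KV bigV) c := by
  have h : ([altA, altB].all fun c => memB stabCodes c && Nat.beq (mvC c bigRoot) bigRoot) = true := by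
    decide +kernel
  exact fun c hc => in_KV (by rw [vc_bigV]; exact List.all_eq_true.1 h c hc)

theorem altProg_ok : slpL 6 altProg [altPB, altPA] = true := by decide +kernel

theorem altChain_ok : (chainL 6 altChain && altChain.all fun l => l.2.all fun t =>
    decide (t ∈ List.range 6 :: altPB :: altPA :: altProg.map Prod.fst)) = true := by decide +kernel

theorem altChain_prod : (altChain.map fun l => l.2.length).prod = 360 := by decide +kernel

theorem alt_closure : Subgroup.closure ({pA, pB} : Set (Equiv.Perm (Fin 6))) = alternatingGroup (Fin 6) := by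
  have hle : Subgroup.closure ({pA, pB} : Set (Equiv.Perm (Fin 6))) ≤ alternatingGroup (Fin 6) := by
    rw [Subgroup.closure_le]
    rintro x (rfl | rfl) <;> exact Equiv.Perm.mem_alternatingGroup.2 (by decide +kernel)
  refine Subgroup.eq_of_le_of_card_ge hle ?_
  have hA : RepL pA altPA := by unfold RepL; decide +kernel
  have hB : RepL pB altPB := by unfold RepL; decide +kernel
  have hacc : ∀ a ∈ [altPB, altPA], ∃ σ ∈ Subgroup.closure ({pA, pB} : Set (Equiv.Perm (Fin 6))), RepL σ a := by
    intro a ha
    simp only [List.mem_cons, List.not_mem_nil, or_false] at ha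
    rcases ha with rfl | rfl
    exacts [⟨pB, Subgroup.subset_closure (by simp), hB⟩, ⟨pA, Subgroup.subset_closure (by simp), hA⟩]
  have h := altChain_ok
  rw [Bool.and_eq_true] at h
  have hlow := le_card_of_chainL altChain h.1 (Subgroup.closure ({pA, pB} : Set (Equiv.Perm (Fin 6))))
    fun l hl t ht => by
      have ht' := of_decide_eq_true (List.all_eq_true.1 (List.all_eq_true.1 h.2 l hl) t ht)
      rcases List.mem_cons.1 ht' with rfl | ht'
      · exact ⟨1, Subgroup.one_mem _, RepL.one⟩
      rcases List.mem_cons.1 ht' with rfl | ht'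
      · exact hacc _ (by simp)
      rcases List.mem_cons.1 ht' with rfl | ht'
      · exact hacc _ (by simp)
      · obtain ⟨e, he, rfl⟩ := List.mem_map.1 ht'
        exact mem_of_slpL altProg _ altProg_ok hacc e he
  rw [altChain_prod] at hlow
  refine le_trans ?_ hlow
  rw [nat_card_alternatingGroup, Nat.card_fin]
  rfl

theorem exists_KV_alt (hF9 : Fintype.card F9 = 9) :
    ∃ φ : KV bigV →* alternatingGroup (Fin 6), Function.Surjective φ ∧
      ∀ g : KV bigV, φ g = 1 ↔ (g : U6) ∈ OU := by
  classical
  letI := u6Action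
  letI : MulAction U6 (Set V6) := Set.mulActionSet
  have hshape := fun i : Fin 6 => List.all_eq_true.1 block_shape i (List.mem_range.2 i.2)
  simp only [Bool.and_eq_true, Nat.beq_eq, List.all_eq_true, Nat.blt_eq] at hshape
  have hncard : ∀ i : Fin 6, (blockSet i).ncard = 16 := fun i => by
    rw [blockSet, ncard_of_list ((List.isChain_iff_pairwise.1 (incrB_spec (hshape i).1.1.2)).imp
      fun hh => Nat.ne_of_lt hh) (hshape i).1.2]
    exact (hshape i).1.1.1
  have hmove : ∀ (g : U6) (i j : Fin 6),
      (∀ u ∈ blockL.getD i [], memV (blockL.getD j []) (mvC (cd g) u) = true) →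
      g • blockSet i = blockSet j := by
    intro g i j h
    refine Set.eq_of_subset_of_ncard_le ?_ ?_ (Set.toFinite _)
    · rintro _ ⟨w, hw, rfl⟩
      show vc (mat g *ᵥ w) ∈ blockL.getD j []
      rw [vc_mat]; exact memV_iff.1 (h _ hw)
    · rw [hncard j]
      show 16 ≤ ((fun w => g • w) '' blockSet i).ncard
      exact le_of_eq ((hncard i).symm.trans (Set.ncard_image_of_injective _ (MulAction.injective g)).symm)
  have hinj : Function.Injective blockSet := by
    intro i j h
    by_contra hne
    obtain ⟨w, hw⟩ : (blockSet i).Nonempty := Set.nonempty_of_ncard_ne_zero (by rw [hncard]; norm_num)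
    have hw' : w ∈ blockSet j := h ▸ hw
    have := (hshape i).2 j (List.mem_range.2 j.2)
    rw [Bool.or_eq_true, Nat.beq_eq, List.all_eq_true] at this
    have h2 := this.resolve_left (Fin.val_injective.ne hne) (vc w) hw
    rw [Bool.not_eq_true'] at h2
    exact Bool.noConfusion (h2.symm.trans (memV_iff.2 hw'))
  obtain ⟨a, ha, hca⟩ := alt_in altA (by simp)
  obtain ⟨b, hb, hcb⟩ := alt_in altB (by simp)
  have hbm := fun i : Fin 6 => List.all_eq_true.1 (block_moves i)
  simp only [Bool.and_eq_true, List.all_eq_true] at hbm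
  have hma : ∀ i, a • blockSet i = blockSet (pA i) := fun i =>
    hmove a i _ fun u hu => by rw [hca]; exact ((hbm i u hu).1).1
  have hmb : ∀ i, b • blockSet i = blockSet (pB i) := fun i =>
    hmove b i _ fun u hu => by rw [hcb]; exact ((hbm i u hu).1).2
  have hmo : ∀ g ∈ OU, ∀ i, g • blockSet i = blockSet i := by
    have h1 : OU ≤ ⨅ i, MulAction.stabilizer U6 (blockSet i) := by
      refine span_le fun c hc => ?_
      obtain ⟨g, -, rfl⟩ := oGens_in c hc
      refine ⟨g, Subgroup.mem_iInf.2 fun i => ?_, rfl⟩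
      exact hmove g i i fun u hu => (hbm i u hu).2 _ hc
    exact fun g hg i => Subgroup.mem_iInf.1 (h1 hg) i
  let ρ : Equiv.Perm (Fin 6) →* Equiv.Perm (Fin 6) := MonoidHom.id _
  have hρ : Function.Injective ρ := fun x y h => h
  let S : Subgroup U6 := Subgroup.closure {a, b} ⊔ OU
  have hSle : S ≤ KV bigV := sup_le (by
    rw [Subgroup.closure_le]; rintro x (rfl | rfl); exacts [ha, hb]) OU_le
  have hSeq : S ≤ equivarSub blockSet ρ := by
    refine sup_le ?_ fun g hg => ⟨1, fun i => by rw [map_one]; exact hmo g hg i⟩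
    rw [Subgroup.closure_le]
    rintro x (rfl | rfl)
    exacts [⟨pA, hma⟩, ⟨pB, hmb⟩]
  let ψ := equivarHom hinj hρ S hSeq
  have hrange : ψ.range = alternatingGroup (Fin 6) := by
    refine le_antisymm ?_ ?_
    · rintro _ ⟨⟨g, hg⟩, rfl⟩
      have hsub : S ≤ ⊤ := le_top
      have key : S.subgroupOf S ≤ (alternatingGroup (Fin 6)).comap ψ := by
        have hgen : (Subgroup.closure {a, b} ⊔ OU).subgroupOf S =
            (Subgroup.closure {a, b}).subgroupOf S ⊔ OU.subgroupOf S :=
          Subgroup.subgroupOf_sup le_sup_left le_sup_right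
        show (Subgroup.closure {a, b} ⊔ OU).subgroupOf S ≤ _
        rw [hgen]
        refine sup_le ?_ ?_
        · intro x hx
          have hpre : Subgroup.closure {a, b} ≤ ((alternatingGroup (Fin 6)).comap ψ).map S.subtype := by
            rw [Subgroup.closure_le]
            rintro y (rfl | rfl)
            · refine ⟨⟨y, Subgroup.mem_sup_left (Subgroup.subset_closure (by simp))⟩, ?_, rfl⟩
              show ψ _ ∈ alternatingGroup (Fin 6)
              rw [equivarHom_eq hinj hρ S hSeq (m := pA) hma, Equiv.Perm.mem_alternatingGroup]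
              decide +kernel
            · refine ⟨⟨y, Subgroup.mem_sup_left (Subgroup.subset_closure (by simp))⟩, ?_, rfl⟩
              show ψ _ ∈ alternatingGroup (Fin 6)
              rw [equivarHom_eq hinj hρ S hSeq (m := pB) hmb, Equiv.Perm.mem_alternatingGroup]
              decide +kernel
          obtain ⟨y, hy, e⟩ := hpre (Subgroup.mem_subgroupOf.1 hx)
          exact (Subtype.ext e : y = x) ▸ hy
        · intro x hx
          rw [Subgroup.mem_comap, equivarHom_eq hinj hρ S hSeq (m := 1) (fun i => by rw [map_one]; exact hmo _ hx i)]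
          exact Subgroup.one_mem _
      exact key (show (⟨g, hg⟩ : S) ∈ S.subgroupOf S from hg)
    · rw [← alt_closure, Subgroup.closure_le]
      rintro x (rfl | rfl)
      · exact ⟨⟨a, Subgroup.mem_sup_left (Subgroup.subset_closure (by simp))⟩,
          equivarHom_eq hinj hρ S hSeq hma⟩
      · exact ⟨⟨b, Subgroup.mem_sup_left (Subgroup.subset_closure (by simp))⟩,
          equivarHom_eq hinj hρ S hSeq hmb⟩
  have hkerge : OU.subgroupOf S ≤ ψ.ker := fun x hx =>
    equivarHom_eq hinj hρ S hSeq (fun i => by rw [map_one]; exact hmo _ hx i)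
  have hOc : Nat.card (OU.subgroupOf S) = 16 := by
    rw [Nat.card_congr (Subgroup.subgroupOfEquivOfLe (le_sup_right : OU ≤ S)).toEquiv, card_OU]
  have h360 : Nat.card ψ.range = 360 := by
    rw [hrange, nat_card_alternatingGroup, Nat.card_fin]; rfl
  have hcard := Subgroup.card_mul_index ψ.ker
  rw [Subgroup.index_ker, h360] at hcard
  have hk16 : 16 ≤ Nat.card ψ.ker := hOc ▸ Subgroup.card_le_of_le hkerge
  have hS5760 : Nat.card S ≤ 5760 := card_KV_big hF9 ▸ Subgroup.card_le_of_le hSle
  have hkeq : OU.subgroupOf S = ψ.ker := Subgroup.eq_of_le_of_card_ge hkerge (by omega)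
  have hSKV : S = KV bigV := Subgroup.eq_of_le_of_card_ge hSle (by rw [card_KV_big hF9]; omega)
  let e1 : KV bigV ≃* S := MulEquiv.subgroupCongr hSKV.symm
  let e2 : ψ.range ≃* alternatingGroup (Fin 6) := MulEquiv.subgroupCongr hrange
  refine ⟨e2.toMonoidHom.comp (ψ.rangeRestrict.comp e1.toMonoidHom),
    e2.surjective.comp (ψ.rangeRestrict_surjective.comp e1.surjective), fun g => ?_⟩
  rw [MonoidHom.comp_apply, MulEquiv.coe_toMonoidHom, MulEquiv.map_eq_one_iff, ← MonoidHom.mem_ker,
    MonoidHom.mem_ker, MonoidHom.comp_apply, ← OneMemClass.coe_eq_one, MonoidHom.coe_rangeRestrict,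
    ← MonoidHom.mem_ker, ← hkeq, Subgroup.mem_subgroupOf]
  rfl

end CfsgLib.Spor.LargeFi
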