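import Mathlib
import Cfsg.Agent.Lib.Classical.PSLSimple
import Cfsg.Agent.Lib.Spor.TransvectionFive
import Cfsg.Agent.Lib.Small.A6Centralizer
import Cfsg.Agent.Lib.Fusion.MaxClassTwo
import Cfsg.Agent.Lib.Spor.LargeFi.StabAlt

/-!
The automorphisms of an elementary group of order eight inside `SL₃(2)`, and extensions of `A₆` by
`SL₃(2)`: they are direct products.
-/

set_option autoImplicit false
set_option maxRecDepth 100000

namespace CfsgLib.Spor.LargeFi

/-- the special linear group of degree three over two elements -/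
abbrev SL32 : Type := Matrix.SpecialLinearGroup (Fin 3) (ZMod 2)

theorem exists_mulAut_SL32 {V : Type*} [Group V] [Finite V] (hc : ∀ a b : V, a * b = b * a)
    (h2 : ∀ a : V, a * a = 1) (h8 : Nat.card V = 8) :
    ∃ e : MulAut V →* SL32, Function.Injective e := by
  classical
  letI : CommGroup V := { (inferInstance : Group V) with mul_comm := hc }
  letI : Module (ZMod 2) (Additive V) := AddCommGroup.zmodModule fun a => by
    rw [two_nsmul]; exact h2 a.toMul
  haveI : Finite (Additive V) := ‹Finite V›
  have hr : Module.finrank (ZMod 2) (Additive V) = 3 := by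
    have h := Module.natCard_eq_pow_finrank (K := ZMod 2) (V := Additive V)
    rw [Nat.card_congr (Additive.toMul (α := V)), h8, Nat.card_zmod,
      show (8 : ℕ) = 2 ^ 3 from rfl] at h
    exact (Nat.pow_right_injective le_rfl h).symm
  let b := Module.finBasisOfFinrankEq (ZMod 2) (Additive V) hr
  let lin : MulAut V → Module.End (ZMod 2) (Additive V) := fun φ =>
    (MonoidHom.toAdditive φ.toMonoidHom).toZModLinearMap 2
  let T : MulAut V →* Matrix (Fin 3) (Fin 3) (ZMod 2) :=
    { toFun := fun φ => LinearMap.toMatrixAlgEquiv b (lin φ)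
      map_one' := by
        rw [show lin 1 = 1 from LinearMap.ext fun v => rfl, map_one]
      map_mul' := fun φ ψ => by
        rw [show lin (φ * ψ) = lin φ * lin ψ from LinearMap.ext fun v => rfl, map_mul] }
  have hdet : ∀ φ, (T φ).det = 1 := fun φ => by
    refine Tv5.det_eq_one_of_ne_zero fun h0 => ?_
    have h1 : (T φ).det * (T φ⁻¹).det = 1 := by
      rw [← Matrix.det_mul, ← map_mul, mul_inv_cancel, map_one, Matrix.det_one]
    rw [h0, zero_mul] at h1
    exact zero_ne_one h1
  refine ⟨{ toFun := fun φ => ⟨T φ, hdet φ⟩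
            map_one' := Subtype.ext (map_one T)
            map_mul' := fun φ ψ => Subtype.ext (map_mul T φ ψ) }, fun φ ψ e => ?_⟩
  have e1 : T φ = T ψ := congrArg Subtype.val e
  have e2 : lin φ = lin ψ := (LinearMap.toMatrixAlgEquiv b).injective e1
  exact MulEquiv.ext fun v => congrArg Additive.toMul (LinearMap.congr_fun e2 (Additive.ofMul v))

theorem isSimpleGroup_SL32 : IsSimpleGroup SL32 := by
  haveI := CfsgLib.Classical.isSimpleGroup_PSL_fin (F := ZMod 2) 3 (by norm_num) (by norm_num)
  exact ((QuotientGroup.quotientMulEquivOfEq CfsgLib.Small.center_SL_three_two).trans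
    QuotientGroup.quotientBot).symm.isSimpleGroup

theorem isSimpleGroup_A6 : IsSimpleGroup (alternatingGroup (Fin 6)) :=
  alternatingGroup.isSimpleGroup (by simp)

theorem card_A6 : Nat.card (alternatingGroup (Fin 6)) = 360 := by
  rw [nat_card_alternatingGroup, Nat.card_fin]; rfl

theorem count_A6 : (Finset.univ.filter fun u : alternatingGroup (Fin 6) =>
    u ^ 3 ≠ 1 ∨ u = 1).card = 280 := by decide +kernel

theorem pA_mem : pA ∈ alternatingGroup (Fin 6) := by
  rw [← alt_closure]; exact Subgroup.subset_closure (by simp)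

theorem pB_mem : pB ∈ alternatingGroup (Fin 6) := by
  rw [← alt_closure]; exact Subgroup.subset_closure (by simp)

theorem card_mulAut_A6 : Nat.card (MulAut (alternatingGroup (Fin 6))) < 60480 := by
  classical
  let a : alternatingGroup (Fin 6) := ⟨pB, pB_mem⟩
  let b : alternatingGroup (Fin 6) := ⟨pA, pA_mem⟩
  have ha : orderOf a = 3 :=
    orderOf_eq_prime (by decide +kernel) (by decide +kernel)
  have hb : orderOf b = 5 :=
    haveI : Fact (Nat.Prime 5) := ⟨by norm_num⟩
    orderOf_eq_prime (by decide +kernel) (by decide +kernel)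
  have hgen : Subgroup.closure {a, b} = ⊤ := by
    refine eq_top_iff.2 fun w _ => ?_
    have hw : (w : Equiv.Perm (Fin 6)) ∈
        (Subgroup.closure {a, b}).map (alternatingGroup (Fin 6)).subtype := by
      rw [MonoidHom.map_closure, Set.image_pair, Set.pair_comm]
      exact alt_closure.ge w.2
    obtain ⟨v, hv, e⟩ := hw
    exact Subtype.ext e ▸ hv
  have hba : b ∉ Subgroup.zpowers a := fun h => by
    have := Subgroup.orderOf_dvd_natCard _ h
    rw [Nat.card_zpowers, ha, hb] at this
    norm_num at this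
  refine lt_of_le_of_lt (CfsgLib.Fusion.MC.card_mulAut_le_of_pair hgen hba
    (Finset.univ.filter fun u => u ^ 3 ≠ 1 ∨ u = 1) fun u hu e => ?_) ?_
  · rw [ha] at e
    rcases (Finset.mem_filter.1 hu).2 with h | h
    · exact h (by rw [← e, pow_orderOf_eq_one])
    · rw [h, orderOf_one] at e; norm_num at e
  · rw [count_A6, ha, card_A6]; norm_num

/-- An extension of `A₆` by `SL₃(2)` is the direct product. -/
theorem split_six {N : Type*} [Group N] [Finite N] (C : Subgroup N) [C.Normal]
    (eC : C ≃* alternatingGroup (Fin 6)) (eQ : N ⧸ C ≃* SL32) :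
    Nonempty (N ≃* SL32 × alternatingGroup (Fin 6)) := by
  haveI := isSimpleGroup_A6
  haveI := isSimpleGroup_SL32
  haveI : IsSimpleGroup (N ⧸ C) := eQ.isSimpleGroup
  set θ : N →* MulAut C := MulAut.conjNormal
  have hNC : Nat.card N = 60480 := by
    rw [C.card_eq_card_quotient_mul_card_subgroup, Nat.card_congr eQ.toEquiv,
      Nat.card_congr eC.toEquiv, Tv5.card_SL3, card_A6]
  have hLne : θ.ker ≠ ⊥ := fun h => by
    have h1 := Nat.card_le_card_of_injective θ ((MonoidHom.ker_eq_bot_iff θ).1 h)
    rw [Nat.card_congr (MulAut.congr eC).toEquiv, hNC] at h1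
    have := card_mulAut_A6
    omega
  have hdisj : ∀ x ∈ θ.ker, x ∈ C → x = 1 := by
    intro x hx hxC
    have hcen : (⟨x, hxC⟩ : C) ∈ Subgroup.center C := Subgroup.mem_center_iff.2 fun y => by
      have h := congrArg Subtype.val (DFunLike.congr_fun (MonoidHom.mem_ker.1 hx) y)
      rw [MulAut.conjNormal_apply, MulAut.one_apply] at h
      exact Subtype.ext (mul_inv_eq_iff_eq_mul.1 h).symm
    have h1 : eC ⟨x, hxC⟩ ∈ Subgroup.center (alternatingGroup (Fin 6)) :=
      Subgroup.mem_center_iff.2 fun y => by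
        obtain ⟨y, rfl⟩ := eC.surjective y
        rw [← map_mul, ← map_mul, Subgroup.mem_center_iff.1 hcen y]
    have hbot : Subgroup.center (alternatingGroup (Fin 6)) = ⊥ := by
      refine (Subgroup.Normal.eq_bot_or_eq_top inferInstance).resolve_right fun h => ?_
      have h' : (⟨pA, pA_mem⟩ : alternatingGroup (Fin 6)) ∈ Subgroup.center (alternatingGroup (Fin 6)) :=
        h ▸ Subgroup.mem_top _
      have := congrArg Subtype.val (Subgroup.mem_center_iff.1 h' ⟨pB, pB_mem⟩)
      revert this
      show pB * pA = pA * pB → False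
      decide +kernel
    rw [hbot, Subgroup.mem_bot, MulEquiv.map_eq_one_iff] at h1
    exact congrArg Subtype.val h1
  let f : θ.ker →* N ⧸ C := (QuotientGroup.mk' C).comp θ.ker.subtype
  have hfi : Function.Injective f := (injective_iff_map_eq_one f).2 fun x hx =>
    Subtype.ext (hdisj x x.2 ((QuotientGroup.eq_one_iff (N := C) (x : N)).1 hx))
  have hfs : Function.Surjective f := by
    haveI : f.range.Normal := by
      rw [MonoidHom.range_eq_map, ← Subgroup.map_map, ← MonoidHom.range_eq_map, Subgroup.range_subtype]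
      exact Subgroup.Normal.map inferInstance _ (QuotientGroup.mk'_surjective C)
    refine MonoidHom.range_eq_top.1 ((Subgroup.Normal.eq_bot_or_eq_top inferInstance).resolve_left
      fun h => hLne ?_)
    rw [MonoidHom.range_eq_bot_iff] at h
    exact eq_bot_iff.2 fun x hx => Subgroup.mem_bot.2
      (congrArg Subtype.val (hfi (show f ⟨x, hx⟩ = f 1 by rw [h]; rfl)))
  have hLc : Nat.card θ.ker = 168 := by
    rw [Nat.card_eq_of_bijective f ⟨hfi, hfs⟩, Nat.card_congr eQ.toEquiv, Tv5.card_SL3]
  have hq : Nat.card (N ⧸ θ.ker) = 360 := by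
    have h1 := θ.ker.card_eq_card_quotient_mul_card_subgroup
    rw [hNC, hLc] at h1
    omega
  let g : C →* N ⧸ θ.ker := (QuotientGroup.mk' θ.ker).comp C.subtype
  have hgi : Function.Injective g := (injective_iff_map_eq_one g).2 fun x hx =>
    Subtype.ext (hdisj x ((QuotientGroup.eq_one_iff (N := θ.ker) (x : N)).1 hx) x.2)
  have hgb : Function.Bijective g :=
    hgi.bijective_of_nat_card_le (by rw [hq, Nat.card_congr eC.toEquiv, card_A6])
  let F : N →* (N ⧸ C) × (N ⧸ θ.ker) := (QuotientGroup.mk' C).prod (QuotientGroup.mk' θ.ker)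
  have hFi : Function.Injective F := (injective_iff_map_eq_one F).2 fun x hx =>
    hdisj x ((QuotientGroup.eq_one_iff (N := θ.ker) x).1 (congrArg Prod.snd hx))
      ((QuotientGroup.eq_one_iff (N := C) x).1 (congrArg Prod.fst hx))
  have hFb : Function.Bijective F := hFi.bijective_of_nat_card_le (by
    rw [Nat.card_prod, hq, hNC, Nat.card_congr eQ.toEquiv, Tv5.card_SL3])
  exact ⟨(MulEquiv.ofBijective F hFb).trans
    (eQ.prodCongr ((MulEquiv.ofBijective g hgb).symm.trans eC))⟩

theorem normal_two_bot_simple {X : Type*} [Group X] [Finite X] [IsSimpleGroup X]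
    (h : 3 ∣ Nat.card X) (P : Subgroup X) [P.Normal] (hP : IsPGroup 2 P) : P = ⊥ := by
  refine (Subgroup.Normal.eq_bot_or_eq_top inferInstance).resolve_right fun ht => ?_
  haveI : Fact (Nat.Prime 2) := ⟨Nat.prime_two⟩
  obtain ⟨n, hn⟩ := IsPGroup.iff_card.1 hP
  rw [ht, Subgroup.card_top] at hn
  rw [hn] at h
  exact absurd ((Nat.prime_three.dvd_of_dvd_pow) h) (by norm_num)

theorem normal_two_bot_prod {N : Type*} [Group N] [Finite N]
    (e : N ≃* SL32 × alternatingGroup (Fin 6)) (P : Subgroup N) [P.Normal] (hP : IsPGroup 2 P) :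
    P = ⊥ := by
  haveI := isSimpleGroup_A6
  haveI := isSimpleGroup_SL32
  haveI h1 : (P.map ((MonoidHom.fst _ _).comp e.toMonoidHom)).Normal :=
    Subgroup.Normal.map inferInstance _ (Prod.fst_surjective.comp e.surjective)
  haveI h2 : (P.map ((MonoidHom.snd _ _).comp e.toMonoidHom)).Normal :=
    Subgroup.Normal.map inferInstance _ (Prod.snd_surjective.comp e.surjective)
  have e1 := normal_two_bot_simple (by rw [Tv5.card_SL3]; norm_num) (P.map ((MonoidHom.fst _ _).comp e.toMonoidHom)) (hP.map _)
  have e2 := normal_two_bot_simple (by rw [card_A6]; norm_num) (P.map ((MonoidHom.snd _ _).comp e.toMonoidHom)) (hP.map _)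
  refine eq_bot_iff.2 fun x hx => Subgroup.mem_bot.2 (e.injective ?_)
  rw [map_one]
  exact Prod.ext ((Subgroup.mem_bot).1 (e1.le (Subgroup.mem_map_of_mem _ hx)))
    ((Subgroup.mem_bot).1 (e2.le (Subgroup.mem_map_of_mem _ hx)))

end CfsgLib.Spor.LargeFi
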