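import Cfsg.Agent.Lib.Spor.LargeFi.Orbits

/-!
Coded semilinear maps: the code `2 c + f` stands for `v ↦ c · galᶠ v`.
-/

set_option autoImplicit false
set_option maxRecDepth 100000

namespace CfsgLib.Spor.LargeFi

open CfsgLib.Spor.U62
open Matrix

/-- the field exponent of a code -/
def flag (p : ℕ) : Bool := Nat.beq (Nat.land p 1) 1

/-- the matrix code of a semilinear code -/
def base (p : ℕ) : ℕ := Nat.shiftRight p 1

/-- the map of a semilinear code -/
def sAct (p : ℕ) (v : V6) : V6 := ofCode (base p) *ᵥ (if flag p then gal v else v)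

/-- the map of a semilinear code on codes -/
def sActC (p u : ℕ) : ℕ := mvC (base p) (if flag p then galV u else u)

theorem vc_sAct (p : ℕ) (v : V6) : vc (sAct p v) = sActC p (vc v) := by
  rw [sAct, sActC, vc_mulVec]
  cases flag p <;> simp [vc_gal]

/-- the Frobenius on matrix codes -/
def galM (c : ℕ) : ℕ := build fun i j => sqN (ent c i j)

/-- composition of semilinear codes -/
def sMul (p q : ℕ) : ℕ :=
  2 * mulC (base p) (if flag p then galM (base q) else base q) + if xor (flag p) (flag q) then 1 else 0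

theorem base_eq (c : ℕ) (b : Bool) :
    base (2 * c + if b then 1 else 0) = c ∧ flag (2 * c + if b then 1 else 0) = b := by
  rw [base, flag, show Nat.shiftRight (2 * c + if b then 1 else 0) 1 =
    (2 * c + if b then 1 else 0) >>> 1 from rfl, Nat.shiftRight_eq_div_pow,
    show Nat.land (2 * c + if b then 1 else 0) 1 = (2 * c + if b then 1 else 0) &&& 1 from rfl,
    Nat.and_one_is_mod]
  cases b <;> refine ⟨by simp only [Bool.false_eq_true, if_true, if_false, pow_one]; omega, ?_⟩
  · simp only [Bool.false_eq_true, if_false]; rw [← Bool.not_eq_true, Nat.beq_eq]; omega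
  · simp only [if_true]; rw [Nat.beq_eq]; omega

theorem gal_gal (v : V6) : gal (gal v) = v := by
  have key : ∀ a b : ZMod 2, ((⟨a, b⟩ : K4) ^ 2) ^ 2 = ⟨a, b⟩ := by decide +kernel
  funext i
  exact key _ _

theorem gal_mulVec (c : ℕ) (v : V6) : gal (ofCode c *ᵥ v) = ofCode (galM c) *ᵥ gal v := by
  have hs : ∀ x < 4, kOf (sqN x) = kOf x ^ 2 := by decide +kernel
  funext i
  show (∑ k, ofCode c i k * v k) ^ 2 = ∑ k, ofCode (galM c) i k * v k ^ 2
  rw [sum_pow_char 2]
  refine Finset.sum_congr rfl fun k _ => ?_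
  rw [mul_pow]
  congr 1
  show kOf (ent c i k) ^ 2 = kOf (ent (galM c) i k)
  rw [galM, ent_build (fun _ _ => sqN_lt _) i.2 k.2, hs _ (ent_lt _ _ _)]

theorem sAct_sMul (p q : ℕ) (v : V6) : sAct (sMul p q) v = sAct p (sAct q v) := by
  rw [sAct, sAct, sAct, sMul, (base_eq _ _).1, (base_eq _ _).2, ofCode_mulC, ← Matrix.mulVec_mulVec]
  congr 1
  cases flag p <;> cases flag q <;> simp [gal_mulVec, gal_gal]

end CfsgLib.Spor.LargeFi
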