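import Cfsg.Agent.Lib.Spor.LargeFi.TwoOrbits
import Cfsg.Agent.Lib.Spor.LargeFi.Semi
import Cfsg.Agent.Lib.Spor.LargeFi.StabData

/-!
Stabilisers in a model, and the property of having the standard outer element.
-/

set_option autoImplicit false

namespace CfsgLib.Spor.LargeFi

open CfsgLib.Spor.U62 CfsgLib.ThreeTransp
open Matrix

variable {H : Type*} [Group H] [Finite H] {Q : Subgroup H} [Q.Normal] {z : H}

namespace Model

variable (D : Model Q z)

/-- the stabiliser of a vector -/
def vstab (v : V6) : Subgroup H where
  carrier := {h | D.act h v = v}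
  one_mem' := by show D.act 1 v = v; rw [map_one]; rfl
  mul_mem' := fun {a b} ha hb => by
    show D.act (a * b) v = v
    rw [D.act_mul_apply, show D.act b v = v from hb]
    exact ha
  inv_mem' := fun {a} ha => by
    show D.act a⁻¹ v = v
    conv_lhs => rw [← show D.act a v = v from ha]
    exact D.act_inv_apply a v

omit [Finite H] in
theorem mem_vstab {v : V6} {h : H} : h ∈ D.vstab v ↔ D.act h v = v := Iff.rfl

/-- some element outside `M` acts by a semilinear element of the standard Sylow 2-subgroup -/
def HasOuter : Prop :=
  ∃ h, h ∉ D.M ∧ ∃ p ∈ sylL, flag p = true ∧ ∀ v, D.act h v = sAct p v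

end Model

end CfsgLib.Spor.LargeFi
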