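import Cfsg.Agent.Lib.Spor.LargeFi.Inversion
import Cfsg.Agent.Lib.Spor.LargeFi.Elem
import Cfsg.Agent.Lib.Spor.LargeFi.Setup

/-!
In a group of large Fischer type the elements outside the subgroup of index two act semilinearly.
-/

set_option autoImplicit false

namespace CfsgLib.Spor.LargeFi

open CfsgLib.ThreeTransp
open Matrix

variable {G : Type*} [Group G] [Finite G] {z : G}

theorem xcent_map {Q : Subgroup (Subgroup.centralizer ({z} : Set G))} (h : XCent Q (zH z)) :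
    XCent (Q.map (Subgroup.centralizer ({z} : Set G)).subtype) z where
  mem := ⟨zH z, h.mem, rfl⟩
  inv := congrArg Subtype.val h.inv
  ne_one := fun e => h.ne_one (Subtype.ext e)
  comm := by
    rintro _ ⟨q, hq, rfl⟩
    exact congrArg Subtype.val (h.comm q hq)
  center := by
    rintro _ ⟨c, hc, rfl⟩ hcen
    rcases h.center c hc (fun q hq => Subtype.ext (hcen _ ⟨q, hq, rfl⟩)) with e | e
    · exact Or.inl (congrArg Subtype.val e)
    · exact Or.inr (congrArg Subtype.val e)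
  commEl := by
    rintro _ ⟨a, ha, rfl⟩ _ ⟨b, hb, rfl⟩
    exact (h.commEl a ha b hb).imp (congrArg Subtype.val) (congrArg Subtype.val)
  sq := by
    rintro _ ⟨a, ha, rfl⟩
    exact (h.sq a ha).imp (congrArg Subtype.val) (congrArg Subtype.val)
  cent := fun c hc => by
    have hcz : c ∈ Subgroup.centralizer ({z} : Set G) :=
      Subgroup.mem_centralizer_singleton_iff.2
        (Subgroup.mem_centralizer_iff.1 hc z ⟨zH z, h.mem, rfl⟩).symm
    exact ⟨⟨c, hcz⟩, h.cent (Subgroup.mem_centralizer_iff.2 fun q hq =>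
      Subtype.ext (Subgroup.mem_centralizer_iff.1 hc _ ⟨q, hq, rfl⟩)), rfl⟩
  norm := by
    rintro c hc _ ⟨q, hq, rfl⟩
    have hcz : c ∈ Subgroup.centralizer ({z} : Set G) := Subgroup.mem_centralizer_singleton_iff.2 hc
    exact ⟨_, h.norm ⟨c, hcz⟩ (Subtype.ext hc) q hq, rfl⟩

theorem outer_semi {Q : Subgroup (Subgroup.centralizer ({z} : Set G))} [Q.Normal]
    (hF : Cfsg.IsOfLargeFischerTypeAt z Q) (D : Model Q (zH z))
    {h : Subgroup.centralizer ({z} : Set G)} (hh : h ∉ D.M) :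
    ∀ v, D.act h (om • v) = (om ^ 2) • D.act h v := by
  refine (D.act_semi h).resolve_left fun hlin => ?_
  have hM : ∀ m ∈ D.M, ∀ v, D.act m (om • v) = om • D.act m v := by
    intro m hm v
    obtain ⟨g, -, e⟩ := D.M_lin m hm
    rw [e, e, Matrix.mulVec_smul]
  have hall : ∀ k, ∀ v, D.act k (om • v) = om • D.act k v := by
    intro k v
    by_cases hk : k ∈ D.M
    · exact hM k hk v
    · have hm : h⁻¹ * k ∈ D.M :=
        (Subgroup.mul_mem_iff_of_index_two D.M_index).2 ⟨fun a => absurd (inv_mem_iff.1 a) hh, fun a => absurd a hk⟩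
      have e : ∀ w, D.act k w = D.act h (D.act (h⁻¹ * k) w) := fun w => by
        rw [← D.act_mul_apply, mul_inv_cancel_left]
      rw [e, e, hM _ hm, hlin]
  obtain ⟨x, hx3, hx⟩ := D.exists_scalar
  obtain ⟨⟨-, -, -, -, g, ⟨hq, hgQ⟩, hne⟩, -⟩ := hF
  have hmapcard : Nat.card ↥(Q.map (Subgroup.centralizer ({z} : Set G)).subtype) = 2 ^ (2 * 6 + 1) := by
    rw [Subgroup.card_map_of_injective (Subgroup.subtype_injective _), D.card_Q]
  have hfix : ∀ q ∈ Q.map (Subgroup.centralizer ({z} : Set G)).subtype,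
      (x : G) * q = q * x → q = 1 ∨ q = z := by
    rintro _ ⟨q, hq', rfl⟩ hc
    exact (D.fixed_central hx hq' (Subtype.ext hc)).imp (congrArg Subtype.val) (congrArg Subtype.val)
  have hCV : ∀ c : G, c * z = z * c → (∀ q ∈ Q.map (Subgroup.centralizer ({z} : Set G)).subtype,
      ModZ z (c * q * c⁻¹) q) → c ∈ Q.map (Subgroup.centralizer ({z} : Set G)).subtype := by
    intro c hc htriv
    have hcz : c ∈ Subgroup.centralizer ({z} : Set G) := Subgroup.mem_centralizer_singleton_iff.2 hc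
    refine ⟨⟨c, hcz⟩, (D.ker_act _).1 (AddMonoidHom.ext fun v => ?_), rfl⟩
    show D.act ⟨c, hcz⟩ v = v
    obtain ⟨q, rfl⟩ := D.vec_surj v
    have hm := D.xc.norm ⟨c, hcz⟩ (D.zc _) q q.2
    rw [← D.vec_conj' _ q hm]
    rcases htriv _ ⟨q, q.2, rfl⟩ with e | e
    · congr 1; exact Subtype.ext (Subtype.ext e)
    · rw [show (⟨_, hm⟩ : Q) = ⟨zH z, D.xc.mem⟩ * q from Subtype.ext (Subtype.ext e), D.vec_mul,
        (D.vec_eq_zero ⟨zH z, D.xc.mem⟩).2 (Or.inr rfl), zero_add]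
  obtain ⟨d, hd, hout⟩ := three_moved (x := (x : G)) (g := g) (xcent_map D.xc)
    ⟨_, hgQ, rfl⟩ hne (w := 6) (by norm_num) hmapcard
    (congrArg Subtype.val (D.zc x)) (congrArg Subtype.val hx3) hfix hCV
  refine hout ?_
  have hdz : d ∈ Subgroup.centralizer ({z} : Set G) := Subgroup.mem_centralizer_singleton_iff.2 hd
  refine ⟨⟨d, hdz⟩ * x * ⟨d, hdz⟩⁻¹ * x⁻¹, (D.ker_act _).1 (AddMonoidHom.ext fun v => ?_), rfl⟩
  show D.act (⟨d, hdz⟩ * x * ⟨d, hdz⟩⁻¹ * x⁻¹) v = v
  rw [D.act_mul_apply, D.act_mul_apply, D.act_mul_apply, hx, hall, ← D.act_mul_apply ⟨d, hdz⟩,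
    mul_inv_cancel, map_one]
  show om • D.act x⁻¹ v = v
  rw [← hx, ← D.act_mul_apply, mul_inv_cancel, map_one]
  rfl

end CfsgLib.Spor.LargeFi
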