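import Cfsg.Agent.Lib.Spor.LargeFi.LineCheck
import Cfsg.Agent.Lib.Spor.LargeFi.OuterSemi

/-!
A conjugate `s ≠ z` of the involution inside `Q`: its vector is big, the two extraspecial groups
meet in order `2^7`, and the intersection contains the lifts of the whole line through the vector.
-/

set_option autoImplicit false
set_option maxRecDepth 100000

namespace CfsgLib.Spor.LargeFi

open CfsgLib.Spor.U62 CfsgLib.ThreeTransp
open Matrix

theorem lineT_in {c : ℕ} (hc : c ∈ fiveC :: lineT) : In (KV bigV) c := by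
  refine In.prog lineProg_ok (fun d hd => ?_) c hc
  rcases List.mem_append.1 hd with h | h
  exacts [oGens_in d h, alt_in d h]

theorem orthB_pol {u v : ℕ} : orthB u v = true ↔ polB (vOf u) (vOf v) = 0 := by
  have hl : ∀ a, nfC a < 4 := fun a => dot6_lt _ _
  have e : nf (vOf u + vOf v) = kOf (nfC (Nat.xor u v)) := by rw [kOf_nfC, vOf_xor]
  rw [orthB, Nat.beq_eq, polB, e]
  constructor
  · intro h
    rw [h, kOf_add _ (hl _) _ (hl _), kOf_nfC, kOf_nfC]
    calc _ = (nf (vOf u) + nf (vOf u)) + (nf (vOf v) + nf (vOf v)) := by abel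
      _ = 0 := by rw [k_two, k_two, add_zero]
  · intro h
    refine kOf_inj _ (hl _) _ (xor_lt (hl _) (hl _)) ?_
    rw [kOf_add _ (hl _) _ (hl _), kOf_nfC u, kOf_nfC v]
    calc kOf (nfC (Nat.xor u v)) = (kOf (nfC (Nat.xor u v)) + nf (vOf u) + nf (vOf v)) +
          (nf (vOf u) + nf (vOf v)) := by
          calc _ = kOf (nfC (Nat.xor u v)) + (nf (vOf u) + nf (vOf u)) + (nf (vOf v) + nf (vOf v)) := by
                rw [k_two, k_two, add_zero, add_zero]
            _ = _ := by abel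
      _ = _ := by rw [h, zero_add]

theorem lineL_closed : 0 ∈ lineL ∧ bigRoot ∈ lineL ∧ smC 2 bigRoot ∈ lineL ∧
    (∀ u ∈ lineL, u < 4096 ∧ nfC u = 0 ∧ u ∈ perpL ∧ ∀ w ∈ lineL, Nat.xor u w ∈ lineL) := by
  have h := line_facts
  simp only [Bool.and_eq_true, List.all_eq_true, memV_iff, Nat.blt_eq, Nat.beq_eq] at h
  refine ⟨by simp [lineL], by simp [lineL], by simp [lineL], fun u hu => ?_⟩
  exact ⟨(h.1.1.1 u hu).1, (h.2 u hu).1, (h.2 u hu).2, (h.1.1.1 u hu).2⟩

theorem lineL_nodup : lineL.Nodup := by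
  have h := line_facts
  simp only [Bool.and_eq_true] at h
  exact (List.isChain_iff_pairwise.1 (incrB_spec h.1.1.2)).imp fun hh => Nat.ne_of_lt hh

theorem perpL_lt {u : ℕ} (hu : u ∈ perpL) : u < 4096 := by
  have h := perp_facts
  simp only [Bool.and_eq_true, List.all_eq_true, Nat.blt_eq] at h
  exact h.2 u hu

theorem perpL_nodup : perpL.Nodup ∧ perpL.length = 1024 := by
  have h := perp_facts
  simp only [Bool.and_eq_true, Nat.beq_eq] at h
  exact ⟨(List.isChain_iff_pairwise.1 (incrB_spec h.1.1.1)).imp fun hh => Nat.ne_of_lt hh, h.1.1.2⟩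

theorem mem_perpL (v : V6) : vc v ∈ perpL ↔
    polB v bigV = 0 ∧ polB v (om • bigV) = 0 := by
  have h := List.all_eq_true.1 perp_spec (vc v) (List.mem_range.2 (vc_lt v))
  simp only [beq_iff_eq] at h
  have h2 : smC 2 bigRoot = vc (om • bigV) := by rw [vc_om_smul, vc_bigV]
  rw [← inM_mask, h, Bool.and_eq_true, orthB_pol, orthB_pol, vOf_vc, h2, vOf_vc, ← vc_bigV, vOf_vc]

namespace Model

section

variable {H : Type*} [Group H] [Finite H] {Q : Subgroup H} [Q.Normal] {z : H} (D : Model Q z)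

omit [Finite H] in
theorem comm_pol (a b : Q) : (a : H) * b = b * a ↔ polB (D.vec a) (D.vec b) = 0 := by
  rw [D.vec_comm, polB, hermForm_polar]
  exact ⟨fun h => by rw [h]; rfl, fun h => congrArg QuadraticAlgebra.re h⟩

omit [Finite H] in
theorem card_pre (S : Subgroup H) (L : List ℕ) (hnd : L.Nodup) (hlt : ∀ u ∈ L, u < 4096)
    (hS : ∀ h, h ∈ S ↔ ∃ hq : h ∈ Q, vc (D.vec ⟨h, hq⟩) ∈ L) : Nat.card S = 2 * L.length := by
  classical
  have hzQ := D.xc.mem
  have hvz : D.vec ⟨z, hzQ⟩ = 0 := (D.vec_eq_zero _).2 (Or.inr rfl)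
  choose f hf using fun u : L.toFinset => D.vec_surj (vOf u)
  have hfu : ∀ u : L.toFinset, vc (D.vec (f u)) = u := fun u => by
    rw [hf, vc_vOf (hlt _ (List.mem_toFinset.1 u.2))]
  have hmem : ∀ (c : Bool) (q : Q), (if c then z else 1) * (q : H) ∈ Q := fun c q =>
    mul_mem (by split_ifs <;> [exact hzQ; exact one_mem _]) q.2
  have hv : ∀ (c : Bool) (q : Q) (hm : (if c then z else 1) * (q : H) ∈ Q),
      D.vec ⟨_, hm⟩ = D.vec q := by
    intro c q hm
    cases c
    · congr 1; exact Subtype.ext (by simp)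
    · rw [show (⟨_, hm⟩ : Q) = ⟨z, hzQ⟩ * q from Subtype.ext (by simp), D.vec_mul, hvz, zero_add]
  let F : Bool × L.toFinset → S := fun s => ⟨(if s.1 then z else 1) * (f s.2 : H),
    (hS _).2 ⟨hmem _ _, by rw [hv, hfu]; exact List.mem_toFinset.1 s.2.2⟩⟩
  have hbij : Function.Bijective F := by
    constructor
    · rintro ⟨a, u⟩ ⟨b, w⟩ e
      have e1 : (if a then z else 1) * (f u : H) = (if b then z else 1) * (f w : H) :=
        congrArg Subtype.val e
      have e2 : u = w := by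
        refine Subtype.ext ?_
        rw [← hfu u, ← hfu w, ← hv a (f u) (hmem _ _), ← hv b (f w) (hmem _ _)]
        simp only [e1]
      subst e2
      have e3 := mul_right_cancel e1
      cases a <;> cases b <;> simp_all [D.xc.ne_one, D.xc.ne_one.symm]
    · rintro ⟨h, hh⟩
      obtain ⟨hq, hh'⟩ := (hS h).1 hh
      obtain ⟨u, hu⟩ : ∃ u : L.toFinset, D.vec (f u) = D.vec ⟨h, hq⟩ :=
        ⟨⟨_, List.mem_toFinset.2 hh'⟩, by rw [hf, vOf_vc]⟩
      rcases D.vec_eq hu with e | e
      · exact ⟨(false, u), Subtype.ext (by simp only [F, Bool.false_eq_true, if_false, one_mul]; exact e.symm)⟩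
      · exact ⟨(true, u), Subtype.ext (by simp only [F, if_true]; exact e.symm)⟩
  rw [← Nat.card_eq_of_bijective F hbij, Nat.card_prod, Nat.card_eq_finsetCard,
    List.toFinset_card_of_nodup hnd]
  simp

/-- the lifts of the line through the representative vector -/
def lineP : Subgroup H where
  carrier := {h | ∃ hq : h ∈ Q, vc (D.vec ⟨h, hq⟩) ∈ lineL}
  one_mem' := ⟨one_mem _, by
    rw [show (⟨1, one_mem Q⟩ : Q) = 1 from rfl, D.vec_one, vc_zero']; exact lineL_closed.1⟩
  mul_mem' := fun {a b} ⟨ha, ha'⟩ ⟨hb, hb'⟩ => ⟨mul_mem ha hb, by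
    rw [show (⟨a * b, mul_mem ha hb⟩ : Q) = ⟨a, ha⟩ * ⟨b, hb⟩ from rfl, D.vec_mul, vc_add]
    exact (lineL_closed.2.2.2 _ ha').2.2.2 _ hb'⟩
  inv_mem' := fun {a} ⟨ha, ha'⟩ => ⟨inv_mem ha, by
    rw [show (⟨a⁻¹, inv_mem ha⟩ : Q) = ⟨a, ha⟩⁻¹ from rfl, D.vec_inv]; exact ha'⟩

omit [Finite H] in
theorem lineP_sq {a : H} (ha : a ∈ D.lineP) : a * a = 1 := by
  obtain ⟨hq, hv⟩ := ha
  exact (D.vec_sq ⟨a, hq⟩).2 ((nf_eq_zero_iff _).2 (lineL_closed.2.2.2 _ hv).2.1)

omit [Finite H] in
theorem card_lineP : Nat.card D.lineP = 8 := by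
  rw [D.card_pre D.lineP lineL lineL_nodup (fun u hu => (lineL_closed.2.2.2 u hu).1) fun h => Iff.rfl]
  rfl

omit [Finite H] in
theorem cent_lineP {h : H} (hq : h ∈ Q) :
    h ∈ Subgroup.centralizer (D.lineP : Set H) ↔ vc (D.vec ⟨h, hq⟩) ∈ perpL := by
  rw [mem_perpL, Subgroup.mem_centralizer_iff]
  constructor
  · intro hc
    have key : ∀ w : V6, vc w ∈ lineL → polB (D.vec ⟨h, hq⟩) w = 0 := by
      intro w hw
      obtain ⟨b, rfl⟩ := D.vec_surj w
      exact (D.comm_pol ⟨h, hq⟩ b).1 (hc b ⟨b.2, hw⟩).symm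
    exact ⟨key _ (by rw [vc_bigV]; exact lineL_closed.2.1),
      key _ (by rw [vc_om_smul, vc_bigV]; exact lineL_closed.2.2.1)⟩
  · rintro ⟨h1, h2⟩ a ⟨ha, hav⟩
    refine ((D.comm_pol ⟨h, hq⟩ ⟨a, ha⟩).2 ?_).symm
    have h0 : polB (D.vec ⟨h, hq⟩) 0 = 0 := by
      have := polB_add_right (D.vec ⟨h, hq⟩) 0 0
      rw [add_zero] at this
      exact this.trans (k_two _)
    have e : D.vec ⟨a, ha⟩ = vOf (vc (D.vec ⟨a, ha⟩)) := (vOf_vc _).symm
    have hb : vOf bigRoot = bigV := by rw [← vc_bigV, vOf_vc]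
    have ho : vOf (smC 2 bigRoot) = om • bigV := by rw [← vc_bigV, ← vc_om_smul, vOf_vc]
    have h3 : smC 3 bigRoot = Nat.xor bigRoot (smC 2 bigRoot) := by decide +kernel
    simp only [lineL, List.mem_cons, List.not_mem_nil, or_false] at hav
    rw [e]
    rcases hav with e' | e' | e' | e' <;> rw [e']
    · rw [show vOf 0 = 0 by rw [← vc_zero', vOf_vc]]; exact h0
    · rw [hb]; exact h1
    · rw [ho]; exact h2
    · rw [h3, vOf_xor, polB_add_right, hb, ho, h1, h2, add_zero]

/-- the action of the subgroup of index two as matrices -/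
noncomputable def linHom : D.M →* U6 where
  toFun h := (D.M_lin h h.2).choose
  map_one' := mat_injective (Matrix.ext_of_mulVec_single fun i => by
    rw [← (D.M_lin (1 : D.M) (1 : D.M).2).choose_spec.2, map_one, Matrix.one_mulVec]
    show D.act 1 _ = _
    rw [map_one]; rfl)
  map_mul' a b := mat_injective (Matrix.ext_of_mulVec_single fun i => by
    rw [map_mul, ← Matrix.mulVec_mulVec, ← (D.M_lin _ (a * b).2).choose_spec.2,
      ← (D.M_lin _ b.2).choose_spec.2, ← (D.M_lin _ a.2).choose_spec.2, ← D.act_mul_apply]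
    rfl)

omit [Finite H] in
theorem linHom_act (h : D.M) (v : V6) : D.act h v = mat (D.linHom h) *ᵥ v :=
  (D.M_lin h h.2).choose_spec.2 v

omit [Finite H] in
theorem linHom_mem (h : D.M) : D.linHom h ∈ KS 0 := (D.M_lin h h.2).choose_spec.1

omit [Finite H] in
theorem linHom_eq {h : D.M} {g : U6} (e : ∀ v, D.act h v = mat g *ᵥ v) : D.linHom h = g :=
  mat_injective (Matrix.ext_of_mulVec_single fun i => by rw [← D.linHom_act, e])

omit [Finite H] in
theorem linHom_eq_one {h : D.M} : D.linHom h = 1 ↔ (h : H) ∈ Q := by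
  rw [← D.ker_act]
  refine ⟨fun e => AddMonoidHom.ext fun v => ?_, fun e => D.linHom_eq fun v => ?_⟩
  · show D.act h v = v
    rw [D.linHom_act, e, map_one, Matrix.one_mulVec]
  · rw [e, map_one, Matrix.one_mulVec]; rfl

omit [Finite H] in
/-- an element of `M` with the given action centralising an element of `Q` with fixed vector -/
theorem lift_fix {s : Q} (h0 : D.vec s ≠ 0) {g : U6} (hg : g ∈ KS 0)
    (hfix : mat g *ᵥ D.vec s = D.vec s) :
    ∃ k ∈ D.M, k * (s : H) = s * k ∧ ∀ v, D.act k v = mat g *ᵥ v := by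
  obtain ⟨h, hh, eh⟩ := D.KS_lift g hg
  obtain ⟨k, hk, ek⟩ := D.conj_of_act (h := h) (a := s) (b := s) (by rw [eh, hfix]) h0
  refine ⟨k, ?_, mul_inv_eq_iff_eq_mul.1 hk, fun v => by rw [ek, eh]⟩
  have hkh : k⁻¹ * h ∈ Q := D.mem_of_act_eq fun v => by rw [ek]
  have := D.M.mul_mem hh (D.M.inv_mem (D.Q_le hkh))
  simpa [mul_assoc] using this

end

/-! ### The pair -/

variable {G : Type*} [Group G] [Finite G] {z : G}
  {Q : Subgroup (Subgroup.centralizer ({z} : Set G))} [Q.Normal] (D : Model Q (zH z))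

/-- the part in the centraliser of the conjugate extraspecial group -/
def partner (g : G) : Subgroup (Subgroup.centralizer ({z} : Set G)) :=
  ((Q.map (Subgroup.centralizer ({z} : Set G)).subtype).map (MulAut.conj g).toMonoidHom).comap
    (Subgroup.centralizer ({z} : Set G)).subtype

structure Pair (g : G) (s : Q) : Prop where
  conj : g * z * g⁻¹ = ((s : Subgroup.centralizer ({z} : Set G)) : G)
  ne : ((s : Subgroup.centralizer ({z} : Set G)) : G) ≠ z

variable {g : G} {s : Q} (P : Pair (z := z) g s)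

include D P in
theorem Pair.xc' : XCent ((Q.map (Subgroup.centralizer ({z} : Set G)).subtype).map
    (MulAut.conj g).toMonoidHom) ((s : Subgroup.centralizer ({z} : Set G)) : G) :=
  P.conj ▸ (xcent_map D.xc).conj g

include D P in
theorem Pair.z_mem : zH z ∈ partner (Q := Q) g :=
  (xcent_map D.xc).mem_conj g (P.conj ▸ ⟨_, s.2, rfl⟩)

include D P in
theorem Pair.comm {d : Subgroup.centralizer ({z} : Set G)} (hd : d ∈ partner (Q := Q) g) :
    d * (s : Subgroup.centralizer ({z} : Set G)) = s * d :=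
  Subtype.ext ((P.xc' D).comm _ hd)

include D P in
theorem Pair.four {d : Subgroup.centralizer ({z} : Set G)} (hd : d ∈ partner (Q := Q) g) :
    d ^ 4 = 1 := by
  refine Subtype.ext ?_
  show (d : G) ^ 4 = 1
  rw [show (4 : ℕ) = 2 * 2 from rfl, pow_mul, pow_two, pow_two]
  rcases (P.xc' D).sq _ hd with e | e <;> rw [show (d : G) * d = _ from e]
  · exact mul_one 1
  · exact (P.xc' D).inv

include D P in
theorem Pair.normal {k d : Subgroup.centralizer ({z} : Set G)}
    (hk : k * (s : Subgroup.centralizer ({z} : Set G)) = s * k) (hd : d ∈ partner (Q := Q) g) :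
    k * d * k⁻¹ ∈ partner (Q := Q) g :=
  (P.xc' D).norm _ (congrArg Subtype.val hk) _ hd

include D P in
theorem Pair.le_card : 2 ^ 12 ≤ Nat.card (partner (z := z) (Q := Q) g) := by
  have hc := card_le_two_mul_centralizer (P.xc' D) (show z ∈ _ from P.z_mem D)
  rw [Subgroup.card_map_of_injective (MulAut.conj g).injective,
    Subgroup.card_map_of_injective (Subgroup.subtype_injective _), D.card_Q] at hc
  have e : (partner (z := z) (Q := Q) g).map (Subgroup.centralizer ({z} : Set G)).subtype =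
      (Q.map (Subgroup.centralizer ({z} : Set G)).subtype).map (MulAut.conj g).toMonoidHom ⊓
        Subgroup.centralizer ({z} : Set G) := by
    rw [partner, Subgroup.map_comap_eq, Subgroup.range_subtype, inf_comm]
  rw [← Subgroup.card_map_of_injective (Subgroup.subtype_injective (Subgroup.centralizer ({z} : Set G))), e]
  omega

include D P in
theorem Pair.vec_ne : D.vec s ≠ 0 := by
  intro h
  rcases (D.vec_eq_zero s).1 h with e | e
  · exact (P.xc' D).ne_one (congrArg Subtype.val e)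
  · exact P.ne (congrArg Subtype.val e)

include D P in
theorem Pair.inter_sq {a : Q} (ha : (a : Subgroup.centralizer ({z} : Set G)) ∈ partner (Q := Q) g) :
    (a : Subgroup.centralizer ({z} : Set G)) * a = 1 := by
  refine (D.xc.sq a a.2).resolve_right fun e => ?_
  rcases (P.xc' D).sq _ ha with e' | e'
  · exact (xcent_map D.xc).ne_one ((congrArg Subtype.val e).symm.trans e')
  · exact P.ne (e'.symm.trans (congrArg Subtype.val e))

include D P in
theorem Pair.inter_le : Nat.card ↥(partner (z := z) (Q := Q) g ⊓ Q) ≤ 128 := by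
  classical
  haveI : Fintype V6 := Fintype.ofFinite _
  let F : Finset V6 := Finset.univ.filter fun v =>
    ∃ b : Q, (b : Subgroup.centralizer ({z} : Set G)) ∈ partner (Q := Q) g ∧ D.vec b = v
  have hF : ∀ {v}, v ∈ F ↔ ∃ b : Q,
      (b : Subgroup.centralizer ({z} : Set G)) ∈ partner (Q := Q) g ∧ D.vec b = v := by
    intro v; simp [F]
  have h64 : F.card ≤ 64 := by
    refine card_singular_le ?_ ?_
    · intro v hv
      obtain ⟨b, hb, rfl⟩ := hF.1 hv
      exact (D.vec_sq b).1 (P.inter_sq D hb)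
    · intro u hu v hv
      obtain ⟨a, ha, rfl⟩ := hF.1 hu
      obtain ⟨b, hb, rfl⟩ := hF.1 hv
      exact hF.2 ⟨a * b, mul_mem ha hb, D.vec_mul a b⟩
  choose rep hrep hrepv using fun v : F => hF.1 v.2
  let f : Bool × F → Subgroup.centralizer ({z} : Set G) := fun t =>
    (if t.1 then zH z else 1) * (rep t.2 : Subgroup.centralizer ({z} : Set G))
  have hsub : ((partner (z := z) (Q := Q) g ⊓ Q : Subgroup _) : Set _) ⊆ Set.range f := by
    intro b hb
    obtain ⟨v, hv⟩ : ∃ v : F, D.vec (rep v) = D.vec ⟨b, hb.2⟩ :=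
      ⟨⟨_, hF.2 ⟨⟨b, hb.2⟩, hb.1, rfl⟩⟩, hrepv _⟩
    rcases D.vec_eq hv with e | e
    · exact ⟨(false, v), by simp only [f, Bool.false_eq_true, if_false, one_mul]; exact e.symm⟩
    · exact ⟨(true, v), by simp only [f, if_true]; exact e.symm⟩
  calc Nat.card ↥(partner (z := z) (Q := Q) g ⊓ Q) ≤ (Set.range f).ncard := by
        rw [← SetLike.coe_sort_coe, Nat.card_coe_set_eq]
        exact Set.ncard_le_ncard hsub (Set.toFinite _)
    _ ≤ Nat.card (Bool × F) := by
        rw [← Nat.card_coe_set_eq]; exact Finite.card_range_le f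
    _ ≤ 128 := by rw [Nat.card_prod, Nat.card_eq_finsetCard]; simp; omega

/-- the linear part of the action of the partner -/
noncomputable def partHom (g : G) : ↥(partner (z := z) (Q := Q) g ⊓ D.M) →* U6 :=
  D.linHom.comp (Subgroup.inclusion inf_le_right)

include D P in
theorem Pair.card_bound :
    2 ^ 12 ≤ 2 * (Nat.card ↥(partner (z := z) (Q := Q) g ⊓ Q) * Nat.card ↥((D.partHom g).range)) := by
  have h1 := (D.partHom g).ker.card_mul_index
  rw [Subgroup.index_ker] at h1
  have hk : Nat.card (D.partHom g).ker = Nat.card ↥(partner (z := z) (Q := Q) g ⊓ Q) :=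
    Nat.card_congr
      { toFun := fun a => ⟨(a.1 : _), a.1.2.1, D.linHom_eq_one.1 (MonoidHom.mem_ker.1 a.2)⟩
        invFun := fun a => ⟨⟨a, a.2.1, D.Q_le a.2.2⟩,
          MonoidHom.mem_ker.2 (D.linHom_eq_one.2 a.2.2)⟩
        left_inv := fun _ => rfl
        right_inv := fun _ => rfl }
  rw [hk] at h1
  rw [h1]
  have h2 := P.le_card D
  have h3 : Nat.card (partner (z := z) (Q := Q) g) ≤
      2 * Nat.card ↥(partner (z := z) (Q := Q) g ⊓ D.M) := by
    have hr : D.M.relIndex (partner (z := z) (Q := Q) g) ≤ 2 :=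
      D.M_index ▸ Subgroup.relIndex_top_right D.M ▸ Subgroup.relIndex_le_of_le_right le_top
        (by rw [Subgroup.relIndex_top_right, D.M_index]; norm_num)
    have e : Nat.card (partner (z := z) (Q := Q) g) =
        Nat.card ↥(partner (z := z) (Q := Q) g ⊓ D.M) * D.M.relIndex (partner (z := z) (Q := Q) g) := by
      rw [← Subgroup.inf_relIndex_left, ← Subgroup.relIndex_bot_left, ← Subgroup.relIndex_bot_left,
        Subgroup.relIndex_mul_relIndex _ _ _ bot_le inf_le_left]
    rw [e, Nat.mul_comm 2]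
    exact Nat.mul_le_mul_left _ hr
  omega

include D P in
theorem Pair.range_le : (D.partHom g).range ≤ KV (D.vec s) := by
  rintro _ ⟨⟨d, hd⟩, rfl⟩
  refine mem_KV.2 ⟨D.linHom_mem _, ?_⟩
  refine (D.linHom_act _ _).symm.trans ?_
  show D.act d (D.vec s) = D.vec s
  rw [← D.vec_conj' d s ((inferInstance : Q.Normal).conj_mem _ s.2 d)]
  congr 1
  exact Subtype.ext (mul_inv_eq_iff_eq_mul.2 (P.comm D hd.1))

include D P in
theorem Pair.range_normal : ∀ a ∈ KV (D.vec s), ∀ r ∈ (D.partHom g).range,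
    a * r * a⁻¹ ∈ (D.partHom g).range := by
  rintro a ha _ ⟨⟨d, hd⟩, rfl⟩
  obtain ⟨k, hkM, hks, hka⟩ := D.lift_fix (P.vec_ne D) (mem_KV.1 ha).1 (mem_KV.1 ha).2
  refine ⟨⟨k * d * k⁻¹, P.normal D hks hd.1, D.M.mul_mem (D.M.mul_mem hkM hd.2) (D.M.inv_mem hkM)⟩, ?_⟩
  show D.linHom _ = _
  have e1 : D.linHom ⟨k, hkM⟩ = a := D.linHom_eq hka
  rw [← e1]
  show D.linHom (⟨k, hkM⟩ * ⟨d, hd.2⟩ * ⟨k, hkM⟩⁻¹) = _
  rw [map_mul, map_mul, map_inv]
  rfl

include D P in
theorem Pair.range_two : IsPGroup 2 (D.partHom g).range := by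
  rintro ⟨_, ⟨d, hd⟩, rfl⟩
  refine ⟨2, Subtype.ext ?_⟩
  show (D.partHom g ⟨d, hd⟩) ^ 2 ^ 2 = 1
  rw [← map_pow, show (2 : ℕ) ^ 2 = 4 from rfl,
    show (⟨d, hd⟩ : ↥(partner (z := z) (Q := Q) g ⊓ D.M)) ^ 4 = 1 from Subtype.ext (P.four D hd.1),
    map_one]

include D in
/-- The vector of a conjugate of the involution is big. -/
theorem big_of_conj {a : Q} (hc : IsConj z ((a : Subgroup.centralizer ({z} : Set G)) : G))
    (hne : ((a : Subgroup.centralizer ({z} : Set G)) : G) ≠ z) : Big (D.vec a) := by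
  obtain ⟨g, hg⟩ := isConj_iff.1 hc
  have hne1 : (a : Subgroup.centralizer ({z} : Set G)) ≠ 1 := fun e => by
    rw [e] at hg
    exact (xcent_map D.xc).ne_one (conj_eq_one_iff.1 hg)
  have haa : (a : Subgroup.centralizer ({z} : Set G)) * a = 1 := by
    refine Subtype.ext ?_
    show ((a : Subgroup.centralizer ({z} : Set G)) : G) * _ = 1
    rw [← hg, show g * z * g⁻¹ * (g * z * g⁻¹) = g * (z * z) * g⁻¹ by simp [mul_assoc],
      (xcent_map D.xc).inv, mul_one, mul_inv_cancel]
  refine (D.invol_vec haa hne1 fun e => hne (congrArg Subtype.val e)).resolve_left fun hs => ?_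
  obtain ⟨b, hb⟩ := D.vec_surj smallV
  obtain ⟨k, hk⟩ := D.conj_of_small (a := a) (b := b) hs (hb ▸ small_smallV)
  have hkG := congrArg Subtype.val hk
  have P : Pair (Q := Q) (z := z) ((k : G) * g) b := by
    refine ⟨?_, fun e => ?_⟩
    · rw [← hkG]; show _ = (k : G) * _ * (k : G)⁻¹
      rw [← hg]; simp [mul_assoc]
    · have : (b : Subgroup.centralizer ({z} : Set G)) = zH z := Subtype.ext e
      exact small_smallV.isotropic.2 (hb ▸ (D.vec_eq_zero b).2 (Or.inr this))
  letI := D.fld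
  letI := D.fin
  have hle : (D.partHom ((k : G) * g)).range = ⊥ :=
    normal_two_small D.card_F9 (hb ▸ P.range_le D) (hb ▸ P.range_normal D) (P.range_two D)
  have h := P.card_bound D
  rw [hle, Subgroup.card_bot, mul_one] at h
  have := P.inter_le D
  omega

variable (hv : D.vec s = bigV)

include D P hv in
theorem Pair.card_inter : Nat.card ↥(partner (z := z) (Q := Q) g ⊓ Q) = 128 := by
  refine le_antisymm (P.inter_le D) ?_
  letI := D.fld
  letI := D.fin
  have hle : (D.partHom g).range ≤ OU :=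
    normal_two_big D.card_F9 (hv ▸ P.range_le D) (hv ▸ P.range_normal D) (P.range_two D)
  have h16 : Nat.card ↥((D.partHom g).range) ≤ 16 := card_OU ▸ Subgroup.card_le_of_le hle
  have h := P.card_bound D
  have := Nat.mul_le_mul_left (Nat.card ↥(partner (z := z) (Q := Q) g ⊓ Q)) h16
  omega

include D P hv in
theorem Pair.lineP_le : D.lineP ≤ partner (Q := Q) g ⊓ Q := by
  classical
  let inF : ℕ → Prop := fun u => ∃ b : Q,
    (b : Subgroup.centralizer ({z} : Set G)) ∈ partner (Q := Q) g ∧ vc (D.vec b) = u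
  have hxor : ∀ u w, inF u → inF w → inF (Nat.xor u w) := by
    rintro _ _ ⟨a, ha, rfl⟩ ⟨b, hb, rfl⟩
    exact ⟨a * b, mul_mem ha hb, by rw [D.vec_mul, vc_add]⟩
  have hzero : inF 0 := ⟨1, one_mem _, by rw [D.vec_one, vc_zero']⟩
  have hroot : inF bigRoot := ⟨s, (P.xc' D).mem, by rw [hv, vc_bigV]⟩
  have hlt : ∀ u, inF u → u < 4096 := by rintro _ ⟨b, -, rfl⟩; exact vc_lt _
  have hdiff : ∀ (l : List ℕ) u, inF u → inF (diffSum l u) := by
    intro l
    induction l with
    | nil => exact fun _ _ => hzero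
    | cons i r ih =>
      intro u hu
      refine hxor _ _ (hxor _ _ ?_ hu) (ih u hu)
      obtain ⟨b, hb, rfl⟩ := hu
      by_cases hi : i < lineT.length
      · rw [List.getD_eq_getElem _ _ hi]
        obtain ⟨a, ha, ea⟩ := lineT_in (List.mem_cons_of_mem _ (List.getElem_mem hi))
        have ha' := mem_KV.1 ha
        obtain ⟨k, -, hks, hka⟩ := D.lift_fix (P.vec_ne D) ha'.1 (by rw [hv]; exact ha'.2)
        refine ⟨⟨k * b * k⁻¹, (inferInstance : Q.Normal).conj_mem _ b.2 k⟩, P.normal D hks hb, ?_⟩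
        rw [D.vec_conj', hka, vc_mat, ea]
      · rw [List.getD_eq_default _ _ (not_lt.1 hi)]
        exact ⟨b, hb, by rw [← vc_mulVec, ofCode_oneC', Matrix.one_mulVec]⟩
  obtain ⟨u, hu, hul, hiso, hiso'⟩ : ∃ u, inF u ∧ u ∉ lineL ∧ nfC u = 0 ∧
      nfC (Nat.xor u bigRoot) = 0 := by
    by_contra hno
    push Not at hno
    have hle : partner (z := z) (Q := Q) g ⊓ Q ≤ D.lineP := by
      intro h hh
      refine ⟨hh.2, by_contra fun hn => ?_⟩
      have hs : (s : Subgroup.centralizer ({z} : Set G)) ∈ partner (Q := Q) g := (P.xc' D).mem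
      refine hno _ ⟨⟨h, hh.2⟩, hh.1, rfl⟩ hn
        ((nf_eq_zero_iff _).1 ((D.vec_sq _).1 (P.inter_sq D hh.1))) ?_
      rw [← vc_bigV, ← hv, ← vc_add, ← D.vec_mul]
      exact (nf_eq_zero_iff _).1 ((D.vec_sq _).1 (P.inter_sq D (mul_mem hh.1 hs)))
    have := Subgroup.card_le_of_le hle
    rw [P.card_inter D hv, D.card_lineP] at this
    omega
  have hw : inF (smC 2 bigRoot) := by
    have hc := List.all_eq_true.1 span_cover u (List.mem_range.2 (hlt u hu))
    simp only [hiso, hiso', Bool.or_eq_true, memV_iff, inM_mask, Nat.beq_refl, Bool.and_self,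
      Bool.not_true, Bool.false_eq_true, false_or, List.mem_map] at hc
    obtain ⟨⟨u', l⟩, he, rfl⟩ := hc.resolve_left hul
    have ho := List.all_eq_true.1 span_ok _ he
    simp only [Bool.or_eq_true, Nat.beq_eq] at ho
    rcases ho with e | e
    · exact e ▸ hdiff l _ hu
    · have h3 : Nat.xor bigRoot (smC 3 bigRoot) = smC 2 bigRoot := by decide +kernel
      exact h3 ▸ hxor _ _ hroot (e ▸ hdiff l _ hu)
  have hall : ∀ w ∈ lineL, inF w := by
    intro w hw'
    simp only [lineL, List.mem_cons, List.not_mem_nil, or_false] at hw'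
    rcases hw' with rfl | rfl | rfl | rfl
    · exact hzero
    · exact hroot
    · exact hw
    · have h3 : Nat.xor bigRoot (smC 2 bigRoot) = smC 3 bigRoot := by decide +kernel
      exact h3 ▸ hxor _ _ hroot hw
  rintro h ⟨hq, hh⟩
  refine ⟨?_, hq⟩
  obtain ⟨b, hb, eb⟩ := hall _ hh
  rcases D.vec_eq (a := b) (b := ⟨h, hq⟩) (vc_injective eb) with e | e
  · exact (show h = b from e) ▸ hb
  · exact (show h = zH z * b from e) ▸ mul_mem (P.z_mem D) hb

end Model

end CfsgLib.Spor.LargeFi
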