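import Cfsg.Agent.Lib.Spor.LargeFi.Elem
import Cfsg.Agent.Lib.Spor.LargeFi.StabAlt
import Cfsg.Agent.Lib.Spor.LargeFi.CentData

/-!
Certificates for the centraliser of an element of order three: the singular subgroup fixed by `O`,
and the absence of an invariant subgroup of order at most sixteen avoiding it under lifts of two
elements generating `A₆`.
-/

set_option autoImplicit false
set_option maxRecDepth 100000

namespace CfsgLib.Spor.LargeFi

open CfsgLib.Spor.U62
open Matrix

/-- the alternating form -/
def Bz (u v : V6) : ZMod 2 := (Cfsg.hermForm 6 K4 2 u v).im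

/-- the alternating form on codes -/
def Bc (a b : ℕ) : ℕ :=
  Nat.shiftRight (dot6 (fun k => entV a k) fun k => sqN (entV b k)) 1

theorem Bz_eq_zero (u v : V6) : Bz u v = 0 ↔ Bc (vc u) (vc v) = 0 := by
  have hs : ∀ x < 4, kOf (sqN x) = kOf x ^ 2 := by decide +kernel
  have hi : ∀ x < 4, (kOf x).im = 0 ↔ Nat.shiftRight x 1 = 0 := by decide +kernel
  have e : kOf (dot6 (fun k => entV (vc u) k) fun k => sqN (entV (vc v) k)) =
      Cfsg.hermForm 6 K4 2 u v := by
    rw [kOf_dot6 (fun k => entV_lt _ _) fun k => sqN_lt _, Cfsg.hermForm]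
    refine Finset.sum_congr rfl fun i _ => ?_
    rw [hs _ (entV_lt _ _), show kOf (entV (vc u) i) = u i from congrFun (vOf_vc u) i,
      show kOf (entV (vc v) i) = v i from congrFun (vOf_vc v) i]
  rw [Bz, ← e]
  exact hi _ (dot6_lt _ _)

theorem Bz_symm (u v : V6) : Bz u v = Bz v u := by
  have h : toK (Bz u v) = toK (Bz v u) := by
    rw [Bz, Bz, ← hermForm_polar, ← hermForm_polar, add_comm u v]
    abel
  exact congrArg QuadraticAlgebra.re h

theorem Bz_map (g : U6) (u v : V6) : Bz (mat g *ᵥ u) (mat g *ᵥ v) = Bz u v :=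
  congrArg QuadraticAlgebra.im (g.2 u v)

theorem centWM_eq : Nat.beq (mask centW) centWM = true := by decide +kernel

theorem inM_centWM {u : ℕ} : inM centWM u = true ↔ u ∈ centW := by
  rw [← Nat.eq_of_beq_eq_true centWM_eq, inM_mask]

/-- orthogonality to the representative -/
def perpC (u : ℕ) : Bool := Nat.beq (Bc bigRoot u) 0

/-- powers of a code -/
def powC (c : ℕ) : ℕ → ℕ
  | 0 => oneC
  | n + 1 => mulC (powC c n) c

theorem cd_pow (g : U6) : ∀ n : ℕ, cd (g ^ n) = powC (cd g) n
  | 0 => by rw [pow_zero, cd_one]; rfl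
  | n + 1 => by rw [pow_succ, cd_mul, cd_pow g n]; rfl

/-- the generating vectors of the singular subgroup -/
def centWB : List ℕ := centWit.map fun e => Nat.xor (mvC e.1 e.2) e.2

theorem centWit_ok : (centWit.all fun e => memB oL e.1 && perpC e.2 && Nat.blt e.2 4096) = true := by
  decide +kernel

theorem centWTree_ok : treeR (fun u q j => Nat.beq u (Nat.xor q (centWB.getD j 0))) 0 centWTree [] = true := by
  decide +kernel

theorem centWTree_cover : (centW.all fun u => memV (0 :: centWTree.map Prod.fst) u) = true := by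
  decide +kernel

theorem centW_perp : ((List.range 4096).all fun u =>
    !(centWB.all fun w => Nat.beq (Bc u w) 0) || inM centWM u) = true := by decide +kernel

theorem centW_root : (centW.all fun w => perpC w && Nat.beq (Bc bigRoot (smC 2 w)) 0 &&
    Nat.beq (Bc bigRoot (smC 2 (smC 2 w))) 0 &&
    Nat.beq (Bc (smC 2 bigRoot) (smC 2 (smC 2 w))) 0) = true := by decide +kernel

theorem centW_oL : (oL.all fun o => Nat.beq (mulC o o) oneC && centW.all fun w =>
    (Nat.beq (mvC o w) w || Nat.beq (mvC o w) (Nat.xor w bigRoot)) && inM centWM (mvC o w)) = true := by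
  decide +kernel

/-- an element generating the scalar with `altA` -/
def centC : ℕ := mulC ((gens 0).getD 1 oneC) altA

theorem scalar_word : (Nat.beq (powC altA 5) oneC && Nat.beq (powC centC 7) oneC &&
    Nat.beq (powC (mulC altA centC) 5) (mulC omC omC)) = true := by decide +kernel

theorem alt_pow : (Nat.beq (powC (powC altA 4) 4) altA &&
    oL.any fun o => Nat.beq (powC altB 4) (mulC altB o)) = true := by decide +kernel

theorem alt_conj : ((oL.all fun o => oL.any fun p => Nat.beq (mulC (mulC p (mulC altA o)) p) altA) &&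
    oL.all fun p => oL.all fun o => oL.any fun r =>
      Nat.beq (mulC (mulC p (mulC altB o)) p) (mulC altB r)) = true := by decide +kernel

/-! ### No small invariant subgroup avoiding the singular subgroup -/

/-- evaluate a number before use -/
def lit {α : Type} (n : ℕ) (k : ℕ → α) : α :=
  match n with
  | 0 => k 0
  | m + 1 => k (m + 1)

theorem lit_eq {α : Type} (n : ℕ) (k : ℕ → α) : lit n k = k n := by cases n <;> rfl

/-- a bit -/
def bitB (m i : ℕ) : Bool := Nat.beq (Nat.land (Nat.shiftRight m i) 1) 1

/-- the sum of the chosen members -/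
def selC (l : List ℕ) (m : ℕ) : ℕ :=
  (List.range 5).foldl (fun a i => if bitB m i then Nat.xor a (l.getD i 0) else a) 0

/-- the images showing that a candidate is not in an invariant subgroup of candidates -/
def exprOk (y b : ℕ) : Bool :=
  lit (mvC altA y) fun a1 => lit (mvC altA a1) fun a2 => lit (mvC altA a2) fun a3 =>
  lit (mvC b y) fun b0 => lit (mvC b b0) fun b00 =>
  let out := fun x => !Nat.beq x 0 && !inM centCM x
  out (Nat.xor (Nat.xor y a2) b0) || out (Nat.xor (Nat.xor a1 a2) (mvC b a3)) ||
    out (Nat.xor (Nat.xor a1 b00) (lit (mvC altA b0) (mvC b))) ||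
    out (Nat.xor (Nat.xor a1 a2) b00) || out (Nat.xor a1 b0)

/-- the check of an orbit -/
def orbOk (e : List ℕ × ℕ) : Bool :=
  ((List.range 5).all fun i => Nat.beq (mvC altA (e.1.getD i 0)) (e.1.getD ((i + 1) % 5) 0)) &&
    if Nat.beq e.2 32 then
      (oL.all fun o => lit (mulC altB o) fun b => exprOk (e.1.getD 0 0) b)
    else if Nat.beq e.2 0 then
      (List.range 17).all fun m => (List.range m).all fun n => !Nat.beq (selC e.1 m) (selC e.1 n)
    else !Nat.beq (selC e.1 e.2) 0 && inM centWM (selC e.1 e.2)

theorem centOrb_ok : centOrb.all orbOk = true := by decide +kernel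

theorem centOrb_len : (centOrb.all fun e => Nat.beq e.1.length 5) = true := by decide +kernel

theorem centOrb_cover : Nat.beq (mask (centW ++ centOrb.flatMap Prod.fst))
    (mask ((List.range 4096).filter perpC)) = true := by decide +kernel

theorem centCM_eq : Nat.beq (mask ((centOrb.filter fun e => Nat.beq e.2 32).flatMap Prod.fst)) centCM = true := by
  decide +kernel

/-- A subgroup of at most sixteen codes meeting the singular subgroup trivially and invariant under
`altA` and a lift of the second permutation is trivial. -/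
theorem no_small {Y : Set ℕ} (hY0 : 0 ∈ Y) (hYx : ∀ a ∈ Y, ∀ b ∈ Y, Nat.xor a b ∈ Y)
    (hYlt : ∀ a ∈ Y, a < 4096) (hYp : ∀ a ∈ Y, perpC a = true)
    (hcard : ∀ l : List ℕ, l.Nodup → (∀ a ∈ l, a ∈ Y) → l.length ≤ 16)
    (hW : ∀ a ∈ Y, a ∈ centW → a = 0) (hA : ∀ a ∈ Y, mvC altA a ∈ Y)
    {o : ℕ} (ho : o ∈ oL) (hB : ∀ a ∈ Y, mvC (mulC altB o) a ∈ Y) : ∀ y ∈ Y, y = 0 := by
  -- every non-zero element lies in the orbit of an element of `Y` listed as a candidate
  have hcase : ∀ y ∈ Y, y ≠ 0 → inM centCM y = true ∧
      ∃ r ∈ Y, inM centCM r = true ∧ exprOk r (mulC altB o) = true := by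
    intro y hy h0
    have hmem : y ∈ centW ++ centOrb.flatMap Prod.fst := by
      rw [← inM_mask, Nat.eq_of_beq_eq_true centOrb_cover, inM_mask]
      exact List.mem_filter.2 ⟨List.mem_range.2 (hYlt y hy), hYp y hy⟩
    rcases List.mem_append.1 hmem with h | h
    · exact absurd (hW y hy h) h0
    obtain ⟨e, he, hye⟩ := List.mem_flatMap.1 h
    have hlen : e.1.length = 5 := Nat.eq_of_beq_eq_true (List.all_eq_true.1 centOrb_len e he)
    have hok := List.all_eq_true.1 centOrb_ok e he
    simp only [orbOk, Bool.and_eq_true, List.all_eq_true] at hok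
    obtain ⟨hit, hwit⟩ := hok
    obtain ⟨i, hi, hyi⟩ := List.getElem_of_mem hye
    have hnext : ∀ n, e.1.getD ((i + n) % 5) 0 ∈ Y := by
      intro n
      induction n with
      | zero =>
        rw [Nat.add_zero, Nat.mod_eq_of_lt (hlen ▸ hi), List.getD_eq_getElem _ _ hi, hyi]
        exact hy
      | succ n ih =>
        have h1 := Nat.eq_of_beq_eq_true (hit ((i + n) % 5) (List.mem_range.2 (Nat.mod_lt _ (by norm_num))))
        rw [show (i + (n + 1)) % 5 = ((i + n) % 5 + 1) % 5 by omega, ← h1]
        exact hA _ ih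
    have hall : ∀ j, j < 5 → e.1.getD j 0 ∈ Y := fun j hj => by
      have := hnext (j + 5 - i)
      have hi5 : i < 5 := hlen ▸ hi
      rwa [show (i + (j + 5 - i)) % 5 = j by omega] at this
    have hsel : ∀ m, selC e.1 m ∈ Y := by
      intro m
      have key : ∀ (l : List ℕ) (a : ℕ), a ∈ Y → (∀ j ∈ l, j < 5) →
          l.foldl (fun a i => if bitB m i then Nat.xor a (e.1.getD i 0) else a) a ∈ Y := by
        intro l
        induction l with
        | nil => exact fun a ha _ => ha
        | cons j r ih =>
          intro a ha hl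
          refine ih _ ?_ fun k hk => hl k (List.mem_cons_of_mem _ hk)
          show (if bitB m j = true then _ else _) ∈ Y
          by_cases hb : bitB m j = true
          · rw [if_pos hb]; exact hYx _ ha _ (hall j (hl j List.mem_cons_self))
          · rw [if_neg hb]; exact ha
      exact key _ 0 hY0 fun j hj => List.mem_range.1 hj
    by_cases h32 : e.2 = 32
    · rw [h32] at hwit
      simp only [Nat.beq_eq, List.all_eq_true, Nat.beq_refl, if_true] at hwit
      have hin : ∀ x ∈ e.1, inM centCM x = true := fun x hx => by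
        rw [← Nat.eq_of_beq_eq_true centCM_eq, inM_mask]
        exact List.mem_flatMap.2 ⟨e, List.mem_filter.2 ⟨he, by rw [Nat.beq_eq]; exact h32⟩, hx⟩
      refine ⟨hin y hye, _, hall 0 (by norm_num), hin _ ?_, ?_⟩
      · rw [List.getD_eq_getElem _ _ (by omega)]; exact List.getElem_mem _
      · have := hwit o ho
        rwa [lit_eq] at this
    · exfalso
      rw [if_neg (by rwa [Nat.beq_eq])] at hwit
      by_cases hz : e.2 = 0
      · rw [hz] at hwit
        simp only [Nat.beq_refl, if_true, List.all_eq_true, Bool.not_eq_true', List.mem_range] at hwit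
        have := hcard ((List.range 17).map (selC e.1)) ?_ (fun a ha => by
          obtain ⟨m, -, rfl⟩ := List.mem_map.1 ha
          exact hsel m)
        · simp at this
        refine List.Nodup.map_on (fun m hm n hn heq => ?_) List.nodup_range
        rcases lt_trichotomy m n with hlt | hlt | hlt
        · have := hwit n (List.mem_range.1 hn) m hlt
          rw [heq, Nat.beq_refl] at this
          exact Bool.noConfusion this
        · exact hlt
        · have := hwit m (List.mem_range.1 hm) n hlt
          rw [heq, Nat.beq_refl] at this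
          exact Bool.noConfusion this
      · rw [if_neg (by rwa [Nat.beq_eq]), Bool.and_eq_true, Bool.not_eq_true', inM_centWM] at hwit
        have := hW _ (hsel e.2) hwit.2
        rw [this, Nat.beq_refl] at hwit
        exact Bool.noConfusion hwit.1
  intro y hy
  by_contra h0
  obtain ⟨-, r, hr, -, hex⟩ := hcase y hy h0
  have hc : ∀ x ∈ Y, (!Nat.beq x 0 && !inM centCM x) = false := by
    intro x hx
    by_cases hx0 : x = 0
    · simp [hx0]
    · simp [(hcase x hx hx0).1]
  have h1 := hA r hr
  have h2 := hA _ h1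
  have h3 := hA _ h2
  have hb := hB r hr
  simp only [exprOk, lit_eq, Bool.or_eq_true] at hex
  rcases hex with (((h | h) | h) | h) | h <;> rw [hc _ ?_] at h <;> try exact Bool.noConfusion h
  · exact hYx _ (hYx _ hr _ h2) _ hb
  · exact hYx _ (hYx _ h1 _ h2) _ (hB _ h3)
  · exact hYx _ (hYx _ h1 _ (hB _ hb)) _ (hB _ (hA _ hb))
  · exact hYx _ (hYx _ h1 _ h2) _ (hB _ hb)
  · exact hYx _ h1 _ hb

end CfsgLib.Spor.LargeFi
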