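import Cfsg.Agent.Lib.Spor.LargeFi.Setup
import Cfsg.Agent.Lib.Spor.LargeFi.Base
import Cfsg.Agent.Lib.Spor.LargeFi.StabAlt
import Cfsg.Agent.Lib.Spor.LargeFi.SylElem
import Cfsg.Agent.Lib.ThreeTransp.LargePair

/-!
A conjugate of the involution inside the extraspecial subgroup lies in the orbit of 1701, and the
conjugate extraspecial subgroup covers the normal subgroup `2⁴` of its stabiliser.
-/

set_option autoImplicit false

namespace CfsgLib.Spor.LargeFi

open CfsgLib.Spor.U62 CfsgLib.ThreeTransp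
open Matrix

namespace Model

variable {H : Type*} [Group H] [Finite H] {Q : Subgroup H} [Q.Normal] {z : H} (D : Model Q z)

omit [Finite H] in
theorem eq_of_mulVec {a b : U6} (h : ∀ v, mat a *ᵥ v = mat b *ᵥ v) : a = b :=
  mat_injective (Matrix.ext_of_mulVec_single fun _ => h _)

omit [Finite H] in
theorem exists_rho : ∃ ρ : D.M →* U6, (∀ (m : D.M) v, D.act (m : H) v = mat (ρ m) *ᵥ v) ∧
    (∀ m : D.M, ρ m ∈ KS 0) ∧ (∀ g ∈ KS 0, ∃ m, ρ m = g) ∧
    ∀ m : D.M, ρ m = 1 ↔ (m : H) ∈ Q := by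
  choose ρ hρK hρ using fun m : D.M => D.M_lin m m.2
  refine ⟨{ toFun := ρ
            map_one' := eq_of_mulVec fun v => by
              rw [← hρ, map_one, Matrix.one_mulVec, OneMemClass.coe_one, map_one]; rfl
            map_mul' := fun a b => eq_of_mulVec fun v => by
              rw [← hρ, Subgroup.coe_mul, D.act_mul_apply, hρ b, hρ a, map_mul mat,
                Matrix.mulVec_mulVec] }, hρ, hρK, fun g hg => ?_, fun m => ?_⟩
  · obtain ⟨h, hh, e⟩ := D.KS_lift g hg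
    exact ⟨⟨h, hh⟩, eq_of_mulVec fun v => (hρ ⟨h, hh⟩ v).symm.trans (e v)⟩
  · show ρ m = 1 ↔ _
    rw [← D.ker_act]
    constructor
    · intro h
      refine AddMonoidHom.ext fun v => ?_
      show D.act (m : H) v = v
      exact (hρ m v).trans (by rw [h, map_one, Matrix.one_mulVec])
    · intro h
      refine eq_of_mulVec fun v => (hρ m v).symm.trans ?_
      rw [h, map_one, Matrix.one_mulVec]; rfl

omit [Finite H] in
theorem exists_comm_lift {m : H} {a : Q} (hfix : D.act m (D.vec a) = D.vec a) (h0 : D.vec a ≠ 0) :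
    ∃ k : H, Commute k (a : H) ∧ D.act k = D.act m := by
  obtain ⟨k, hk, e⟩ := D.conj_of_act hfix h0
  exact ⟨k, mul_inv_eq_iff_eq_mul.1 hk, e⟩

omit [Finite H] in
theorem mem_M_of_act {k m : H} (hm : m ∈ D.M) (h : D.act k = D.act m) : k ∈ D.M := by
  have h1 : k * m⁻¹ ∈ Q := (D.ker_act _).1 (by rw [map_mul, h, ← map_mul, mul_inv_cancel, map_one])
  have := D.M.mul_mem (D.Q_le h1) hm
  rwa [inv_mul_cancel_right] at this

include D in
theorem card_abelian_le {L : Subgroup H} (hL : L ≤ Q) (habel : ∀ a ∈ L, ∀ b ∈ L, a * b = b * a)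
    (helem : ∀ a ∈ L, a * a = 1) : Nat.card L ≤ 2 ^ 7 := by
  classical
  letI := Fintype.ofFinite L
  let f : L → V6 := fun a => D.vec ⟨a, hL a.2⟩
  let F : Finset V6 := Finset.univ.image f
  have hf : ∀ a b : L, f (a * b) = f a + f b := fun a b => D.vec_mul ⟨a, hL a.2⟩ ⟨b, hL b.2⟩
  have hF : F.card ≤ 64 := by
    refine card_singular_le (fun v hv => ?_) fun u hu v hv => ?_
    · obtain ⟨a, -, rfl⟩ := Finset.mem_image.1 hv
      exact (D.vec_sq _).1 (helem a a.2)
    · obtain ⟨a, -, rfl⟩ := Finset.mem_image.1 hu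
      obtain ⟨b, -, rfl⟩ := Finset.mem_image.1 hv
      exact Finset.mem_image.2 ⟨a * b, Finset.mem_univ _, hf a b⟩
  have hle : Nat.card L ≤ 2 * F.card := by
    rw [Nat.card_eq_fintype_card, ← Finset.card_univ]
    refine Finset.card_le_mul_card_image _ _ fun v hv => ?_
    obtain ⟨a, -, rfl⟩ := Finset.mem_image.1 hv
    refine le_trans (Finset.card_le_card (t := ((Finset.univ : Finset L).filter fun b : L =>
      (b : H) = (a : H) ∨ (b : H) = z * (a : H))) fun b hb => ?_) ?_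
    · exact Finset.mem_filter.2 ⟨Finset.mem_univ _, D.vec_eq (Finset.mem_filter.1 hb).2.symm⟩
    · rw [Finset.filter_or]
      refine le_trans (Finset.card_union_le _ _) (le_of_le_of_eq (add_le_add (b := 1) (d := 1) ?_ ?_) rfl) <;>
        exact Finset.card_le_one.2 fun x hx y hy =>
          Subtype.ext ((Finset.mem_filter.1 hx).2.trans (Finset.mem_filter.1 hy).2.symm)
  omega

end Model

variable {G : Type*} [Group G] [Finite G] {z : G}
  {Q : Subgroup (Subgroup.centralizer ({z} : Set G))}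

/-- the extraspecial subgroup inside the group -/
def qG (Q : Subgroup (Subgroup.centralizer ({z} : Set G))) : Subgroup G :=
  Q.map (Subgroup.centralizer ({z} : Set G)).subtype

/-- the conjugate extraspecial subgroup inside the centraliser -/
def E0 (Q : Subgroup (Subgroup.centralizer ({z} : Set G))) (g : G) :
    Subgroup (Subgroup.centralizer ({z} : Set G)) :=
  ((qG Q).map (MulAut.conj g).toMonoidHom).subgroupOf _

theorem mem_qG {h : Subgroup.centralizer ({z} : Set G)} : (h : G) ∈ qG Q ↔ h ∈ Q :=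
  Subgroup.mem_map_iff_mem (Subgroup.subtype_injective _)

variable [Q.Normal]

theorem xcent_qG (hX : XCent Q (zH z)) : XCent (qG Q) z := by
  refine ⟨⟨_, hX.mem, rfl⟩, congrArg Subtype.val hX.inv, fun h => hX.ne_one (Subtype.ext h),
    ?_, ?_, ?_, ?_, ?_, ?_⟩
  · rintro _ ⟨q, hq, rfl⟩
    exact congrArg Subtype.val (hX.comm q hq)
  · rintro _ ⟨c, hc, rfl⟩ h
    exact (hX.center c hc fun q hq => Subtype.ext (h q ⟨q, hq, rfl⟩)).imp (congrArg Subtype.val)
      (congrArg Subtype.val)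
  · rintro _ ⟨a, ha, rfl⟩ _ ⟨b, hb, rfl⟩
    exact (hX.commEl a ha b hb).imp (congrArg Subtype.val) (congrArg Subtype.val)
  · rintro _ ⟨a, ha, rfl⟩
    exact (hX.sq a ha).imp (congrArg Subtype.val) (congrArg Subtype.val)
  · intro c hc
    have hcH : c ∈ Subgroup.centralizer ({z} : Set G) := Subgroup.mem_centralizer_singleton_iff.2
      (Subgroup.mem_centralizer_iff.1 hc z ⟨_, hX.mem, rfl⟩).symm
    refine ⟨⟨c, hcH⟩, hX.cent (Subgroup.mem_centralizer_iff.2 fun q hq => Subtype.ext ?_), rfl⟩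
    exact Subgroup.mem_centralizer_iff.1 hc q ⟨q, hq, rfl⟩
  · rintro c hc _ ⟨q, hq, rfl⟩
    exact ⟨⟨c, Subgroup.mem_centralizer_singleton_iff.2 hc⟩ * q *
      ⟨c, Subgroup.mem_centralizer_singleton_iff.2 hc⟩⁻¹,
      (inferInstance : Q.Normal).conj_mem _ hq _, rfl⟩

theorem twoPair (D : Model Q (zH z)) {g : G} {a : Q}
    (hg : g * z * g⁻¹ = ((a : Subgroup.centralizer ({z} : Set G)) : G))
    (hne : ((a : Subgroup.centralizer ({z} : Set G)) : G) ≠ z) :
    TwoPair (qG Q) ((qG Q).map (MulAut.conj g).toMonoidHom) z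
      ((a : Subgroup.centralizer ({z} : Set G)) : G) := by
  have h := xcent_qG D.xc
  haveI : Fact (Nat.Prime 2) := ⟨Nat.prime_two⟩
  have hp : IsPGroup 2 (qG Q) := by
    refine IsPGroup.of_card (n := 13) ?_
    rw [qG, Subgroup.card_map_of_injective (Subgroup.subtype_injective _), D.card_Q]
  have hin : g * z * g⁻¹ ∈ qG Q := by rw [hg]; exact mem_qG.2 a.2
  refine ⟨h, hg ▸ h.conj g, hp, hp.map _, mem_qG.2 a.2, h.mem_conj g hin, hne, fun b c hbc y => ?_⟩
  rw [← h.mem_map_iff (a := b * g) (b := c) (by rw [← hbc, ← hg]; simp [mul_assoc]) y]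
  simp only [Subgroup.mem_map_equiv, MulAut.conj_symm_apply]
  simp [mul_assoc]

section facts

variable (D : Model Q (zH z)) {g : G} {a : Q}
  (hg : g * z * g⁻¹ = ((a : Subgroup.centralizer ({z} : Set G)) : G))
  (hne : ((a : Subgroup.centralizer ({z} : Set G)) : G) ≠ z)

include D hg hne

theorem E0_comm {e : Subgroup.centralizer ({z} : Set G)} (he : e ∈ E0 Q g) :
    Commute e (a : Subgroup.centralizer ({z} : Set G)) :=
  Subtype.ext ((twoPair D hg hne).hQ'.comm e he)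

theorem E0_norm {k e : Subgroup.centralizer ({z} : Set G)}
    (hk : Commute k (a : Subgroup.centralizer ({z} : Set G))) (he : e ∈ E0 Q g) :
    k * e * k⁻¹ ∈ E0 Q g :=
  (twoPair D hg hne).hQ'.norm k (congrArg Subtype.val hk.eq) e he

theorem E0_comm_sq {e f : Subgroup.centralizer ({z} : Set G)} (he : e ∈ E0 Q g) (hf : f ∈ E0 Q g) :
    (e * f * e⁻¹ * f⁻¹ ∈ Q ∧ e * f * e⁻¹ * f⁻¹ ∈ E0 Q g) ∧ e * e ∈ Q := by
  have h := (twoPair D hg hne).comm_sq_R (r := (e : G)) (s := (f : G))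
    (Subgroup.mem_sup_left ⟨he, e.2⟩) (Subgroup.mem_sup_left ⟨hf, f.2⟩)
  rw [pow_two] at h
  exact ⟨⟨mem_qG.1 h.1.1, h.1.2⟩, mem_qG.1 h.2.1⟩

theorem E0_isPGroup : IsPGroup 2 (E0 Q g) :=
  (twoPair D hg hne).hp'.comap_subtype

theorem card_E0_ge : 2 ^ 12 ≤ Nat.card (E0 Q g) := by
  classical
  have P := twoPair D hg hne
  set Q' := (qG Q).map (MulAut.conj g).toMonoidHom with hQ'
  have hc : Nat.card Q' = 2 ^ 13 := by
    rw [hQ', Subgroup.card_map_of_injective (MulEquiv.injective (MulAut.conj g)), qG,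
      Subgroup.card_map_of_injective (Subgroup.subtype_injective _), D.card_Q]
  have hcen : ∀ b : Q', (b : G) * z = z * b ∨
      (b : G) * z * (b : G)⁻¹ = ((a : Subgroup.centralizer ({z} : Set G)) : G) * z := fun b =>
    (P.hQ'.commEl b b.2 z P.hz).imp mul_inv_eq_iff_eq_mul.1 id
  obtain ⟨p, hp, hpz⟩ := P.symm.moves
  let f : Q' → E0 Q g × Bool := fun b =>
    if h : (b : G) * z = z * b then
      (⟨⟨b, Subgroup.mem_centralizer_singleton_iff.2 h⟩, b.2⟩, false)
    else (⟨⟨p⁻¹ * b, by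
      refine Subgroup.mem_centralizer_singleton_iff.2 (mul_inv_eq_iff_eq_mul.1 ?_)
      have e := (hcen b).resolve_left h
      calc p⁻¹ * (b : G) * z * (p⁻¹ * b)⁻¹ = p⁻¹ * ((b : G) * z * (b : G)⁻¹) * p := by
            simp [mul_assoc]
        _ = p⁻¹ * (p * z * p⁻¹) * p := by rw [e, hpz]
        _ = z := by simp [mul_assoc]⟩, mul_mem (inv_mem hp) b.2⟩, true)
  have hinj : Function.Injective f := by
    intro b c e
    simp only [f] at e
    split_ifs at e <;> simp only [Prod.mk.injEq, Subtype.mk.injEq, Bool.true_eq_false,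
      Bool.false_eq_true, and_false, and_true] at e
    · exact Subtype.ext (congrArg (fun x : E0 Q g => ((x : Subgroup.centralizer ({z} : Set G)) : G)) e)
    · exact Subtype.ext (mul_left_cancel
        (congrArg (fun x : E0 Q g => ((x : Subgroup.centralizer ({z} : Set G)) : G)) e))
  have h1 := Nat.card_le_card_of_injective f hinj
  rw [hc, Nat.card_prod, Nat.card_eq_fintype_card (α := Bool), Fintype.card_bool] at h1
  omega

theorem card_E0_inter_le : Nat.card ↥(E0 Q g ⊓ Q) ≤ 2 ^ 7 := by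
  have hel := (twoPair D hg hne).elementary
  refine D.card_abelian_le inf_le_right (fun x hx y hy => Subtype.ext ?_) fun x hx => Subtype.ext ?_
  · have h := congrArg Subtype.val (hel.1.is_comm.comm ⟨(x : G), mem_qG.2 hx.2, hx.1⟩
      ⟨(y : G), mem_qG.2 hy.2, hy.1⟩)
    exact h
  · have := hel.2 (x : G) ⟨mem_qG.2 hx.2, hx.1⟩
    rwa [pow_two] at this

theorem card_E0_le_two : Nat.card (E0 Q g) ≤ 2 * Nat.card ↥(E0 Q g ⊓ D.M) := by
  rw [← Subgroup.card_mul_index (D.M.subgroupOf (E0 Q g)), mul_comm 2,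
    Nat.card_congr (Subgroup.subgroupOfEquivOfLe (inf_le_left : E0 Q g ⊓ D.M ≤ E0 Q g)).toEquiv.symm,
    Subgroup.inf_subgroupOf_left]
  refine Nat.mul_le_mul_left _ ?_
  have h := Subgroup.relIndex_le_of_le_right (H := D.M) (le_top : E0 Q g ≤ ⊤)
    (by rw [Subgroup.relIndex_top_right, D.M_index]; norm_num)
  rwa [Subgroup.relIndex_top_right, D.M_index] at h

theorem exists_image {ρ : D.M →* U6}
    (hρ : ∀ (m : D.M) v, D.act (m : Subgroup.centralizer ({z} : Set G)) v = mat (ρ m) *ᵥ v)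
    (hρK : ∀ m : D.M, ρ m ∈ KS 0) (hρs : ∀ k ∈ KS 0, ∃ m, ρ m = k)
    (hρker : ∀ m : D.M, ρ m = 1 ↔ (m : Subgroup.centralizer ({z} : Set G)) ∈ Q)
    (h0 : D.vec a ≠ 0) :
    let R := ((E0 Q g).subgroupOf D.M).map ρ
    R ≤ KV (D.vec a) ∧ (∀ k ∈ KV (D.vec a), ∀ r ∈ R, k * r * k⁻¹ ∈ R) ∧ IsPGroup 2 R ∧
      Nat.card ↥(E0 Q g ⊓ D.M) = Nat.card R * Nat.card ↥(E0 Q g ⊓ Q) := by
  intro R
  have hfix : ∀ e ∈ E0 Q g, D.act e (D.vec a) = D.vec a := by
    intro e he
    have hh := (E0_comm D hg hne he).eq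
    rw [← D.vec_conj]
    congr 1
    exact Subtype.ext (by rw [MulAut.conjNormal_apply]; exact mul_inv_eq_iff_eq_mul.2 hh)
  refine ⟨?_, ?_, ?_, ?_⟩
  · rintro _ ⟨m, hm, rfl⟩
    exact mem_KV.2 ⟨hρK m, by rw [← hρ]; exact hfix _ hm⟩
  · rintro k hk _ ⟨m, hm, rfl⟩
    obtain ⟨hkK, hkv⟩ := mem_KV.1 hk
    obtain ⟨n, hn⟩ := hρs k hkK
    obtain ⟨j, hj, hjact⟩ := D.exists_comm_lift (m := (n : Subgroup.centralizer ({z} : Set G)))
      (a := a) (by rw [hρ, hn]; exact hkv) h0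
    have hjM : j ∈ D.M := D.mem_M_of_act n.2 hjact
    have hρj : ρ ⟨j, hjM⟩ = k := by
      rw [← hn]
      exact Model.eq_of_mulVec fun v => by rw [← hρ, ← hρ]; exact DFunLike.congr_fun hjact v
    refine ⟨⟨j, hjM⟩ * m * ⟨j, hjM⟩⁻¹, E0_norm D hg hne hj hm, ?_⟩
    rw [map_mul, map_mul, map_inv, hρj]
  · exact ((E0_isPGroup D hg hne).comap_subtype).map ρ
  · let f := ρ.subgroupMap ((E0 Q g).subgroupOf D.M)
    have h := Subgroup.card_mul_index f.ker
    rw [Subgroup.index_ker, MonoidHom.range_eq_top.2 (ρ.subgroupMap_surjective _), Subgroup.card_top] at h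
    have e1 : Nat.card ((E0 Q g).subgroupOf D.M) = Nat.card ↥(E0 Q g ⊓ D.M) := by
      rw [← Nat.card_congr (Subgroup.subgroupOfEquivOfLe (inf_le_right : E0 Q g ⊓ D.M ≤ D.M)).toEquiv,
        Subgroup.inf_subgroupOf_right]
    have e2 : Nat.card f.ker = Nat.card ↥(E0 Q g ⊓ Q) := Nat.card_congr
      { toFun := fun x => ⟨(x.1.1 : Subgroup.centralizer ({z} : Set G)), x.1.2,
          (hρker _).1 (congrArg Subtype.val x.2)⟩
        invFun := fun y => ⟨⟨⟨y.1, D.Q_le y.2.2⟩, y.2.1⟩, Subtype.ext ((hρker _).2 y.2.2)⟩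
        left_inv := fun _ => rfl
        right_inv := fun _ => rfl }
    rw [e1, e2] at h
    exact h.symm.trans (mul_comm _ _)

theorem vec_ne_zero : D.vec a ≠ 0 := by
  intro h
  rcases (D.vec_eq_zero a).1 h with e | e
  · exact (twoPair D hg hne).hQ'.ne_one (congrArg Subtype.val e)
  · exact hne (congrArg Subtype.val e)

theorem vec_iso : nf (D.vec a) = 0 :=
  (D.vec_sq a).1 (Subtype.ext (twoPair D hg hne).hQ'.inv)

end facts

theorem exists_shift (D : Model Q (zH z)) {g : G} {a : Q}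
    (hg : g * z * g⁻¹ = ((a : Subgroup.centralizer ({z} : Set G)) : G))
    (hne : ((a : Subgroup.centralizer ({z} : Set G)) : G) ≠ z)
    (h : Subgroup.centralizer ({z} : Set G)) :
    ∃ b : Q, (b : Subgroup.centralizer ({z} : Set G)) = h * a * h⁻¹ ∧
      D.vec b = D.act h (D.vec a) ∧
      ((h : G) * g) * z * ((h : G) * g)⁻¹ = ((b : Subgroup.centralizer ({z} : Set G)) : G) ∧
      ((b : Subgroup.centralizer ({z} : Set G)) : G) ≠ z := by
  refine ⟨⟨h * a * h⁻¹, (inferInstance : Q.Normal).conj_mem _ a.2 h⟩, rfl,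
    D.vec_conj' h a _, ?_, fun e => hne ?_⟩
  · show _ = (h : G) * ((a : Subgroup.centralizer ({z} : Set G)) : G) * (h : G)⁻¹
    rw [← hg]
    simp [mul_assoc]
  · have e' : (h : G) * ((a : Subgroup.centralizer ({z} : Set G)) : G) * (h : G)⁻¹ = z := e
    calc ((a : Subgroup.centralizer ({z} : Set G)) : G)
        = (h : G)⁻¹ * ((h : G) * ((a : Subgroup.centralizer ({z} : Set G)) : G) * (h : G)⁻¹) * h := by
          simp [mul_assoc]
      _ = z := by rw [e', mul_assoc, ← Subgroup.mem_centralizer_singleton_iff.1 h.2,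
          inv_mul_cancel_left]

/-- A conjugate of the involution in the extraspecial subgroup lies in the orbit of 1701. -/
theorem big_of_conj (D : Model Q (zH z)) {g : G} {a : Q}
    (hg : g * z * g⁻¹ = ((a : Subgroup.centralizer ({z} : Set G)) : G))
    (hne : ((a : Subgroup.centralizer ({z} : Set G)) : G) ≠ z) : Big (D.vec a) := by
  refine (small_or_big (vec_iso D hg hne) (vec_ne_zero D hg hne)).resolve_left fun hs => ?_
  obtain ⟨h, -, eh⟩ := D.exists_small hs
  obtain ⟨b, -, hvb, hgb, hneb⟩ := exists_shift D hg hne h⁻¹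
  rw [← eh, D.act_inv_apply] at hvb
  obtain ⟨ρ, hρ, hρK, hρs, hρker⟩ := D.exists_rho
  obtain ⟨h1, h2, h3, h4⟩ := exists_image D hgb hneb hρ hρK hρs hρker (vec_ne_zero D hgb hneb)
  rw [hvb] at h1 h2
  letI := D.fld
  letI := D.fin
  have hbot := normal_two_small D.card_F9 h1 h2 h3
  rw [hbot, Subgroup.card_bot, one_mul] at h4
  have := card_E0_ge D hgb hneb
  have := card_E0_inter_le D hgb hneb
  have := card_E0_le_two D hgb hneb
  omega

/-- The facts about the conjugate extraspecial subgroup at the representative. -/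
theorem core_facts (D : Model Q (zH z)) {g : G} {a : Q}
    (hg : g * z * g⁻¹ = ((a : Subgroup.centralizer ({z} : Set G)) : G))
    (hne : ((a : Subgroup.centralizer ({z} : Set G)) : G) ≠ z) (hv : D.vec a = bigV) :
    Nat.card (E0 Q g) = 2 ^ 12 ∧ Nat.card ↥(E0 Q g ⊓ Q) = 2 ^ 7 ∧
      Nat.card ↥(E0 Q g ⊓ D.M) = 2 ^ 11 ∧
      (∀ e ∈ E0 Q g ⊓ D.M, ∃ k ∈ OU, ∀ v, D.act e v = mat k *ᵥ v) ∧
      ∀ k ∈ OU, ∃ e ∈ E0 Q g ⊓ D.M, ∀ v, D.act e v = mat k *ᵥ v := by
  obtain ⟨ρ, hρ, hρK, hρs, hρker⟩ := D.exists_rho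
  obtain ⟨h1, h2, h3, h4⟩ := exists_image D hg hne hρ hρK hρs hρker (vec_ne_zero D hg hne)
  rw [hv] at h1 h2
  letI := D.fld
  letI := D.fin
  have hle := normal_two_big D.card_F9 h1 h2 h3
  have h16 := Subgroup.card_le_of_le hle
  rw [card_OU] at h16
  have i1 := card_E0_ge D hg hne
  have i2 := card_E0_inter_le D hg hne
  have i3 := card_E0_le_two D hg hne
  set r := Nat.card (((E0 Q g).subgroupOf D.M).map ρ)
  set l := Nat.card ↥(E0 Q g ⊓ Q)
  have i4 : r * l ≤ 16 * 2 ^ 7 := Nat.mul_le_mul h16 i2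
  have hl : l = 2 ^ 7 := by
    by_contra hne'
    have : r * l ≤ 16 * (2 ^ 7 - 1) := Nat.mul_le_mul h16 (by omega)
    omega
  have hr : r = 16 := by
    by_contra hne'
    have : r * l ≤ 15 * 2 ^ 7 := Nat.mul_le_mul (by omega) hl.le
    omega
  refine ⟨?_, hl, by rw [h4, hr, hl]; norm_num, fun e he => ?_, fun k hk => ?_⟩
  · rw [h4, hr, hl] at i3
    omega
  · exact ⟨ρ ⟨e, he.2⟩, hle ⟨⟨e, he.2⟩, he.1, rfl⟩, hρ ⟨e, he.2⟩⟩
  · have heq : ((E0 Q g).subgroupOf D.M).map ρ = OU :=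
      Subgroup.eq_of_le_of_card_ge hle (by rw [card_OU]; exact hr.ge)
    rw [← heq] at hk
    obtain ⟨m, hm, rfl⟩ := hk
    exact ⟨m, ⟨hm, m.2⟩, hρ m⟩

theorem exists_at_bigV (D : Model Q (zH z)) {g : G} {a : Q}
    (hg : g * z * g⁻¹ = ((a : Subgroup.centralizer ({z} : Set G)) : G))
    (hne : ((a : Subgroup.centralizer ({z} : Set G)) : G) ≠ z) :
    ∃ h : Subgroup.centralizer ({z} : Set G), ∃ b : Q,
      (b : Subgroup.centralizer ({z} : Set G)) = h * a * h⁻¹ ∧ D.vec b = bigV ∧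
      ((h : G) * g) * z * ((h : G) * g)⁻¹ = ((b : Subgroup.centralizer ({z} : Set G)) : G) ∧
      ((b : Subgroup.centralizer ({z} : Set G)) : G) ≠ z := by
  obtain ⟨h, -, eh⟩ := D.exists_big (big_of_conj D hg hne)
  obtain ⟨b, hb, hvb, hgb, hneb⟩ := exists_shift D hg hne h⁻¹
  rw [← eh, D.act_inv_apply] at hvb
  exact ⟨h⁻¹, b, hb, hvb, hgb, hneb⟩

/-- Every model has the standard outer element. -/
theorem hasOuter (D : Model Q (zH z)) {g : G} {a : Q}
    (hg : g * z * g⁻¹ = ((a : Subgroup.centralizer ({z} : Set G)) : G))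
    (hne : ((a : Subgroup.centralizer ({z} : Set G)) : G) ≠ z) (hv : D.vec a = bigV)
    (hcomm : ∀ X : Matrix (Fin 6) (Fin 6) K4, (∀ v, nf (X *ᵥ v) = nf v) →
      (∀ c ∈ oGens, ofCode c * X = X * ofCode c) → X *ᵥ bigV = bigV →
      (∀ v, Small v → Small (X *ᵥ v)) → ∃ c ∈ oL, X = ofCode c)
    (hsemi : ∀ X : Matrix (Fin 6) (Fin 6) K4, (∀ v, nf (X *ᵥ v) = nf v) →
      (∀ c ∈ oGens, ofCode c * X = X * ofCode (galM c)) → X *ᵥ gal bigV = bigV →
      (∀ v, Small v → Small (X *ᵥ gal v)) → ∃ p ∈ sylL, flag p = true ∧ X = ofCode (base p)) :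
    D.HasOuter := by
  obtain ⟨c1, c2, c3, c4, c5⟩ := core_facts D hg hne hv
  obtain ⟨e, he, heM⟩ : ∃ e ∈ E0 Q g, e ∉ D.M := by
    by_contra h
    push Not at h
    rw [inf_eq_left.2 (fun x hx => h x hx), c1] at c3
    norm_num at c3
  have hfix : D.act e bigV = bigV := by
    rw [← hv, ← D.vec_conj]
    congr 1
    exact Subtype.ext (by
      rw [MulAut.conjNormal_apply]; exact mul_inv_eq_iff_eq_mul.2 (E0_comm D hg hne he).eq)
  have hcom : ∀ c ∈ oGens, ∀ v, D.act e (ofCode c *ᵥ v) = ofCode c *ᵥ D.act e v := by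
    intro c hc v
    obtain ⟨k, hk, rfl⟩ := oGens_in c hc
    have hkO : k ∈ OU := Subgroup.subset_closure hc
    obtain ⟨m, hm, hmv⟩ := c5 k hkO
    rw [← mat_eq, ← hmv, ← hmv, ← D.act_mul_apply, ← D.act_mul_apply]
    have h1 := (E0_comm_sq D hg hne he hm.1).1.1
    have h2 : D.act (e * m) = D.act (m * e) := by
      rw [show e * m = e * m * e⁻¹ * m⁻¹ * (m * e) by simp [mul_assoc], map_mul,
        (D.ker_act _).2 h1, one_mul]
    rw [h2]
  rcases D.act_semi e with hlin | hsl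
  · exfalso
    obtain ⟨X, hX⟩ := exists_GU (D.act e) hlin (D.act_nf e)
    obtain ⟨c, hc, hXc⟩ := hcomm X.1 (fun v => by rw [hX]; exact D.act_nf e v)
      (fun c hc => Matrix.ext_of_mulVec_single fun i => by
        rw [← Matrix.mulVec_mulVec, ← Matrix.mulVec_mulVec, hX, hX]; exact (hcom c hc _).symm)
      (by rw [hX]; exact hfix) (fun v hs => by rw [hX]; exact D.act_small e hs)
    obtain ⟨k, -, hk⟩ : ∃ k ∈ (⊤ : Subgroup U6), cd k = c := by
      have h := oL_chk
      simp only [Bool.and_eq_true, List.all_eq_true] at h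
      refine spanTree_in (H := ⊤) (fun c hc => ?_) 4 [oneC] (fun c hc => ?_) c
        (memB_iff.1 (h.2 c hc))
      · obtain ⟨g, -, e⟩ := oGens_in c hc; exact ⟨g, Subgroup.mem_top _, e⟩
      · rw [List.mem_singleton] at hc; subst hc; exact ⟨1, Subgroup.mem_top _, cd_one⟩
    obtain ⟨m, hm, hmv⟩ := c5 k (mem_OU.2 (hk ▸ hc))
    refine heM (D.mem_M_of_act hm.2 (AddMonoidHom.ext fun v => ?_))
    show D.act e v = D.act m v
    exact ((hX v).symm.trans (by rw [hXc, mat_eq, hk])).trans (hmv v).symm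
  · let γ : V6 →+ V6 := AddMonoidHom.mk' (fun v => D.act e (gal v)) fun u v => by
      show D.act e (gal (u + v)) = _
      rw [show gal (u + v) = gal u + gal v from funext fun i => CharTwo.add_sq (u i) (v i),
        map_add]
    have hgs : ∀ v, gal (om • v) = (om ^ 2) • gal v := fun v => funext fun i => mul_pow _ _ _
    have hgn : ∀ v, nf (gal v) = nf v := by
      intro v
      have key : ∀ x y : ZMod 2, (⟨x, y⟩ : K4) ^ 2 * ((⟨x, y⟩ : K4) ^ 2) ^ 2 =
          (⟨x, y⟩ : K4) * (⟨x, y⟩ : K4) ^ 2 := by decide +kernel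
      unfold nf Cfsg.hermForm gal
      exact Finset.sum_congr rfl fun i _ => key (v i).re (v i).im
    have hγω : ∀ v, γ (om • v) = om • γ v := by
      intro v
      show D.act e (gal (om • v)) = om • D.act e (gal v)
      rw [hgs, pow_two, mul_smul, hsl, hsl, smul_smul]
      congr 1
    obtain ⟨X, hX⟩ := exists_GU γ hγω (fun v => by show nf (D.act e (gal v)) = _; rw [D.act_nf, hgn])
    have hXe : ∀ v, (X.1 : Matrix (Fin 6) (Fin 6) K4) *ᵥ gal v = D.act e v := fun v => by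
      rw [hX]; show D.act e (gal (gal v)) = _; rw [gal_gal]
    obtain ⟨p, hp, hflag, hXp⟩ := hsemi X.1
      (fun v => by rw [hX]; show nf (D.act e (gal v)) = _; rw [D.act_nf, hgn])
      (fun c hc => by
        refine Matrix.ext_of_mulVec_single fun i => ?_
        rw [← Matrix.mulVec_mulVec, ← Matrix.mulVec_mulVec, hX]
        obtain ⟨w, hw⟩ : ∃ w, gal w = Pi.single i 1 := ⟨_, gal_gal _⟩
        rw [← hw]
        rw [← gal_mulVec, hXe]
        show ofCode c *ᵥ D.act e (gal (gal w)) = _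
        rw [gal_gal, hcom c hc])
      (by rw [hXe]; exact hfix) (fun v hs => by rw [hXe]; exact D.act_small e hs)
    exact ⟨e, heM, p, hp, hflag, fun v => by rw [← hXe, hXp, sAct, if_pos hflag]⟩

end CfsgLib.Spor.LargeFi
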