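import Cfsg.Agent.Lib.Spor.LargeFi.CentSplit
import Cfsg.Agent.Lib.Spor.LargeFi.Core
import Cfsg.Agent.Lib.Spor.LargeFi.OuterSemi

/-!
The centraliser of a subgroup of order three over the scalars is quasisimple, of type `6.U₄(3)`.
-/

set_option autoImplicit false
set_option maxRecDepth 100000

namespace CfsgLib.Spor.LargeFi

open CfsgLib.Spor.U62 CfsgLib.ThreeTransp
open Matrix
open scoped commutatorElement

theorem exists_zeta : ∃ ζ : KS 0, cd (ζ : U6) = omC ∧ (∀ v, mat (ζ : U6) *ᵥ v = om • v) ∧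
    orderOf ζ = 3 ∧ ∀ y, y * ζ = ζ * y := by
  have h := realG_cases
  simp only [Bool.and_eq_true, memV_iff] at h
  obtain ⟨g, hg, eg⟩ := mem_realT_in h.1.1.1.1
  have hv : ∀ v, mat g *ᵥ v = om • v := fun v => by
    rw [mat_eq, eg, omC_eq, Matrix.smul_mulVec, Matrix.one_mulVec]
  have : Fact (Nat.Prime 3) := ⟨by norm_num⟩
  refine ⟨⟨g, hg⟩, eg, hv, orderOf_eq_prime ?_ ?_, fun y => ?_⟩
  · refine Subtype.ext (cd_injective ?_)
    rw [SubmonoidClass.coe_pow, cd_pow, OneMemClass.coe_one, cd_one, eg]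
    decide +kernel
  · intro e
    have := congrArg (fun t : KS 0 => cd (t : U6)) e
    simp only [OneMemClass.coe_one, cd_one, eg] at this
    revert this
    decide +kernel
  · refine Subtype.ext (mat_injective (Matrix.ext_of_mulVec_single fun i => ?_))
    show mat ((y : U6) * g) *ᵥ _ = mat (g * (y : U6)) *ᵥ _
    rw [map_mul, map_mul, ← Matrix.mulVec_mulVec, ← Matrix.mulVec_mulVec, hv, hv,
      Matrix.mulVec_smul]

section

variable {F9 : Type} [Field F9] [Fintype F9] (hF9 : Fintype.card F9 = 9) (ζ : KS 0)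
  (hζ : orderOf ζ = 3) (hc : ∀ y, y * ζ = ζ * y)

include hF9 hζ hc

theorem center_KS0 : Subgroup.zpowers ζ = Subgroup.center ↥(KS 0) :=
  Subgroup.eq_of_le_of_card_ge (Subgroup.zpowers_le.2 (Subgroup.mem_center_iff.2 hc))
    (by rw [Nat.card_zpowers, hζ, (KS_spec hF9 0).1.1])

theorem KS0_perfect (hcd : cd (ζ : U6) = omC) : commutator ↥(KS 0) = ⊤ := by
  obtain ⟨e⟩ := (KS_spec hF9 0).1.2
  have h31 : ζ ^ 3 = 1 := by
    have := pow_orderOf_eq_one ζ
    rwa [hζ] at this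
  obtain ⟨a, ha, hca⟩ := alt_in altA (by simp)
  obtain ⟨b, hb, hcb⟩ := gens_mem 0 ((gens 0).getD 1 oneC) (by simp [gens])
  obtain ⟨A, hA⟩ : ∃ A : KS 0, cd (A : U6) = altA := ⟨⟨a, (mem_KV.1 ha).1⟩, hca⟩
  obtain ⟨C, hC⟩ : ∃ C : KS 0, cd (C : U6) = centC :=
    ⟨⟨b, hb⟩ * A, by rw [Subgroup.coe_mul, cd_mul, hcb, hA, centC]⟩
  have hcen := center_KS0 hF9 ζ hζ hc
  have hno : ∀ y ∈ Subgroup.center ↥(KS 0), A * C ≠ C * A * y := by
    intro y hy e'
    rw [← hcen, ← mem_powers_iff_mem_zpowers] at hy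
    obtain ⟨n, rfl⟩ := hy
    simp only at e'
    rw [← pow_mod_orderOf, hζ] at e'
    have e2 := congrArg (fun t : KS 0 => cd (t : U6)) e'
    simp only [Subgroup.coe_mul, cd_mul, SubmonoidClass.coe_pow, cd_pow, hcd, hA, hC] at e2
    have key : ∀ i < 3, mulC altA centC ≠ mulC (mulC centC altA) (powC omC i) := by decide +kernel
    exact key (n % 3) (Nat.mod_lt _ (by norm_num)) e2
  rcases normal_cases hF9 e (commutator ↥(KS 0) ⊔ Subgroup.center ↥(KS 0)) le_sup_right with h | h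
  · exfalso
    have hmem2 : ⁅A, C⁆ ∈ Subgroup.center ↥(KS 0) :=
      h.le (Subgroup.mem_sup_left (Subgroup.commutator_mem_commutator (Subgroup.mem_top _)
        (Subgroup.mem_top _)))
    refine hno ⁅A, C⁆ hmem2 ?_
    rw [Subgroup.mem_center_iff.1 hmem2 (C * A), commutatorElement_def]
    group
  · obtain ⟨φ, hφ⟩ : ∃ φ : ↥(KS 0) →* Abelianization ↥(KS 0), φ = Abelianization.of := ⟨_, rfl⟩
    have h3 : ∀ y, φ y ^ 3 = 1 := by
      intro y
      obtain ⟨d, hd, t, ht, rfl⟩ := Subgroup.mem_sup_of_normal_right.1 (h ▸ Subgroup.mem_top y)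
      rw [← hcen, ← mem_powers_iff_mem_zpowers] at ht
      obtain ⟨n, rfl⟩ := ht
      have hd1 : φ d = 1 := by
        rw [hφ, ← MonoidHom.mem_ker, Abelianization.ker_of]; exact hd
      rw [map_mul, hd1, one_mul, map_pow, ← pow_mul, mul_comm n 3, pow_mul, ← map_pow, h31,
        map_one, one_pow]
    have hw := scalar_word
    simp only [Bool.and_eq_true, Nat.beq_eq] at hw
    obtain ⟨⟨h5, h7⟩, h15⟩ := hw
    have hone : ∀ (y : KS 0) (n : ℕ), cd ((y : U6) ^ n) = oneC → φ y ^ n = 1 := fun y n hy => by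
      rw [← map_pow, show y ^ n = 1 from Subtype.ext (cd_injective (by
        rw [SubmonoidClass.coe_pow, hy, OneMemClass.coe_one, cd_one])), map_one]
    have hA1 : φ A = 1 := by
      have e1 := pow_gcd_eq_one.2 ⟨h3 A, hone A 5 (by rw [cd_pow, hA, h5])⟩
      simpa using e1
    have hC1 : φ C = 1 := by
      have e1 := pow_gcd_eq_one.2 ⟨h3 C, hone C 7 (by rw [cd_pow, hC, h7])⟩
      simpa using e1
    have hz2 : (A * C) ^ 5 = ζ * ζ := Subtype.ext (cd_injective (by
      rw [SubmonoidClass.coe_pow, Subgroup.coe_mul, Subgroup.coe_mul, cd_pow, cd_mul, cd_mul, hA,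
        hC, hcd, h15]))
    have hzz : φ (ζ * ζ) = 1 := by rw [← hz2, map_pow, map_mul, hA1, hC1, mul_one, one_pow]
    have hz : φ ζ = 1 := by
      have e4 : ζ = (ζ * ζ) * (ζ * ζ) := by
        calc ζ = ζ ^ 3 * ζ := by rw [h31, one_mul]
          _ = _ := by simp [pow_succ, mul_assoc]
      rw [e4, map_mul, hzz, one_mul]
    refine top_le_iff.1 (h ▸ sup_le le_rfl ?_)
    rw [← hcen, Subgroup.zpowers_le, ← Abelianization.ker_of, MonoidHom.mem_ker, ← hφ]
    exact hz

end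

variable {G : Type*} [Group G] [Finite G] {z : G}
  {Q : Subgroup (Subgroup.centralizer ({z} : Set G))} [Q.Normal]

/-- The scalar generator of a subgroup of order three normal modulo `Q`. -/
theorem exists_generator (D : Model Q (zH z)) {X : Subgroup (Subgroup.centralizer ({z} : Set G))}
    (hX : Nat.card X = 3) (hXQ : (X ⊔ Q).Normal) :
    ∃ x, x ^ 3 = 1 ∧ (∀ v, D.act x v = om • v) ∧ X = Subgroup.zpowers x := by
  have : Fact (Nat.Prime 3) := ⟨by norm_num⟩
  let := D.fld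
  let := D.fin
  obtain ⟨ζ, -, hζv, hζ, hζc⟩ := exists_zeta
  obtain ⟨x, hx⟩ := exists_prime_orderOf_dvd_card' (G := X) 3 (by rw [hX])
  obtain ⟨x0, hx0X, hx0⟩ : ∃ x0 ∈ X, orderOf x0 = 3 := ⟨x, x.2, by rw [Subgroup.orderOf_coe, hx]⟩
  have hXz : ∀ y ∈ X, orderOf y = 3 → Subgroup.zpowers y = X := fun y hy ho =>
    Subgroup.eq_of_le_of_card_ge (Subgroup.zpowers_le.2 hy) (by rw [Nat.card_zpowers, ho, hX])
  have hx03 : x0 ^ 3 = 1 := by rw [← hx0, pow_orderOf_eq_one]
  have hx0M : x0 ∈ D.M := by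
    have h1 : x0 = (x0 * x0) * (x0 * x0) := by
      calc x0 = x0 ^ 3 * x0 := by rw [hx03, one_mul]
        _ = _ := by simp [pow_succ, mul_assoc]
    rw [h1]
    exact Subgroup.mul_self_mem_of_index_two D.M_index _
  obtain ⟨ρ, hρ, hρK, hρs, hρker⟩ := D.exists_rho
  obtain ⟨g0, hg0⟩ : ∃ g0 : KS 0, (g0 : U6) = ρ ⟨x0, hx0M⟩ := ⟨⟨_, hρK _⟩, rfl⟩
  obtain ⟨e⟩ := (KS_spec D.card_F9 0).1.2
  have hcen := center_KS0 D.card_F9 ζ hζ hζc
  have hnorm : ∀ k : KS 0, k * g0 * k⁻¹ ∈ Subgroup.zpowers g0 := by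
    intro k
    obtain ⟨m, hm⟩ := hρs k k.2
    have h1 := hXQ.conj_mem x0 (Subgroup.mem_sup_left hx0X) (m : Subgroup.centralizer ({z} : Set G))
    obtain ⟨y, hy, q, hq, e'⟩ := Subgroup.mem_sup_of_normal_right.1 h1
    rw [← hXz x0 hx0X hx0, Subgroup.mem_zpowers_iff] at hy
    obtain ⟨n, rfl⟩ := hy
    refine Subgroup.mem_zpowers_iff.2 ⟨n, Subtype.ext ?_⟩
    have e2 : m * ⟨x0, hx0M⟩ * m⁻¹ = ⟨x0, hx0M⟩ ^ n * ⟨q, D.Q_le hq⟩ := Subtype.ext (by
      simp only [Subgroup.coe_mul, Subgroup.coe_inv, SubgroupClass.coe_zpow, e'])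
    have e3 := congrArg ρ e2
    rw [map_mul, map_mul, map_inv, map_mul, map_zpow, (hρker ⟨q, D.Q_le hq⟩).2 hq, mul_one, hm,
      ← hg0] at e3
    rw [SubgroupClass.coe_zpow, ← e3]
    rfl
  have : (Subgroup.zpowers g0).Normal := ⟨by
    rintro t ht k
    obtain ⟨n, rfl⟩ := Subgroup.mem_zpowers_iff.1 ht
    rw [← conj_zpow]
    exact Subgroup.zpow_mem _ (hnorm k) n⟩
  have hg0c : g0 ∈ Subgroup.center ↥(KS 0) := by
    rcases normal_cases D.card_F9 e (Subgroup.zpowers g0 ⊔ Subgroup.center ↥(KS 0)) le_sup_right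
      with h | h
    · exact h.le (Subgroup.mem_sup_left (Subgroup.mem_zpowers g0))
    · refine Subgroup.mem_center_iff.2 fun y => ?_
      have hle : Subgroup.zpowers g0 ⊔ Subgroup.center ↥(KS 0) ≤ Subgroup.centralizer ({g0} : Set _) :=
        sup_le (Subgroup.zpowers_le.2 (Subgroup.mem_centralizer_singleton_iff.2 rfl))
          (Subgroup.center_le_centralizer _)
      exact Subgroup.mem_centralizer_singleton_iff.1 (hle (h ▸ Subgroup.mem_top y))
  have hg01 : g0 ≠ 1 := by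
    intro h
    have hq : x0 ∈ Q := (hρker ⟨x0, hx0M⟩).1 (by rw [← hg0, h]; rfl)
    have h1 : orderOf (⟨x0, hq⟩ : Q) = 3 := by rw [Subgroup.orderOf_mk, hx0]
    have h2 : orderOf (⟨x0, hq⟩ : Q) ∣ Nat.card Q := orderOf_dvd_natCard _
    rw [h1, D.card_Q] at h2
    norm_num at h2
  rw [← hcen, ← mem_powers_iff_mem_zpowers] at hg0c
  obtain ⟨n, hn⟩ := hg0c
  simp only at hn
  rw [← pow_mod_orderOf, hζ] at hn
  have hn3 : n % 3 < 3 := Nat.mod_lt _ (by norm_num)
  have hact : ∀ v, D.act x0 v = mat (g0 : U6) *ᵥ v := fun v => by rw [hg0]; exact hρ ⟨x0, hx0M⟩ v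
  interval_cases hi : n % 3
  · exact absurd (hn.symm.trans (pow_zero ζ)) hg01
  · exact ⟨x0, hx03, fun v => by rw [hact, ← hn, pow_one, hζv], (hXz x0 hx0X hx0).symm⟩
  · refine ⟨x0 * x0, by rw [← pow_two, ← pow_mul, pow_mul', hx03, one_pow], fun v => ?_, ?_⟩
    · rw [D.act_mul_apply, hact, hact, ← hn, pow_two, Subgroup.coe_mul, map_mul,
        ← Matrix.mulVec_mulVec, ← Matrix.mulVec_mulVec, hζv, hζv, hζv, hζv, smul_smul, smul_smul,
        smul_smul, show om * om * om * om = om by decide +kernel]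
    · refine (hXz _ (X.mul_mem hx0X hx0X) (orderOf_eq_prime ?_ fun h => ?_)).symm
      · rw [← pow_two, ← pow_mul, pow_mul', hx03, one_pow]
      · have h1 : x0 = 1 := by
          calc x0 = x0 ^ 3 * x0 := by rw [hx03, one_mul]
            _ = (x0 * x0) * (x0 * x0) := by simp [pow_succ, mul_assoc]
            _ = 1 := by rw [h, one_mul]
        rw [h1, orderOf_one] at hx0
        norm_num at hx0

/-- A conjugate of the involution at the representative with the normalised lift. -/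
theorem exists_cyc_conj (D : Model Q (zH z)) (hF : Cfsg.IsOfLargeFischerTypeAt z Q)
    {x : Subgroup.centralizer ({z} : Set G)} (hx : ∀ v, D.act x v = om • v) :
    ∃ (g : G) (s : Q), g * z * g⁻¹ = ((s : Subgroup.centralizer ({z} : Set G)) : G) ∧
      ((s : Subgroup.centralizer ({z} : Set G)) : G) ≠ z ∧ D.vec s = bigV ∧
      Model.Cyc x (s : Subgroup.centralizer ({z} : Set G)) := by
  obtain ⟨⟨-, -, -, -, g0, ⟨hq, hgQ⟩, hne⟩, -⟩ := hF
  obtain ⟨h, b, -, hvb, hgb, hneb⟩ := exists_at_bigV D (a := ⟨_, hgQ⟩) rfl hne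
  rcases D.cyc_or hx b.2 with hb | hb
  · exact ⟨_, b, hgb, hneb, hvb, hb⟩
  · have h0 : D.vec b ≠ 0 := by rw [hvb]; exact big_bigV.isotropic.2
    obtain ⟨p, hp, ep⟩ := D.moves h0
    obtain ⟨c, hcv, hvc, hgc, hnec⟩ := exists_shift D hgb hneb p
    refine ⟨_, c, hgc, hnec, ?_, ?_⟩
    · rw [hvc, (D.ker_act p).2 hp, hvb]; rfl
    · rw [hcv, ep]; exact hb

set_option maxHeartbeats 1600000 in
/-- A complement to the centre in the centraliser of the scalar is impossible. -/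
theorem no_complement (D : Model Q (zH z)) (hF : Cfsg.IsOfLargeFischerTypeAt z Q)
    {x : Subgroup.centralizer ({z} : Set G)} (hx : ∀ v, D.act x v = om • v)
    (C1 : Subgroup (Subgroup.centralizer ({z} : Set G))) (hC1x : ∀ c ∈ C1, c * x = x * c)
    (hC1M : C1 ≤ D.M) (hC1Q : ∀ c ∈ C1, c ∈ Q → c = 1)
    (hC1 : ∀ g ∈ KS 0, ∃ c ∈ C1, ∀ v, D.act c v = mat g *ᵥ v) : False := by
  obtain ⟨g, s, hg, hne, hs, hsC⟩ := exists_cyc_conj D hF hx
  have P := twoPair D hg hne
  have hconj : ∀ {A : Subgroup G} {y : G}, y ∈ A.map (MulAut.conj g).toMonoidHom ↔ g⁻¹ * y * g ∈ A :=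
    fun {A y} => by
      constructor
      · rintro ⟨q, hq, rfl⟩; simpa [mul_assoc] using hq
      · intro h; exact ⟨_, h, by simp [mul_assoc]⟩
  obtain ⟨a', ha'Q, ha'⟩ : ∃ a', a' ∈ Q ∧
      (a' : G) = g⁻¹ * z * g := by
    obtain ⟨a', h1, h2⟩ := hconj.1 P.hz
    exact ⟨a', h1, h2⟩
  have hne' : (a' : G) ≠ z := by
    rw [ha']
    intro e
    refine hne ?_
    rw [← hg]
    refine mul_inv_eq_iff_eq_mul.2 ?_
    calc g * z = g * (g⁻¹ * z * g) := by rw [e]
      _ = z * g := by simp [mul_assoc]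
  have hbig := big_of_conj D (g := g⁻¹) (a := ⟨a', ha'Q⟩) (by rw [inv_inv]; exact ha'.symm) hne'
  obtain ⟨k, hk⟩ := D.conj_of_big (a := ⟨a', ha'Q⟩) (b := s) hbig (by rw [hs]; exact big_bigV)
  have hkG : (k : G) * (g⁻¹ * z * g) * (k : G)⁻¹ = ((s : Subgroup.centralizer ({z} : Set G)) : G) := by
    rw [← ha']; exact congrArg Subtype.val hk
  have hkz : (k : G) * z = z * k := Subgroup.mem_centralizer_singleton_iff.1 k.2
  obtain ⟨w, hw⟩ : ∃ w, w = g * (k : G)⁻¹ := ⟨_, rfl⟩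
  have hws : w * ((s : Subgroup.centralizer ({z} : Set G)) : G) * w⁻¹ = z := by
    rw [hw, ← hkG]; simp [mul_assoc]
  have hwz : w * z * w⁻¹ = ((s : Subgroup.centralizer ({z} : Set G)) : G) := by
    rw [hw, ← hg]
    calc g * (k : G)⁻¹ * z * (g * (k : G)⁻¹)⁻¹ = g * ((k : G)⁻¹ * (z * k)) * g⁻¹ := by
          simp [mul_assoc]
      _ = g * z * g⁻¹ := by rw [← hkz, inv_mul_cancel_left]
  have hwgz : w * g * z = z * (w * g) := by
    refine mul_inv_eq_iff_eq_mul.1 ?_
    calc w * g * z * (w * g)⁻¹ = w * (g * z * g⁻¹) * w⁻¹ := by simp [mul_assoc]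
      _ = z := by rw [hg, hws]
  let T := Subgroup.centralizer ({(s : Subgroup.centralizer ({z} : Set G))} :
    Set (Subgroup.centralizer ({z} : Set G)))
  have hTz : ∀ a : T, w * ((a : Subgroup.centralizer ({z} : Set G)) : G) * w⁻¹ ∈
      Subgroup.centralizer ({z} : Set G) := fun a => by
    have h := congrArg Subtype.val (Subgroup.mem_centralizer_singleton_iff.1 a.2)
    simp only [Subgroup.coe_mul] at h
    refine Subgroup.mem_centralizer_singleton_iff.2 ?_
    calc w * ((a : Subgroup.centralizer ({z} : Set G)) : G) * w⁻¹ * z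
        = w * ((a : Subgroup.centralizer ({z} : Set G)) : G) * w⁻¹ *
          (w * ((s : Subgroup.centralizer ({z} : Set G)) : G) * w⁻¹) := by rw [hws]
      _ = w * (((a : Subgroup.centralizer ({z} : Set G)) : G) *
          ((s : Subgroup.centralizer ({z} : Set G)) : G)) * w⁻¹ := by simp [mul_assoc]
      _ = (w * ((s : Subgroup.centralizer ({z} : Set G)) : G) * w⁻¹) *
          (w * ((a : Subgroup.centralizer ({z} : Set G)) : G) * w⁻¹) := by
        rw [h]; simp [mul_assoc]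
      _ = _ := by rw [hws]
  have hTs : ∀ a : T, (⟨_, hTz a⟩ : Subgroup.centralizer ({z} : Set G)) ∈ T := fun a => by
    refine Subgroup.mem_centralizer_singleton_iff.2 (Subtype.ext ?_)
    have h := Subgroup.mem_centralizer_singleton_iff.1 (a : Subgroup.centralizer ({z} : Set G)).2
    show w * ((a : Subgroup.centralizer ({z} : Set G)) : G) * w⁻¹ *
      ((s : Subgroup.centralizer ({z} : Set G)) : G) = _
    rw [← hwz]
    calc w * ((a : Subgroup.centralizer ({z} : Set G)) : G) * w⁻¹ * (w * z * w⁻¹)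
        = w * (((a : Subgroup.centralizer ({z} : Set G)) : G) * z) * w⁻¹ := by simp [mul_assoc]
      _ = (w * z * w⁻¹) * (w * ((a : Subgroup.centralizer ({z} : Set G)) : G) * w⁻¹) := by
        rw [h]; simp [mul_assoc]
      _ = _ := by rw [hwz]; rfl
  let τ : T →* T :=
    { toFun := fun a => ⟨⟨_, hTz a⟩, hTs a⟩
      map_one' := Subtype.ext (Subtype.ext (by simp))
      map_mul' := fun a b => Subtype.ext (Subtype.ext (by simp [mul_assoc])) }
  have hkQ : ∀ a : Subgroup.centralizer ({z} : Set G), (k⁻¹ * a * k ∈ Q ↔ a ∈ Q) := fun a => by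
    constructor <;> intro h
    · simpa [mul_assoc] using (inferInstance : Q.Normal).conj_mem _ h k
    · simpa using (inferInstance : Q.Normal).conj_mem _ h k⁻¹
  have hτmem : ∀ a : T, (τ a : Subgroup.centralizer ({z} : Set G)) ∈ E0 Q g ↔
      (a : Subgroup.centralizer ({z} : Set G)) ∈ Q := by
    intro a
    rw [← hkQ, ← mem_qG (h := k⁻¹ * (a : Subgroup.centralizer ({z} : Set G)) * k)]
    show w * _ * w⁻¹ ∈ (qG Q).map (MulAut.conj g).toMonoidHom ↔ _
    rw [hconj, hw]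
    simp [mul_assoc]
  obtain ⟨h1, h2, h3, hO1, hO2⟩ := core_facts D hg hne hs
  refine D.split_absurd hx C1 hC1x hC1M hC1Q hC1 hs hsC (E0 Q g) P.hz
    (fun a ha => (E0_comm D hg hne ha).eq) (fun a ha b hb => ?_)
    (fun k hk a ha => E0_norm D hg hne hk ha) hO2 hO1 τ ?_ (fun a ha => (hτmem a).2 ha) ?_
    fun a ha => (hτmem a).1 ha
  · exact (P.hQ'.commEl (a : G) ha (b : G) hb).imp (fun e => Subtype.ext e) fun e => Subtype.ext e
  · intro a b e
    have e1 := congrArg (fun t : T => ((t : Subgroup.centralizer ({z} : Set G)) : G)) e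
    exact Subtype.ext (Subtype.ext (mul_left_cancel (mul_right_cancel e1)))
  · intro a ha
    obtain ⟨q, hq, hqe⟩ := hconj.1 ha
    have hwg : w * g ∈ Subgroup.centralizer ({z} : Set G) :=
      Subgroup.mem_centralizer_singleton_iff.2 hwgz
    have hm := (inferInstance : Q.Normal).conj_mem _ hq ⟨_, hwg⟩
    convert hm using 1
    refine Subtype.ext ?_
    show w * _ * w⁻¹ = w * g * (q : G) * (w * g)⁻¹
    rw [show (q : G) = g⁻¹ * ((a : Subgroup.centralizer ({z} : Set G)) : G) * g from hqe]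
    simp [mul_assoc]

set_option maxHeartbeats 1600000 in
theorem centralizer_six_u43 (hF : Cfsg.IsOfLargeFischerTypeAt z Q)
    (X : Subgroup (Subgroup.centralizer ({z} : Set G))) (hX : Nat.card X = 3)
    (hXQ : (X ⊔ Q).Normal) :
    Cfsg.IsQuasisimple ↥(Subgroup.centralizer (X : Set (Subgroup.centralizer ({z} : Set G)))) ∧
    IsCyclic ↥(Subgroup.center ↥(Subgroup.centralizer (X : Set (Subgroup.centralizer ({z} : Set G))))) ∧
    Nat.card ↥(Subgroup.center ↥(Subgroup.centralizer (X : Set (Subgroup.centralizer ({z} : Set G))))) = 6 ∧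
    ∃ (K : Type) (_ : Field K) (_ : Fintype K), Fintype.card K = 9 ∧
      Nonempty (↥(Subgroup.centralizer (X : Set (Subgroup.centralizer ({z} : Set G)))) ⧸
        Subgroup.center ↥(Subgroup.centralizer (X : Set (Subgroup.centralizer ({z} : Set G)))) ≃*
          Cfsg.PSU 4 K 3) := by
  obtain ⟨D⟩ := model_of_type hF
  let := D.fld
  let := D.fin
  obtain ⟨x, hx3, hx, rfl⟩ := exists_generator D hX hXQ
  rw [Nat.card_zpowers] at hX
  set C := Subgroup.centralizer
    (↑(Subgroup.zpowers x) : Set (Subgroup.centralizer ({z} : Set G))) with hC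
  have hCmem : ∀ c, c ∈ C ↔ c * x = x * c := by
    intro c
    rw [hC, Subgroup.zpowers_eq_closure, Subgroup.centralizer_closure,
      Subgroup.mem_centralizer_singleton_iff]
  have hCM : C ≤ D.M := by
    intro c hc
    by_contra hcM
    have hs := outer_semi hF D hcM
    have hl : ∀ v, D.act c (om • v) = om • D.act c v := fun v => by
      rw [← hx, ← hx, ← D.act_mul_apply, ← D.act_mul_apply, (hCmem c).1 hc]
    have h1 : ∀ v, (om + om ^ 2) • D.act c v = 0 := fun v => by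
      rw [add_smul, ← hl, ← hs, v6_two]
    have h2 : D.act c bigV = 0 :=
      (smul_eq_zero.1 (h1 bigV)).resolve_left (by decide +kernel)
    exact big_bigV.isotropic.2 (D.act_injective c (h2.trans (map_zero _).symm))
  obtain ⟨ρ, hρ, hρK, hρs, hρker⟩ := D.exists_rho
  let ψ : C →* KS 0 := (ρ.comp (Subgroup.inclusion hCM)).codRestrict (KS 0) fun c => hρK _
  have hψ : ∀ (c : C) v, D.act (c : Subgroup.centralizer ({z} : Set G)) v = mat (ψ c : U6) *ᵥ v :=
    fun c v => hρ (Subgroup.inclusion hCM c) v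
  have hψs : Function.Surjective ψ := by
    rintro ⟨g, hg⟩
    obtain ⟨h, hhx, hh⟩ := D.lift_cent hx3 hx hg
    exact ⟨⟨h, (hCmem h).2 hhx⟩, Subtype.ext (Model.eq_of_mulVec fun v => (hψ _ v).symm.trans (hh v))⟩
  have hzC : zH z ∈ C := (hCmem _).2 (zH_comm x).symm
  obtain ⟨zc, hzc⟩ : ∃ zc : C, zc = ⟨zH z, hzC⟩ := ⟨_, rfl⟩
  obtain ⟨xc, hxc⟩ : ∃ xc : C, xc = ⟨x, (hCmem x).2 rfl⟩ := ⟨_, rfl⟩
  have hker : ∀ c : C, ψ c = 1 → c = 1 ∨ c = zc := by
    intro c hc
    have hq : (c : Subgroup.centralizer ({z} : Set G)) ∈ Q :=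
      (hρker (Subgroup.inclusion hCM c)).1 (congrArg Subtype.val hc)
    rcases D.fixed_central hx hq ((hCmem _).1 c.2).symm with e | e
    · exact Or.inl (Subtype.ext e)
    · exact Or.inr (by rw [hzc]; exact Subtype.ext e)
  have hψz : ψ zc = 1 := by
    rw [hzc]
    exact Subtype.ext ((hρker _).2 D.xc.mem)
  obtain ⟨ζ, hζcd, hζv, hζ, hζc⟩ := exists_zeta
  have hψx : ψ xc = ζ := Subtype.ext (Model.eq_of_mulVec fun v => by
    rw [← hψ, hxc, hζv]; exact hx v)
  have hcen := center_KS0 D.card_F9 ζ hζ hζc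
  have hperf := KS0_perfect D.card_F9 ζ hζ hζc hζcd
  -- the centre
  have hzcen : zc ∈ Subgroup.center C := Subgroup.mem_center_iff.2 fun c => by
    rw [hzc]; exact Subtype.ext (zH_comm _)
  have hxcen : xc ∈ Subgroup.center C := Subgroup.mem_center_iff.2 fun c => by
    rw [hxc]; exact Subtype.ext ((hCmem _).1 c.2)
  have hpre : ∀ c : C, ψ c ∈ Subgroup.center ↥(KS 0) → c ∈ Subgroup.zpowers xc ∨
      c ∈ (Subgroup.zpowers xc : Subgroup C).carrier.image (fun t => t * zc) := by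
    intro c hc
    rw [← hcen, Subgroup.mem_zpowers_iff] at hc
    obtain ⟨n, hn⟩ := hc
    have h1 : ψ ((xc ^ n)⁻¹ * c) = 1 := by rw [map_mul, map_inv, map_zpow, hψx, hn, inv_mul_cancel]
    rcases hker _ h1 with e | e
    · exact Or.inl (Subgroup.mem_zpowers_iff.2 ⟨n, inv_mul_eq_one.1 e⟩)
    · exact Or.inr ⟨xc ^ n, Subgroup.zpow_mem _ (Subgroup.mem_zpowers xc) n,
        (inv_mul_eq_iff_eq_mul.1 e).symm⟩
  have hcenC : ∀ c : C, c ∈ Subgroup.center C ↔ ψ c ∈ Subgroup.center ↥(KS 0) := by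
    intro c
    constructor
    · intro hc
      refine Subgroup.mem_center_iff.2 fun y => ?_
      obtain ⟨d, rfl⟩ := hψs y
      rw [← map_mul, ← map_mul, Subgroup.mem_center_iff.1 hc d]
    · intro hc
      rcases hpre c hc with h | ⟨t, ht, rfl⟩
      · exact Subgroup.zpowers_le.2 hxcen h
      · exact Subgroup.mul_mem _ (Subgroup.zpowers_le.2 hxcen ht) hzcen
  have hzord : orderOf zc = 2 := by
    have : Fact (Nat.Prime 2) := ⟨Nat.prime_two⟩
    refine orderOf_eq_prime ?_ fun h => D.xc.ne_one ?_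
    · rw [hzc, pow_two]; exact Subtype.ext D.xc.inv
    · rw [hzc] at h; exact congrArg Subtype.val h
  have hxord : orderOf xc = 3 := by rw [hxc, Subgroup.orderOf_mk, hX]
  have hcomm : Commute zc xc := (Subgroup.mem_center_iff.1 hzcen xc).symm
  have hprod : orderOf (zc * xc) = 6 := by
    rw [hcomm.orderOf_mul_eq_mul_orderOf_of_coprime (by rw [hzord, hxord]; norm_num), hzord, hxord]
  have hcyc : Subgroup.center C = Subgroup.zpowers (zc * xc) := by
    refine le_antisymm (fun c hc => ?_) (Subgroup.zpowers_le.2 (Subgroup.mul_mem _ hzcen hxcen))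
    have hxm : xc ∈ Subgroup.zpowers (zc * xc) := by
      have h4 : (zc * xc) ^ 4 = xc := by
        rw [hcomm.mul_pow, show zc ^ 4 = (zc ^ orderOf zc) ^ 2 by rw [hzord, ← pow_mul],
          show xc ^ 4 = xc ^ orderOf xc * xc by rw [hxord, ← pow_succ], pow_orderOf_eq_one,
          pow_orderOf_eq_one, one_pow, one_mul, one_mul]
      have h5 := Subgroup.pow_mem (Subgroup.zpowers (zc * xc)) (Subgroup.mem_zpowers (zc * xc)) 4
      exact (congrArg (fun t => t ∈ Subgroup.zpowers (zc * xc)) h4).mp h5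
    have hzm : zc ∈ Subgroup.zpowers (zc * xc) := by
      have := Subgroup.mul_mem _ (Subgroup.mem_zpowers (zc * xc)) (Subgroup.inv_mem _ hxm)
      simpa [mul_assoc] using this
    rcases hpre c ((hcenC c).1 hc) with h | ⟨t, ht, rfl⟩
    · exact Subgroup.zpowers_le.2 hxm h
    · exact Subgroup.mul_mem _ (Subgroup.zpowers_le.2 hxm ht) hzm
  -- the quotient
  obtain ⟨e⟩ := (KS_spec D.card_F9 0).1.2
  let π := (QuotientGroup.mk' (Subgroup.center ↥(KS 0))).comp ψ
  have hπk : π.ker = Subgroup.center C := by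
    ext c
    rw [MonoidHom.mem_ker, MonoidHom.comp_apply, QuotientGroup.mk'_apply, QuotientGroup.eq_one_iff,
      hcenC]
  have hπs : Function.Surjective π := (QuotientGroup.mk'_surjective _).comp hψs
  let e' : C ⧸ Subgroup.center C ≃* Cfsg.PSU 4 D.F9 3 :=
    ((QuotientGroup.quotientMulEquivOfEq hπk.symm).trans
      (QuotientGroup.quotientKerEquivOfSurjective π hπs)).trans e
  have := psu_simple D.card_F9
  have : Nontrivial (C ⧸ Subgroup.center C) := e'.toEquiv.nontrivial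
  have hsimple : IsSimpleGroup (C ⧸ Subgroup.center C) :=
    IsSimpleGroup.isSimpleGroup_of_surjective e'.symm.toMonoidHom e'.symm.surjective
  -- perfectness
  have hmap : (commutator C).map ψ = ⊤ := by
    rw [commutator_def, Subgroup.map_commutator, Subgroup.map_top_of_surjective ψ hψs,
      ← commutator_def, hperf]
  have hzD : zc ∈ commutator C := by
    by_contra hz
    refine no_complement D hF hx ((commutator C).map C.subtype) ?_ ?_ ?_ ?_
    · rintro _ ⟨c, -, rfl⟩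
      exact (hCmem _).1 c.2
    · rintro _ ⟨c, -, rfl⟩
      exact hCM c.2
    · rintro _ ⟨c, hc, rfl⟩ hq
      rcases hker c (Subtype.ext ((hρker _).2 hq)) with h | h
      · rw [h]; rfl
      · exact absurd (h ▸ hc) hz
    · intro g hg
      obtain ⟨c, hc, ec⟩ := (hmap.ge (Subgroup.mem_top (⟨g, hg⟩ : KS 0)))
      exact ⟨_, ⟨c, hc, rfl⟩, fun v => (hψ c v).trans (by rw [ec])⟩
  have hCperf : Group.IsPerfect C := ⟨by
    rw [eq_top_iff]
    intro c _
    obtain ⟨d, hd, ed⟩ := hmap.ge (Subgroup.mem_top (ψ c))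
    rcases hker (d⁻¹ * c) (by rw [map_mul, map_inv, ed, inv_mul_cancel]) with h | h
    · rw [← inv_mul_eq_one.1 h]; exact hd
    · rw [inv_mul_eq_iff_eq_mul.1 h]; exact Subgroup.mul_mem _ hd hzD⟩
  refine ⟨⟨hCperf, hsimple⟩, ?_, ?_, D.F9, D.fld, D.fin, D.card_F9, ⟨e'⟩⟩
  · rw [hcyc]; infer_instance
  · rw [hcyc, Nat.card_zpowers, hprod]

end CfsgLib.Spor.LargeFi
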