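import Cfsg.Agent.Lib.Spor.LargeFi.CentChk

/-!
In a model with a second extraspecial subgroup exchanged with the first, no complement to the
centre exists in the centraliser of the scalar of order three.

With such a complement the sixteen elements of it acting as `O` lie in the second subgroup; moved to
the first they give a subgroup of at most sixteen vectors invariant under lifts of two generators of
`A₆` and avoiding the singular subgroup, and there is none.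
-/

set_option autoImplicit false
set_option maxRecDepth 100000

namespace CfsgLib.Spor.LargeFi

open CfsgLib.Spor.U62 CfsgLib.ThreeTransp
open Matrix

theorem mem_oL_exists {o : ℕ} (ho : o ∈ oL) : ∃ k ∈ OU, cd k = o := by
  have h := oL_chk
  simp only [Bool.and_eq_true, List.all_eq_true] at h
  refine spanTree_in (H := OU) (fun c hc => ?_) 4 [oneC] (fun c hc => ?_) o (memB_iff.1 (h.2 o ho))
  · obtain ⟨g, -, e⟩ := oGens_in c hc
    exact ⟨g, Subgroup.subset_closure (show cd g ∈ oGens from e ▸ hc), e⟩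
  · rw [List.mem_singleton] at hc; subst hc; exact ⟨1, Subgroup.one_mem _, cd_one⟩

theorem cent_mvC (a b u : ℕ) : mvC (mulC a b) u = mvC a (mvC b u) := by
  have h : ∀ c w, mvC c w = vc (ofCode c *ᵥ vOf w) := fun c w => by
    rw [← vOf_mvC, vc_vOf (mvC_lt c w)]
  rw [h, h a, vOf_mvC, ofCode_mulC, Matrix.mulVec_mulVec]

namespace Model

variable {H : Type*} [Group H] [Finite H] {Q : Subgroup H} [Q.Normal] {z : H} (D : Model Q z)

/-- the product of the three conjugates under `x` is trivial -/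
def Cyc (x a : H) : Prop := a * (x * a * x⁻¹) * (x * (x * a * x⁻¹) * x⁻¹) = 1

omit [Finite H] in
theorem Cyc.conj {x a c : H} (hc : c * x = x * c) (ha : Cyc x a) : Cyc x (c * a * c⁻¹) := by
  have e : ∀ b, x * (c * b * c⁻¹) * x⁻¹ = c * (x * b * x⁻¹) * c⁻¹ := fun b => by
    calc x * (c * b * c⁻¹) * x⁻¹ = (x * c) * b * (x * c)⁻¹ := by simp [mul_assoc]
      _ = (c * x) * b * (c * x)⁻¹ := by rw [hc]
      _ = _ := by simp [mul_assoc]
  unfold Cyc at ha ⊢
  rw [e, e]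
  calc c * a * c⁻¹ * (c * (x * a * x⁻¹) * c⁻¹) * (c * (x * (x * a * x⁻¹) * x⁻¹) * c⁻¹)
      = c * (a * (x * a * x⁻¹) * (x * (x * a * x⁻¹) * x⁻¹)) * c⁻¹ := by simp [mul_assoc]
    _ = 1 := by rw [ha, mul_one, mul_inv_cancel]

omit [Finite H] in
theorem cyc_z_mul (D : Model Q z) (x a : H) :
    (z * a) * (x * (z * a) * x⁻¹) * (x * (x * (z * a) * x⁻¹) * x⁻¹) =
      z * (a * (x * a * x⁻¹) * (x * (x * a * x⁻¹) * x⁻¹)) := by
  have hm : ∀ b c : H, b * (z * c) = z * (b * c) := fun b c => by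
    rw [← mul_assoc, D.zc b, mul_assoc]
  simp only [mul_assoc, hm]
  rw [← mul_assoc z z, D.xc.inv, one_mul]

omit [Finite H] in
theorem cyc_or (D : Model Q z) {x : H} (hx : ∀ v, D.act x v = om • v) {a : H} (ha : a ∈ Q) :
    Cyc x a ∨ Cyc x (z * a) := by
  have h1 : x * a * x⁻¹ ∈ Q := (inferInstance : Q.Normal).conj_mem _ ha x
  have h2 : x * (x * a * x⁻¹) * x⁻¹ ∈ Q := (inferInstance : Q.Normal).conj_mem _ h1 x
  have hv : D.vec (⟨a, ha⟩ * ⟨_, h1⟩ * ⟨_, h2⟩) = 0 := by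
    rw [D.vec_mul, D.vec_mul, D.vec_conj' x ⟨_, h1⟩ h2, D.vec_conj' x ⟨a, ha⟩ h1, hx, hx,
      smul_smul]
    conv_lhs => arg 1; arg 1; rw [← one_smul K4 (D.vec ⟨a, ha⟩)]
    rw [← add_smul, ← add_smul, show (1 : K4) + om + om * om = 0 by decide +kernel, zero_smul]
  rcases (D.vec_eq_zero _).1 hv with e | e <;> simp only [Subgroup.coe_mul] at e
  · exact Or.inl e
  · refine Or.inr ?_
    unfold Cyc
    rw [D.cyc_z_mul, e, D.xc.inv]

omit [Finite H] in
theorem cyc_not (D : Model Q z) {x a : H} (ha : Cyc x a) : ¬ Cyc x (z * a) := by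
  intro h
  unfold Cyc at ha h
  rw [D.cyc_z_mul, ha, mul_one] at h
  exact D.xc.ne_one h

omit [Finite H] in
theorem comm_iff (D : Model Q z) (a b : Q) :
    (a : H) * b = b * a ↔ Bc (vc (D.vec a)) (vc (D.vec b)) = 0 :=
  (D.vec_comm a b).trans (Bz_eq_zero _ _)

omit [Finite H] in
theorem cyc_mul_root (D : Model Q z) {x : H} (hx : ∀ v, D.act x v = om • v) {s l : Q}
    (hs : D.vec s = bigV) (hl : vc (D.vec l) ∈ centW) (hsC : Cyc x (s : H)) (hlC : Cyc x (l : H)) :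
    Cyc x ((l : H) * s) := by
  have hr := List.all_eq_true.1 centW_root _ hl
  simp only [Bool.and_eq_true, Nat.beq_eq] at hr
  obtain ⟨⟨⟨-, r1⟩, r2⟩, r3⟩ := hr
  have l1 : x * (l : H) * x⁻¹ ∈ Q := (inferInstance : Q.Normal).conj_mem _ l.2 x
  have l2 : x * (x * (l : H) * x⁻¹) * x⁻¹ ∈ Q := (inferInstance : Q.Normal).conj_mem _ l1 x
  have s1 : x * (s : H) * x⁻¹ ∈ Q := (inferInstance : Q.Normal).conj_mem _ s.2 x
  have v1 : vc (D.vec ⟨_, l1⟩) = smC 2 (vc (D.vec l)) := by rw [D.vec_conj', hx, vc_om_smul]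
  have v2 : vc (D.vec ⟨_, l2⟩) = smC 2 (smC 2 (vc (D.vec l))) := by
    rw [D.vec_conj' x ⟨_, l1⟩ l2, hx, vc_om_smul, v1]
  have w0 : vc (D.vec s) = bigRoot := by rw [hs, vc_bigV]
  have w1 : vc (D.vec ⟨_, s1⟩) = smC 2 bigRoot := by rw [D.vec_conj', hx, vc_om_smul, w0]
  have c01 := (D.comm_iff s ⟨_, l1⟩).2 (by rw [w0, v1]; exact r1)
  have c02 := (D.comm_iff s ⟨_, l2⟩).2 (by rw [w0, v2]; exact r2)
  have c12 := (D.comm_iff ⟨_, s1⟩ ⟨_, l2⟩).2 (by rw [w1, v2]; exact r3)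
  unfold Cyc at hsC hlC ⊢
  have e1 : x * ((l : H) * s) * x⁻¹ = (x * l * x⁻¹) * (x * s * x⁻¹) := by simp [mul_assoc]
  have e2 : x * ((x * l * x⁻¹) * (x * s * x⁻¹)) * x⁻¹ =
      (x * (x * l * x⁻¹) * x⁻¹) * (x * (x * s * x⁻¹) * x⁻¹) := by simp [mul_assoc]
  rw [e1, e2]
  simp only at c01 c02 c12
  generalize x * (x * (l : H) * x⁻¹) * x⁻¹ = c at *
  generalize x * (x * (s : H) * x⁻¹) * x⁻¹ = f at *
  generalize x * (l : H) * x⁻¹ = b at *
  generalize x * (s : H) * x⁻¹ = e at *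
  calc (l : H) * s * (b * e) * (c * f) = (l : H) * ((s : H) * b) * (e * c) * f := by
        simp only [mul_assoc]
    _ = (l : H) * b * ((s : H) * c) * e * f := by rw [c01, c12]; simp only [mul_assoc]
    _ = (l : H) * b * c * ((s : H) * e * f) := by rw [c02]; simp only [mul_assoc]
    _ = 1 := by rw [hlC, hsC, one_mul]

variable {x : H} {s : Q}

set_option maxHeartbeats 1600000 in
/-- No complement to the centre exists in the presence of the exchanged subgroup. -/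
theorem split_absurd (hx : ∀ v, D.act x v = om • v) (C1 : Subgroup H)
    (hC1x : ∀ c ∈ C1, c * x = x * c) (hC1M : C1 ≤ D.M) (hC1Q : ∀ c ∈ C1, c ∈ Q → c = 1)
    (hC1 : ∀ g ∈ KS 0, ∃ c ∈ C1, ∀ v, D.act c v = mat g *ᵥ v)
    (hs : D.vec s = bigV) (hsC : Cyc x (s : H)) (E : Subgroup H) (hzE : z ∈ E)
    (hEs : ∀ a ∈ E, a * (s : H) = (s : H) * a)
    (hEc : ∀ a ∈ E, ∀ b ∈ E, a * b * a⁻¹ = b ∨ a * b * a⁻¹ = (s : H) * b)
    (hEn : ∀ k, k * (s : H) = (s : H) * k → ∀ a ∈ E, k * a * k⁻¹ ∈ E)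
    (hO : ∀ k ∈ OU, ∃ e ∈ E ⊓ D.M, ∀ v, D.act e v = mat k *ᵥ v)
    (hEO : ∀ e ∈ E ⊓ D.M, ∃ k ∈ OU, ∀ v, D.act e v = mat k *ᵥ v)
    (τ : ↥(Subgroup.centralizer ({(s : H)} : Set H)) →* ↥(Subgroup.centralizer ({(s : H)} : Set H)))
    (hτinj : Function.Injective τ) (hτQ : ∀ a : ↥(Subgroup.centralizer ({(s : H)} : Set H)), (a : H) ∈ Q → (τ a : H) ∈ E)
    (hτE : ∀ a : ↥(Subgroup.centralizer ({(s : H)} : Set H)), (a : H) ∈ E → (τ a : H) ∈ Q) (hτE' : ∀ a : ↥(Subgroup.centralizer ({(s : H)} : Set H)), (τ a : H) ∈ E → (a : H) ∈ Q) :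
    False := by
  classical
  have hzz := D.xc.inv
  have hz1 := D.xc.ne_one
  have hvz : D.vec ⟨z, D.xc.mem⟩ = 0 := (D.vec_eq_zero _).2 (Or.inr rfl)
  have hsz : (s : H) ≠ z := fun e => (big_bigV.isotropic).2 (by
    rw [← hs, show s = (⟨z, D.xc.mem⟩ : Q) from Subtype.ext e, hvz])
  have hsz' : z * (s : H) ≠ 1 := fun e => hsz (by
    rw [← one_mul (s : H), ← hzz, mul_assoc, e, mul_one])
  -- the intersection
  have habel : ∀ a ∈ E, a ∈ Q → ∀ b ∈ E, b ∈ Q → a * b = b * a := by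
    intro a ha haq b hb hbq
    refine mul_inv_eq_iff_eq_mul.1 ?_
    rcases D.xc.commEl a haq b hbq with e | e
    · exact e
    rcases hEc a ha b hb with e' | e'
    · exact e'
    exact absurd (mul_right_cancel (e'.symm.trans e)) hsz
  -- the singular subgroup is covered
  have hWsub : ∀ w ∈ centW, ∃ l : Q, (l : H) ∈ E ∧ vc (D.vec l) = w := by
    have hgen : ∀ e ∈ centWit, ∃ l : Q, (l : H) ∈ E ∧ vc (D.vec l) = Nat.xor (mvC e.1 e.2) e.2 := by
      rintro ⟨o, u⟩ he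
      have h := List.all_eq_true.1 centWit_ok _ he
      simp only [Bool.and_eq_true, Nat.blt_eq, memB_iff, perpC, Nat.beq_eq] at h
      obtain ⟨⟨ho, hu⟩, hlt⟩ := h
      obtain ⟨k, hk, rfl⟩ := mem_oL_exists ho
      obtain ⟨a, ⟨haE, -⟩, hak⟩ := hO k hk
      obtain ⟨q, hq⟩ := D.vec_surj (vOf u)
      have hqs : (q : H) * s = s * q :=
        ((D.comm_iff s q).2 (by rw [hs, vc_bigV, hq, vc_vOf hlt]; exact hu)).symm
      have hm : a * (q : H) * a⁻¹ ∈ Q := (inferInstance : Q.Normal).conj_mem _ q.2 a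
      refine ⟨⟨_, hm⟩ * q⁻¹, ?_, ?_⟩
      · show a * (q : H) * a⁻¹ * (q : H)⁻¹ ∈ E
        rw [show a * (q : H) * a⁻¹ * (q : H)⁻¹ = a * ((q : H) * a⁻¹ * (q : H)⁻¹) by simp [mul_assoc]]
        exact E.mul_mem haE (hEn _ hqs _ (E.inv_mem haE))
      · rw [D.vec_mul, D.vec_conj', D.vec_inv, hak, vc_add, vc_mat, hq, vc_vOf hlt]
    refine fun w hw => mem_of_treeR
      (P := fun u => ∃ l : Q, (l : H) ∈ E ∧ vc (D.vec l) = u)
      ⟨1, E.one_mem, by rw [D.vec_one]; exact vc_zero'⟩ (fun u q j hu ⟨l, hl, el⟩ => ?_) _ _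
      centWTree_ok (by simp) w (memV_iff.1 (List.all_eq_true.1 centWTree_cover w hw))
    rw [Nat.beq_eq] at hu
    by_cases hj : j < centWit.length
    · obtain ⟨m, hm, em⟩ := hgen _ (List.getElem_mem hj)
      refine ⟨l * m, E.mul_mem hl hm, ?_⟩
      rw [D.vec_mul, vc_add, el, em, hu, List.getD_eq_getElem _ _ (by simpa [centWB] using hj)]
      simp [centWB]
    · refine ⟨l, hl, ?_⟩
      rw [el, hu, List.getD_eq_default _ _ (by simpa [centWB] using not_lt.1 hj)]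
      exact (Nat.xor_zero q).symm
  have hcentQ : ∀ q : Q, (∀ l : Q, (l : H) ∈ E → (q : H) * l = l * q) → vc (D.vec q) ∈ centW := by
    intro q hq
    have h := List.all_eq_true.1 centW_perp _ (List.mem_range.2 (vc_lt (D.vec q)))
    rw [Bool.or_eq_true, Bool.not_eq_true', inM_centWM] at h
    refine h.resolve_left ?_
    rw [Bool.not_eq_false, List.all_eq_true]
    intro w hw
    obtain ⟨e, he, rfl⟩ := List.mem_map.1 hw
    have hw' : Nat.xor (mvC e.1 e.2) e.2 ∈ centW := by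
      have : ((centWB.all fun w => inM centWM w)) = true := by decide +kernel
      exact inM_centWM.1 (List.all_eq_true.1 this _ (List.mem_map.2 ⟨e, he, rfl⟩))
    obtain ⟨l, hl, el⟩ := hWsub _ hw'
    rw [Nat.beq_eq, ← el]
    exact (D.comm_iff q l).1 (hq l hl)
  have hLW : ∀ q : Q, vc (D.vec q) ∈ centW → (q : H) ∈ E := by
    intro q hq
    obtain ⟨l, hl, el⟩ := hWsub _ hq
    rcases D.vec_eq (vc_injective el) with e | e <;> rw [e]
    exacts [hl, E.mul_mem hzE hl]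
  have hLW' : ∀ l : Q, (l : H) ∈ E → vc (D.vec l) ∈ centW := fun l hl =>
    hcentQ l fun m hm => habel _ hl l.2 _ hm m.2
  -- the complement over the fixed vector
  have hfixT : ∀ c ∈ C1, D.act c bigV = bigV → c * (s : H) = (s : H) * c := by
    intro c hc hfix
    refine mul_inv_eq_iff_eq_mul.1 ?_
    have hm : c * (s : H) * c⁻¹ ∈ Q := (inferInstance : Q.Normal).conj_mem _ s.2 c
    have e : D.vec s = D.vec ⟨_, hm⟩ := by rw [D.vec_conj' c s hm, hs, hfix]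
    refine (D.vec_eq e).resolve_right fun h => D.cyc_not hsC ?_
    rw [← h]
    exact Cyc.conj (hC1x c hc) hsC
  have hTact : ∀ k : H, k * (s : H) = (s : H) * k → D.act k bigV = bigV := by
    intro k hk
    have hm : k * (s : H) * k⁻¹ ∈ Q := (inferInstance : Q.Normal).conj_mem _ s.2 k
    rw [← hs, ← D.vec_conj' k s hm]
    congr 1
    exact Subtype.ext (mul_inv_eq_iff_eq_mul.2 hk)
  have hlift : ∀ g ∈ KV bigV, ∃ c ∈ C1, c * (s : H) = (s : H) * c ∧
      ∀ v, D.act c v = mat g *ᵥ v := by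
    intro g hg
    obtain ⟨hgK, hgv⟩ := mem_KV.1 hg
    obtain ⟨c, hc, ec⟩ := hC1 g hgK
    exact ⟨c, hc, hfixT c hc (by rw [ec]; exact hgv), ec⟩
  -- the elements over `O` lie in the second subgroup
  have hcE : ∀ k ∈ OU, ∀ c ∈ C1, (∀ v, D.act c v = mat k *ᵥ v) → c ∈ E := by
    intro k hk c hc ec
    obtain ⟨d, ⟨hdE, -⟩, ed⟩ := hO k hk
    have hq : c⁻¹ * d ∈ Q := D.mem_of_act_eq fun v => by rw [ec, ed]
    have hkL : ∀ w ∈ centW, mvC (cd k) w = w ∨ mvC (cd k) w = Nat.xor w bigRoot := by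
      intro w hw
      have h := centW_oL
      simp only [List.all_eq_true, Bool.and_eq_true, Bool.or_eq_true, Nat.beq_eq] at h
      exact ((h _ (mem_OU.1 hk)).2 w hw).1
    have hcom : ∀ l : Q, (l : H) ∈ E → c * (l : H) * c⁻¹ = l ∨ c * (l : H) * c⁻¹ = (l : H) * s := by
      have key : ∀ l : Q, (l : H) ∈ E → Cyc x (l : H) →
          c * (l : H) * c⁻¹ = l ∨ c * (l : H) * c⁻¹ = (l : H) * s := by
        intro l hl hlC
        have hm : c * (l : H) * c⁻¹ ∈ Q := (inferInstance : Q.Normal).conj_mem _ l.2 c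
        have hC' : Cyc x (c * (l : H) * c⁻¹) := Cyc.conj (hC1x c hc) hlC
        have hv : vc (D.vec ⟨_, hm⟩) = mvC (cd k) (vc (D.vec l)) := by
          rw [D.vec_conj' c l hm, ec, vc_mat]
        rcases hkL _ (hLW' l hl) with e | e <;> rw [e] at hv
        · refine Or.inl ((D.vec_eq (vc_injective hv.symm)).resolve_right fun h => ?_)
          rw [show ((⟨_, hm⟩ : Q) : H) = c * (l : H) * c⁻¹ from rfl] at h
          exact D.cyc_not hlC (h ▸ hC')
        · refine Or.inr ((D.vec_eq (a := l * s) (b := ⟨_, hm⟩) (vc_injective ?_)).resolve_right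
            fun h => ?_)
          · rw [hv, D.vec_mul, vc_add, hs, vc_bigV]
          · rw [show ((⟨_, hm⟩ : Q) : H) = c * (l : H) * c⁻¹ from rfl, Subgroup.coe_mul] at h
            exact D.cyc_not (D.cyc_mul_root hx hs (hLW' l hl) hsC hlC) (h ▸ hC')
      intro l hl
      rcases D.cyc_or hx l.2 with h | h
      · exact key l hl h
      · have h' := key ⟨z * (l : H), mul_mem D.xc.mem l.2⟩ (E.mul_mem hzE hl) h
        have e : c * (z * (l : H)) * c⁻¹ = z * (c * (l : H) * c⁻¹) := by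
          rw [← mul_assoc c z, D.zc c]; simp [mul_assoc]
        simp only [e, mul_assoc z (l : H) (s : H)] at h'
        exact h'.imp mul_left_cancel mul_left_cancel
    have hqW : vc (D.vec ⟨_, hq⟩) ∈ centW := by
      refine hcentQ _ fun l hl => mul_inv_eq_iff_eq_mul.1 ?_
      show c⁻¹ * d * (l : H) * (c⁻¹ * d)⁻¹ = (l : H)
      rcases D.xc.commEl _ hq _ l.2 with e | e
      · exact e
      exfalso
      have e1 : d * (l : H) * d⁻¹ = c * (z * (l : H)) * c⁻¹ := by rw [← e]; simp [mul_assoc]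
      rw [← mul_assoc c z, D.zc c, show z * c * (l : H) * c⁻¹ = z * (c * (l : H) * c⁻¹) by
        simp [mul_assoc]] at e1
      have hls : (l : H) * s = s * (l : H) := hEs _ hl
      rcases hcom l hl with h | h <;> rw [h] at e1 <;>
        rcases hEc d hdE _ hl with h' | h' <;> rw [h'] at e1
      · exact hz1 (mul_eq_right.1 e1.symm)
      · exact hsz (mul_right_cancel e1)
      · rw [hls, ← mul_assoc] at e1
        exact hsz' (mul_eq_right.1 e1.symm)
      · rw [hls, ← mul_assoc] at e1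
        exact hz1 (mul_eq_right.1 (mul_right_cancel e1).symm)
    have := E.mul_mem hdE (E.inv_mem (hLW _ hqW))
    simpa [mul_assoc] using this
  -- the moved subgroup
  let T := Subgroup.centralizer ({(s : H)} : Set H)
  have hT : ∀ {a : H}, a * (s : H) = (s : H) * a → a ∈ T := fun h =>
    Subgroup.mem_centralizer_singleton_iff.2 h
  have hT' : ∀ a : T, (a : H) * (s : H) = (s : H) * a := fun a =>
    Subgroup.mem_centralizer_singleton_iff.1 a.2
  let Y : Set ℕ := {u | ∃ (c : T) (_ : (c : H) ∈ C1) (hcE : (c : H) ∈ E),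
    vc (D.vec ⟨(τ c : H), hτE c hcE⟩) = u}
  have hYtriv : ∀ (c : T) (hc1 : (c : H) ∈ C1) (hce : (c : H) ∈ E),
      vc (D.vec ⟨(τ c : H), hτE c hce⟩) ∈ centW → c = 1 := fun c hc1 _ h =>
    Subtype.ext (hC1Q _ hc1 (hτE' c (hLW _ h)))
  have hY0 : 0 ∈ Y := ⟨1, C1.one_mem, E.one_mem, by
    rw [show (⟨(τ 1 : H), hτE 1 E.one_mem⟩ : Q) = 1 from Subtype.ext (by simp), D.vec_one]
    exact vc_zero'⟩
  have hYx : ∀ a ∈ Y, ∀ b ∈ Y, Nat.xor a b ∈ Y := by
    rintro _ ⟨c, hc1, hce, rfl⟩ _ ⟨c', hc1', hce', rfl⟩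
    refine ⟨c * c', C1.mul_mem hc1 hc1', E.mul_mem hce hce', ?_⟩
    rw [← vc_add, ← D.vec_mul]
    congr 2
    exact Subtype.ext (by simp)
  have hYlt : ∀ a ∈ Y, a < 4096 := by
    rintro _ ⟨c, -, -, rfl⟩
    exact vc_lt _
  have hYp : ∀ a ∈ Y, perpC a = true := by
    rintro _ ⟨c, hc1, hce, rfl⟩
    rw [perpC, Nat.beq_eq, ← vc_bigV, ← hs]
    exact (D.comm_iff s ⟨_, hτE c hce⟩).1 (hT' (τ c)).symm
  have hYcard : ∀ l : List ℕ, l.Nodup → (∀ a ∈ l, a ∈ Y) → l.length ≤ 16 := by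
    intro l hnd hl
    choose f hf using fun k : OU => hlift k (OU_le k.2)
    let F : OU → ℕ := fun k => vc (D.vec ⟨(τ ⟨f k, hT (hf k).2.1⟩ : H),
      hτE _ (hcE k k.2 (f k) (hf k).1 (hf k).2.2)⟩)
    have hsub : (l.toFinset : Set ℕ) ⊆ Set.range F := by
      intro a ha
      obtain ⟨c, hc1, hce, rfl⟩ := hl a (List.mem_toFinset.1 ha)
      obtain ⟨k, hk, ek⟩ := hEO c ⟨hce, hC1M hc1⟩
      refine ⟨⟨k, hk⟩, ?_⟩
      have e : f ⟨k, hk⟩ = (c : H) := by
        have := hC1Q _ (C1.mul_mem (C1.inv_mem (hf ⟨k, hk⟩).1) hc1)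
          (D.mem_of_act_eq fun v => by rw [(hf ⟨k, hk⟩).2.2, ek])
        exact inv_mul_eq_one.1 this
      simp only [F]
      congr 3
      exact congrArg (fun t : T => (τ t : H)) (Subtype.ext e)
    have h1 := Set.ncard_le_ncard hsub (Set.finite_range F)
    rw [Set.ncard_coe_finset, List.toFinset_card_of_nodup hnd] at h1
    refine h1.trans (le_of_le_of_eq ?_ card_OU)
    rw [← Nat.card_coe_set_eq]
    exact Finite.card_range_le F
  -- lifts of fourth powers leave it invariant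
  have hinv : ∀ g ∈ KV bigV, ∃ o ∈ oL, ∀ u ∈ Y, mvC (mulC (cd (g ^ 4)) o) u ∈ Y := by
    intro g hg
    obtain ⟨c, hc1, hcT, hcg⟩ := hlift g hg
    obtain ⟨k, hk⟩ := (Finite.injective_iff_surjective.1 hτinj) ⟨c, hT hcT⟩
    have hk2M : ((k * k : T) : H) ∈ D.M := Subgroup.mul_self_mem_of_index_two D.M_index (k : H)
    obtain ⟨g2, hg2K, hg2⟩ := D.M_lin _ hk2M
    have hg2V : g2 ∈ KV bigV := mem_KV.2 ⟨hg2K, by rw [← hg2]; exact hTact _ (hT' _)⟩
    obtain ⟨c2, hc21, hc2T, hc2g⟩ := hlift g2 hg2V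
    have hq : c2⁻¹ * ((k * k : T) : H) ∈ Q := D.mem_of_act_eq fun v => by rw [hc2g, hg2]
    have he : (τ (⟨c2, hT hc2T⟩⁻¹ * (k * k)) : H) ∈ E := hτQ _ hq
    obtain ⟨j, hj⟩ : ∃ j, τ ⟨c2, hT hc2T⟩ = j := ⟨_, rfl⟩
    obtain ⟨e, he'⟩ : ∃ e, τ (⟨c2, hT hc2T⟩⁻¹ * (k * k)) = e := ⟨_, rfl⟩
    rw [he'] at he
    have hje : (j : H) * e = c * c := by
      have : j * e = ⟨c, hT hcT⟩ * ⟨c, hT hcT⟩ := by
        rw [← hj, ← he', ← map_mul, mul_inv_cancel_left, map_mul, hk]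
      exact congrArg Subtype.val this
    obtain ⟨e2, he2⟩ : ∃ e2, (j : H)⁻¹ * e * j * e = e2 := ⟨_, rfl⟩
    have hc4 : c * c * (c * c) = (j : H) * j * e2 := by
      rw [← hje, ← he2]; simp [mul_assoc]
    have he2E : e2 ∈ E := by
      rw [← he2]
      refine E.mul_mem ?_ he
      have := hEn ((j : H)⁻¹) (hT' j⁻¹) _ he
      rwa [inv_inv] at this
    have he2M : e2 ∈ D.M := by
      have h1 : e2 = ((j : H) * j)⁻¹ * (c * c * (c * c)) := by rw [hc4]; simp [mul_assoc]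
      rw [h1]
      exact D.M.mul_mem (D.M.inv_mem (Subgroup.mul_self_mem_of_index_two D.M_index _))
        (Subgroup.mul_self_mem_of_index_two D.M_index _)
    obtain ⟨o, hoU, ho⟩ := hEO e2 ⟨he2E, he2M⟩
    refine ⟨cd o⁻¹, mem_OU.1 (OU.inv_mem hoU), ?_⟩
    rintro _ ⟨a, ha1, hae, rfl⟩
    have hjj : ∀ v, D.act ((j : H) * j) v = mat (g ^ 4 * o⁻¹) *ᵥ v := by
      intro v
      have h4 : ∀ w, D.act (c * c * (c * c)) w = mat (g ^ 4) *ᵥ w := fun w => by
        rw [D.act_mul_apply, D.act_mul_apply, D.act_mul_apply, hcg, hcg, hcg, hcg,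
          Matrix.mulVec_mulVec, Matrix.mulVec_mulVec, Matrix.mulVec_mulVec, ← map_mul, ← map_mul,
          ← map_mul]
        simp [pow_succ, mul_assoc]
      have e := h4 (mat o⁻¹ *ᵥ v)
      rw [hc4, D.act_mul_apply, ho, Matrix.mulVec_mulVec, Matrix.mulVec_mulVec, ← map_mul,
        ← map_mul, mul_inv_cancel, map_one, Matrix.one_mulVec] at e
      exact e
    have hmem1 : c2 * c2 * (a : H) * (c2 * c2)⁻¹ ∈ C1 :=
      C1.mul_mem (C1.mul_mem (C1.mul_mem hc21 hc21) ha1) (C1.inv_mem (C1.mul_mem hc21 hc21))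
    have hmem2 : c2 * c2 * (a : H) * (c2 * c2)⁻¹ ∈ E :=
      hEn _ ((show Commute c2 (s : H) from hc2T).mul_left hc2T).eq _ hae
    refine ⟨⟨c2, hT hc2T⟩ * ⟨c2, hT hc2T⟩ * a * (⟨c2, hT hc2T⟩ * ⟨c2, hT hc2T⟩)⁻¹, hmem1, hmem2, ?_⟩
    rw [← cd_mul, ← vc_mat, ← hjj]
    have hm : (j : H) * j * (τ a : H) * ((j : H) * j)⁻¹ ∈ Q :=
      (inferInstance : Q.Normal).conj_mem _ (hτE a hae) _
    rw [← D.vec_conj' ((j : H) * j) ⟨_, hτE a hae⟩ hm]
    congr 2
    exact Subtype.ext (by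
      simp only [map_mul, map_inv, Subgroup.coe_mul, Subgroup.coe_inv, hj])
  -- two generators
  obtain ⟨a0, ha0, hca⟩ := alt_in altA (by simp)
  obtain ⟨b0, hb0, hcb⟩ := alt_in altB (by simp)
  obtain ⟨oa, hoa, hAinv⟩ := hinv (a0 ^ 4) (pow_mem ha0 4)
  obtain ⟨ob, hob, hBinv⟩ := hinv b0 hb0
  have hp := alt_pow
  simp only [Bool.and_eq_true, Nat.beq_eq, List.any_eq_true] at hp
  obtain ⟨hpA, r, hr, hpB⟩ := hp
  rw [cd_pow, cd_pow, hca, hpA] at hAinv
  rw [cd_pow, hcb, hpB] at hBinv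
  -- normalise the first generator
  have hconj := alt_conj
  simp only [Bool.and_eq_true, List.all_eq_true, List.any_eq_true, Nat.beq_eq] at hconj
  obtain ⟨p, hp, hpa⟩ := hconj.1 oa hoa
  obtain ⟨k1, hk1, e1⟩ := mem_oL_exists hr
  obtain ⟨k2, hk2, e2⟩ := mem_oL_exists hob
  obtain ⟨r', hr', hpb⟩ := hconj.2 p hp (mulC r ob) (by
    rw [← e1, ← e2, ← cd_mul]; exact mem_OU.1 (OU.mul_mem hk1 hk2))
  obtain ⟨P, hPU, hP⟩ := mem_oL_exists hp
  have hPP : mulC p p = oneC := by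
    have h := centW_oL
    simp only [List.all_eq_true, Bool.and_eq_true, Nat.beq_eq] at h
    exact (h p hp).1
  have hpp : ∀ u < 4096, mvC p (mvC p u) = u := fun u hu => by
    rw [← cent_mvC, hPP, ← vc_vOf hu, ← vc_mulVec, ← cd_one, ← mat_eq, map_one, Matrix.one_mulVec]
  have hmv : ∀ (c u : ℕ), u < 4096 → mvC (mulC (mulC p c) p) (mvC p u) = mvC p (mvC c u) := by
    intro c u hu
    rw [cent_mvC, cent_mvC, hpp u hu]
  have hassoc : mulC (mulC altB r) ob = mulC altB (mulC r ob) := by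
    rw [← hcb, ← e1, ← e2, ← cd_mul, ← cd_mul, ← cd_mul, ← cd_mul, mul_assoc]
  let Y' : Set ℕ := (mvC p) '' Y
  have hpW : ∀ u ∈ centW, mvC p u ∈ centW := by
    intro u hu
    have h := centW_oL
    simp only [List.all_eq_true, Bool.and_eq_true, inM_centWM] at h
    exact ((h p hp).2 u hu).2
  have hfin : ∀ y ∈ Y', y = 0 := by
    refine no_small (o := r') ⟨0, hY0, ?_⟩ ?_ ?_ ?_ ?_ ?_ ?_ hr' ?_
    · rw [← hP, ← vc_zero', ← vc_mat, Matrix.mulVec_zero]
    · rintro _ ⟨a, ha, rfl⟩ _ ⟨b, hb, rfl⟩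
      refine ⟨Nat.xor a b, hYx a ha b hb, ?_⟩
      rw [← vc_vOf (hYlt a ha), ← vc_vOf (hYlt b hb), ← vc_add, ← vc_mulVec, ← vc_mulVec,
        ← vc_mulVec, ← vc_add, Matrix.mulVec_add]
    · rintro _ ⟨a, -, rfl⟩
      exact mvC_lt _ _
    · rintro _ ⟨a, ha, rfl⟩
      have h := hYp a ha
      rw [perpC, Nat.beq_eq, ← vc_bigV, ← vc_vOf (hYlt a ha), ← Bz_eq_zero] at h
      rw [perpC, Nat.beq_eq, ← hP, ← vc_vOf (hYlt a ha), ← vc_mat, ← vc_bigV, ← Bz_eq_zero,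
        ← (mem_KV.1 (OU_le hPU)).2, Bz_map]
      exact h
    · intro l hnd hl
      have := hYcard (l.map (mvC p)) ?_ ?_
      · simpa using this
      · refine List.Nodup.map_on (fun a ha b hb e => ?_) hnd
        obtain ⟨a', ha', rfl⟩ := hl a ha
        obtain ⟨b', hb', rfl⟩ := hl b hb
        rw [hpp _ (hYlt _ ha'), hpp _ (hYlt _ hb')] at e
        rw [e]
      · intro a ha
        obtain ⟨b, hb, rfl⟩ := List.mem_map.1 ha
        obtain ⟨c, hc, rfl⟩ := hl b hb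
        rw [hpp _ (hYlt _ hc)]; exact hc
    · rintro _ ⟨a, ⟨c, hc1, hce, rfl⟩, rfl⟩ hW
      have h := hpW _ hW
      rw [hpp _ (vc_lt _)] at h
      have h1 := hYtriv c hc1 hce h
      subst h1
      rw [show (⟨(τ 1 : H), hτE 1 hce⟩ : Q) = 1 from Subtype.ext (by simp), D.vec_one, vc_zero',
        ← hP, ← vc_zero', ← vc_mat, Matrix.mulVec_zero]
    · rintro _ ⟨a, ha, rfl⟩
      exact ⟨_, hAinv a ha, ((congrArg (fun c => mvC c (mvC p a)) hpa).symm.trans
        (hmv _ _ (hYlt a ha))).symm⟩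
    · rintro _ ⟨a, ha, rfl⟩
      exact ⟨_, hBinv a ha, ((congrArg (fun c => mvC c (mvC p a)) hpb).symm.trans
        ((hmv _ _ (hYlt a ha)).trans
          (congrArg (fun c => mvC p (mvC c a)) hassoc.symm))).symm⟩
  -- a non-trivial element over `O`
  have : Nontrivial OU := Finite.one_lt_card_iff_nontrivial.1 (by rw [card_OU]; norm_num)
  obtain ⟨k, hk⟩ := exists_ne (1 : OU)
  obtain ⟨c, hc1, hcT, hck⟩ := hlift k (OU_le k.2)
  have hce := hcE k k.2 c hc1 hck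
  have h0 := hfin _ ⟨_, ⟨⟨c, hT hcT⟩, hc1, hce, rfl⟩, rfl⟩
  have h1 : vc (D.vec ⟨(τ ⟨c, hT hcT⟩ : H), hτE _ hce⟩) = 0 := by
    rw [← hpp _ (vc_lt _), h0, ← hP, ← vc_zero', ← vc_mat, Matrix.mulVec_zero]
  have h2 := hYtriv ⟨c, hT hcT⟩ hc1 hce (by
    rw [h1]
    exact inM_centWM.1 (by decide +kernel))
  refine hk (Subtype.ext (mat_injective (Matrix.ext_of_mulVec_single fun i => ?_)))
  rw [← hck, show c = 1 from congrArg Subtype.val h2, map_one, OneMemClass.coe_one, map_one,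
    Matrix.one_mulVec]
  rfl

end Model

end CfsgLib.Spor.LargeFi
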