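import Cfsg.Agent.Lib.Spor.LargeFi.Semi
import Cfsg.Agent.Lib.Spor.LargeFi.StabData

/-!
The maps commuting with the elementary abelian group `O`, fixing the big representative and
preserving the small orbit: the module is cyclic, so such a map is given by the image of one vector.
-/

set_option autoImplicit false
set_option maxRecDepth 100000

namespace CfsgLib.Spor.LargeFi

open CfsgLib.Spor.U62
open Matrix

/-- six words in the generators of a group of matrices, applied to the cyclic vector -/
def cyclicWord (f : ℕ → ℕ) : ℕ → ℕ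
  | 0 => oneC
  | 1 => f (oGens.getD 0 oneC)
  | 2 => f (oGens.getD 1 oneC)
  | 3 => f (oGens.getD 2 oneC)
  | 4 => f (oGens.getD 3 oneC)
  | _ => mulC (f (oGens.getD 0 oneC)) (f (oGens.getD 2 oneC))

/-- the code of the matrix with columns the images of a vector under the six words -/
def wordCols (f : ℕ → ℕ) (u : ℕ) : ℕ := build fun i k => entV (mvC (cyclicWord f k) u) i

/-- the code of the cyclic vector -/
def cyclicCode : ℕ := 16

/-- the inverse of the columns at the cyclic vector, linear case -/
def colsInvLin : ℕ := 1193366943421396439390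

/-- the inverse of the columns at the cyclic vector, semilinear case -/
def colsInvSemi : ℕ := 1196826552360096780635

theorem ofCode_oneC : ofCode oneC = 1 := by rw [← cd_one, ← mat_eq, map_one]

theorem mvC_mulC (a b y : ℕ) : mvC (mulC a b) y = mvC a (mvC b y) := by
  rw [← vc_vOf (mvC_lt (mulC a b) y), ← vc_vOf (mvC_lt a (mvC b y)), vOf_mvC, vOf_mvC, vOf_mvC,
    ofCode_mulC, Matrix.mulVec_mulVec]

theorem ofCode_wordCols (f : ℕ → ℕ) (u : ℕ) (i k : Fin 6) :
    ofCode (wordCols f u) i k = (ofCode (cyclicWord f k) *ᵥ vOf u) i := by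
  show kOf (ent (wordCols f u) i k) = _
  rw [wordCols, ent_build (fun _ _ => entV_lt _ _) i.2 k.2, ← vOf_mvC]
  rfl

theorem cyclicWord_comm {X : Matrix (Fin 6) (Fin 6) K4} {f : ℕ → ℕ}
    (hc : ∀ c ∈ oGens, ofCode c * X = X * ofCode (f c)) (k : ℕ) :
    ofCode (cyclicWord id k) * X = X * ofCode (cyclicWord f k) := by
  have hm : ∀ i < 4, ofCode (oGens.getD i oneC) * X = X * ofCode (f (oGens.getD i oneC)) := by
    intro i hi
    have hl : i < oGens.length := by simpa [oGens] using hi
    exact hc _ (by rw [List.getD_eq_getElem _ _ hl]; exact List.getElem_mem hl)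
  match k with
  | 0 => simp only [cyclicWord, ofCode_oneC, one_mul, mul_one]
  | 1 => exact hm 0 (by norm_num)
  | 2 => exact hm 1 (by norm_num)
  | 3 => exact hm 2 (by norm_num)
  | 4 => exact hm 3 (by norm_num)
  | n + 5 =>
    simp only [cyclicWord, ofCode_mulC, id_eq]
    rw [mul_assoc, hm 2 (by norm_num), ← mul_assoc, hm 0 (by norm_num), mul_assoc]

theorem eq_of_commutant {X : Matrix (Fin 6) (Fin 6) K4} {f : ℕ → ℕ} {wi : ℕ}
    (hc : ∀ c ∈ oGens, ofCode c * X = X * ofCode (f c))
    (hi : Nat.beq (mulC (wordCols f cyclicCode) wi) oneC = true) :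
    X = ofCode (mulC (wordCols id (vc (X *ᵥ vOf cyclicCode))) wi) := by
  have e : X * ofCode (wordCols f cyclicCode) = ofCode (wordCols id (vc (X *ᵥ vOf cyclicCode))) := by
    refine Matrix.ext fun i k => ?_
    calc (X * ofCode (wordCols f cyclicCode)) i k
        = (X *ᵥ (ofCode (cyclicWord f k) *ᵥ vOf cyclicCode)) i := by
          simp only [Matrix.mul_apply, Matrix.mulVec, dotProduct, ofCode_wordCols]
      _ = (ofCode (cyclicWord id k) *ᵥ (X *ᵥ vOf cyclicCode)) i := by
          rw [Matrix.mulVec_mulVec, ← cyclicWord_comm hc, ← Matrix.mulVec_mulVec]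
      _ = ofCode (wordCols id (vc (X *ᵥ vOf cyclicCode))) i k := by
          rw [ofCode_wordCols, vOf_vc]
  rw [ofCode_mulC, ← e, mul_assoc, ← ofCode_mulC, Nat.eq_of_beq_eq_true hi, ofCode_oneC, mul_one]

/-- the check on one image of the cyclic vector -/
def imageB (g : ℕ → ℕ) (wi : ℕ) (ok : ℕ → Bool) (u : ℕ) : Bool :=
  !Nat.beq (nfC u) (nfC cyclicCode) ||
    !Nat.beq (mvC (wordCols id u) (mvC wi (g bigRoot))) bigRoot ||
    !(smallL.all fun s => inM smallM (mvC (wordCols id u) (mvC wi (g s)))) ||
    ok (mulC (wordCols id u) wi)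

/-- the check on a block of images of the cyclic vector -/
def commutantB (g : ℕ → ℕ) (wi : ℕ) (ok : ℕ → Bool) (b : ℕ) : Bool :=
  (List.range' (512 * b) 512).all fun u => imageB g wi ok u

theorem commutant_of_check {X : Matrix (Fin 6) (Fin 6) K4} {f g : ℕ → ℕ} {t : V6 → V6} {wi : ℕ}
    {ok : ℕ → Bool} (ht : ∀ v, vc (t v) = g (vc v))
    (hinv : Nat.beq (mulC (wordCols f cyclicCode) wi) oneC = true)
    (hcheck : ∀ b < 8, commutantB g wi ok b = true)
    (hu : ∀ v, nf (X *ᵥ v) = nf v) (hc : ∀ c ∈ oGens, ofCode c * X = X * ofCode (f c))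
    (hv : X *ᵥ t bigV = bigV) (hs : ∀ v, Small v → Small (X *ᵥ t v)) :
    ∃ xc, X = ofCode xc ∧ ok xc = true := by
  have hX := eq_of_commutant hc hinv
  refine ⟨_, hX, ?_⟩
  have hlt := vc_lt (X *ᵥ vOf cyclicCode)
  have h := List.all_eq_true.1 (hcheck (vc (X *ᵥ vOf cyclicCode) / 512) (by omega))
    (vc (X *ᵥ vOf cyclicCode)) (List.mem_range'_1.2 (by omega))
  simp only [imageB, ← mvC_mulC] at h
  generalize mulC (wordCols id (vc (X *ᵥ vOf cyclicCode))) wi = xc at h hX ⊢
  have hb : vc bigV = bigRoot := by
    have e := bigRoot_mem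
    rw [Bool.and_eq_true, Nat.beq_eq] at e
    exact e.1
  have h1 : Nat.beq (nfC (vc (X *ᵥ vOf cyclicCode))) (nfC cyclicCode) = true := by
    rw [Nat.beq_eq]
    refine kOf_inj _ (dot6_lt _ _) _ (dot6_lt _ _) ?_
    show kOf (nfC _) = kOf (nfC _)
    rw [kOf_nfC, kOf_nfC, vOf_vc, hu]
  have h2 : Nat.beq (mvC xc (g bigRoot)) bigRoot = true := by
    rw [Nat.beq_eq, ← hb, ← ht, ← vc_mulVec, ← hX, hv]
  have h3 : (smallL.all fun s => inM smallM (mvC xc (g s))) = true := by
    refine List.all_eq_true.2 fun s hsm => ?_
    have hlt : s < 4096 := by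
      have e := List.all_eq_true.1 small_iso s hsm
      simp only [Bool.and_eq_true, Nat.blt_eq] at e
      exact e.1.2
    have e := hs (vOf s) (by rw [Small, vc_vOf hlt]; exact hsm)
    rw [Small, hX, vc_mulVec, ht, vc_vOf hlt] at e
    exact mem_smallL.1 e
  simpa only [h1, h2, h3, Bool.not_true, Bool.false_or] using h

theorem cols_inv_check : (Nat.beq (mulC (wordCols id cyclicCode) colsInvLin) oneC &&
    Nat.beq (mulC (wordCols galM cyclicCode) colsInvSemi) oneC) = true := by
  decide +kernel

theorem commutant_check_lin0 : commutantB id colsInvLin (fun xc => memV oL xc) 0 = true := by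
  decide +kernel

theorem commutant_check_lin1 : commutantB id colsInvLin (fun xc => memV oL xc) 1 = true := by
  decide +kernel

theorem commutant_check_lin2 : commutantB id colsInvLin (fun xc => memV oL xc) 2 = true := by
  decide +kernel

theorem commutant_check_lin3 : commutantB id colsInvLin (fun xc => memV oL xc) 3 = true := by
  decide +kernel

theorem commutant_check_lin4 : commutantB id colsInvLin (fun xc => memV oL xc) 4 = true := by
  decide +kernel

theorem commutant_check_lin5 : commutantB id colsInvLin (fun xc => memV oL xc) 5 = true := by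
  decide +kernel

theorem commutant_check_lin6 : commutantB id colsInvLin (fun xc => memV oL xc) 6 = true := by
  decide +kernel

theorem commutant_check_lin7 : commutantB id colsInvLin (fun xc => memV oL xc) 7 = true := by
  decide +kernel

theorem commutant_check_lin : ∀ b < 8, commutantB id colsInvLin (fun xc => memV oL xc) b = true
  | 0, _ => commutant_check_lin0
  | 1, _ => commutant_check_lin1
  | 2, _ => commutant_check_lin2
  | 3, _ => commutant_check_lin3
  | 4, _ => commutant_check_lin4
  | 5, _ => commutant_check_lin5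
  | 6, _ => commutant_check_lin6
  | 7, _ => commutant_check_lin7
  | n + 8, h => absurd h (by omega)

theorem commutant_check_semi0 :
    commutantB galV colsInvSemi (fun xc => memV sylL (2 * xc + 1)) 0 = true := by
  decide +kernel

theorem commutant_check_semi1 :
    commutantB galV colsInvSemi (fun xc => memV sylL (2 * xc + 1)) 1 = true := by
  decide +kernel

theorem commutant_check_semi2 :
    commutantB galV colsInvSemi (fun xc => memV sylL (2 * xc + 1)) 2 = true := by
  decide +kernel

theorem commutant_check_semi3 :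
    commutantB galV colsInvSemi (fun xc => memV sylL (2 * xc + 1)) 3 = true := by
  decide +kernel

theorem commutant_check_semi4 :
    commutantB galV colsInvSemi (fun xc => memV sylL (2 * xc + 1)) 4 = true := by
  decide +kernel

theorem commutant_check_semi5 :
    commutantB galV colsInvSemi (fun xc => memV sylL (2 * xc + 1)) 5 = true := by
  decide +kernel

theorem commutant_check_semi6 :
    commutantB galV colsInvSemi (fun xc => memV sylL (2 * xc + 1)) 6 = true := by
  decide +kernel

theorem commutant_check_semi7 :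
    commutantB galV colsInvSemi (fun xc => memV sylL (2 * xc + 1)) 7 = true := by
  decide +kernel

theorem commutant_check_semi :
    ∀ b < 8, commutantB galV colsInvSemi (fun xc => memV sylL (2 * xc + 1)) b = true
  | 0, _ => commutant_check_semi0
  | 1, _ => commutant_check_semi1
  | 2, _ => commutant_check_semi2
  | 3, _ => commutant_check_semi3
  | 4, _ => commutant_check_semi4
  | 5, _ => commutant_check_semi5
  | 6, _ => commutant_check_semi6
  | 7, _ => commutant_check_semi7
  | n + 8, h => absurd h (by omega)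

/-- linear maps commuting with `O`, fixing the big representative and preserving the small orbit
lie in `O` -/
theorem linear_commutant (X : Matrix (Fin 6) (Fin 6) K4) (hu : ∀ v, nf (X *ᵥ v) = nf v)
    (hc : ∀ c ∈ oGens, ofCode c * X = X * ofCode c) (hv : X *ᵥ bigV = bigV)
    (hs : ∀ v, Small v → Small (X *ᵥ v)) : ∃ c ∈ oL, X = ofCode c := by
  have h := cols_inv_check
  rw [Bool.and_eq_true] at h
  obtain ⟨xc, hX, hok⟩ := commutant_of_check (f := id) (g := id) (t := id) (fun _ => rfl) h.1
    commutant_check_lin hu hc hv hs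
  exact ⟨xc, memV_iff.1 hok, hX⟩

/-- semilinear maps centralising `O`, fixing the big representative and preserving the small orbit
lie in the Sylow subgroup -/
theorem semilinear_commutant (X : Matrix (Fin 6) (Fin 6) K4) (hu : ∀ v, nf (X *ᵥ v) = nf v)
    (hc : ∀ c ∈ oGens, ofCode c * X = X * ofCode (galM c)) (hv : X *ᵥ gal bigV = bigV)
    (hs : ∀ v, Small v → Small (X *ᵥ gal v)) :
    ∃ p ∈ sylL, flag p = true ∧ X = ofCode (base p) := by
  have h := cols_inv_check
  rw [Bool.and_eq_true] at h
  obtain ⟨xc, hX, hok⟩ := commutant_of_check (f := galM) (g := galV) (t := gal) vc_gal h.2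
    commutant_check_semi hu hc hv hs
  refine ⟨2 * xc + 1, memV_iff.1 hok, ?_⟩
  obtain ⟨e1, e2⟩ := base_eq xc true
  simp only [if_true] at e1 e2
  exact ⟨e2, by rw [e1]; exact hX⟩

end CfsgLib.Spor.LargeFi
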