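import Cfsg.Agent.Lib.Spor.LargeFi.Core

/-!
The image of the conjugate extraspecial subgroup in `H/Q` is `2⁵`, normal in the image `2⁵.A₆` of
the centraliser of the conjugate involution.
-/

set_option autoImplicit false

namespace CfsgLib.Spor.LargeFi

open CfsgLib.Spor.U62 CfsgLib.ThreeTransp
open Matrix

variable {G : Type*} [Group G] [Finite G] {z : G}
  {Q : Subgroup (Subgroup.centralizer ({z} : Set G))} [Q.Normal]

/-- the image of the centraliser of an element -/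
def cBar (Q : Subgroup (Subgroup.centralizer ({z} : Set G))) [Q.Normal]
    (s : Subgroup.centralizer ({z} : Set G)) : Subgroup (Subgroup.centralizer ({z} : Set G) ⧸ Q) :=
  (Subgroup.centralizer ({s} : Set (Subgroup.centralizer ({z} : Set G)))).map (QuotientGroup.mk' Q)

theorem conj_struct (D : Model Q (zH z)) {g : G} {a : Q}
    (hg : g * z * g⁻¹ = ((a : Subgroup.centralizer ({z} : Set G)) : G))
    (hne : ((a : Subgroup.centralizer ({z} : Set G)) : G) ≠ z) :
    Cfsg.IsElementaryAbelian 2 ((qG Q) ⊓ (qG Q).map (MulAut.conj g).toMonoidHom : Subgroup G) ∧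
      Nat.card ↥((qG Q) ⊓ (qG Q).map (MulAut.conj g).toMonoidHom : Subgroup G) = 2 ^ 7 ∧
      (E0 Q g).map (QuotientGroup.mk' Q) ≤ cBar Q a ∧
      (∀ x ∈ cBar Q a, ∀ y ∈ (E0 Q g).map (QuotientGroup.mk' Q),
        x * y * x⁻¹ ∈ (E0 Q g).map (QuotientGroup.mk' Q)) ∧
      Cfsg.IsElementaryAbelian 2 ((E0 Q g).map (QuotientGroup.mk' Q)) ∧
      Nat.card ((E0 Q g).map (QuotientGroup.mk' Q)) = 32 ∧
      ∃ _ : (((E0 Q g).map (QuotientGroup.mk' Q)).subgroupOf (cBar Q a)).Normal,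
        Nonempty (↥(cBar Q a) ⧸ ((E0 Q g).map (QuotientGroup.mk' Q)).subgroupOf (cBar Q a) ≃*
          alternatingGroup (Fin 6)) := by
  classical
  have P := twoPair D hg hne
  set Eb := (E0 Q g).map (QuotientGroup.mk' Q) with hEb
  have hle : Eb ≤ cBar Q a := Subgroup.map_mono fun e he =>
    Subgroup.mem_centralizer_singleton_iff.2 (E0_comm D hg hne he).eq
  have hnorm : ∀ x ∈ cBar Q a, ∀ y ∈ Eb, x * y * x⁻¹ ∈ Eb := by
    rintro _ ⟨k, hk, rfl⟩ _ ⟨e, he, rfl⟩
    exact ⟨k * e * k⁻¹, E0_norm D hg hne (Subgroup.mem_centralizer_singleton_iff.1 hk) he,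
      by rw [map_mul, map_mul, map_inv]⟩
  have hEel : Cfsg.IsElementaryAbelian 2 Eb := by
    refine ⟨⟨⟨?_⟩⟩, ?_⟩
    · rintro ⟨_, e, he, rfl⟩ ⟨_, f, hf, rfl⟩
      refine Subtype.ext ?_
      show QuotientGroup.mk' Q e * QuotientGroup.mk' Q f = _ * _
      refine mul_inv_eq_iff_eq_mul.1 (mul_inv_eq_one.1 ?_)
      rw [← map_inv, ← map_mul, ← map_mul, ← map_inv, ← map_mul]
      exact (QuotientGroup.eq_one_iff _).2 (E0_comm_sq D hg hne he hf).1.1
    · rintro _ ⟨e, he, rfl⟩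
      rw [pow_two, ← map_mul]
      exact (QuotientGroup.eq_one_iff _).2 (E0_comm_sq D hg hne he he).2
  -- move to the representative
  obtain ⟨h, b, hb, hvb, hgb, hneb⟩ := exists_at_bigV D hg hne
  obtain ⟨k1, k2, k3, k4, k5⟩ := core_facts D hgb hneb hvb
  have hE0conj : ∀ x, x ∈ E0 Q ((h : G) * g) ↔ h⁻¹ * x * h ∈ E0 Q g := by
    intro x
    simp only [E0, Subgroup.mem_subgroupOf, Subgroup.mem_map_equiv, MulAut.conj_symm_apply]
    simp [mul_assoc]
  have hcard : Nat.card (E0 Q g) = 2 ^ 12 ∧ Nat.card ↥(E0 Q g ⊓ Q) = 2 ^ 7 := by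
    constructor
    · rw [← k1]
      exact Nat.card_congr
        { toFun := fun x => ⟨h * x * h⁻¹, (hE0conj _).2 (by simp [mul_assoc])⟩
          invFun := fun x => ⟨h⁻¹ * x * h, (hE0conj _).1 x.2⟩
          left_inv := fun x => Subtype.ext (by simp [mul_assoc])
          right_inv := fun x => Subtype.ext (by simp [mul_assoc]) }
    · rw [← k2]
      have hQ : ∀ x : Subgroup.centralizer ({z} : Set G), h⁻¹ * x * h ∈ Q ↔ x ∈ Q := fun x => by
        refine ⟨fun hx => ?_, fun hx => ?_⟩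
        · simpa [mul_assoc] using (inferInstance : Q.Normal).conj_mem _ hx h
        · simpa [mul_assoc] using (inferInstance : Q.Normal).conj_mem _ hx h⁻¹
      exact Nat.card_congr
        { toFun := fun x => ⟨h * x * h⁻¹, (hE0conj _).2 (by simpa [mul_assoc] using x.2.1),
            (inferInstance : Q.Normal).conj_mem _ x.2.2 h⟩
          invFun := fun x => ⟨h⁻¹ * x * h, (hE0conj _).1 x.2.1, (hQ _).2 x.2.2⟩
          left_inv := fun x => Subtype.ext (by simp [mul_assoc])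
          right_inv := fun x => Subtype.ext (by simp [mul_assoc]) }
  have hL : Nat.card ↥((qG Q) ⊓ (qG Q).map (MulAut.conj g).toMonoidHom : Subgroup G) = 2 ^ 7 := by
    rw [← hcard.2]
    exact Nat.card_congr
      { toFun := fun x => ⟨⟨(x : G), Subgroup.map_subtype_le Q x.2.1⟩, x.2.2, mem_qG.1 x.2.1⟩
        invFun := fun x => ⟨((x : Subgroup.centralizer ({z} : Set G)) : G), mem_qG.2 x.2.2, x.2.1⟩
        left_inv := fun _ => rfl
        right_inv := fun _ => rfl }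
  have hE32 : Nat.card Eb = 32 := by
    let f := (QuotientGroup.mk' Q).subgroupMap (E0 Q g)
    have h1 := Subgroup.card_mul_index f.ker
    rw [Subgroup.index_ker, MonoidHom.range_eq_top.2 ((QuotientGroup.mk' Q).subgroupMap_surjective _),
      Subgroup.card_top] at h1
    have h2 : Nat.card f.ker = Nat.card ↥(E0 Q g ⊓ Q) := Nat.card_congr
      { toFun := fun x => ⟨x.1.1, x.1.2, (QuotientGroup.eq_one_iff _).1 (congrArg Subtype.val x.2)⟩
        invFun := fun y => ⟨⟨y.1, y.2.1⟩, Subtype.ext ((QuotientGroup.eq_one_iff _).2 y.2.2)⟩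
        left_inv := fun _ => rfl
        right_inv := fun _ => rfl }
    rw [h2, hcard.1, hcard.2] at h1
    change 2 ^ 7 * Nat.card Eb = 2 ^ 12 at h1
    norm_num at h1
    omega
  refine ⟨P.elementary, hL, hle, hnorm, hEel, hE32, ?_⟩
  have hN : (Eb.subgroupOf (cBar Q a)).Normal := ⟨fun y hy x => hnorm x x.2 y hy⟩
  refine ⟨hN, ?_⟩
  -- the quotient at the representative
  letI := D.fld
  letI := D.fin
  obtain ⟨φ, hφs, hφk⟩ := exists_KV_alt D.card_F9
  obtain ⟨ρ, hρ, hρK, hρs, hρker⟩ := D.exists_rho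
  let Mc : Subgroup (Subgroup.centralizer ({z} : Set G)) :=
    D.M ⊓ Subgroup.centralizer ({(b : Subgroup.centralizer ({z} : Set G))} : Set _)
  have hfixb : ∀ m, Commute m (b : Subgroup.centralizer ({z} : Set G)) → D.act m bigV = bigV := by
    intro m hm
    rw [← hvb, ← D.vec_conj]
    congr 1
    exact Subtype.ext (by rw [MulAut.conjNormal_apply]; exact mul_inv_eq_iff_eq_mul.2 hm.eq)
  let toKV : Mc →* KV bigV :=
    { toFun := fun m => ⟨ρ ⟨m, m.2.1⟩, mem_KV.2 ⟨hρK _, by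
        rw [← hρ]; exact hfixb _ (Subgroup.mem_centralizer_singleton_iff.1 m.2.2)⟩⟩
      map_one' := Subtype.ext (map_one ρ)
      map_mul' := fun m n => Subtype.ext (map_mul ρ ⟨m, m.2.1⟩ ⟨n, n.2.1⟩) }
  have htoKV : Function.Surjective toKV := by
    rintro ⟨k, hk⟩
    obtain ⟨hkK, hkv⟩ := mem_KV.1 hk
    obtain ⟨n, hn⟩ := hρs k hkK
    obtain ⟨j, hj, hjact⟩ := D.exists_comm_lift (m := (n : Subgroup.centralizer ({z} : Set G)))
      (a := b) (by rw [hρ, hn, hvb]; exact hkv) (vec_ne_zero D hgb hneb)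
    have hjM : j ∈ D.M := D.mem_M_of_act n.2 hjact
    refine ⟨⟨j, hjM, Subgroup.mem_centralizer_singleton_iff.2 hj.eq⟩, Subtype.ext ?_⟩
    show ρ ⟨j, hjM⟩ = k
    rw [← hn]
    exact Model.eq_of_mulVec fun v => by rw [← hρ, ← hρ]; exact DFunLike.congr_fun hjact v
  let conjh : Subgroup.centralizer ({z} : Set G) →* Subgroup.centralizer ({z} : Set G) :=
    (MulAut.conj h⁻¹).toMonoidHom
  have hconj : ∀ m : Mc, QuotientGroup.mk' Q (conjh (m : Subgroup.centralizer ({z} : Set G))) ∈ cBar Q a := by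
    intro m
    refine ⟨_, Subgroup.mem_centralizer_singleton_iff.2 ?_, rfl⟩
    have hm := Subgroup.mem_centralizer_singleton_iff.1 m.2.2
    have ea : (a : Subgroup.centralizer ({z} : Set G)) = h⁻¹ * b * h := by rw [hb]; simp [mul_assoc]
    show h⁻¹ * (m : Subgroup.centralizer ({z} : Set G)) * h⁻¹⁻¹ * _ = _ * (h⁻¹ * _ * h⁻¹⁻¹)
    rw [inv_inv, ea]
    calc h⁻¹ * (m : Subgroup.centralizer ({z} : Set G)) * h * (h⁻¹ * b * h)
        = h⁻¹ * ((m : Subgroup.centralizer ({z} : Set G)) * b) * h := by simp [mul_assoc]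
      _ = _ := by rw [hm]; simp [mul_assoc]
  let Φ : Mc →* (↥(cBar Q a) ⧸ Eb.subgroupOf (cBar Q a)) :=
    (QuotientGroup.mk' _).comp
      (MonoidHom.codRestrict (((QuotientGroup.mk' Q).comp conjh).comp Mc.subtype) _ hconj)
  have hEout : ∃ e ∈ E0 Q ((h : G) * g), e ∉ D.M := by
    by_contra hh
    push Not at hh
    rw [inf_eq_left.2 (fun x hx => hh x hx), k1] at k3
    norm_num at k3
  have hΦs : Function.Surjective Φ := by
    intro y
    obtain ⟨⟨_, x, hx, rfl⟩, rfl⟩ := QuotientGroup.mk_surjective y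
    have hx' : Commute (h * x * h⁻¹) (b : Subgroup.centralizer ({z} : Set G)) := by
      rw [hb]
      exact (Commute.map (Subgroup.mem_centralizer_singleton_iff.1 hx : Commute x _) (MulAut.conj h).toMonoidHom)
    obtain ⟨e, he, heM⟩ := hEout
    obtain ⟨m, hm, f, hf, hmf⟩ : ∃ m ∈ Mc, ∃ f ∈ E0 Q ((h : G) * g), h * x * h⁻¹ = m * f := by
      by_cases hxM : h * x * h⁻¹ ∈ D.M
      · exact ⟨_, ⟨hxM, Subgroup.mem_centralizer_singleton_iff.2 hx'.eq⟩, 1, one_mem _, by rw [mul_one]⟩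
      · refine ⟨h * x * h⁻¹ * e⁻¹, ⟨?_, Subgroup.mem_centralizer_singleton_iff.2
          (hx'.mul_left (E0_comm D hgb hneb he).inv_left).eq⟩, e, he, by rw [inv_mul_cancel_right]⟩
        exact (Subgroup.mul_mem_iff_of_index_two D.M_index).2
          (iff_of_false hxM fun h' => heM (inv_inv e ▸ D.M.inv_mem h'))
    refine ⟨⟨m, hm⟩, ?_⟩
    refine QuotientGroup.eq.2 (Subgroup.mem_subgroupOf.2 ⟨h⁻¹ * f * h, (hE0conj f).1 hf, ?_⟩)
    show QuotientGroup.mk' Q (h⁻¹ * f * h) = (QuotientGroup.mk' Q (h⁻¹ * m * h⁻¹⁻¹))⁻¹ * QuotientGroup.mk' Q x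
    rw [inv_inv, ← map_inv, ← map_mul]
    congr 1
    rw [show x = h⁻¹ * (h * x * h⁻¹) * h by simp [mul_assoc], hmf]
    simp [mul_assoc]
  have hΦk : ∀ m : Mc, Φ m = 1 ↔ φ (toKV m) = 1 := by
    intro m
    rw [hφk]
    show (QuotientGroup.mk' _ ⟨_, hconj m⟩ : ↥(cBar Q a) ⧸ Eb.subgroupOf (cBar Q a)) = 1 ↔
      ρ ⟨m, m.2.1⟩ ∈ OU
    rw [QuotientGroup.mk'_apply, QuotientGroup.eq_one_iff, Subgroup.mem_subgroupOf]
    show QuotientGroup.mk' Q (h⁻¹ * m * h⁻¹⁻¹) ∈ Eb ↔ _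
    rw [inv_inv]
    constructor
    · rintro ⟨e, he, hee⟩
      have hq : e⁻¹ * (h⁻¹ * (m : Subgroup.centralizer ({z} : Set G)) * h) ∈ Q := QuotientGroup.eq.1 hee
      have he2 : h * e * h⁻¹ ∈ E0 Q ((h : G) * g) := (hE0conj _).2 (by simpa [mul_assoc] using he)
      have hq' := (inferInstance : Q.Normal).conj_mem _ hq h
      have hqq : (h * e * h⁻¹)⁻¹ * (m : Subgroup.centralizer ({z} : Set G)) ∈ Q := by
        convert hq' using 1; simp [mul_assoc]
      have heM : h * e * h⁻¹ ∈ D.M := by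
        have h3 := D.M.mul_mem m.2.1 (D.M.inv_mem (D.Q_le hqq))
        simpa [mul_assoc] using h3
      obtain ⟨k, hk, hkv⟩ := k4 _ ⟨he2, heM⟩
      have hkm : ρ ⟨m, m.2.1⟩ = k := Model.eq_of_mulVec fun v => by
        rw [← hρ, ← hkv]
        have h4 : D.act (m : Subgroup.centralizer ({z} : Set G)) =
            D.act (h * e * h⁻¹) * D.act ((h * e * h⁻¹)⁻¹ * m) := by
          rw [← map_mul, mul_inv_cancel_left]
        rw [(D.ker_act _).2 hqq, mul_one] at h4
        exact DFunLike.congr_fun h4 v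
      rw [hkm]; exact hk
    · intro hO
      obtain ⟨f, hf, hfv⟩ := k5 _ hO
      refine ⟨h⁻¹ * f * h, (hE0conj f).1 hf.1, QuotientGroup.eq.2 ?_⟩
      have hq : f⁻¹ * (m : Subgroup.centralizer ({z} : Set G)) ∈ Q := (D.ker_act _).1 <| by
        refine AddMonoidHom.ext fun v => ?_
        show D.act (f⁻¹ * (m : Subgroup.centralizer ({z} : Set G))) v = v
        rw [D.act_mul_apply, hρ ⟨m, m.2.1⟩, ← hfv, D.act_inv_apply]
      have h2 := (inferInstance : Q.Normal).conj_mem _ hq h⁻¹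
      convert h2 using 1
      simp [mul_assoc]
  let χ := φ.comp toKV
  exact ⟨(QuotientGroup.quotientKerEquivOfSurjective Φ hΦs).symm.trans
    ((QuotientGroup.quotientMulEquivOfEq (Subgroup.ext fun m =>
      (MonoidHom.mem_ker.trans (hΦk m)).trans MonoidHom.mem_ker.symm)).trans
      (QuotientGroup.quotientKerEquivOfSurjective χ (hφs.comp htoKV)))⟩

end CfsgLib.Spor.LargeFi
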