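import Cfsg.Agent.Lib.Spor.U62.Classify
import Cfsg.Agent.Lib.Spor.LargeFi.Orbits

/-!
A diagonal unitary matrix carries each of the three subgroups to the first.
-/

set_option autoImplicit false
set_option maxRecDepth 100000

namespace CfsgLib.Spor.LargeFi

open CfsgLib.Spor.U62
open Matrix

/-- the last diagonal entry -/
def dEnt (i : Fin 3) : ℕ := [1, 2, 3].getD i.val 1

/-- diagonal codes -/
def dC (d : ℕ) : ℕ := build fun i j => if Nat.beq i j then (if Nat.beq i 5 then d else 1) else 0

/-- the diagonal matrix of the subgroup -/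
def DM (i : Fin 3) : Matrix (Fin 6) (Fin 6) K4 := ofCode (dC (dEnt i))

/-- its inverse -/
def DI (i : Fin 3) : Matrix (Fin 6) (Fin 6) K4 := ofCode (dC (sqN (dEnt i)))

theorem DM_inv : ∀ i, DM i * DI i = 1 ∧ DI i * DM i = 1 := by decide +kernel

theorem DM_det : ∀ i, (DM i).det * (DI i).det = 1 := fun i => by
  rw [← Matrix.det_mul, (DM_inv i).1, Matrix.det_one]

theorem dC_unit : ∀ i : Fin 3, unitB (dC (dEnt i)) = true ∧ unitB (dC (sqN (dEnt i))) = true := by
  decide +kernel

theorem nf_of_unit {c : ℕ} (h : unitB c = true) (v : V6) : nf (ofCode c *ᵥ v) = nf v := by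
  show Cfsg.hermForm 6 K4 2 _ _ = Cfsg.hermForm 6 K4 2 v v
  rw [hermForm_mulVec, unitB_spec h, Matrix.one_mulVec]
  exact Finset.sum_congr rfl fun i _ => by rw [pow_two]

theorem conj_mem_SU (i : Fin 3) (g : U6) :
    ∃ k : U6, mat k = DM i * mat g * DI i := by
  have hdet : (DM i * mat g * DI i).det = 1 := by
    have hd : (mat g).det = 1 := g.1.2
    rw [Matrix.det_mul, Matrix.det_mul, hd, mul_one, DM_det]
  refine ⟨⟨⟨_, hdet⟩, fun u v => ?_⟩, rfl⟩
  show Cfsg.hermForm 6 K4 2 ((DM i * mat g * DI i) *ᵥ u) ((DM i * mat g * DI i) *ᵥ v) = _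
  have key : ∀ c, unitB c = true → ∀ u v, Cfsg.hermForm 6 K4 2 (ofCode c *ᵥ u) (ofCode c *ᵥ v) =
      Cfsg.hermForm 6 K4 2 u v := fun c h u v => by
    rw [hermForm_mulVec, unitB_spec h, Matrix.one_mulVec]
    exact Finset.sum_congr rfl fun i _ => by rw [pow_two]
  rw [← Matrix.mulVec_mulVec, ← Matrix.mulVec_mulVec, ← Matrix.mulVec_mulVec, ← Matrix.mulVec_mulVec,
    DM, DI, key _ (dC_unit i).1]
  exact (g.2 _ _).trans (key _ (dC_unit i).2 u v)

/-- conjugation by the diagonal matrix -/
noncomputable def dconj (i : Fin 3) : U6 →* U6 where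
  toFun g := (conj_mem_SU i g).choose
  map_one' := mat_injective (by
    rw [(conj_mem_SU i 1).choose_spec, map_one, mul_one, (DM_inv i).1])
  map_mul' a b := mat_injective (by
    rw [(conj_mem_SU i (a * b)).choose_spec, map_mul, map_mul, (conj_mem_SU i a).choose_spec,
      (conj_mem_SU i b).choose_spec]
    simp only [mul_assoc]
    rw [← mul_assoc (DI i) (DM i), (DM_inv i).2, one_mul])

theorem mat_dconj (i : Fin 3) (g : U6) : mat (dconj i g) = DM i * mat g * DI i :=
  (conj_mem_SU i g).choose_spec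

theorem dconj_injective (i : Fin 3) : Function.Injective (dconj i) := by
  intro a b e
  have h := congrArg (fun g => DI i * mat g * DM i) e
  have key : ∀ M : Matrix (Fin 6) (Fin 6) K4, DI i * (DM i * M * DI i) * DM i = M := by
    intro M
    rw [← mul_assoc (DI i), ← mul_assoc (DI i), (DM_inv i).2, one_mul, mul_assoc, (DM_inv i).2,
      mul_one]
  simp only [mat_dconj, key] at h
  exact mat_injective h

/-- the code of a conjugate -/
def dconjC (i : Fin 3) (c : ℕ) : ℕ := mulC (mulC (dC (dEnt i)) c) (dC (sqN (dEnt i)))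

theorem cd_dconj (i : Fin 3) (g : U6) : cd (dconj i g) = dconjC i (cd g) := by
  show codeM (mat (dconj i g)) = _
  rw [mat_dconj, dconjC, ← codeM_ofCode_mulC, ofCode_mulC, ofCode_mulC, ← mat_eq]
  rfl

theorem dconj_diag : ∀ i : Fin 3, (diagL.all fun a => Nat.beq (dconjC i a) a) = true := by
  decide +kernel

theorem dconj_cyc : ∀ i : Fin 3, ([Cc1, Cc2].all fun c =>
    diagL.any fun a => Nat.beq (dconjC i c) (mulC a c)) = true := by decide +kernel

theorem dconj_pres : ∀ i : Fin 3, ((gens i).all fun c =>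
    smallL.all fun u => inM smallM (mvC (dconjC i c) u)) = true := by decide +kernel

theorem pres_only_zero : ∀ j : Fin 3, j ≠ 0 → ((gens j).all fun c =>
    smallL.all fun u => inM smallM (mvC c u)) = false := by decide +kernel

theorem dconj_P0 (i : Fin 3) : ∀ g ∈ P0, dconj i g ∈ P0 := by
  have hA : ∀ g ∈ A, dconj i g ∈ P0 := by
    intro g hg
    have h := Nat.eq_of_beq_eq_true (List.all_eq_true.1 (dconj_diag i) _ (A_mem_iff.1 hg))
    rw [cd_injective ((cd_dconj i g).trans h)]
    exact Subgroup.mem_sup_left hg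
  have hC : C ≤ P0.comap (dconj i) := by
    refine span_le fun c hc => ?_
    obtain ⟨g, hg, rfl⟩ := C_gens c hc
    refine ⟨g, ?_, rfl⟩
    have h := List.all_eq_true.1 (dconj_cyc i) _ hc
    simp only [List.any_eq_true, Nat.beq_eq] at h
    obtain ⟨a, ha, e⟩ := h
    obtain ⟨b, -, rfl⟩ := diagL_in_top a ha
    rw [← cd_mul, ← cd_dconj] at e
    rw [Subgroup.mem_comap, cd_injective e]
    exact Subgroup.mul_mem _ (Subgroup.mem_sup_left (A_mem_iff.2 ha)) (Subgroup.mem_sup_right hg)
  intro g hg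
  have : P0 ≤ P0.comap (dconj i) := sup_le (fun g hg => hA g hg) hC
  exact this hg

theorem dconj_KS {F9 : Type} [Field F9] [Fintype F9] (hF9 : Fintype.card F9 = 9) (i : Fin 3) :
    (KS i).map (dconj i) = KS 0 := by
  obtain ⟨hz, ⟨e⟩⟩ := (KS_spec hF9 i).1
  have hcov : Cover F9 ((KS i).map (dconj i)) :=
    cover_transport (Subgroup.equivMapOfInjective _ _ (dconj_injective i)) hz e
  have hP : P0 ≤ (KS i).map (dconj i) := by
    have hm : P0.map (dconj i) = P0 := by
      refine Subgroup.eq_of_le_of_card_ge ?_ ?_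
      · rintro _ ⟨g, hg, rfl⟩; exact dconj_P0 i g hg
      · exact (Nat.card_congr (Subgroup.equivMapOfInjective _ _ (dconj_injective i)).toEquiv).le
    rw [← hm]
    exact Subgroup.map_mono (P0_le i)
  obtain ⟨j, hj⟩ := classify_sylow hF9 hcov hP
  have hpres : ∀ g ∈ KS i, ∀ v, Small v → Small (mat (dconj i g) *ᵥ v) := by
    intro g hg
    have hg' : g ∈ Submonoid.closure {x : U6 | cd x ∈ gens i} := by
      rw [← Subgroup.closure_toSubmonoid_of_finite]; exact hg
    clear hg
    induction hg' using Submonoid.closure_induction with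
    | mem x hx =>
      intro v hv
      have e := List.all_eq_true.1 (List.all_eq_true.1 (dconj_pres i) _ hx) _ hv
      rw [Small, vc_mat, cd_dconj]
      exact mem_smallL.2 e
    | one => intro v hv; rwa [map_one, map_one, Matrix.one_mulVec]
    | mul a b _ _ ha hb =>
      intro v hv
      rw [map_mul, map_mul, ← Matrix.mulVec_mulVec]
      exact ha _ (hb v hv)
  rw [← hj]
  congr
  by_contra hne
  have hf := pres_only_zero j hne
  rw [← Bool.not_eq_true, List.all_eq_true] at hf
  refine hf fun c hc => ?_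
  obtain ⟨g, hg, rfl⟩ := gens_mem j c hc
  rw [hj] at hg
  obtain ⟨k, hk, rfl⟩ := hg
  rw [List.all_eq_true]
  intro u hu
  have h := hpres k hk (vOf u) ?_
  · rw [Small, vc_mat, vc_vOf (lt_of_mem_small hu)] at h
    exact mem_smallL.1 h
  · rw [Small, vc_vOf (lt_of_mem_small hu)]; exact hu
where
  lt_of_mem_small {u : ℕ} (hu : u ∈ smallL) : u < 4096 := by
    have h := List.all_eq_true.1 small_iso u hu
    simp only [Bool.and_eq_true, Nat.blt_eq] at h
    exact h.1.2

end CfsgLib.Spor.LargeFi
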