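import Cfsg.Agent.Lib.ThreeTransp.LargePair

/-!
# An element of order three in the centraliser of an involution with an extraspecial core

`Q` is extraspecial of width at least four with central involution `z`, the conjugate `s ≠ z` of `z`
lies in `Q` and `x` of order three acts on `Q / ⟨z⟩` without fixed points.  Then `x` is not central
in `C(z)` modulo `Q`: the elements of `Q' ⊓ C(z)` cannot all commute with `x` modulo `Q`, since
otherwise each of them fixes a subgroup of index four of `Q / ⟨z⟩`.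
-/

set_option autoImplicit false
set_option linter.unusedSectionVars false

namespace CfsgLib.Spor.LargeFi

open CfsgLib.ThreeTransp

variable {G : Type*} [Group G] [Finite G]

/-- equality up to the central involution -/
def ModZ (z a b : G) : Prop := a = b ∨ a = z * b

theorem ModZ.symm {z a b : G} (hz : z * z = 1) (h : ModZ z a b) : ModZ z b a := by
  rcases h with h | h
  · exact Or.inl h.symm
  · exact Or.inr (by rw [h, ← mul_assoc, hz, one_mul])

theorem ModZ.trans {z a b c : G} (hz : z * z = 1) (h : ModZ z a b) (h' : ModZ z b c) :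
    ModZ z a c := by
  rcases h with h | h <;> rcases h' with h' | h' <;> rw [h, h']
  exacts [Or.inl rfl, Or.inr rfl, Or.inr rfl, Or.inl (by rw [← mul_assoc, hz, one_mul])]

/-- `x` fixes an element of `Q` modulo the central involution only for the obvious ones. -/
theorem fixed_modZ {Q : Subgroup G} {z x : G} (h : XCent Q z) (hxz : x * z = z * x)
    (hx3 : x ^ 3 = 1) (hfix : ∀ q ∈ Q, x * q = q * x → q = 1 ∨ q = z)
    {q : G} (hq : q ∈ Q) (hm : ModZ z (x * q * x⁻¹) q) : q = 1 ∨ q = z := by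
  rcases hm with hm | hm
  · exact hfix q hq (mul_inv_eq_iff_eq_mul.1 hm)
  · refine absurd ?_ h.ne_one
    have hc : x * (z * q) * x⁻¹ = z * (x * q * x⁻¹) := by
      rw [← mul_assoc x z q, hxz]; simp [mul_assoc]
    have e2 : x * (x * q * x⁻¹) * x⁻¹ = q := by
      rw [hm, hc, hm, ← mul_assoc, h.inv, one_mul]
    have hx : x * x * x = 1 := by rw [← hx3, pow_succ, pow_two]
    have e3 : x * (x * (x * q * x⁻¹) * x⁻¹) * x⁻¹ = q := by
      calc x * (x * (x * q * x⁻¹) * x⁻¹) * x⁻¹ = (x * x * x) * q * (x * x * x)⁻¹ := by group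
        _ = q := by rw [hx]; simp
    rw [e2, hm] at e3
    exact mul_right_cancel (e3.trans (one_mul q).symm)

/-- The centraliser in `Q` of one of its elements has index at most two. -/
theorem card_le_two_mul_centralizer {P : Subgroup G} {z y : G} (h : XCent P z) (hy : y ∈ P) :
    Nat.card P ≤ 2 * Nat.card ↥(P ⊓ Subgroup.centralizer ({y} : Set G)) := by
  classical
  obtain ⟨p1, hp1, hp1'⟩ : ∃ p1 ∈ P, ∀ p ∈ P, p ∈ P ⊓ Subgroup.centralizer ({y} : Set G) ∨
      p1⁻¹ * p ∈ P ⊓ Subgroup.centralizer ({y} : Set G) := by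
    by_cases hex : ∃ p ∈ P, p * y * p⁻¹ = z * y
    · obtain ⟨p1, hp1, hp1'⟩ := hex
      refine ⟨p1, hp1, fun p hp => ?_⟩
      rcases h.commEl p hp y hy with hh | hh
      · exact Or.inl ⟨hp, Subgroup.mem_centralizer_singleton_iff.2 (mul_inv_eq_iff_eq_mul.1 hh)⟩
      · refine Or.inr ⟨P.mul_mem (P.inv_mem hp1) hp, Subgroup.mem_centralizer_singleton_iff.2 ?_⟩
        rw [← hp1', mul_inv_eq_iff_eq_mul] at hh
        rw [mul_assoc, hh]; group
    · push Not at hex
      refine ⟨1, one_mem P, fun p hp => Or.inl ⟨hp, Subgroup.mem_centralizer_singleton_iff.2 ?_⟩⟩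
      exact mul_inv_eq_iff_eq_mul.1 ((h.commEl p hp y hy).resolve_right (hex p hp))
  have := Nat.card_le_card_of_surjective
    (fun s : Bool × ↥(P ⊓ Subgroup.centralizer ({y} : Set G)) =>
      (⟨(if s.1 then p1 else 1) * (s.2 : G),
        mul_mem (by split_ifs <;> [exact hp1; exact one_mem P]) s.2.2.1⟩ : P)) (fun p => by
      rcases hp1' p p.2 with hd | hd
      · exact ⟨(false, ⟨p, hd⟩), Subtype.ext (by simp)⟩
      · exact ⟨(true, ⟨_, hd⟩), Subtype.ext (by simp)⟩)
  rwa [Nat.card_prod, Nat.card_eq_fintype_card (α := Bool), Fintype.card_bool] at this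

/-- An element of order three acting without fixed points on `Q / ⟨z⟩` is moved modulo `Q`. -/
theorem three_moved {Q : Subgroup G} {z x g : G} (h : XCent Q z) (hgQ : g * z * g⁻¹ ∈ Q)
    (hne : g * z * g⁻¹ ≠ z) {w : ℕ} (hw : 4 ≤ w) (hcard : Nat.card Q = 2 ^ (2 * w + 1))
    (hxz : x * z = z * x) (hx3 : x ^ 3 = 1)
    (hfix : ∀ q ∈ Q, x * q = q * x → q = 1 ∨ q = z)
    (hCV : ∀ c : G, c * z = z * c → (∀ q ∈ Q, ModZ z (c * q * c⁻¹) q) → c ∈ Q) :
    ∃ d : G, d * z = z * d ∧ d * x * d⁻¹ * x⁻¹ ∉ Q := by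
  classical
  by_contra! hcen
  obtain ⟨s, hs⟩ : ∃ s, g * z * g⁻¹ = s := ⟨_, rfl⟩
  obtain ⟨Q', hQ'def⟩ : ∃ Q', Q.map (MulAut.conj g).toMonoidHom = Q' := ⟨_, rfl⟩
  have h' : XCent Q' s := hs ▸ hQ'def ▸ h.conj g
  have hzQ' : z ∈ Q' := hQ'def ▸ h.mem_conj g hgQ
  rw [hs] at hgQ hne
  have hzz := h.inv
  have hzs : Commute z s := (show Commute s z from h.comm s hgQ).symm
  have hsne : s ≠ 1 := h'.ne_one
  have hzinv : z⁻¹ = z := inv_eq_of_mul_eq_one_right hzz
  let cj : G → G := fun q => x * q * x⁻¹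
  have hcj : ∀ q ∈ Q, cj q ∈ Q := fun q hq => h.norm x hxz q hq
  have hcjz : cj z = z := mul_inv_eq_iff_eq_mul.2 hxz
  have hcjm : ∀ a b, cj (a * b) = cj a * cj b := fun a b => by simp only [cj]; group
  have hcjM : ∀ a b, ModZ z a b → ModZ z (cj a) (cj b) := by
    rintro a b (rfl | rfl)
    · exact Or.inl rfl
    · exact Or.inr (by rw [hcjm, hcjz])
  have hfx : ∀ q ∈ Q, ModZ z (cj q) q → q = 1 ∨ q = z :=
    fun q hq hm => fixed_modZ h hxz hx3 hfix hq hm
  have hscj : ∀ e, ModZ z (cj s) e → ¬ (e = 1 ∨ e = z ∨ e = s ∨ e = z * s) := by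
    intro e hm he
    have hm1 : ModZ z (cj s) 1 ∨ ModZ z (cj s) s := by
      rcases he with he | he | he | he <;> rw [he] at hm
      · exact Or.inl hm
      · exact Or.inl (hm.trans hzz (Or.inr (mul_one z).symm))
      · exact Or.inr hm
      · exact Or.inr (hm.trans hzz (Or.inr rfl))
    rcases hm1 with hm1 | hm1
    · have e1 : cj s = cj 1 ∨ cj s = cj z := by
        rcases hm1 with e | e
        · exact Or.inl (by rw [e]; simp [cj])
        · exact Or.inr (by rw [e, mul_one, hcjz])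
      rcases e1 with e1 | e1
      · exact hsne (mul_left_cancel (mul_right_cancel e1))
      · exact hne (mul_left_cancel (mul_right_cancel e1))
    · rcases hfx s hgQ hm1 with e | e
      exacts [hsne e, hne e]
  -- the group of the other side
  obtain ⟨D, hDdef⟩ : ∃ D : Subgroup G, Q' ⊓ Subgroup.centralizer ({z} : Set G) = D := ⟨_, rfl⟩
  have hDz : ∀ d ∈ D, d * z = z * d := fun d hd =>
    Subgroup.mem_centralizer_singleton_iff.1 (hDdef.ge hd).2
  have hDQ' : ∀ d ∈ D, d ∈ Q' := fun d hd => (hDdef.ge hd).1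
  have hconjz : ∀ d, d * z = z * d → d * z * d⁻¹ = z := fun d hd => mul_inv_eq_iff_eq_mul.2 hd
  -- conjugation of `x · q · x⁻¹` by an element centralising `x` modulo `Q`
  have hflip : ∀ d, d * z = z * d → ∀ u ∈ Q,
      ModZ z (d * cj u * d⁻¹) (cj (d * u * d⁻¹)) := by
    intro d hd u hu
    have hr : d * x * d⁻¹ * x⁻¹ ∈ Q := hcen d hd
    have e : d * cj u * d⁻¹ =
        (d * x * d⁻¹ * x⁻¹) * cj (d * u * d⁻¹) * (d * x * d⁻¹ * x⁻¹)⁻¹ := by
      simp only [cj]; group
    rw [e]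
    exact h.commEl _ hr _ (hcj _ (h.norm d hd u hu))
  -- commutators of `D` with elements of `Q` commuting with `s`
  have hcomW : ∀ d ∈ D, ∀ u ∈ Q, u * s = s * u →
      d * u * d⁻¹ * u⁻¹ ∈ Q ∧ d * u * d⁻¹ * u⁻¹ ∈ Q' := by
    intro d hd u hu hus
    refine ⟨mul_mem (h.norm d (hDz d hd) u hu) (inv_mem hu), ?_⟩
    rw [show d * u * d⁻¹ * u⁻¹ = d * (u * d⁻¹ * u⁻¹) by group]
    exact mul_mem (hDQ' d hd) (h'.norm u hus d⁻¹ (inv_mem (hDQ' d hd)))
  -- the two commutators correspond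
  have hrel : ∀ d ∈ D, ∀ u ∈ Q,
      ModZ z (d * cj u * d⁻¹ * (cj u)⁻¹) (cj (d * u * d⁻¹ * u⁻¹)) := by
    intro d hd u hu
    have e : cj (d * u * d⁻¹ * u⁻¹) = cj (d * u * d⁻¹) * (cj u)⁻¹ := by
      simp only [cj]; group
    rw [e]
    rcases hflip d (hDz d hd) u hu with e1 | e1 <;> rw [e1]
    · exact Or.inl rfl
    · exact Or.inr (mul_assoc _ _ _)
  -- `(Q ⊓ Q') ⊓ (Q ⊓ Q')^x` is the centre
  have hR : ∀ c ∈ Q, c ∈ Q' → cj c ∈ Q' → c = 1 ∨ c = z := by
    intro c hc hc' hcc'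
    have hval : ∀ d ∈ D, ∀ u ∈ Q', d * u * d⁻¹ * u⁻¹ = 1 ∨ d * u * d⁻¹ * u⁻¹ = s := by
      intro d hd u hu
      rcases h'.commEl d (hDQ' d hd) u hu with e | e <;> rw [e]
      · exact Or.inl (mul_inv_cancel u)
      · exact Or.inr (mul_inv_cancel_right s u)
    have hboth : ∀ d ∈ D, d * c * d⁻¹ * c⁻¹ = 1 ∧ d * cj c * d⁻¹ * (cj c)⁻¹ = 1 := by
      intro d hd
      have e' := hval d hd (cj c) hcc'
      have hr := hrel d hd c hc
      rcases hval d hd c hc' with e | e <;> rw [e] at hr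
      · refine ⟨e, e'.resolve_right fun e'' => ?_⟩
        rw [e'', show cj 1 = 1 by simp [cj]] at hr
        rcases hr with e3 | e3
        · exact hsne e3
        · exact hne (by rw [e3, mul_one])
      · refine absurd ?_ (hscj _ (hr.symm hzz))
        rcases e' with e' | e'
        · exact Or.inl e'
        · exact Or.inr (Or.inr (Or.inl e'))
    have hfour : ∀ u ∈ Q', (∀ d ∈ D, d * u * d⁻¹ * u⁻¹ = 1) →
        u = 1 ∨ u = s ∨ u = z ∨ u = s * z := fun u hu hD =>
      h'.cent_R hzQ' h.ne_one hne.symm hu fun r hr hrz =>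
        mul_inv_eq_iff_eq_mul.1 (mul_inv_eq_one.1
          (hD r (hDdef ▸ ⟨hr, Subgroup.mem_centralizer_singleton_iff.2 hrz⟩)))
    have hcc4 : cj c = 1 ∨ cj c = z ∨ cj c = s ∨ cj c = z * s := by
      rcases hfour _ hcc' (fun d hd => (hboth d hd).2) with e | e | e | e
      · exact Or.inl e
      · exact Or.inr (Or.inr (Or.inl e))
      · exact Or.inr (Or.inl e)
      · exact Or.inr (Or.inr (Or.inr (by rw [e, hzs.eq])))
    rcases hfour c hc' (fun d hd => (hboth d hd).1) with rfl | rfl | rfl | rfl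
    · exact Or.inl rfl
    · exact absurd hcc4 (hscj _ (Or.inl rfl))
    · exact Or.inr rfl
    · refine absurd hcc4 (hscj _ ?_)
      rw [hcjm, hcjz]
      exact Or.inr (by rw [h.comm _ (hcj s hgQ), ← mul_assoc, hzz, one_mul])
  -- the intersection is small
  have hWcard : Nat.card ↥(Q ⊓ Q') * Nat.card ↥(Q ⊓ Q') ≤ 2 * Nat.card Q := by
    set W := Q ⊓ Q' with hW
    set W1 := W.map (MulAut.conj x).toMonoidHom with hW1
    have hW1Q : W1 ≤ Q := by
      rintro _ ⟨a, ha, rfl⟩
      exact h.norm x hxz a ha.1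
    have hcW1 : Nat.card ↥W1 = Nat.card ↥W :=
      Subgroup.card_map_of_injective (MulAut.conj x).injective
    have hinf : Nat.card ↥(W ⊓ W1) ≤ 2 := by
      refine (Subgroup.card_le_of_le (H := W ⊓ W1) (K := Subgroup.zpowers z) ?_).trans ?_
      · rintro a ⟨ha, b, hb, rfl⟩
        rcases hR b hb.1 hb.2 ha.2 with rfl | rfl
        · rw [map_one]; exact one_mem _
        · change cj b ∈ Subgroup.zpowers b
          rw [hcjz]; exact Subgroup.mem_zpowers b
      · rw [Nat.card_zpowers, orderOf_eq_prime (p := 2) (by rw [pow_two, hzz]) h.ne_one]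
    have h1 : Nat.card ↥W = Nat.card ↥(W ⊓ W1) * (W ⊓ W1).relIndex W := by
      rw [← Subgroup.relIndex_bot_left, ← Subgroup.relIndex_bot_left,
        Subgroup.relIndex_mul_relIndex _ _ _ bot_le inf_le_left]
    have h2 : W1.relIndex W ≤ W1.relIndex Q :=
      Subgroup.relIndex_le_of_le_right inf_le_left
        (by rw [Subgroup.relIndex]; exact Subgroup.index_ne_zero_of_finite)
    have h3 : Nat.card ↥W1 * W1.relIndex Q = Nat.card Q := by
      rw [← Subgroup.relIndex_bot_left, ← Subgroup.relIndex_bot_left,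
        Subgroup.relIndex_mul_relIndex _ _ _ bot_le hW1Q]
    rw [Subgroup.inf_relIndex_left] at h1
    calc Nat.card ↥W * Nat.card ↥W
        = Nat.card ↥(W ⊓ W1) * (Nat.card ↥W1 * W1.relIndex W) := by rw [hcW1, h1]; ring
      _ ≤ 2 * (Nat.card ↥W1 * W1.relIndex Q) :=
          Nat.mul_le_mul hinf (Nat.mul_le_mul_left _ h2)
      _ = 2 * Nat.card Q := by rw [h3]
  -- an element of `C_Q(s)` moved out by `x`
  obtain ⟨v0, hv0, hv0s, hv1s⟩ : ∃ v0 ∈ Q, v0 * s = s * v0 ∧ ¬ cj v0 * s = s * cj v0 := by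
    by_contra! hall
    have ht : x⁻¹ * s * x ∈ Q := by
      have h1 := h.norm (x ^ 2) (by
        rw [pow_two, mul_assoc, hxz, ← mul_assoc, hxz, mul_assoc]) s hgQ
      rwa [show x ^ 2 = x⁻¹ from eq_inv_of_mul_eq_one_left (by rw [← pow_succ, hx3]), inv_inv]
        at h1
    rcases h.cent_R hgQ hsne hne ht (fun r hr hrs => by
      have := congrArg (fun t => x⁻¹ * t * x) (hall r hr hrs)
      simpa [cj, mul_assoc] using this) with e | e | e | e
    · exact hsne (by simpa [mul_assoc] using congrArg (fun t => x * t * x⁻¹) e)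
    · refine hne ?_
      calc s = cj (x⁻¹ * s * x) := by simp only [cj]; group
        _ = z := by rw [e, hcjz]
    · refine hscj s (Or.inl ?_) (Or.inr (Or.inr (Or.inl rfl)))
      calc cj s = cj (x⁻¹ * s * x) := by rw [e]
        _ = s := by simp only [cj]; group
    · refine hscj _ ?_ (Or.inr (Or.inr (Or.inl rfl)))
      have e2 : s = z * cj s := by
        calc s = cj (x⁻¹ * s * x) := by simp only [cj]; group
          _ = z * cj s := by rw [e, hcjm, hcjz]
      refine Or.inr ?_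
      calc cj s = z * (z * cj s) := by rw [← mul_assoc, hzz, one_mul]
        _ = z * s := by rw [← e2]
  -- on the hyperplane every element of `D` is trivial
  have hU0 : ∀ d ∈ D, ∀ u ∈ Q, u * s = s * u → cj u * s = s * cj u →
      ModZ z (d * u * d⁻¹) u := by
    intro d hd u hu hus hu's
    obtain ⟨hc1, hc2⟩ := hcomW d hd u hu hus
    obtain ⟨-, hc4⟩ := hcomW d hd (cj u) (hcj u hu) hu's
    have hcc : cj (d * u * d⁻¹ * u⁻¹) ∈ Q' := by
      rcases (hrel d hd u hu).symm hzz with e | e <;> rw [e]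
      · exact hc4
      · exact mul_mem hzQ' hc4
    rcases hR _ hc1 hc2 hcc with e | e
    · exact Or.inl (mul_inv_eq_one.1 e)
    · exact Or.inr (mul_inv_eq_iff_eq_mul.1 e)
  have hsplit : ∀ r ∈ Q, r * s = s * r → (cj r * s = s * cj r ∨
      cj (r * v0) * s = s * cj (r * v0)) := by
    intro r hr hrs
    rcases h.commEl _ (hcj r hr) s hgQ with e | e
    · exact Or.inl (mul_inv_eq_iff_eq_mul.1 e)
    rcases h.commEl _ (hcj v0 hv0) s hgQ with e' | e'
    · exact absurd (mul_inv_eq_iff_eq_mul.1 e') hv1s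
    refine Or.inr (mul_inv_eq_iff_eq_mul.1 ?_)
    calc cj (r * v0) * s * (cj (r * v0))⁻¹ = cj r * (cj v0 * s * (cj v0)⁻¹) * (cj r)⁻¹ := by
          rw [hcjm]; group
      _ = (cj r * z * (cj r)⁻¹) * (cj r * s * (cj r)⁻¹) := by rw [e']; group
      _ = s := by rw [mul_inv_eq_iff_eq_mul.2 (h.comm _ (hcj r hr)), e, ← mul_assoc, hzz, one_mul]
  -- the commutator with `v0` determines an element of `D` modulo `Q`
  let cm : G → G := fun d => d * v0 * d⁻¹ * v0⁻¹
  have hY : ∀ d ∈ D, cm d ∈ Q ∧ cm d * s = s * cm d ∧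
      ∀ u ∈ Q, u * s = s * u → cj u * s = s * cj u → cm d * u = u * cm d := by
    intro d hd
    obtain ⟨hc1, hc2⟩ := hcomW d hd v0 hv0 hv0s
    refine ⟨hc1, h'.comm _ hc2, fun u hu hus hu's => ?_⟩
    have hdu : ModZ z (d * u * d⁻¹) u := hU0 d hd u hu hus hu's
    rw [← mul_inv_eq_iff_eq_mul]
    have hzc : d * z * d⁻¹ = z := hconjz d (hDz d hd)
    have key : ∀ e, v0 * u * v0⁻¹ = e → d * e * d⁻¹ = e ∨ d * e * d⁻¹ = z * e := by
      intro e he
      rcases h.commEl v0 hv0 u hu with e1 | e1 <;> rw [e1] at he <;> subst he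
      · exact hdu
      · rw [show d * (z * u) * d⁻¹ = (d * z * d⁻¹) * (d * u * d⁻¹) by group, hzc]
        rcases hdu with e2 | e2
        · exact Or.inl (by rw [e2])
        · exact Or.inr (by rw [e2])
    have hdvu : (d * v0 * d⁻¹) * u * (d * v0 * d⁻¹)⁻¹ = v0 * u * v0⁻¹ := by
      have hx : (d * v0 * d⁻¹) * (d * u * d⁻¹) * (d * v0 * d⁻¹)⁻¹ = d * (v0 * u * v0⁻¹) * d⁻¹ := by
        group
      have hq := mul_inv_eq_iff_eq_mul.2 (h.comm _ (h.norm d (hDz d hd) v0 hv0))
      rcases h.commEl v0 hv0 u hu with e1 | e1 <;> rw [e1] at hx ⊢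
      · rcases hdu with e2 | e2 <;> rw [e2] at hx
        · exact hx
        · rw [show (d * v0 * d⁻¹) * (z * u) * (d * v0 * d⁻¹)⁻¹ = (d * v0 * d⁻¹ * z *
            (d * v0 * d⁻¹)⁻¹) * ((d * v0 * d⁻¹) * u * (d * v0 * d⁻¹)⁻¹) by group, hq] at hx
          exact mul_left_cancel hx
      · rw [show d * (z * u) * d⁻¹ = (d * z * d⁻¹) * (d * u * d⁻¹) by group, hzc] at hx
        rcases hdu with e2 | e2 <;> rw [e2] at hx
        · exact hx
        · rw [show (d * v0 * d⁻¹) * (z * u) * (d * v0 * d⁻¹)⁻¹ = (d * v0 * d⁻¹ * z *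
            (d * v0 * d⁻¹)⁻¹) * ((d * v0 * d⁻¹) * u * (d * v0 * d⁻¹)⁻¹) by group, hq] at hx
          exact mul_left_cancel hx
    have hv0u : v0⁻¹ * (v0 * u * v0⁻¹) * v0 = u := by group
    calc cm d * u * (cm d)⁻¹ = (d * v0 * d⁻¹) * (v0⁻¹ * u * v0) * (d * v0 * d⁻¹)⁻¹ := by
          simp only [cm]; group
      _ = u := by
        rcases h.commEl v0⁻¹ (inv_mem hv0) u hu with e1 | e1 <;> rw [inv_inv] at e1 <;> rw [e1]
        · rw [hdvu]
          have := congrArg (fun t => v0 * t * v0⁻¹) e1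
          simpa [mul_assoc] using this.symm
        · rw [show (d * v0 * d⁻¹) * (z * u) * (d * v0 * d⁻¹)⁻¹ = (d * v0 * d⁻¹ * z *
            (d * v0 * d⁻¹)⁻¹) * ((d * v0 * d⁻¹) * u * (d * v0 * d⁻¹)⁻¹) by group,
            mul_inv_eq_iff_eq_mul.2 (h.comm _ (h.norm d (hDz d hd) v0 hv0)), hdvu]
          have := congrArg (fun t => v0 * t * v0⁻¹) e1
          have e2 : u = z * (v0 * u * v0⁻¹) := by
            calc u = v0 * (v0⁻¹ * u * v0) * v0⁻¹ := by group
              _ = (v0 * z * v0⁻¹) * (v0 * u * v0⁻¹) := by rw [e1]; group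
              _ = z * (v0 * u * v0⁻¹) := by rw [mul_inv_eq_iff_eq_mul.2 (h.comm v0 hv0)]
          exact e2.symm
  have hfixQ : ∀ e ∈ D, ModZ z (e * v0 * e⁻¹) v0 → e ∈ Q ⊓ Q' := by
    intro e he hev
    refine ⟨hCV e (hDz e he) fun q hq => ?_, hDQ' e he⟩
    have hmulM : ∀ a b, ModZ z (e * a * e⁻¹) a → ModZ z (e * b * e⁻¹) b → a ∈ Q →
        ModZ z (e * (a * b) * e⁻¹) (a * b) := by
      intro a b ha hb haQ
      have haz : a * z = z * a := h.comm a haQ
      rw [show e * (a * b) * e⁻¹ = (e * a * e⁻¹) * (e * b * e⁻¹) by group]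
      rcases ha with ha | ha <;> rcases hb with hb | hb <;> rw [ha, hb]
      · exact Or.inl rfl
      · exact Or.inr (by rw [← mul_assoc, haz, mul_assoc])
      · exact Or.inr (mul_assoc _ _ _)
      · exact Or.inl (by
          rw [mul_assoc z a (z * b), ← mul_assoc a z b, haz]; simp [← mul_assoc, hzz])
    have hv1 : ModZ z (e * cj v0 * e⁻¹) (cj v0) :=
      (hflip e (hDz e he) v0 hv0).trans hzz (hcjM _ _ hev)
    have hinv : ∀ a ∈ Q, ModZ z (e * a * e⁻¹) a → ModZ z (e * a⁻¹ * e⁻¹) a⁻¹ := by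
      intro a ha hm
      rw [show e * a⁻¹ * e⁻¹ = (e * a * e⁻¹)⁻¹ by group]
      rcases hm with hm | hm <;> rw [hm]
      · exact Or.inl rfl
      · exact Or.inr (by rw [mul_inv_rev, hzinv]; exact (h.comm _ (inv_mem ha)))
    have hCs : ∀ r ∈ Q, r * s = s * r → ModZ z (e * r * e⁻¹) r := by
      intro r hr hrs
      rcases hsplit r hr hrs with hh | hh
      · exact hU0 e he r hr hrs hh
      · have h1 := hU0 e he (r * v0) (mul_mem hr hv0)
          (show Commute (r * v0) s from (show Commute r s from hrs).mul_left hv0s).eq hh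
        have h2 := hmulM _ _ h1 (hinv v0 hv0 hev) (mul_mem hr hv0)
        rwa [mul_inv_cancel_right] at h2
    rcases h.commEl q hq s hgQ with hh | hh
    · exact hCs q hq (mul_inv_eq_iff_eq_mul.1 hh)
    · rcases h.commEl _ (hcj v0 hv0) s hgQ with e' | e'
      · exact absurd (mul_inv_eq_iff_eq_mul.1 e') hv1s
      have h1 : (q * cj v0) * s = s * (q * cj v0) := mul_inv_eq_iff_eq_mul.1 (by
        calc q * cj v0 * s * (q * cj v0)⁻¹ = q * (cj v0 * s * (cj v0)⁻¹) * q⁻¹ := by group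
          _ = (q * z * q⁻¹) * (q * s * q⁻¹) := by rw [e']; group
          _ = s := by rw [mul_inv_eq_iff_eq_mul.2 (h.comm q hq), hh, ← mul_assoc, hzz, one_mul])
      have h2 := hmulM _ _ (hCs _ (mul_mem hq (hcj v0 hv0)) h1) (hinv _ (hcj v0 hv0) hv1)
        (mul_mem hq (hcj v0 hv0))
      rwa [mul_inv_cancel_right] at h2
  obtain ⟨c1, hc1⟩ : ∃ c1, ∀ d ∈ D, ¬ cm d * v0 = v0 * cm d →
      ∃ d1 ∈ D, cm d1 = c1 ∧ ¬ c1 * v0 = v0 * c1 := by
    by_cases hex : ∃ d1 ∈ D, ¬ cm d1 * v0 = v0 * cm d1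
    · obtain ⟨d1, hd1, hn⟩ := hex
      exact ⟨cm d1, fun _ _ _ => ⟨d1, hd1, rfl, hn⟩⟩
    · exact ⟨1, fun d hd hn => absurd ⟨d, hd, hn⟩ hex⟩
  -- an element commuting with all of `C_Q(s)` lies in the four-group
  have hfour : ∀ c ∈ Q, c * s = s * c → c * v0 = v0 * c →
      (∀ u ∈ Q, u * s = s * u → cj u * s = s * cj u → c * u = u * c) →
      ModZ z c 1 ∨ ModZ z c s := by
    intro c hc _ hcv hcu
    rcases h.cent_R hgQ hsne hne hc (fun r hr hrs => by
      rcases hsplit r hr hrs with hh | hh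
      · exact (hcu r hr hrs hh).symm
      · have h1 : Commute c (r * v0) := hcu _ (mul_mem hr hv0)
          (show Commute (r * v0) s from (show Commute r s from hrs).mul_left hv0s).eq hh
        have h2 := h1.mul_right (show Commute c v0 from hcv).inv_right
        rw [mul_inv_cancel_right] at h2
        exact h2.symm.eq) with e | e | e | e
    · exact Or.inl (Or.inl e)
    · exact Or.inl (Or.inr (by rw [e, mul_one]))
    · exact Or.inr (Or.inl e)
    · exact Or.inr (Or.inr e)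
  let F : G → Bool × Bool := fun d =>
    if cm d * v0 = v0 * cm d then (true, decide (ModZ z (cm d) 1))
    else (false, decide (ModZ z (cm d) c1))
  have hsame : ∀ d ∈ D, ∀ d' ∈ D, F d = F d' → ModZ z (cm d) (cm d') := by
    intro d hd d' hd' he
    obtain ⟨hq, hs1, hu⟩ := hY d hd
    obtain ⟨hq', hs1', hu'⟩ := hY d' hd'
    by_cases hcd : cm d * v0 = v0 * cm d <;> by_cases hcd' : cm d' * v0 = v0 * cm d' <;>
      simp only [F, hcd, hcd', if_true, if_false, Prod.mk.injEq, Bool.false_eq_true,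
        Bool.true_eq_false, false_and, true_and, decide_eq_decide] at he
    · rcases hfour _ hq hs1 hcd hu with h1 | h1
      · exact h1.trans hzz ((he.1 h1).symm hzz)
      · rcases hfour _ hq' hs1' hcd' hu' with h2 | h2
        · exact (he.2 h2).trans hzz (h2.symm hzz)
        · exact h1.trans hzz (h2.symm hzz)
    · obtain ⟨d1, hd1, hd1c, hn⟩ := hc1 d hd hcd
      obtain ⟨hq1, hs11, hu1⟩ := hY d1 hd1
      rw [hd1c] at hq1 hs11 hu1
      have hclass : ∀ c ∈ Q, c * s = s * c → ¬ c * v0 = v0 * c →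
          (∀ u ∈ Q, u * s = s * u → cj u * s = s * cj u → c * u = u * c) →
          ModZ z c c1 ∨ ModZ z c (c1 * s) := by
        intro c hc hcs hcv hcu
        have hcom : (c1⁻¹ * c) * v0 = v0 * (c1⁻¹ * c) := by
          rcases h.commEl c hc v0 hv0 with e | e
          · exact absurd (mul_inv_eq_iff_eq_mul.1 e) hcv
          rcases h.commEl c1 hq1 v0 hv0 with e' | e'
          · exact absurd (mul_inv_eq_iff_eq_mul.1 e') hn
          apply mul_inv_eq_iff_eq_mul.1
          calc c1⁻¹ * c * v0 * (c1⁻¹ * c)⁻¹ = c1⁻¹ * (c * v0 * c⁻¹) * c1 := by group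
            _ = c1⁻¹ * (c1 * v0 * c1⁻¹) * c1 := by rw [e, e']
            _ = v0 := by group
        rcases hfour _ (mul_mem (inv_mem hq1) hc)
          ((show Commute c1 s from hs11).inv_left.mul_left hcs).eq hcom
          (fun u hu hus hu's => ((show Commute c1 u from hu1 u hu hus hu's).inv_left.mul_left
            (hcu u hu hus hu's)).eq) with (e | e) | (e | e)
        · exact Or.inl (Or.inl (inv_mul_eq_one.1 e).symm)
        · refine Or.inl (Or.inr ?_)
          rw [inv_mul_eq_iff_eq_mul] at e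
          rw [e, mul_one, h.comm c1 hq1]
        · exact Or.inr (Or.inl (inv_mul_eq_iff_eq_mul.1 e))
        · refine Or.inr (Or.inr ?_)
          rw [inv_mul_eq_iff_eq_mul] at e
          rw [e, ← mul_assoc, h.comm c1 hq1, mul_assoc]
      rcases hclass _ hq hs1 hcd hu with h1 | h1
      · exact h1.trans hzz ((he.1 h1).symm hzz)
      · rcases hclass _ hq' hs1' hcd' hu' with h2 | h2
        · exact (he.2 h2).trans hzz (h2.symm hzz)
        · exact h1.trans hzz (h2.symm hzz)
  have hdiv : ∀ d ∈ D, ∀ d' ∈ D, F d = F d' → d'⁻¹ * d ∈ Q ⊓ Q' := by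
    intro d hd d' hd' he
    refine hfixQ _ (mul_mem (inv_mem hd') hd) ?_
    have hz' : d'⁻¹ * z * d' = z := by
      rw [mul_assoc, ← hDz d' hd', ← mul_assoc, inv_mul_cancel, one_mul]
    have e0 : d'⁻¹ * d * v0 * (d'⁻¹ * d)⁻¹ = d'⁻¹ * (cm d * v0) * d' := by
      simp only [cm]; group
    have e1 : d'⁻¹ * (cm d' * v0) * d' = v0 := by simp only [cm]; group
    rw [e0]
    rcases hsame d hd d' hd' he with e | e <;> rw [e]
    · exact Or.inl e1
    · refine Or.inr ?_
      rw [show d'⁻¹ * (z * cm d' * v0) * d' = (d'⁻¹ * z * d') * (d'⁻¹ * (cm d' * v0) * d') by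
        group, hz', e1]
  have hDcard : Nat.card D ≤ 4 * Nat.card ↥(Q ⊓ Q') := by
    let rep : Bool × Bool → D := Function.invFun fun d : D => F d
    have := Nat.card_le_card_of_injective (fun d : D => ((F d,
      ⟨(rep (F d) : G)⁻¹ * d, hdiv d d.2 _ (rep (F d)).2
        (Function.invFun_eq (f := fun d : D => F d) ⟨d, rfl⟩).symm⟩) :
        (Bool × Bool) × ↥(Q ⊓ Q'))) (fun a b hab => by
      simp only [Prod.mk.injEq, Subtype.mk.injEq] at hab
      obtain ⟨h1, h2⟩ := hab
      rw [h1] at h2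
      exact Subtype.ext (mul_left_cancel h2))
    simpa [Nat.card_prod] using this
  have hD : Nat.card Q ≤ 2 * Nat.card D := by
    rw [← hDdef]
    refine le_trans (le_of_eq ?_) (card_le_two_mul_centralizer h' hzQ')
    rw [← hQ'def]
    exact (Subgroup.card_map_of_injective (MulAut.conj g).injective).symm
  have h64 : Nat.card Q * Nat.card Q ≤ 128 * Nat.card Q :=
    calc Nat.card Q * Nat.card Q ≤ (8 * Nat.card ↥(Q ⊓ Q')) * (8 * Nat.card ↥(Q ⊓ Q')) :=
          Nat.mul_le_mul (by omega) (by omega)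
      _ = 64 * (Nat.card ↥(Q ⊓ Q') * Nat.card ↥(Q ⊓ Q')) := by ring
      _ ≤ 128 * Nat.card Q := by omega
  have : 512 ≤ Nat.card Q := by
    rw [hcard]; exact le_trans (by norm_num) (Nat.pow_le_pow_right (by norm_num) (by omega : 9 ≤ 2 * w + 1))
  nlinarith

end CfsgLib.Spor.LargeFi
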