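import Cfsg.Agent.Lib.Spor.LargeFi.LineData
import Cfsg.Agent.Lib.Spor.LargeFi.StabAlt
import Cfsg.Agent.Lib.Spor.LargeFi.SylElem

/-!
Checks on the line through the second representative vector: singular vectors orthogonal to it
generate, under its stabiliser, another point of the line; an element of order five fixes only the
line in the orthogonal hyperplane.
-/

set_option autoImplicit false
set_option maxRecDepth 100000

namespace CfsgLib.Spor.LargeFi

open CfsgLib.Spor.U62
open Matrix

/-- the line through the second representative vector -/
def lineL : List ℕ := [0, bigRoot, smC 2 bigRoot, smC 3 bigRoot]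

/-- the polar form vanishes -/
def orthB (u v : ℕ) : Bool := Nat.beq (nfC (Nat.xor u v)) (Nat.xor (nfC u) (nfC v))

/-- the sum of the differences of a vector under the listed elements -/
def diffSum : List ℕ → ℕ → ℕ
  | [], _ => 0
  | i :: r, u => Nat.xor (Nat.xor (mvC (lineT.getD i oneC) u) u) (diffSum r u)

theorem lineProg_ok : progB lineProg (oGens ++ [altA, altB]) (fiveC :: lineT) = true := by
  decide +kernel

theorem line_facts : ((lineL.all fun u => Nat.blt u 4096 && lineL.all fun w => memV lineL (Nat.xor u w)) &&
    incrB [0, bigRoot, smC 2 bigRoot, smC 3 bigRoot] &&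
    (lineL.all fun u => memV lineL (smC 2 u)) &&
    lineL.all fun u => Nat.beq (nfC u) 0 && memV perpL u) = true := by decide +kernel

theorem perp_facts : (incrB perpL && Nat.beq perpL.length 1024 && memV perpL 0 &&
    perpL.all fun u => Nat.blt u 4096) = true := by decide +kernel

theorem perp_spec : ((List.range 4096).all fun u =>
    (inM (mask perpL) u) == (orthB u bigRoot && orthB u (smC 2 bigRoot))) = true := by decide +kernel

theorem span_cover : ((List.range 4096).all fun u =>
    !(Nat.beq (nfC u) 0 && Nat.beq (nfC (Nat.xor u bigRoot)) 0) || memV lineL u ||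
      inM (mask (spanT.map Prod.fst)) u) = true := by decide +kernel

theorem span_ok : (spanT.all fun e => Nat.beq (diffSum e.2 e.1) (smC 2 bigRoot) ||
    Nat.beq (diffSum e.2 e.1) (smC 3 bigRoot)) = true := by decide +kernel

theorem five_fix : ((Nat.beq (powC fiveC 5) oneC && !Nat.beq fiveC oneC) &&
    (perpL.all fun u => !Nat.beq (mvC fiveC u) u || memV lineL u) &&
    lineL.all fun u => Nat.beq (mvC fiveC u) u) = true := by decide +kernel

theorem oL_moves : (oL.all fun x => Nat.beq x oneC || perpL.any fun u => !Nat.beq (mvC x u) u) = true := by
  decide +kernel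

theorem oL_diff : (oL.all fun x => perpL.all fun u => memV lineL (Nat.xor (mvC x u) u)) = true := by
  decide +kernel

theorem perp_radical : (perpL.all fun u => memV lineL u || perpL.any fun v => !orthB u v) = true := by
  decide +kernel

end CfsgLib.Spor.LargeFi
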