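import Cfsg.Agent.Lib.Spor.LargeFi.BigPair
import Cfsg.Agent.Lib.Spor.LargeFi.AutEight

/-!
The lifts of the line through the representative vector: their centraliser in the centraliser of the
involution is an extension of a 2-group of order `2^15` by `A₆`.
-/

set_option autoImplicit false
set_option maxRecDepth 100000

namespace CfsgLib.Spor.LargeFi

open CfsgLib.Spor.U62 CfsgLib.ThreeTransp
open Matrix

theorem two_v (v : V6) : v + v = 0 := funext fun _ => k_two _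

theorem lineL_cases {v : V6} : vc v ∈ lineL ↔
    v = 0 ∨ v = bigV ∨ v = om • bigV ∨ v = bigV + om • bigV := by
  have h3 : smC 3 bigRoot = Nat.xor bigRoot (smC 2 bigRoot) := by decide +kernel
  have e2 : vc (om • bigV) = smC 2 bigRoot := by rw [vc_om_smul, vc_bigV]
  have e3 : vc (bigV + om • bigV) = smC 3 bigRoot := by rw [vc_add, vc_bigV, e2, h3]
  have e0 : vc (0 : V6) = 0 := vc_zero'
  simp only [lineL, List.mem_cons, List.not_mem_nil, or_false]
  constructor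
  · rintro (h | h | h | h)
    · exact Or.inl (vc_injective (h.trans e0.symm))
    · exact Or.inr (Or.inl (vc_injective (h.trans vc_bigV.symm)))
    · exact Or.inr (Or.inr (Or.inl (vc_injective (h.trans e2.symm))))
    · exact Or.inr (Or.inr (Or.inr (vc_injective (h.trans e3.symm))))
  · rintro (rfl | rfl | rfl | rfl) <;> simp only [e0, vc_bigV, e2, e3, true_or, or_true]

theorem bigV_facts : bigV ≠ 0 ∧ om • bigV ≠ 0 ∧ om • bigV ≠ bigV ∧
    (om ^ 2) • bigV = bigV + om • bigV := by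
  refine ⟨fun h => ?_, fun h => ?_, fun h => ?_, ?_⟩
  · have := congrArg vc h
    rw [vc_bigV, vc_zero'] at this
    revert this; decide +kernel
  · have := congrArg vc h
    rw [vc_om_smul, vc_bigV, vc_zero'] at this
    revert this; decide +kernel
  · have := congrArg vc h
    rw [vc_om_smul, vc_bigV] at this
    revert this; decide +kernel
  · have e : (om : K4) ^ 2 = 1 + om := by decide +kernel
    rw [e, add_smul, one_smul]

theorem perpL_off : (perpL.any fun u => !memV lineL u) = true := by decide +kernel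

namespace Model

variable {H : Type*} [Group H] [Finite H] {Q : Subgroup H} [Q.Normal] {z : H} (D : Model Q z)

omit [Finite H] in
theorem lineP_le_Q : D.lineP ≤ Q := fun _ h => h.1

omit [Finite H] in
theorem mem_lineP {q : Q} : (q : H) ∈ D.lineP ↔ vc (D.vec q) ∈ lineL :=
  ⟨fun ⟨_, h⟩ => h, fun h => ⟨q.2, h⟩⟩

omit [Finite H] in
theorem z_mem_lineP : z ∈ D.lineP := by
  refine (D.mem_lineP (q := ⟨z, D.xc.mem⟩)).2 ?_
  rw [(D.vec_eq_zero ⟨z, D.xc.mem⟩).2 (Or.inr rfl), vc_zero']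
  exact lineL_closed.1

omit [Finite H] in
/-- a subgroup containing `z`, `s`, `r` contains all lifts of the line -/
theorem lineP_le_of {K : Subgroup H} {s r : Q} (hs : D.vec s = bigV) (hr : D.vec r = om • bigV)
    (hzK : z ∈ K) (hsK : (s : H) ∈ K) (hrK : (r : H) ∈ K) : D.lineP ≤ K := by
  intro u hu
  obtain ⟨hq, hv⟩ := hu
  have key : ∀ a : Q, (a : H) ∈ K → D.vec a = D.vec ⟨u, hq⟩ → u ∈ K := fun a ha e => by
    rcases D.vec_eq e with e' | e'
    · exact (show u = a from e') ▸ ha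
    · exact (show u = z * a from e') ▸ mul_mem hzK ha
  rcases lineL_cases.1 hv with h | h | h | h
  · exact key 1 (one_mem K) (by rw [D.vec_one, h])
  · exact key s hsK (hs.trans h.symm)
  · exact key r hrK (hr.trans h.symm)
  · exact key (s * r) (mul_mem hsK hrK) (by rw [D.vec_mul, hs, hr, h])

omit [Finite H] in
theorem mem_cent_of {h : H} {s r : Q} (hs : D.vec s = bigV) (hr : D.vec r = om • bigV)
    (h1 : h * (s : H) = s * h) (h2 : h * (r : H) = r * h) :
    h ∈ Subgroup.centralizer (D.lineP : Set H) := by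
  refine Subgroup.mem_centralizer_iff.2 fun u hu => ?_
  refine Subgroup.mem_centralizer_singleton_iff.1 (D.lineP_le_of (K := Subgroup.centralizer ({h} : Set H))
    hs hr ?_ ?_ ?_ hu)
  · exact Subgroup.mem_centralizer_singleton_iff.2 (D.zc h).symm
  · exact Subgroup.mem_centralizer_singleton_iff.2 h1.symm
  · exact Subgroup.mem_centralizer_singleton_iff.2 h2.symm

omit [Finite H] in
theorem cent_fix {h : H} (hh : h ∈ Subgroup.centralizer (D.lineP : Set H)) {v : V6}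
    (hv : vc v ∈ lineL) : D.act h v = v := by
  obtain ⟨q, rfl⟩ := D.vec_surj v
  rw [← D.vec_conj' h q ((inferInstance : Q.Normal).conj_mem _ q.2 h)]
  congr 1
  exact Subtype.ext (mul_inv_eq_iff_eq_mul.2
    ((Subgroup.mem_centralizer_iff.1 hh _ (D.mem_lineP.2 hv)).symm))

omit [Finite H] in
/-- the action of an element fixing the representative vector preserves the line -/
theorem act_omV {h : H} (hb : D.act h bigV = bigV) :
    D.act h (om • bigV) = om • bigV ∨ D.act h (om • bigV) = bigV + om • bigV := by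
  rcases D.act_semi h with e | e <;> rw [e, hb]
  · exact Or.inl rfl
  · exact Or.inr bigV_facts.2.2.2

omit [Finite H] in
theorem conj_lineP {h u : H} (hb : D.act h bigV = bigV) (hu : u ∈ D.lineP) :
    ∃ hq : h * u * h⁻¹ * u⁻¹ ∈ Q,
      D.vec ⟨_, hq⟩ = 0 ∨ D.vec ⟨_, hq⟩ = bigV := by
  obtain ⟨hq, hv⟩ := hu
  have hm := (inferInstance : Q.Normal).conj_mem _ hq h
  refine ⟨mul_mem hm (inv_mem hq), ?_⟩
  rw [show (⟨_, mul_mem hm (inv_mem hq)⟩ : Q) = ⟨_, hm⟩ * ⟨u, hq⟩⁻¹ from rfl, D.vec_mul, D.vec_inv,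
    D.vec_conj' h ⟨u, hq⟩]
  rcases lineL_cases.1 hv with e | e | e | e <;> rw [e]
  · left; rw [map_zero, add_zero]
  · left; rw [hb, two_v]
  · rcases D.act_omV hb with e' | e' <;> rw [e']
    · left; rw [two_v]
    · right; rw [add_assoc, two_v, add_zero]
  · rw [map_add, hb]
    rcases D.act_omV hb with e' | e' <;> rw [e']
    · left; rw [two_v]
    · right
      rw [add_assoc, two_v, add_zero]

omit [Finite H] in
/-- elements of `Q` normalise the lifts of the line -/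
theorem conj_Q_lineP {h u : H} (hh : h ∈ Q) (hu : u ∈ D.lineP) : h * u * h⁻¹ ∈ D.lineP := by
  obtain ⟨hq, hv⟩ := hu
  refine ⟨(inferInstance : Q.Normal).conj_mem _ hq h, ?_⟩
  rw [D.vec_conj' h ⟨u, hq⟩, (D.ker_act h).2 hh]
  exact hv

omit [Finite H] in
theorem conj_scalar_lineP {h u : H} (hh : ∀ v, D.act h v = om • v) (hu : u ∈ D.lineP) :
    h * u * h⁻¹ ∈ D.lineP := by
  obtain ⟨hq, hv⟩ := hu
  refine ⟨(inferInstance : Q.Normal).conj_mem _ hq h, ?_⟩
  rw [D.vec_conj' h ⟨u, hq⟩, hh, vc_om_smul]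
  have h2 := line_facts
  simp only [Bool.and_eq_true, List.all_eq_true, memV_iff] at h2
  exact h2.1.2 _ hv

/-- the part in the extraspecial subgroup -/
def perpP : Subgroup H := Subgroup.centralizer (D.lineP : Set H) ⊓ Q

/-- the largest normal 2-subgroup -/
noncomputable def coreP : Subgroup H :=
  (OU.comap D.linHom).map D.M.subtype ⊓ Subgroup.centralizer (D.lineP : Set H)

omit [Finite H] in
theorem mem_perpP {h : H} : h ∈ D.perpP ↔ ∃ hq : h ∈ Q, vc (D.vec ⟨h, hq⟩) ∈ perpL :=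
  ⟨fun hh => ⟨hh.2, (D.cent_lineP hh.2).1 hh.1⟩, fun ⟨hq, hv⟩ => ⟨(D.cent_lineP hq).2 hv, hq⟩⟩

omit [Finite H] in
theorem card_perpP : Nat.card D.perpP = 2 ^ 11 := by
  rw [D.card_pre D.perpP perpL perpL_nodup.1 (fun u hu => perpL_lt hu) fun h => D.mem_perpP,
    perpL_nodup.2]
  norm_num

omit [Finite H] in
theorem lineP_le_perpP : D.lineP ≤ D.perpP := fun _ ⟨hq, hv⟩ =>
  D.mem_perpP.2 ⟨hq, (lineL_closed.2.2.2 _ hv).2.2.1⟩

omit [Finite H] in
theorem mem_coreP {h : H} : h ∈ D.coreP ↔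
    h ∈ Subgroup.centralizer (D.lineP : Set H) ∧ ∃ hM : h ∈ D.M, D.linHom ⟨h, hM⟩ ∈ OU := by
  constructor
  · rintro ⟨⟨⟨m, hm⟩, hmO, rfl⟩, hc⟩
    exact ⟨hc, hm, hmO⟩
  · rintro ⟨hc, hM, hO⟩
    exact ⟨⟨⟨h, hM⟩, hO, rfl⟩, hc⟩

omit [Finite H] in
theorem perpP_le_coreP : D.perpP ≤ D.coreP := fun h hh =>
  D.mem_coreP.2 ⟨hh.1, D.Q_le hh.2, by
    rw [(D.linHom_eq_one (h := ⟨h, D.Q_le hh.2⟩)).2 hh.2]; exact one_mem _⟩

omit [Finite H] in
theorem vec_comm_diff {r : H} (hr : r ∈ D.coreP) {u : H} (hu : u ∈ D.perpP) :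
    r * u * r⁻¹ * u⁻¹ ∈ D.lineP := by
  obtain ⟨-, hM, hO⟩ := D.mem_coreP.1 hr
  obtain ⟨hq, hv⟩ := D.mem_perpP.1 hu
  have hm := (inferInstance : Q.Normal).conj_mem _ hq r
  refine ⟨mul_mem hm (inv_mem hq), ?_⟩
  rw [show (⟨_, mul_mem hm (inv_mem hq)⟩ : Q) = ⟨_, hm⟩ * ⟨u, hq⟩⁻¹ from rfl, D.vec_mul, D.vec_inv,
    D.vec_conj' r ⟨u, hq⟩, D.linHom_act ⟨r, hM⟩, vc_add, vc_mat]
  have h := List.all_eq_true.1 (List.all_eq_true.1 oL_diff _ (mem_OU.1 hO)) _ hv
  exact memV_iff.1 h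

omit [Finite H] in
theorem central_coreP {c : H} (hc : c ∈ D.coreP) (hcc : ∀ u ∈ D.perpP, c * u = u * c) :
    c ∈ D.lineP := by
  obtain ⟨-, hM, hO⟩ := D.mem_coreP.1 hc
  have h1 : cd (D.linHom ⟨c, hM⟩) = oneC := by
    have h := List.all_eq_true.1 oL_moves _ (mem_OU.1 hO)
    rw [Bool.or_eq_true, Nat.beq_eq] at h
    refine h.resolve_right fun h2 => ?_
    obtain ⟨u, hu, hne⟩ := List.any_eq_true.1 h2
    obtain ⟨q, hq⟩ := D.vec_surj (vOf u)
    have hqu : vc (D.vec q) = u := by rw [hq, vc_vOf (perpL_lt hu)]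
    have hfix : D.act c (D.vec q) = D.vec q := by
      rw [← D.vec_conj' c q ((inferInstance : Q.Normal).conj_mem _ q.2 c)]
      congr 1
      exact Subtype.ext (mul_inv_eq_iff_eq_mul.2 (hcc _ (D.mem_perpP.2 ⟨q.2, hqu ▸ hu⟩)))
    rw [D.linHom_act ⟨c, hM⟩] at hfix
    have := congrArg vc hfix
    rw [vc_mat, hqu] at this
    rw [Bool.not_eq_true', ← Bool.not_eq_true, Nat.beq_eq] at hne
    exact hne this
  have hq : c ∈ Q := (D.linHom_eq_one (h := ⟨c, hM⟩)).1 (cd_injective (h1.trans cd_one.symm))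
  have hv := (D.cent_lineP hq).1 (D.mem_coreP.1 hc).1
  refine ⟨hq, ?_⟩
  have h := List.all_eq_true.1 perp_radical _ hv
  rw [Bool.or_eq_true, memV_iff] at h
  refine h.resolve_right fun h2 => ?_
  obtain ⟨v, hv', hne⟩ := List.any_eq_true.1 h2
  obtain ⟨q, hq'⟩ := D.vec_surj (vOf v)
  have hqv : vc (D.vec q) = v := by rw [hq', vc_vOf (perpL_lt hv')]
  have h3 := (D.comm_pol ⟨c, hq⟩ q).1 (hcc _ (D.mem_perpP.2 ⟨q.2, hqv ▸ hv'⟩))
  rw [Bool.not_eq_true', ← Bool.not_eq_true] at hne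
  refine hne (orthB_pol.2 ?_)
  rw [← hqv, vOf_vc, vOf_vc]
  exact h3

omit [Finite H] in
theorem perpP_noncomm : ∃ a ∈ D.perpP, ∃ b ∈ D.perpP, a * b * a⁻¹ * b⁻¹ = z := by
  obtain ⟨u, hu, hul⟩ := List.any_eq_true.1 perpL_off
  rw [Bool.not_eq_true', ← Bool.not_eq_true, memV_iff] at hul
  have h := List.all_eq_true.1 perp_radical _ hu
  rw [Bool.or_eq_true, memV_iff] at h
  obtain ⟨v, hv, hne⟩ := List.any_eq_true.1 (h.resolve_left hul)
  rw [Bool.not_eq_true', ← Bool.not_eq_true] at hne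
  obtain ⟨a, ha⟩ := D.vec_surj (vOf u)
  obtain ⟨b, hb⟩ := D.vec_surj (vOf v)
  refine ⟨a, D.mem_perpP.2 ⟨a.2, by rw [ha, vc_vOf (perpL_lt hu)]; exact hu⟩, b,
    D.mem_perpP.2 ⟨b.2, by rw [hb, vc_vOf (perpL_lt hv)]; exact hv⟩, ?_⟩
  rcases D.xc.commEl (a : H) a.2 (b : H) b.2 with e | e
  · exfalso
    refine hne (orthB_pol.2 ?_)
    rw [← ha, ← hb]
    exact (D.comm_pol a b).1 (mul_inv_eq_iff_eq_mul.1 e)
  · rw [e, mul_inv_cancel_right]

/-! ### The quotient `A₆` -/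

variable (hsemi : ∀ h, h ∉ D.M → ∀ v, D.act h (om • v) = (om ^ 2) • D.act h v)

omit [Finite H] in
include hsemi in
theorem cent_le_M : Subgroup.centralizer (D.lineP : Set H) ≤ D.M := by
  intro h hh
  by_contra hM
  have h1 := hsemi h hM bigV
  rw [D.cent_fix hh (lineL_cases.2 (Or.inr (Or.inr (Or.inl rfl)))),
    D.cent_fix hh (lineL_cases.2 (Or.inr (Or.inl rfl))), bigV_facts.2.2.2] at h1
  exact bigV_facts.1 (add_eq_right.1 h1.symm)

include hsemi in
/-- the centraliser of the lifts of the line maps onto `KV` -/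
theorem exists_toKV : ∃ ψ : ↥(Subgroup.centralizer (D.lineP : Set H)) →* KV bigV,
    Function.Surjective ψ ∧
      ∀ h, (ψ h : U6) = D.linHom ⟨h, D.cent_le_M hsemi h.2⟩ := by
  let ψ : ↥(Subgroup.centralizer (D.lineP : Set H)) →* KV bigV :=
    MonoidHom.codRestrict (D.linHom.comp (Subgroup.inclusion (D.cent_le_M hsemi))) _ fun h =>
      mem_KV.2 ⟨D.linHom_mem _, by
        show mat (D.linHom ⟨(h : H), _⟩) *ᵥ bigV = bigV
        rw [← D.linHom_act]
        exact D.cent_fix h.2 (lineL_cases.2 (Or.inr (Or.inl rfl)))⟩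
  refine ⟨ψ, fun ⟨g, hg⟩ => ?_, fun h => rfl⟩
  obtain ⟨hgK, hgv⟩ := mem_KV.1 hg
  obtain ⟨s, hs⟩ := D.vec_surj bigV
  obtain ⟨r, hr⟩ := D.vec_surj (om • bigV)
  obtain ⟨k, hkM, hks, hka⟩ := D.lift_fix (s := s) (g := g) (by rw [hs]; exact bigV_facts.1) hgK
    (by rw [hs]; exact hgv)
  obtain ⟨k', hk'M, h1, h2, hk'a⟩ : ∃ k' ∈ D.M, k' * (s : H) = s * k' ∧ k' * (r : H) = r * k' ∧
      ∀ v, D.act k' v = mat g *ᵥ v := by
    have hv : D.vec ⟨k * r * k⁻¹, (inferInstance : Q.Normal).conj_mem _ r.2 k⟩ = D.vec r := by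
      rw [D.vec_conj', hka, hr, Matrix.mulVec_smul, hgv]
    rcases D.vec_eq hv.symm with e | e
    · exact ⟨k, hkM, hks, mul_inv_eq_iff_eq_mul.1 e, hka⟩
    · obtain ⟨p, hp, hps, hpr⟩ : ∃ p ∈ Q, p * (s : H) = s * p ∧ p * (r : H) ≠ r * p := by
        by_contra hno
        push Not at hno
        have hsv : (s : H) ≠ 1 ∧ (s : H) ≠ z := by
          refine ⟨fun e1 => ?_, fun e1 => ?_⟩ <;>
            exact bigV_facts.1 (hs.symm.trans ((D.vec_eq_zero s).2 (by simp [e1])))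
        rcases D.xc.cent_R s.2 hsv.1 hsv.2 r.2 hno with e1 | e1 | e1 | e1
        · exact bigV_facts.2.1 (hr.symm.trans ((D.vec_eq_zero r).2 (Or.inl e1)))
        · exact bigV_facts.2.1 (hr.symm.trans ((D.vec_eq_zero r).2 (Or.inr e1)))
        · exact bigV_facts.2.2.1 (hr.symm.trans ((congrArg D.vec (Subtype.ext e1)).trans hs))
        · refine bigV_facts.2.2.1 ?_
          rw [← hr, show r = ⟨z, D.xc.mem⟩ * s from Subtype.ext e1, D.vec_mul,
            (D.vec_eq_zero ⟨z, D.xc.mem⟩).2 (Or.inr rfl), zero_add, hs]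
      refine ⟨p * k, mul_mem (D.Q_le hp) hkM, ?_, ?_, fun v => ?_⟩
      · rw [mul_assoc, hks, ← mul_assoc, hps, mul_assoc]
      · refine mul_inv_eq_iff_eq_mul.1 ?_
        have e' : k * (r : H) * k⁻¹ = z * r := e
        have hp' : p * (r : H) * p⁻¹ = z * r :=
          (D.xc.commEl p hp r r.2).resolve_left fun e2 => hpr (mul_inv_eq_iff_eq_mul.1 e2)
        calc p * k * (r : H) * (p * k)⁻¹ = p * (k * r * k⁻¹) * p⁻¹ := by simp [mul_assoc]
          _ = p * z * p⁻¹ * (p * r * p⁻¹) := by rw [e']; simp [mul_assoc]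
          _ = z * (z * r) := by rw [hp', mul_inv_eq_iff_eq_mul.2 (D.zc p)]
          _ = r := by rw [← mul_assoc, D.xc.inv, one_mul]
      · rw [D.act_mul_apply, (D.ker_act p).2 hp]
        exact hka v
  exact ⟨⟨k', D.mem_cent_of hs hr h1 h2⟩, Subtype.ext (D.linHom_eq (h := ⟨k', hk'M⟩) hk'a)⟩

include hsemi in
/-- the centraliser of the lifts of the line is `2^15` extended by `A₆` -/
theorem exists_cent_A6 :
    Nat.card D.coreP = 2 ^ 15 ∧
    ∃ f : ↥(Subgroup.centralizer (D.lineP : Set H)) →* alternatingGroup (Fin 6),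
      Function.Surjective f ∧ ∀ h, f h = 1 ↔ (h : H) ∈ D.coreP := by
  letI := D.fld
  letI := D.fin
  obtain ⟨φ, hφs, hφk⟩ := exists_KV_alt D.card_F9
  obtain ⟨ψ, hψs, hψ⟩ := D.exists_toKV hsemi
  refine ⟨?_, φ.comp ψ, hφs.comp hψs, fun h => ?_⟩
  · let A : Subgroup ↥(Subgroup.centralizer (D.lineP : Set H)) :=
      (OU.subgroupOf (KV bigV)).comap ψ
    have hA : Nat.card A = Nat.card D.coreP := Nat.card_congr
      { toFun := fun a => ⟨(a.1 : H), D.mem_coreP.2 ⟨a.1.2, D.cent_le_M hsemi a.1.2, by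
          rw [← hψ a.1]; exact a.2⟩⟩
        invFun := fun c => ⟨⟨c, (D.mem_coreP.1 c.2).1⟩, by
          obtain ⟨-, hM, hO⟩ := D.mem_coreP.1 c.2
          show (ψ _ : U6) ∈ OU
          rw [hψ]; exact hO⟩
        left_inv := fun _ => rfl
        right_inv := fun _ => rfl }
    have hk : Nat.card ψ.ker = Nat.card D.perpP := Nat.card_congr
      { toFun := fun a => ⟨(a.1 : H), a.1.2, (D.linHom_eq_one (h := ⟨_, D.cent_le_M hsemi a.1.2⟩)).1
          (by rw [← hψ a.1, MonoidHom.mem_ker.1 a.2]; rfl)⟩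
        invFun := fun c => ⟨⟨c, c.2.1⟩, MonoidHom.mem_ker.2 (Subtype.ext (by
          rw [hψ]; exact D.linHom_eq_one.2 c.2.2))⟩
        left_inv := fun _ => rfl
        right_inv := fun _ => rfl }
    have h2 := A.card_mul_index
    have h3 := ψ.ker.card_mul_index
    have h4 : A.index = (OU.subgroupOf (KV bigV)).index :=
      Subgroup.index_comap_of_surjective _ hψs
    have h5 := (OU.subgroupOf (KV bigV)).card_mul_index
    rw [Subgroup.index_ker, MonoidHom.range_eq_top.2 hψs, Subgroup.card_top, hk, D.card_perpP,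
      card_KV_big D.card_F9] at h3
    rw [Nat.card_congr (Subgroup.subgroupOfEquivOfLe OU_le).toEquiv, card_OU,
      card_KV_big D.card_F9] at h5
    rw [hA, h4, ← h3, show (OU.subgroupOf (KV bigV)).index = 360 by omega] at h2
    omega
  · rw [MonoidHom.comp_apply, hφk, hψ]
    exact ⟨fun hO => D.mem_coreP.2 ⟨h.2, _, hO⟩, fun hc => (D.mem_coreP.1 hc).2.choose_spec⟩

end Model

end CfsgLib.Spor.LargeFi
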