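import Cfsg.Agent.Lib.Spor.LargeFi.LineNorm
import Cfsg.Agent.Lib.Base.Cores
import Cfsg.Agent.Lib.PGroups.Basic

/-!
The normaliser of the elementary group `2³` of lifts of the line is `2^{3+12}.(L₃(2) × A₆)`.
-/

set_option autoImplicit false
set_option maxRecDepth 100000

namespace CfsgLib.Spor.LargeFi

open Cfsg CfsgLib.Spor.U62 CfsgLib.ThreeTransp
open Matrix

variable {G : Type*} [Group G] [Finite G] {z : G}
  {Q : Subgroup (Subgroup.centralizer ({z} : Set G))} [Q.Normal]

namespace Model

variable (D : Model Q (zH z))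

theorem scalar_mem_normG {x : Subgroup.centralizer ({z} : Set G)} (hx : ∀ v, D.act x v = om • v) :
    (x : G) ∈ Subgroup.normalizer (D.lineG : Set G) :=
  D.mem_normG fun _ hu => D.conj_scalar_lineP hx hu

theorem Q_mem_normG {h : Subgroup.centralizer ({z} : Set G)} (hh : h ∈ Q) :
    (h : G) ∈ Subgroup.normalizer (D.lineG : Set G) :=
  D.mem_normG fun _ hu => D.conj_Q_lineP hh hu

variable {w : G} {s : Q} (P : Pair (Q := Q) w s) (hv : D.vec s = bigV)
  (hw : w * ((s : Subgroup.centralizer ({z} : Set G)) : G) * w⁻¹ = z)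

include D P hv hw in
/-- every nonidentity element of `lineG` is conjugate to `z` in the normaliser -/
theorem Pair.orbit {u : G} (hu : u ∈ D.lineG) (h1 : u ≠ 1) :
    ∃ n ∈ Subgroup.normalizer (D.lineG : Set G), n * z * n⁻¹ = u := by
  obtain ⟨a, ⟨hq, ha⟩, rfl⟩ := hu
  obtain ⟨x, -, hx⟩ := D.exists_scalar
  -- an element with the same vector in the orbit
  obtain ⟨n, hn, c, hnc, hcv⟩ : ∃ n ∈ Subgroup.normalizer (D.lineG : Set G), ∃ c : Q,
      n * z * n⁻¹ = ((c : Subgroup.centralizer ({z} : Set G)) : G) ∧ D.vec c = D.vec ⟨a, hq⟩ := by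
    have hwN := P.swap_mem D hv hw
    have hxN := D.scalar_mem_normG hx
    have step : ∀ (c : Q) (n : G), n * z * n⁻¹ = ((c : Subgroup.centralizer ({z} : Set G)) : G) →
        ∃ c' : Q, ((x : G) * n) * z * ((x : G) * n)⁻¹ =
          ((c' : Subgroup.centralizer ({z} : Set G)) : G) ∧ D.vec c' = om • D.vec c := by
      intro c n e
      refine ⟨⟨x * c * x⁻¹, (inferInstance : Q.Normal).conj_mem _ c.2 x⟩, ?_, by rw [D.vec_conj', hx]⟩
      show _ = (x : G) * ((c : Subgroup.centralizer ({z} : Set G)) : G) * (x : G)⁻¹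
      rw [← e]; simp [mul_assoc]
    obtain ⟨c1, e1, v1⟩ := step s w P.conj
    obtain ⟨c2, e2, v2⟩ := step c1 _ e1
    rcases lineL_cases.1 ha with e | e | e | e
    · exact ⟨1, one_mem _, ⟨zH z, D.xc.mem⟩, by simp [zH], by
        rw [(D.vec_eq_zero ⟨zH z, D.xc.mem⟩).2 (Or.inr rfl), e]⟩
    · exact ⟨w, hwN, s, P.conj, hv.trans e.symm⟩
    · exact ⟨_, mul_mem hxN hwN, c1, e1, by rw [v1, hv, e]⟩
    · exact ⟨_, mul_mem hxN (mul_mem hxN hwN), c2, e2, by
        rw [v2, v1, hv, e, smul_smul, ← pow_two, bigV_facts.2.2.2]⟩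
  have hcne : ((c : Subgroup.centralizer ({z} : Set G)) : G) ≠ 1 := by
    rw [← hnc]
    exact fun e => (xcent_map D.xc).ne_one (conj_eq_one_iff.1 e)
  rcases D.vec_eq hcv with e | e
  · exact ⟨n, hn, hnc.trans (congrArg Subtype.val e).symm⟩
  · by_cases hcz : (c : Subgroup.centralizer ({z} : Set G)) = zH z
    · exfalso
      refine h1 ?_
      have e' : a = zH z * (c : Subgroup.centralizer ({z} : Set G)) := e
      rw [hcz, D.xc.inv] at e'
      exact congrArg Subtype.val e'
    · -- flip by the extraspecial group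
      obtain ⟨p, hp, hpc⟩ : ∃ p ∈ Q, p * (c : Subgroup.centralizer ({z} : Set G)) * p⁻¹ =
          zH z * (c : Subgroup.centralizer ({z} : Set G)) := by
        by_contra hno
        push Not at hno
        rcases D.xc.center _ c.2 fun q hq => mul_inv_eq_iff_eq_mul.1
          ((D.xc.commEl q hq _ c.2).resolve_right (hno q hq)) with e' | e'
        · exact hcne (congrArg Subtype.val e')
        · exact hcz e'
      refine ⟨(p : G) * n, mul_mem (D.Q_mem_normG hp) hn, ?_⟩
      calc (p : G) * n * z * ((p : G) * n)⁻¹ = (p : G) * (n * z * n⁻¹) * (p : G)⁻¹ := by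
            simp [mul_assoc]
        _ = ((zH z * (c : Subgroup.centralizer ({z} : Set G)) :
              Subgroup.centralizer ({z} : Set G)) : G) := by
            rw [hnc]; exact congrArg Subtype.val hpc
        _ = _ := congrArg Subtype.val e.symm

include D P hv hw in
/-- the normaliser induces all of `SL₃(2)` -/
theorem Pair.exists_toSL : ∃ e : ↥(Subgroup.normalizer (D.lineG : Set G)) →* SL32,
    Function.Surjective e ∧ ∀ n, e n = 1 ↔ (n : G) ∈ Subgroup.centralizer (D.lineG : Set G) := by
  classical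
  obtain ⟨emb, hemb⟩ := exists_mulAut_SL32 (V := D.lineG)
    (fun a b => D.lineG_elementary.1.is_comm.comm a b) (fun a => Subtype.ext (D.lineG_sq a.2))
    D.card_lineG
  set N := Subgroup.normalizer (D.lineG : Set G)
  let θ : N →* MulAut D.lineG := D.lineG.normalizerMonoidHom
  have hθ : ∀ (n : N) (u : D.lineG), ((θ n u : D.lineG) : G) = n * u * (n : G)⁻¹ := fun _ _ => rfl
  let e := emb.comp θ
  have hker : ∀ n, e n = 1 ↔ (n : G) ∈ Subgroup.centralizer (D.lineG : Set G) := fun n => by
    rw [MonoidHom.comp_apply, map_eq_one_iff _ hemb, ← MonoidHom.mem_ker,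
      show θ.ker = _ from Subgroup.normalizerMonoidHom_ker D.lineG, Subgroup.mem_subgroupOf]
  refine ⟨e, ?_, hker⟩
  let S : Subgroup N := (Subgroup.centralizer ({z} : Set G)).subgroupOf N
  have hSk : e.ker ≤ S := fun n hn => by
    obtain ⟨hz, -⟩ := D.mem_centG ((hker n).1 hn)
    exact hz
  -- index at least seven
  have h7 : 7 ≤ S.index := by
    let T : Set G := {u | u ∈ D.lineG ∧ u ≠ 1}
    have hT : Nat.card T = 7 := by
      rw [show T = (D.lineG : Set G) \ {1} from rfl, Nat.card_coe_set_eq,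
        Set.ncard_sdiff_singleton_of_mem (one_mem D.lineG), ← Nat.card_coe_set_eq]
      show Nat.card D.lineG - 1 = 7
      rw [D.card_lineG]
    choose n hn hnz using fun u : T => P.orbit D hv hw u.2.1 u.2.2
    rw [← hT]
    refine Nat.card_le_card_of_injective (fun u : T => (QuotientGroup.mk ⟨n u, hn u⟩ : N ⧸ S))
      fun u v huv => Subtype.ext ?_
    have h := Subgroup.mem_centralizer_singleton_iff.1 (QuotientGroup.eq.1 huv :)
    rw [← hnz u, ← hnz v]
    have h' : (n u)⁻¹ * n v * z = z * ((n u)⁻¹ * n v) := h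
    calc n u * z * (n u)⁻¹ = n u * (z * ((n u)⁻¹ * n v)) * (n v)⁻¹ := by simp [mul_assoc]
      _ = n v * z * (n v)⁻¹ := by rw [← h']; simp [mul_assoc]
  -- the stabiliser induces at least twelve
  have h4 : 4 ∣ Nat.card (S.map e) := by
    let i : Q →* N :=
      { toFun := fun q => ⟨_, D.Q_mem_normG q.2⟩
        map_one' := rfl
        map_mul' := fun _ _ => rfl }
    have hle : (e.comp i).range ≤ S.map e := by
      rintro _ ⟨q, rfl⟩
      exact ⟨i q, (q : Subgroup.centralizer ({z} : Set G)).2, rfl⟩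
    refine (dvd_of_eq ?_).trans (Subgroup.card_dvd_of_le hle)
    have h := (e.comp i).ker.card_mul_index
    rw [Subgroup.index_ker, D.card_Q] at h
    have hk : Nat.card (e.comp i).ker = Nat.card D.perpP := Nat.card_congr
      { toFun := fun q => ⟨(q.1 : Subgroup.centralizer ({z} : Set G)),
          (D.mem_centG ((hker (i q.1)).1 (MonoidHom.mem_ker.1 q.2))).2, q.1.2⟩
        invFun := fun c => ⟨⟨c, c.2.2⟩, MonoidHom.mem_ker.2 ((hker _).2
          (Subgroup.mem_centralizer_iff.2 fun u hu => by
            obtain ⟨a, ha, rfl⟩ := hu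
            exact congrArg Subtype.val (Subgroup.mem_centralizer_iff.1 c.2.1 a ha)))⟩
        left_inv := fun _ => rfl
        right_inv := fun _ => rfl }
    rw [hk, D.card_perpP] at h
    omega
  have h3 : 3 ∣ Nat.card (S.map e) := by
    obtain ⟨x, hx3, hx⟩ := D.exists_scalar
    let xn : N := ⟨x, D.scalar_mem_normG hx⟩
    haveI : Fact (Nat.Prime 3) := ⟨by norm_num⟩
    have hord : orderOf (e xn) = 3 := by
      refine orderOf_eq_prime ?_ fun h1 => ?_
      · rw [← map_pow, show xn ^ 3 = 1 from Subtype.ext (by rw [SubmonoidClass.coe_pow]; exact congrArg Subtype.val hx3), map_one]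
      · obtain ⟨hz, hc⟩ := D.mem_centG ((hker xn).1 h1)
        have h2 := D.cent_fix (h := x) hc (v := bigV) (lineL_cases.2 (Or.inr (Or.inl rfl)))
        rw [hx] at h2
        exact bigV_facts.2.2.1 h2
    exact (dvd_of_eq hord.symm).trans (Subgroup.orderOf_dvd_natCard _ ⟨xn, x.2, rfl⟩)
  have h84 : 84 ≤ Nat.card e.range := by
    have h := (S.map e.rangeRestrict).card_mul_index
    rw [Subgroup.index_map_eq S e.rangeRestrict_surjective (by rw [MonoidHom.ker_rangeRestrict]; exact hSk),
      ← Subgroup.card_map_of_injective (Subgroup.subtype_injective e.range), Subgroup.map_map,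
      MonoidHom.subtype_comp_rangeRestrict] at h
    have h12 : 12 ∣ Nat.card (S.map e) :=
      Nat.Coprime.mul_dvd_of_dvd_of_dvd (by norm_num : Nat.Coprime 4 3) h4 h3
    have h12' := Nat.le_of_dvd Nat.card_pos h12
    rw [← h]
    exact Nat.mul_le_mul h12' h7
  haveI := isSimpleGroup_SL32
  have hidx := e.range.card_mul_index
  rw [Tv5.card_SL3] at hidx
  have hi : e.range.index ≤ 2 := by
    by_contra h
    have := Nat.mul_le_mul h84 (Nat.succ_le_of_lt (not_le.1 h))
    omega
  haveI : e.range.Normal := by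
    have h0 : e.range.index ≠ 0 := Subgroup.FiniteIndex.index_ne_zero
    rcases (show e.range.index = 1 ∨ e.range.index = 2 by omega) with h | h
    · rw [Subgroup.index_eq_one.1 h]; infer_instance
    · exact Subgroup.normal_of_index_eq_two h
  refine MonoidHom.range_eq_top.1 ((Subgroup.Normal.eq_bot_or_eq_top inferInstance).resolve_left
    fun h => ?_)
  rw [h, Subgroup.card_bot] at h84
  omega

end Model

end CfsgLib.Spor.LargeFi
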