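import Cfsg.Agent.Lib.Spor.LargeFi.LineEight

/-!
The normaliser `2^{3+12}.(L₃(2) × A₆)` of the elementary group of order eight in a group of large
Fischer type.
-/

set_option autoImplicit false
set_option maxRecDepth 100000

namespace CfsgLib.Spor.LargeFi

open Cfsg CfsgLib.Spor.U62 CfsgLib.ThreeTransp
open Matrix

variable {G : Type*} [Group G] [Finite G] {z : G}
  {Q : Subgroup (Subgroup.centralizer ({z} : Set G))} [Q.Normal]

namespace Model

variable (D : Model Q (zH z))

/-- the largest normal 2-subgroup inside the group -/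
noncomputable def coreG : Subgroup G := D.coreP.map (Subgroup.centralizer ({z} : Set G)).subtype

omit [Finite G] in
theorem mem_coreG {h : Subgroup.centralizer ({z} : Set G)} : (h : G) ∈ D.coreG ↔ h ∈ D.coreP :=
  Subgroup.mem_map_iff_mem (Subgroup.subtype_injective _)

omit [Finite G] in
theorem cent_lift {h : Subgroup.centralizer ({z} : Set G)}
    (hh : h ∈ Subgroup.centralizer (D.lineP : Set (Subgroup.centralizer ({z} : Set G)))) :
    (h : G) ∈ Subgroup.centralizer (D.lineG : Set G) :=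
  Subgroup.mem_centralizer_iff.2 fun _ ⟨a, ha, e⟩ =>
    e ▸ congrArg Subtype.val (Subgroup.mem_centralizer_iff.1 hh a ha)

theorem coreG_le_cent : D.coreG ≤ Subgroup.centralizer (D.lineG : Set G) := by
  rintro _ ⟨h, hh, rfl⟩
  exact D.cent_lift (D.mem_coreP.1 hh).1

theorem cent_le_norm : Subgroup.centralizer (D.lineG : Set G) ≤
    Subgroup.normalizer (D.lineG : Set G) := fun g hg =>
  mem_normalizer_of_le fun u hu => by
    rw [← Subgroup.mem_centralizer_iff.1 hg u hu, mul_inv_cancel_right]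
    exact hu

variable (hsemi : ∀ h, h ∉ D.M → ∀ v, D.act h (om • v) = (om ^ 2) • D.act h v)

include hsemi in
/-- the normaliser modulo the core -/
theorem exists_quot (e : ↥(Subgroup.normalizer (D.lineG : Set G)) →* SL32)
    (hes : Function.Surjective e)
    (hek : ∀ n, e n = 1 ↔ (n : G) ∈ Subgroup.centralizer (D.lineG : Set G)) :
    ∃ _ : (D.coreG.subgroupOf (Subgroup.normalizer (D.lineG : Set G))).Normal,
      Nonempty (↥(Subgroup.normalizer (D.lineG : Set G)) ⧸
        D.coreG.subgroupOf (Subgroup.normalizer (D.lineG : Set G)) ≃*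
          SL32 × alternatingGroup (Fin 6)) ∧
      D.coreG.subgroupOf (Subgroup.normalizer (D.lineG : Set G)) =
        pCore 2 ↥(Subgroup.normalizer (D.lineG : Set G)) := by
  classical
  obtain ⟨hcard, f, hfs, hfk⟩ := D.exists_cent_A6 hsemi
  set R' := D.coreG.subgroupOf (Subgroup.normalizer (D.lineG : Set G))
  have hp : IsPGroup 2 R' := by
    refine IsPGroup.of_card (n := 15) ?_
    rw [Nat.card_congr (Subgroup.subgroupOfEquivOfLe (D.coreG_le_cent.trans D.cent_le_norm)).toEquiv,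
      coreG, Subgroup.card_map_of_injective (Subgroup.subtype_injective _)]
    exact hcard
  let j : e.ker →* ↥(Subgroup.centralizer (D.lineP : Set (Subgroup.centralizer ({z} : Set G)))) :=
    { toFun := fun n => ⟨⟨((n : ↥(Subgroup.normalizer (D.lineG : Set G))) : G), (D.mem_centG ((hek n).1 n.2)).1⟩,
        (D.mem_centG ((hek n).1 n.2)).2⟩
      map_one' := rfl
      map_mul' := fun _ _ => rfl }
  let f6 := f.comp j
  have hf6s : Function.Surjective f6 := fun a => by
    obtain ⟨h, rfl⟩ := hfs a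
    exact ⟨⟨⟨_, D.cent_le_norm (D.cent_lift h.2)⟩, (hek _).2 (D.cent_lift h.2)⟩, rfl⟩
  have hf6k : ∀ n : e.ker, f6 n = 1 ↔ (n : ↥(Subgroup.normalizer (D.lineG : Set G))) ∈ R' := fun n => by
    rw [MonoidHom.comp_apply, hfk, ← D.mem_coreG]; rfl
  have hle : R' ≤ e.ker := fun n hn => (hek n).2 (D.coreG_le_cent hn)
  have hR : f6.ker = R'.subgroupOf e.ker := Subgroup.ext fun n => hf6k n
  haveI := isSimpleGroup_A6
  haveI hn : R'.Normal := by
    refine ⟨fun r hr n => ?_⟩
    let φ : e.ker ≃* e.ker := MulAut.conjNormal n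
    haveI : (f6.ker.map φ.toMonoidHom).Normal := Subgroup.Normal.map inferInstance _ φ.surjective
    haveI : ((f6.ker.map φ.toMonoidHom).map f6).Normal := Subgroup.Normal.map inferInstance _ hf6s
    have h2 : IsPGroup 2 f6.ker := by rw [hR]; exact hp.comap_subtype
    have hbot := normal_two_bot_simple (by rw [card_A6]; norm_num)
      ((f6.ker.map φ.toMonoidHom).map f6) ((h2.map _).map _)
    have h3 : φ ⟨r, hle hr⟩ ∈ f6.ker := MonoidHom.mem_ker.2 <| Subgroup.mem_bot.1 <| hbot.le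
      ⟨_, ⟨_, by rw [hR]; exact hr, rfl⟩, rfl⟩
    rw [hR, Subgroup.mem_subgroupOf, MulAut.conjNormal_apply] at h3
    exact h3
  refine ⟨hn, ?_⟩
  let π := QuotientGroup.mk' R'
  haveI : (e.ker.map π).Normal := Subgroup.Normal.map inferInstance _ (QuotientGroup.mk'_surjective _)
  let g : e.ker →* e.ker.map π := π.subgroupMap e.ker
  have hgk : g.ker = f6.ker := Subgroup.ext fun n => by
    rw [MonoidHom.mem_ker, MonoidHom.mem_ker, hf6k, ← OneMemClass.coe_eq_one]
    exact QuotientGroup.eq_one_iff (N := R') (n : ↥(Subgroup.normalizer (D.lineG : Set G)))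
  let eC : e.ker.map π ≃* alternatingGroup (Fin 6) :=
    (QuotientGroup.quotientKerEquivOfSurjective g (π.subgroupMap_surjective _)).symm.trans
      ((QuotientGroup.quotientMulEquivOfEq hgk).trans
        (QuotientGroup.quotientKerEquivOfSurjective f6 hf6s))
  let eb := QuotientGroup.lift R' e hle
  have hebs : Function.Surjective eb := fun a => by
    obtain ⟨n, rfl⟩ := hes a
    exact ⟨n, rfl⟩
  let eQ : (↥(Subgroup.normalizer (D.lineG : Set G)) ⧸ R') ⧸ e.ker.map π ≃* SL32 :=
    (QuotientGroup.quotientMulEquivOfEq (QuotientGroup.ker_lift R' e hle).symm).trans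
      (QuotientGroup.quotientKerEquivOfSurjective eb hebs)
  obtain ⟨E⟩ := split_six _ eC eQ
  refine ⟨⟨E⟩, le_antisymm (CfsgLib.Base.le_pCore hp) ?_⟩
  haveI hpn : (pCore 2 ↥(Subgroup.normalizer (D.lineG : Set G))).Normal := inferInstance
  haveI : ((pCore 2 ↥(Subgroup.normalizer (D.lineG : Set G))).map π).Normal := Subgroup.Normal.map inferInstance _ (QuotientGroup.mk'_surjective _)
  have hb := normal_two_bot_prod E ((pCore 2 ↥(Subgroup.normalizer (D.lineG : Set G))).map π) ((CfsgLib.Base.isPGroup_pCore 2 ↥(Subgroup.normalizer (D.lineG : Set G))).map _)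
  rwa [Subgroup.map_eq_bot_iff, QuotientGroup.ker_mk'] at hb

variable {w : G} {s : Q} (P : Pair (Q := Q) w s) (hv : D.vec s = bigV)
  (hw : w * ((s : Subgroup.centralizer ({z} : Set G)) : G) * w⁻¹ = z)

include D P hv hw hsemi in
/-- the core is special with centre the elementary group of order eight -/
theorem Pair.special
    (hn : (D.coreG.subgroupOf (Subgroup.normalizer (D.lineG : Set G))).Normal) :
    IsSpecial 2 ↥D.coreG ∧ Nat.card D.coreG = 2 ^ 15 ∧
      (Subgroup.center ↥D.coreG).map D.coreG.subtype = D.lineG := by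
  classical
  obtain ⟨hcard, -⟩ := D.exists_cent_A6 hsemi
  set R := D.coreG with hRdef
  set N := Subgroup.normalizer (D.lineG : Set G)
  set ι := (Subgroup.centralizer ({z} : Set G)).subtype
  have hRN : R ≤ N := D.coreG_le_cent.trans D.cent_le_norm
  have hRcard : Nat.card R = 2 ^ 15 := by
    rw [hRdef, coreG, Subgroup.card_map_of_injective (Subgroup.subtype_injective _)]; exact hcard
  have hconj : ∀ n ∈ N, ∀ r ∈ R, n * r * n⁻¹ ∈ R := fun n hn' r hr =>
    hn.conj_mem ⟨r, hRN hr⟩ hr ⟨n, hn'⟩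
  have hwN : w ∈ N := P.swap_mem D hv hw
  have hVR : D.lineG ≤ R := Subgroup.map_mono (D.lineP_le_perpP.trans D.perpP_le_coreP)
  set U := D.perpP.map ι with hU
  have hUR : U ≤ R := Subgroup.map_mono D.perpP_le_coreP
  set U' := U.map (MulAut.conj w).toMonoidHom with hU'
  have hU'R : U' ≤ R := by
    rintro _ ⟨u, hu, rfl⟩
    exact hconj w hwN u (hUR hu)
  -- the two conjugates generate
  have hgen : U ⊔ U' = R := by
    refine Subgroup.eq_of_le_of_card_ge (sup_le hUR hU'R) ?_
    have hUc : Nat.card U = 2 ^ 11 := by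
      rw [hU, Subgroup.card_map_of_injective (Subgroup.subtype_injective _)]; exact D.card_perpP
    have hU'c : Nat.card U' = 2 ^ 11 := by
      rw [hU', Subgroup.card_map_of_injective (MulAut.conj w).injective, hUc]
    have hI : Nat.card ↥(U ⊓ U') ≤ 128 := by
      refine le_of_le_of_eq (Subgroup.card_le_of_le
        (show U ⊓ U' ≤ (partner (z := z) (Q := Q) w ⊓ Q).map ι from ?_)) ?_
      · rintro _ ⟨⟨a, ha, rfl⟩, ⟨_, ⟨b, hb, rfl⟩, e⟩⟩
        exact ⟨a, ⟨⟨_, ⟨b, hb.2, rfl⟩, e⟩, ha.2⟩, rfl⟩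
      · rw [Subgroup.card_map_of_injective (Subgroup.subtype_injective _), P.card_inter D hv]
    have h1 := Subgroup.card_mul_index (U.subgroupOf (U ⊔ U'))
    rw [Nat.card_congr (Subgroup.subgroupOfEquivOfLe (le_sup_left : U ≤ U ⊔ U')).toEquiv, hUc] at h1
    have h2 := Subgroup.card_mul_index (U.subgroupOf U')
    rw [show Nat.card (U.subgroupOf U') = Nat.card ↥(U ⊓ U') by
      rw [← Subgroup.inf_subgroupOf_right]
      exact Nat.card_congr (Subgroup.subgroupOfEquivOfLe inf_le_right).toEquiv, hU'c] at h2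
    have h3 : U.relIndex U' ≤ U.relIndex (U ⊔ U') :=
      Subgroup.relIndex_le_of_le_right le_sup_right Subgroup.FiniteIndex.index_ne_zero
    have h4 : 16 ≤ U.relIndex U' := by
      by_contra h
      have := Nat.mul_le_mul hI (show U.relIndex U' ≤ 15 by omega)
      have h2' : Nat.card ↥(U ⊓ U') * U.relIndex U' = 2 ^ 11 := h2
      omega
    have h5 : 2 ^ 11 * 16 ≤ Nat.card ↥(U ⊔ U') :=
      h1 ▸ Nat.mul_le_mul_left _ (h4.trans h3)
    rw [hRcard]
    exact le_trans (by norm_num) h5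
  -- the line is central
  let V' := D.lineG.subgroupOf R
  have hVcen : ∀ c ∈ V', c ∈ Subgroup.center R := fun c hc => Subgroup.mem_center_iff.2 fun r =>
    Subtype.ext (Subgroup.mem_centralizer_iff.1 (D.coreG_le_cent r.2) _ hc).symm
  haveI : V'.Normal := ⟨fun c hc r => by
    rw [Subgroup.mem_center_iff.1 (hVcen c hc) r, mul_inv_cancel_right]; exact hc⟩
  -- squares and commutators lie in the line
  have hUcom : ∀ a ∈ U, ∀ r ∈ R, a * r * a⁻¹ * r⁻¹ ∈ D.lineG := by
    rintro _ ⟨u, hu, rfl⟩ _ ⟨t, ht, rfl⟩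
    refine ⟨(t * u * t⁻¹ * u⁻¹)⁻¹, inv_mem (D.vec_comm_diff ht hu), ?_⟩
    simp [ι, mul_assoc]
  have hUsq : ∀ a ∈ U, a * a ∈ D.lineG := by
    rintro _ ⟨u, hu, rfl⟩
    refine ⟨u * u, ?_, rfl⟩
    rcases D.xc.sq u hu.2 with h | h <;> rw [h]
    exacts [one_mem _, D.z_mem_lineP]
  have hU'com : ∀ a ∈ U', ∀ r ∈ R, a * r * a⁻¹ * r⁻¹ ∈ D.lineG := by
    rintro _ ⟨u, hu, rfl⟩ r hr
    have hr' := hconj w⁻¹ (inv_mem hwN) r hr
    have h := (Subgroup.mem_normalizer_iff.1 hwN _).1 (hUcom u hu _ hr')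
    simpa [mul_assoc] using h
  have hU'sq : ∀ a ∈ U', a * a ∈ D.lineG := by
    rintro _ ⟨u, hu, rfl⟩
    have h := (Subgroup.mem_normalizer_iff.1 hwN _).1 (hUsq u hu)
    simpa [mul_assoc] using h
  let K : Subgroup G :=
    { carrier := {a | a ∈ R ∧ (∀ r ∈ R, a * r * a⁻¹ * r⁻¹ ∈ D.lineG) ∧ a * a ∈ D.lineG}
      one_mem' := ⟨one_mem _, fun r _ => by simp [one_mem], by rw [one_mul]; exact one_mem _⟩
      mul_mem' := fun {a b} ⟨ha, hac, has⟩ ⟨hb, hbc, hbs⟩ => by
        have hcc : ∀ c ∈ D.lineG, ∀ r ∈ R, r * c * r⁻¹ = c := fun c hc r hr =>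
          mul_inv_eq_iff_eq_mul.2 (Subgroup.mem_centralizer_iff.1 (D.coreG_le_cent hr) c hc).symm
        refine ⟨mul_mem ha hb, fun r hr => ?_, ?_⟩
        · rw [show a * b * r * (a * b)⁻¹ * r⁻¹ =
            a * (b * r * b⁻¹ * r⁻¹) * a⁻¹ * (a * r * a⁻¹ * r⁻¹) by simp [mul_assoc],
            hcc _ (hbc r hr) a ha]
          exact mul_mem (hbc r hr) (hac r hr)
        · rw [show a * b * (a * b) = a * (b * a * b⁻¹ * a⁻¹) * a⁻¹ * (a * a) * (b * b) by simp [mul_assoc],
            hcc _ (hbc a ha) a ha]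
          exact mul_mem (mul_mem (hbc a ha) has) hbs
      inv_mem' := fun {a} ⟨ha, hac, has⟩ => by
        refine ⟨inv_mem ha, fun r hr => ?_, by rw [← _root_.mul_inv_rev]; exact inv_mem has⟩
        have h := inv_mem (hac _ (mul_mem (mul_mem (inv_mem ha) hr) ha))
        simpa [mul_assoc] using h }
  have hK : R ≤ K := by
    rw [← hgen]
    exact sup_le (fun a ha => ⟨hUR ha, hUcom a ha, hUsq a ha⟩)
      (fun a ha => ⟨hU'R ha, hU'com a ha, hU'sq a ha⟩)
  have hp : IsPGroup 2 R := IsPGroup.of_card (n := 15) hRcard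
  have hcomle : commutator R ≤ V' := by
    rw [commutator_def, Subgroup.commutator_le]
    intro a _ b _
    exact (hK a.2).2.1 b b.2
  have hfr : frattini R ≤ V' := CfsgLib.PGroups.frattini_le_of_elementary_quotient (p := 2) hcomle
    fun a => by rw [pow_two]; exact (hK a.2).2.2
  have hcz : Subgroup.center R ≤ V' := fun c hc => by
    obtain ⟨t, ht, htc⟩ := c.2
    refine ⟨t, D.central_coreP ht fun u hu => Subtype.ext ?_, htc⟩
    show (t : G) * u = u * t
    have h := congrArg Subtype.val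
      (Subgroup.mem_center_iff.1 hc ⟨u, hUR ⟨u, hu, rfl⟩⟩)
    rw [show (t : G) = c from htc]
    exact h.symm
  have hVK : D.lineG ≤ ⁅R, R⁆ := by
    obtain ⟨a, ha, b, hb, hab⟩ := D.perpP_noncomm
    obtain ⟨x, -, hx⟩ := D.exists_scalar
    have hz : z ∈ ⁅R, R⁆ := by
      have h := Subgroup.commutator_mem_commutator (hUR ⟨a, ha, rfl⟩) (hUR ⟨b, hb, rfl⟩)
      rw [commutatorElement_def] at h
      have e : (a : G) * b * (a : G)⁻¹ * (b : G)⁻¹ = z := congrArg Subtype.val hab
      rw [← e]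
      exact h
    have hinv : ∀ n ∈ N, ∀ k ∈ ⁅R, R⁆, n * k * n⁻¹ ∈ ⁅R, R⁆ := fun n hn' k hk => by
      have h := Subgroup.mem_map_of_mem (MulAut.conj n).toMonoidHom hk
      rw [Subgroup.map_commutator] at h
      have hle : R.map (MulAut.conj n).toMonoidHom ≤ R := by rintro _ ⟨r, hr, rfl⟩; exact hconj n hn' r hr
      exact Subgroup.commutator_mono hle hle h
    have hs : ((s : Subgroup.centralizer ({z} : Set G)) : G) ∈ ⁅R, R⁆ :=
      P.conj ▸ hinv w hwN z hz
    set r : Q := ⟨x * s * x⁻¹, (inferInstance : Q.Normal).conj_mem _ s.2 x⟩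
    have hr : D.vec r = om • bigV := by rw [D.vec_conj', hx, hv]
    have hrm : ((r : Subgroup.centralizer ({z} : Set G)) : G) ∈ ⁅R, R⁆ :=
      hinv x (D.scalar_mem_normG hx) _ hs
    exact Subgroup.map_le_iff_le_comap.2 (D.lineP_le_of hv hr hz hs hrm)
  have hVcom : V' ≤ commutator R := fun c hc => by
    have h : (c : G) ∈ ⁅R, R⁆ := hVK hc
    rw [← Subgroup.map_subtype_commutator] at h
    obtain ⟨c', hc', e⟩ := h
    exact Subtype.ext e ▸ hc'
  have hcR : Subgroup.center R = V' := le_antisymm hcz hVcen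
  refine ⟨⟨hp, ?_, ?_⟩, hRcard, ?_⟩
  · rw [hcR]
    exact le_antisymm hfr (hVcom.trans (CfsgLib.PGroups.commutator_le_frattini hp))
  · rw [hcR]; exact le_antisymm hcomle hVcom
  · rw [hcR, Subgroup.map_subgroupOf_eq_of_le hVR]

end Model

/-- The normaliser of an elementary group of order eight: `2^{3+12}.(L₃(2) × A₆)`. -/
theorem exists_lineEight (hF : IsOfLargeFischerTypeAt z Q) :
    ∃ V : Subgroup G, IsElementaryAbelian 2 V ∧ Nat.card V = 8 ∧ z ∈ V ∧
      ∃ R : Subgroup G, R = (pCore 2 ↥(Subgroup.normalizer (V : Set G))).map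
          (Subgroup.normalizer (V : Set G)).subtype ∧
        IsSpecial 2 ↥R ∧ Nat.card R = 2 ^ 15 ∧ (Subgroup.center ↥R).map R.subtype = V ∧
        ∃ _ : (R.subgroupOf (Subgroup.normalizer (V : Set G))).Normal,
          Nonempty (↥(Subgroup.normalizer (V : Set G)) ⧸ R.subgroupOf (Subgroup.normalizer (V : Set G))
            ≃* SL32 × ↥(alternatingGroup (Fin 6))) := by
  obtain ⟨D⟩ := model_of_type hF
  have hsemi : ∀ h, h ∉ D.M → ∀ v, D.act h (om • v) = (om ^ 2) • D.act h v :=
    fun h hh => outer_semi hF D hh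
  obtain ⟨w, s, P, hv, hw⟩ := exists_swap hF D
  obtain ⟨e, hes, hek⟩ := P.exists_toSL D hv hw
  obtain ⟨hn, hE, hcore⟩ := D.exists_quot hsemi e hes hek
  obtain ⟨hsp, hc, hcen⟩ := P.special D hsemi hv hw hn
  refine ⟨D.lineG, D.lineG_elementary, D.card_lineG, D.z_mem_lineG, D.coreG, ?_, hsp, hc, hcen, hn, hE⟩
  rw [← hcore, Subgroup.map_subgroupOf_eq_of_le (D.coreG_le_cent.trans D.cent_le_norm)]

end CfsgLib.Spor.LargeFi
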