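import Cfsg.Agent.Lib.Spor.LargeFi.Core
import Cfsg.Agent.Lib.Spor.LargeFi.Commutant

/-!
In a group of large Fischer type every model has the standard outer element.
-/

set_option autoImplicit false

namespace CfsgLib.Spor.LargeFi

open Cfsg CfsgLib.Spor.U62

variable {G : Type*} [Group G] [Finite G] {z : G}
  {Q : Subgroup (Subgroup.centralizer ({z} : Set G))} [Q.Normal]

omit [Finite G] in
theorem exists_conj_in (hF : IsOfLargeFischerTypeAt z Q) :
    ∃ (g : G) (a : Q), g * z * g⁻¹ = ((a : Subgroup.centralizer ({z} : Set G)) : G) ∧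
      ((a : Subgroup.centralizer ({z} : Set G)) : G) ≠ z := by
  obtain ⟨⟨-, -, -, -, g, ⟨hq, hmem⟩, hne⟩, -⟩ := hF
  exact ⟨g, ⟨_, hmem⟩, rfl, hne⟩

theorem hasOuter_of_type (hF : IsOfLargeFischerTypeAt z Q) (D : Model Q (zH z)) : D.HasOuter := by
  obtain ⟨g, a, hg, hne⟩ := exists_conj_in hF
  obtain ⟨h, b, -, hvb, hgb, hneb⟩ := exists_at_bigV D hg hne
  exact hasOuter D hgb hneb hvb linear_commutant semilinear_commutant

end CfsgLib.Spor.LargeFi
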