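import Cfsg.Agent.Lib.Spor.LargeFi.LineCoreP
import Cfsg.Agent.Lib.Spor.LargeFi.Outer

/-!
The normaliser of the elementary group of order eight of lifts of the line: an element interchanging
the two involutions normalises it, and it induces the whole of `SL₃(2)`.
-/

set_option autoImplicit false
set_option maxRecDepth 100000

namespace CfsgLib.Spor.LargeFi

open Cfsg CfsgLib.Spor.U62 CfsgLib.ThreeTransp
open Matrix

theorem mem_normalizer_of_le {G : Type*} [Group G] [Finite G] {V : Subgroup G} {g : G}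
    (h : ∀ u ∈ V, g * u * g⁻¹ ∈ V) : g ∈ Subgroup.normalizer (V : Set G) := by
  have hle : V.map (MulAut.conj g).toMonoidHom ≤ V := by rintro _ ⟨u, hu, rfl⟩; exact h u hu
  have he := Subgroup.eq_of_le_of_card_ge hle
    (Subgroup.card_map_of_injective (MulAut.conj g).injective).ge
  rw [Subgroup.mem_normalizer_iff]
  intro u
  refine ⟨h u, fun hu => ?_⟩
  rw [← he] at hu
  obtain ⟨v, hv, e⟩ := hu
  exact (MulAut.conj g).injective e ▸ hv

variable {G : Type*} [Group G] [Finite G] {z : G}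
  {Q : Subgroup (Subgroup.centralizer ({z} : Set G))} [Q.Normal]

/-- An element interchanging the involution and a conjugate with the representative vector. -/
theorem exists_swap (hF : IsOfLargeFischerTypeAt z Q) (D : Model Q (zH z)) :
    ∃ (w : G) (s : Q), Model.Pair (Q := Q) w s ∧ D.vec s = bigV ∧
      w * ((s : Subgroup.centralizer ({z} : Set G)) : G) * w⁻¹ = z := by
  obtain ⟨g, a, hg, hne⟩ := exists_conj_in hF
  obtain ⟨h, b, -, hvb, hgb, hneb⟩ := exists_at_bigV D hg hne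
  set g0 := (h : G) * g with hg0
  have TP := twoPair D hgb hneb
  obtain ⟨_, ⟨a1, ha1, rfl⟩, e1⟩ := TP.hz
  have hg1 : g0⁻¹ * z * g0⁻¹⁻¹ = ((⟨a1, ha1⟩ : Q) : Subgroup.centralizer ({z} : Set G)) := by
    rw [inv_inv]
    calc g0⁻¹ * z * g0 = g0⁻¹ * (g0 * (a1 : G) * g0⁻¹) * g0 := by
          rw [show g0 * (a1 : G) * g0⁻¹ = z from e1]
      _ = (a1 : G) := by simp [mul_assoc]
  have hne1 : ((a1 : Subgroup.centralizer ({z} : Set G)) : G) ≠ z := fun e => hneb (by
    have e2 : g0 * ((a1 : Subgroup.centralizer ({z} : Set G)) : G) * g0⁻¹ = z := e1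
    rw [e, hgb] at e2
    exact e2)
  obtain ⟨h1, b1, -, hv1, hgb1, hneb1⟩ := exists_at_bigV D hg1 hne1
  set w0 := (h1 : G) * g0⁻¹ with hw0
  have hsw : w0 * ((b : Subgroup.centralizer ({z} : Set G)) : G) * w0⁻¹ = z := by
    rw [← hgb, hw0]
    calc (h1 : G) * g0⁻¹ * (g0 * z * g0⁻¹) * ((h1 : G) * g0⁻¹)⁻¹
        = (h1 : G) * z * (h1 : G)⁻¹ := by simp [mul_assoc]
      _ = z := mul_inv_eq_iff_eq_mul.2 (Subgroup.mem_centralizer_singleton_iff.1 h1.2)
  rcases D.vec_eq (a := b) (b := b1) (hvb.trans hv1.symm) with e | e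
  · exact ⟨w0, b, ⟨hgb1.trans (congrArg Subtype.val e), hneb⟩, hvb, hsw⟩
  · obtain ⟨p, hp, hpb⟩ := TP.moves
    have hpz : p * z = z * p := TP.hQ.comm p hp
    refine ⟨p * w0, b, ⟨?_, hneb⟩, hvb, ?_⟩
    · have e' : ((b1 : Subgroup.centralizer ({z} : Set G)) : G) =
          z * ((b : Subgroup.centralizer ({z} : Set G)) : G) := congrArg Subtype.val e
      calc p * w0 * z * (p * w0)⁻¹ = p * (w0 * z * w0⁻¹) * p⁻¹ := by simp [mul_assoc]
        _ = p * z * p⁻¹ * (p * ((b : Subgroup.centralizer ({z} : Set G)) : G) * p⁻¹) := by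
            rw [hgb1, e']; simp [mul_assoc]
        _ = _ := by rw [hpb, mul_inv_eq_iff_eq_mul.2 hpz, ← mul_assoc, TP.hQ.inv, one_mul]
    · calc p * w0 * ((b : Subgroup.centralizer ({z} : Set G)) : G) * (p * w0)⁻¹
          = p * (w0 * ((b : Subgroup.centralizer ({z} : Set G)) : G) * w0⁻¹) * p⁻¹ := by
            simp [mul_assoc]
        _ = z := by rw [hsw]; exact mul_inv_eq_iff_eq_mul.2 hpz

namespace Model

section fixed

variable {H : Type*} [Group H] {N : Subgroup H} [N.Normal] {c : H} (E : Model N c)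

theorem act_fix_of_comm {h : H} {q : N} (e : h * (q : H) = q * h) : E.act h (E.vec q) = E.vec q := by
  rw [← E.vec_conj' h q ((inferInstance : N.Normal).conj_mem _ q.2 h)]
  exact congrArg E.vec (Subtype.ext (mul_inv_eq_iff_eq_mul.2 e))

end fixed

variable (D : Model Q (zH z))

/-- the lifts of the line inside the group -/
def lineG : Subgroup G := D.lineP.map (Subgroup.centralizer ({z} : Set G)).subtype

omit [Finite G] in
theorem mem_lineG {h : Subgroup.centralizer ({z} : Set G)} : (h : G) ∈ D.lineG ↔ h ∈ D.lineP :=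
  Subgroup.mem_map_iff_mem (Subgroup.subtype_injective _)

omit [Finite G] in
theorem z_mem_lineG : z ∈ D.lineG := ⟨zH z, D.z_mem_lineP, rfl⟩

omit [Finite G] in
theorem card_lineG : Nat.card D.lineG = 8 := by
  rw [lineG, Subgroup.card_map_of_injective (Subgroup.subtype_injective _)]
  exact D.card_lineP

omit [Finite G] in
theorem lineG_sq {u : G} (hu : u ∈ D.lineG) : u * u = 1 := by
  obtain ⟨a, ha, rfl⟩ := hu
  exact congrArg Subtype.val (D.lineP_sq ha)

omit [Finite G] in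
theorem lineG_elementary : IsElementaryAbelian 2 D.lineG := by
  refine ⟨⟨⟨fun a b => Subtype.ext ?_⟩⟩, fun a ha => by rw [pow_two]; exact D.lineG_sq ha⟩
  have h1 : (a : G) * a = 1 := D.lineG_sq a.2
  have h2 : (b : G) * b = 1 := D.lineG_sq b.2
  have h3 : ((a : G) * b) * ((a : G) * b) = 1 := D.lineG_sq (mul_mem a.2 b.2)
  show (a : G) * b = b * a
  calc (a : G) * b = ((a : G) * b)⁻¹ := (inv_eq_of_mul_eq_one_right h3).symm
    _ = (b : G) * a := by rw [_root_.mul_inv_rev, inv_eq_of_mul_eq_one_right h1, inv_eq_of_mul_eq_one_right h2]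

omit [Finite G] in
theorem mem_centG {g : G} (hg : g ∈ Subgroup.centralizer (D.lineG : Set G)) :
    ∃ hz : g ∈ Subgroup.centralizer ({z} : Set G),
      (⟨g, hz⟩ : Subgroup.centralizer ({z} : Set G)) ∈
        Subgroup.centralizer (D.lineP : Set (Subgroup.centralizer ({z} : Set G))) :=
  ⟨Subgroup.mem_centralizer_singleton_iff.2
      (Subgroup.mem_centralizer_iff.1 hg z D.z_mem_lineG).symm,
    Subgroup.mem_centralizer_iff.2 fun u hu =>
      Subtype.ext (Subgroup.mem_centralizer_iff.1 hg _ (D.mem_lineG.2 hu))⟩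

theorem mem_normG {h : Subgroup.centralizer ({z} : Set G)}
    (hh : ∀ u ∈ D.lineP, h * u * h⁻¹ ∈ D.lineP) : (h : G) ∈ Subgroup.normalizer (D.lineG : Set G) :=
  mem_normalizer_of_le fun u hu => by
    obtain ⟨a, ha, rfl⟩ := hu
    exact ⟨h * a * h⁻¹, hh a ha, rfl⟩

variable {w : G} {s : Q} (P : Pair (Q := Q) w s) (hv : D.vec s = bigV)
  (hw : w * ((s : Subgroup.centralizer ({z} : Set G)) : G) * w⁻¹ = z)

include D P hw in
theorem Pair.sq_mem : w * w ∈ Subgroup.centralizer ({z} : Set G) := by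
  refine Subgroup.mem_centralizer_singleton_iff.2 (mul_inv_eq_iff_eq_mul.1 ?_)
  calc w * w * z * (w * w)⁻¹ = w * (w * z * w⁻¹) * w⁻¹ := by simp [mul_assoc]
    _ = z := by rw [P.conj, hw]

include D P hv hw in
theorem Pair.swap_mem : w ∈ Subgroup.normalizer (D.lineG : Set G) := by
  refine mem_normalizer_of_le fun u hu => ?_
  obtain ⟨a, ha, rfl⟩ := hu
  set sG : G := ((s : Subgroup.centralizer ({z} : Set G)) : G) with hsG
  have hzs : sG * z = z * sG := Subgroup.mem_centralizer_singleton_iff.1 (s : Subgroup.centralizer ({z} : Set G)).2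
  obtain ⟨haP, haQ⟩ := P.lineP_le D hv ha
  -- the image lies in both extraspecial subgroups
  have hu1 : w * (a : G) * w⁻¹ ∈ qG Q := by
    obtain ⟨q, hq, e⟩ := haP
    have e' : w * (q : G) * w⁻¹ = (a : G) := e
    rw [← e', show w * (w * q * w⁻¹) * w⁻¹ = w * w * q * (w * w)⁻¹ by simp [mul_assoc]]
    exact (xcent_qG D.xc).norm _ (Subgroup.mem_centralizer_singleton_iff.1 (P.sq_mem D hw)) q hq
  obtain ⟨c, hcQ, hc⟩ := hu1
  have hc' : (c : G) = w * (a : G) * w⁻¹ := hc
  have hcP : c ∈ partner (Q := Q) w := ⟨a, ⟨a, haQ, rfl⟩, hc'.symm⟩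
  refine ⟨c, ⟨hcQ, ?_⟩, hc'⟩
  -- centralising the line
  have hperp : vc (D.vec ⟨c, hcQ⟩) ∈ perpL := by
    refine (D.cent_lineP hcQ).1 (Subgroup.mem_centralizer_iff.2 fun b hb => Subtype.ext ?_)
    obtain ⟨hbP, hbQ⟩ := P.lineP_le D hv hb
    have h := congrArg Subtype.val ((twoPair D P.conj P.ne).elementary.1.is_comm.comm
      ⟨(b : G), ⟨b, hbQ, rfl⟩, hbP⟩ ⟨(c : G), ⟨c, hcQ, rfl⟩, hcP⟩)
    exact h
  -- an element of order five
  obtain ⟨f, hf, hfc⟩ := lineT_in (c := fiveC) (List.mem_cons_self ..)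
  obtain ⟨hfK, hfv⟩ := mem_KV.1 hf
  obtain ⟨y, hyM, hys, hyf⟩ := D.lift_fix (s := s) (P.vec_ne D) hfK (by rw [hv]; exact hfv)
  have hys' : (y : G) * sG = sG * y := congrArg Subtype.val hys
  have hyz : (y : G) * z = z * y := Subgroup.mem_centralizer_singleton_iff.1 y.2
  have hy'z : w⁻¹ * (y : G) * w ∈ Subgroup.centralizer ({z} : Set G) := by
    refine Subgroup.mem_centralizer_singleton_iff.2 (mul_inv_eq_iff_eq_mul.1 ?_)
    calc w⁻¹ * (y : G) * w * z * (w⁻¹ * y * w)⁻¹ = w⁻¹ * ((y : G) * (w * z * w⁻¹) * (y : G)⁻¹) * w := by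
          simp [mul_assoc]
      _ = w⁻¹ * (w * z * w⁻¹) * w := by rw [P.conj, mul_inv_eq_iff_eq_mul.2 hys']
      _ = z := by simp [mul_assoc]
  obtain ⟨y', hy'def⟩ : ∃ y' : Subgroup.centralizer ({z} : Set G), (y' : G) = w⁻¹ * (y : G) * w :=
    ⟨⟨_, hy'z⟩, rfl⟩
  have hy's : y' * (s : Subgroup.centralizer ({z} : Set G)) = s * y' := by
    refine Subtype.ext (mul_inv_eq_iff_eq_mul.1 ?_)
    show (y' : G) * sG * (y' : G)⁻¹ = sG
    rw [hy'def]
    calc w⁻¹ * (y : G) * w * sG * (w⁻¹ * y * w)⁻¹ = w⁻¹ * ((y : G) * (w * sG * w⁻¹) * (y : G)⁻¹) * w := by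
          simp [mul_assoc]
      _ = w⁻¹ * (w * sG * w⁻¹) * w := by rw [hw, mul_inv_eq_iff_eq_mul.2 hyz]
      _ = sG := by simp [mul_assoc]
  have hy'b : D.act y' bigV = bigV := by
    rw [← hv]; exact D.act_fix_of_comm hy's
  obtain ⟨hdQ, hd⟩ := D.conj_lineP hy'b ha
  -- its commutator with the image
  have hm := (inferInstance : Q.Normal).conj_mem _ hcQ y
  have hvec : D.vec (⟨_, hm⟩ * ⟨c, hcQ⟩⁻¹) = 0 ∨ D.vec (⟨_, hm⟩ * ⟨c, hcQ⟩⁻¹) = bigV := by
    have hconj : ((y * c * y⁻¹ * c⁻¹ : Subgroup.centralizer ({z} : Set G)) : G) =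
        w * ((y' * a * y'⁻¹ * a⁻¹ : Subgroup.centralizer ({z} : Set G)) : G) * w⁻¹ := by
      show (y : G) * c * (y : G)⁻¹ * (c : G)⁻¹ =
        w * ((y' : G) * a * (y' : G)⁻¹ * (a : G)⁻¹) * w⁻¹
      rw [hy'def, hc']
      simp [mul_assoc]
    have hzero : ∀ d : Q, (d : Subgroup.centralizer ({z} : Set G)) = 1 ∨
        (d : Subgroup.centralizer ({z} : Set G)) = zH z → D.vec d = 0 := fun d => (D.vec_eq_zero d).2
    have hsb : ∀ d : Q, ((d : Subgroup.centralizer ({z} : Set G)) : G) = sG → D.vec d = bigV :=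
      fun d e => (congrArg D.vec (Subtype.ext (Subtype.ext e))).trans hv
    set d : Q := ⟨_, hm⟩ * ⟨c, hcQ⟩⁻¹ with hddef
    have hdG : ((d : Subgroup.centralizer ({z} : Set G)) : G) =
        w * ((y' * a * y'⁻¹ * a⁻¹ : Subgroup.centralizer ({z} : Set G)) : G) * w⁻¹ := hconj
    rcases hd with e | e
    · rcases (D.vec_eq_zero _).1 e with e' | e' <;> rw [show y' * a * y'⁻¹ * a⁻¹ = _ from e'] at hdG
      · exact Or.inl (hzero d (Or.inl (Subtype.ext (hdG.trans (by simp)))))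
      · exact Or.inr (hsb d (hdG.trans P.conj))
    · rcases D.vec_eq (a := s) (hv.trans e.symm) with e' | e' <;>
        rw [show y' * a * y'⁻¹ * a⁻¹ = _ from e'] at hdG
      · exact Or.inl (hzero d (Or.inr (Subtype.ext (hdG.trans hw))))
      · refine Or.inr ?_
        have e2 : ((d : Subgroup.centralizer ({z} : Set G)) : G) = z * sG := by
          rw [hdG]
          show w * (z * sG) * w⁻¹ = _
          calc w * (z * sG) * w⁻¹ = w * z * w⁻¹ * (w * sG * w⁻¹) := by simp [mul_assoc]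
            _ = _ := by rw [P.conj, hw, hzs]
        rw [show d = ⟨zH z, D.xc.mem⟩ * s from Subtype.ext (Subtype.ext e2), D.vec_mul, hv,
          (D.vec_eq_zero ⟨zH z, D.xc.mem⟩).2 (Or.inr rfl), zero_add]
  rw [D.vec_mul, D.vec_inv, D.vec_conj' y ⟨c, hcQ⟩, hyf] at hvec
  set v := D.vec ⟨c, hcQ⟩ with hvdef
  have h2 : mat f *ᵥ (mat f *ᵥ v) = v := by
    rcases hvec with e | e
    · have e1 : mat f *ᵥ v = v := by
        have := congrArg (· + v) e
        simp only [add_assoc, two_v, add_zero, zero_add] at this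
        exact this
      rw [e1, e1]
    · have e1 : mat f *ᵥ v = bigV + v := by
        have := congrArg (· + v) e
        simp only [add_assoc, two_v, add_zero] at this
        exact this
      rw [e1, Matrix.mulVec_add, hfv, e1, ← add_assoc, two_v, zero_add]
  have h5 := five_fix
  simp only [Bool.and_eq_true, Bool.or_eq_true, List.all_eq_true, Nat.beq_eq, memV_iff] at h5
  have hf5 : f ^ 5 = 1 := cd_injective (by rw [cd_pow, hfc, cd_one]; exact h5.1.1.1)
  have h1 : mat f *ᵥ v = v := by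
    have h6 : f = f * f * (f * f) * (f * f) := by
      calc f = f ^ 5 * f := by rw [hf5, one_mul]
        _ = _ := by simp [pow_succ, mul_assoc]
    conv_lhs => rw [h6]
    simp only [map_mul, ← Matrix.mulVec_mulVec, h2]
  refine (h5.1.2 _ hperp).resolve_left fun hne => ?_
  rw [Bool.not_eq_true', ← Bool.not_eq_true, Nat.beq_eq] at hne
  exact hne (by rw [← hfc, ← vc_mat, h1])

end Model

end CfsgLib.Spor.LargeFi
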