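import Cfsg.Agent.Lib.Spor.U62.Classify

/-!
`PSU₄(3)` has no nontrivial representation of dimension at most ten in characteristic two: the
elementary abelian subgroup of order `81` splits the module along the forty subgroups of index
three, and the normaliser has no orbit of fewer than six of them.
-/

set_option autoImplicit false
set_option maxRecDepth 100000

namespace CfsgLib.Spor.LargeFi.RepU43

open CfsgLib.Spor.U62
open CfsgLib.Spor.McLUnitary (model)

/-- the space of coordinates -/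
abbrev X4 : Type := ZMod 3 × ZMod 3 × ZMod 3 × ZMod 3

/-- the pairing -/
def dot (l x : X4) : ZMod 3 :=
  l.1 * x.1 + l.2.1 * x.2.1 + l.2.2.1 * x.2.2.1 + l.2.2.2 * x.2.2.2

theorem dot_add (l x y : X4) : dot l (x + y) = dot l x + dot l y := by
  simp only [dot, Prod.fst_add, Prod.snd_add]; ring

theorem pow_val_add {H : Type*} [Group H] {g : H} (h : g ^ 3 = 1) (a b : ZMod 3) :
    g ^ (a + b).val = g ^ a.val * g ^ b.val := by
  rw [ZMod.val_add, ← pow_add]
  conv_rhs => rw [← Nat.mod_add_div (a.val + b.val) 3, pow_add, pow_mul, h, one_pow, mul_one]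

/-- powers of a packed permutation -/
def powN (g : ℕ) : ℕ → ℕ
  | 0 => oneP
  | n + 1 => compN (powN g n) g

theorem pc_pow (σ : P112) : ∀ n, pc (σ ^ n) = powN (pc σ) n
  | 0 => by rw [pow_zero, pc_one]; rfl
  | n + 1 => by rw [pow_succ, pc_mul, pc_pow σ n]; rfl

/-- the code of a basis element -/
def gC (i : ℕ) : ℕ := a1G.getD i oneP

/-- the code of a point -/
def codeX (x : X4) : ℕ :=
  compN (compN (compN (powN (gC 0) x.1.val) (powN (gC 1) x.2.1.val)) (powN (gC 2) x.2.2.1.val))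
    (powN (gC 3) x.2.2.2.val)

/-- the standard basis -/
def basisX : ℕ → X4
  | 0 => (1, 0, 0, 0)
  | 1 => (0, 1, 0, 0)
  | 2 => (0, 0, 1, 0)
  | _ => (0, 0, 0, 1)

/-- the matrix of a conjugator, as the images of the basis -/
def applyM (c : ℕ → X4) (x : X4) : X4 :=
  (x.1 * (c 0).1 + x.2.1 * (c 1).1 + x.2.2.1 * (c 2).1 + x.2.2.2 * (c 3).1,
   x.1 * (c 0).2.1 + x.2.1 * (c 1).2.1 + x.2.2.1 * (c 2).2.1 + x.2.2.2 * (c 3).2.1,
   x.1 * (c 0).2.2.1 + x.2.1 * (c 1).2.2.1 + x.2.2.1 * (c 2).2.2.1 + x.2.2.2 * (c 3).2.2.1,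
   x.1 * (c 0).2.2.2 + x.2.1 * (c 1).2.2.2 + x.2.2.1 * (c 2).2.2.2 + x.2.2.2 * (c 3).2.2.2)

theorem applyM_add (c : ℕ → X4) (x y : X4) : applyM c (x + y) = applyM c x + applyM c y := by
  simp only [applyM, Prod.fst_add, Prod.snd_add, Prod.mk_add_mk, Prod.mk.injEq]
  refine ⟨?_, ?_, ?_, ?_⟩ <;> ring

/-- the columns of the element of order five -/
def cF (i : ℕ) : X4 :=
  [(0, 1, 0, 0), (0, 0, 1, 0), (0, 0, 2, 1), (2, 2, 2, 0)].getD i (0, 0, 0, 0)

/-- the columns of the element of order three -/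
def cC (i : ℕ) : X4 :=
  [(1, 0, 0, 0), (0, 1, 0, 0), (0, 0, 0, 1), (1, 2, 2, 2)].getD i (0, 0, 0, 0)

/-- pullback of a functional -/
def pull (c : ℕ → X4) (l : X4) : X4 := (dot l (c 0), dot l (c 1), dot l (c 2), dot l (c 3))

theorem dot_pull (c : ℕ → X4) (l x : X4) : dot (pull c l) x = dot l (applyM c x) := by
  simp only [dot, pull, applyM]; ring

/-- normal form of a functional up to sign -/
def nf (l : X4) : X4 :=
  if l.1 = 2 ∨ (l.1 = 0 ∧ (l.2.1 = 2 ∨ (l.2.1 = 0 ∧ (l.2.2.1 = 2 ∨ (l.2.2.1 = 0 ∧ l.2.2.2 = 2)))))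
  then -l else l

/-- the forty functionals in normal form -/
def Rep40 : Finset X4 := Finset.univ.filter fun l => nf l = l ∧ l ≠ 0

theorem nf_dot : ∀ l : X4, nf l = l ∨ nf l = -l := by
  intro l; unfold nf; split <;> simp

theorem dot_nf_zero (l x : X4) : dot (nf l) x = 0 ↔ dot l x = 0 := by
  rcases nf_dot l with h | h <;> rw [h]
  rw [show dot (-l) x = -dot l x by simp only [dot, Prod.fst_neg, Prod.snd_neg]; ring, neg_eq_zero]

theorem bij_F : (∀ x : X4, ∃ y : X4, applyM cF y = x) ∧ (∀ x : X4, ∃ y : X4, applyM cC y = x) := by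
  decide +kernel

theorem count_odd : ∀ x : X4, x ≠ 0 → (Rep40.filter fun l => dot l x = 0).card % 2 = 1 := by
  decide +kernel

theorem count_zero : (Rep40.filter fun l => dot l (0 : X4) = 0).card % 2 = 0 := by decide +kernel

theorem card_rep_even : Rep40.card % 2 = 0 := by decide +kernel

theorem rep_pair : ∀ l ∈ Rep40, ∀ m ∈ Rep40, l = m ∨ ∃ y : X4, dot m y = 0 ∧ dot l y = 1 := by
  decide +kernel

theorem rep_one : ∀ l ∈ Rep40, ∃ y : X4, dot l y = 1 := by decide +kernel

theorem rep_pull : ∀ l ∈ Rep40, nf (pull cF l) ∈ Rep40 ∧ nf (pull cC l) ∈ Rep40 := by decide +kernel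

/-- part of an orbit of functionals -/
def reach (l : X4) : ℕ → Finset X4
  | 0 => {l}
  | n + 1 => reach l n ∪ (reach l n).image (fun m => nf (pull cF m)) ∪
      (reach l n).image (fun m => nf (pull cC m))

theorem reach_big : ∀ l ∈ Rep40, 6 ≤ (reach l 4).card := by decide +kernel

theorem basis_check : ((List.range 4).all fun i =>
    decide (powN (gC i) 3 = oneP) &&
    decide (compN pe5 (gC i) = compN (codeX (applyM cF (basisX i))) pe5) &&
    decide (compN pc2 (gC i) = compN (codeX (applyM cC (basisX i))) pc2) &&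
    memLL a1L (gC i) && decide (gC i ≠ oneP) &&
    (List.range 4).all fun j => decide (compN (gC i) (gC j) = compN (gC j) (gC i))) = true := by
  decide +kernel

theorem applyM_basis_check : ∀ i : Fin 4, codeX (basisX i) = gC i := by decide +kernel

/-- the basis data inside the model -/
theorem exists_basis : ∃ (g : Fin 4 → P112) (f c : P112),
    (∀ i, g i ∈ model) ∧ f ∈ model ∧ c ∈ model ∧
    (∀ i : Fin 4, pc (g i) = gC i) ∧ pc f = pe5 ∧ pc c = pc2 := by
  have h : ∀ i : Fin 4, ∃ σ ∈ model, pc σ = gC i := by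
    intro i
    have hb := List.all_eq_true.1 basis_check i (List.mem_range.2 i.2)
    simp only [Bool.and_eq_true] at hb
    exact second_pin _ (List.mem_append_left _ (List.mem_append_left _ (memLL_iff.1 hb.1.1.2)))
  choose g hg hg' using h
  obtain ⟨f, hf, ef⟩ := named_pin pe5 (by simp)
  obtain ⟨c, hc, ec⟩ := named_pin pc2 (by simp)
  exact ⟨g, f, c, hg, hf, hc, hg', ef, ec⟩

/-- the coordinate homomorphism into the model with its two conjugators -/
theorem exists_coord : ∃ (φ : X4 → model) (f c : model),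
    φ 0 = 1 ∧ (∀ x y, φ (x + y) = φ x * φ y) ∧ φ (basisX 0) ≠ 1 ∧
    (∀ x, f * φ x = φ (applyM cF x) * f) ∧ (∀ x, c * φ x = φ (applyM cC x) * c) := by
  obtain ⟨g, f, c, hg, hf, hc, eg, ef, ec⟩ := exists_basis
  have hb : ∀ i : Fin 4, g i ^ 3 = 1 ∧
      compN pe5 (gC i) = compN (codeX (applyM cF (basisX i))) pe5 ∧
      compN pc2 (gC i) = compN (codeX (applyM cC (basisX i))) pc2 ∧ g i ≠ 1 ∧
      ∀ j : Fin 4, Commute (g i) (g j) := by
    intro i
    have h := List.all_eq_true.1 basis_check i (List.mem_range.2 i.2)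
    simp only [Bool.and_eq_true, decide_eq_true_eq, List.all_eq_true, List.mem_range] at h
    refine ⟨pc_injective (by rw [pc_pow, eg, pc_one]; exact h.1.1.1.1.1),
      h.1.1.1.1.2, h.1.1.1.2, fun e => h.1.2 (by rw [← eg, e, pc_one]), fun j => pc_injective ?_⟩
    rw [pc_mul, pc_mul, eg, eg]; exact h.2 j j.2
  let ψ : X4 → P112 := fun x =>
    g 0 ^ x.1.val * g 1 ^ x.2.1.val * g 2 ^ x.2.2.1.val * g 3 ^ x.2.2.2.val
  have hψc : ∀ x, pc (ψ x) = codeX x := by
    intro x; simp only [ψ, pc_mul, pc_pow, eg]; rfl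
  have hcm : ∀ (i j : Fin 4) (m n : ℕ), Commute (g i ^ m) (g j ^ n) := fun i j m n =>
    ((hb i).2.2.2.2 j).pow_pow m n
  have hadd : ∀ x y, ψ (x + y) = ψ x * ψ y := by
    intro x y
    simp only [ψ, Prod.fst_add, Prod.snd_add, pow_val_add (hb _).1]
    rw [Commute.mul_mul_mul_comm (hcm 0 1 _ _), Commute.mul_mul_mul_comm
        ((hcm 0 2 _ _).mul_left (hcm 1 2 _ _)), Commute.mul_mul_mul_comm
        (((hcm 0 3 _ _).mul_left (hcm 1 3 _ _)).mul_left (hcm 2 3 _ _))]
  let φ : X4 → model := fun x => ⟨ψ x, model.mul_mem (model.mul_mem (model.mul_mem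
    (model.pow_mem (hg 0) _) (model.pow_mem (hg 1) _)) (model.pow_mem (hg 2) _))
    (model.pow_mem (hg 3) _)⟩
  have hφadd : ∀ x y, φ (x + y) = φ x * φ y := fun x y => Subtype.ext (hadd x y)
  have hdec : ∀ x : X4, x = x.1.val • basisX 0 + x.2.1.val • basisX 1 +
      x.2.2.1.val • basisX 2 + x.2.2.2.val • basisX 3 := by decide +kernel
  have hconj : ∀ (k : P112) (hk : k ∈ model) (m : ℕ → X4) (kc : ℕ), pc k = kc →
      (∀ i : Fin 4, compN kc (gC i) = compN (codeX (applyM m (basisX i))) kc) →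
      ∀ x, (⟨k, hk⟩ : model) * φ x = φ (applyM m x) * ⟨k, hk⟩ := by
    intro k hk m kc ek hkc
    let S : AddSubmonoid X4 :=
      { carrier := {x | (⟨k, hk⟩ : model) * φ x = φ (applyM m x) * ⟨k, hk⟩}
        zero_mem' := by
          show _ = _
          have e1 : φ 0 = 1 := Subtype.ext (by simp [φ, ψ])
          have e2 : applyM m (0 : X4) = 0 := by simp [applyM]
          rw [e2, e1, mul_one, one_mul]
        add_mem' := fun {a b} ha hb' => by
          show _ = _
          rw [applyM_add, hφadd, hφadd, ← mul_assoc, ha, mul_assoc, hb', mul_assoc] }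
    have hS : ∀ i : Fin 4, basisX i ∈ S := fun i => Subtype.ext (pc_injective (by
      show pc (k * ψ (basisX i)) = pc (ψ (applyM m (basisX i)) * k)
      rw [pc_mul k, pc_mul (ψ _), hψc, hψc, ek, applyM_basis_check, hkc]))
    intro x
    show x ∈ S
    rw [hdec x]
    exact S.add_mem (S.add_mem (S.add_mem (S.nsmul_mem (hS 0) _) (S.nsmul_mem (hS 1) _))
      (S.nsmul_mem (hS 2) _)) (S.nsmul_mem (hS 3) _)
  refine ⟨φ, ⟨f, hf⟩, ⟨c, hc⟩, Subtype.ext (by simp [φ, ψ]), hφadd, ?_,
    hconj f hf cF pe5 ef fun i => (hb i).2.1, hconj c hc cC pc2 ec fun i => (hb i).2.2.1⟩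
  intro h
  refine (hb 0).2.2.2.1 (pc_injective ?_)
  rw [eg, ← applyM_basis_check 0, ← hψc]
  exact congrArg pc (congrArg Subtype.val h)

section Ring

variable {R : Type*} [Ring R]

/-- the sum over the whole group -/
def allSum (ρ : X4 → R) : R := ∑ x, ρ x

/-- the sum over a coset of the kernel of a functional -/
def kerSum (ρ : X4 → R) (l : X4) : R := ∑ x ∈ Finset.univ.filter (fun x => dot l x = 0), ρ x

theorem odd_nsmul_self (h2 : ∀ a : R, a + a = 0) (a : R) {n : ℕ} (hn : n % 2 = 1) : n • a = a := by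
  rw [← Nat.mod_add_div n 2, hn, add_nsmul, one_nsmul, mul_nsmul, two_nsmul, h2, nsmul_zero, add_zero]

theorem even_nsmul_zero (h2 : ∀ a : R, a + a = 0) (a : R) {n : ℕ} (hn : n % 2 = 0) : n • a = 0 := by
  rw [← Nat.mod_add_div n 2, hn, zero_add, mul_nsmul, two_nsmul, h2, nsmul_zero]

variable {ρ : X4 → R}

theorem allSum_mul (hm : ∀ x y, ρ (x + y) = ρ x * ρ y) (y : X4) : allSum ρ * ρ y = allSum ρ := by
  rw [allSum, Finset.sum_mul]
  simp_rw [← hm]
  exact Equiv.sum_comp (Equiv.addRight y) ρ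

theorem kerSum_mul (hm : ∀ x y, ρ (x + y) = ρ x * ρ y) (l y : X4) :
    kerSum ρ l * ρ y = ∑ x ∈ Finset.univ.filter (fun x => dot l x = dot l y), ρ x := by
  rw [kerSum, Finset.sum_mul]
  simp_rw [← hm]
  refine Finset.sum_equiv (Equiv.addRight y) (fun x => ?_) (fun x _ => rfl)
  simp [dot_add]

theorem kerSum_mul_zero (hm : ∀ x y, ρ (x + y) = ρ x * ρ y) {l y : X4} (hy : dot l y = 0) :
    kerSum ρ l * ρ y = kerSum ρ l := by
  rw [kerSum_mul hm, hy]; rfl

theorem kerSum_triple (hm : ∀ x y, ρ (x + y) = ρ x * ρ y) {l y : X4} (hy : dot l y = 1) :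
    kerSum ρ l + kerSum ρ l * ρ y + kerSum ρ l * ρ (y + y) = allSum ρ := by
  have e2 : dot l (y + y) = 2 := by rw [dot_add, hy]; rfl
  rw [kerSum_mul hm, kerSum_mul hm, hy, e2, allSum, kerSum]
  rw [← Finset.sum_fiberwise (Finset.univ : Finset X4) (fun x => dot l x) ρ]
  rw [show (Finset.univ : Finset (ZMod 3)) = {0, 1, 2} by decide]
  rw [Finset.sum_insert (by decide), Finset.sum_insert (by decide), Finset.sum_singleton, add_assoc]

theorem ker_card_odd : ∀ l ∈ Rep40,
    (Finset.univ.filter fun x : X4 => dot l x = 0).card % 2 = 1 := by decide +kernel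

theorem allSum_mul_allSum (h2 : ∀ a : R, a + a = 0) (hm : ∀ x y, ρ (x + y) = ρ x * ρ y) :
    allSum ρ * allSum ρ = allSum ρ := by
  conv_lhs => enter [2]; rw [allSum]
  rw [Finset.mul_sum, Finset.sum_congr rfl (fun x _ => allSum_mul hm x), Finset.sum_const]
  exact odd_nsmul_self h2 _ (by decide +kernel)

theorem allSum_mul_kerSum (h2 : ∀ a : R, a + a = 0) (hm : ∀ x y, ρ (x + y) = ρ x * ρ y) {l : X4}
    (hl : l ∈ Rep40) : allSum ρ * kerSum ρ l = allSum ρ := by
  conv_lhs => enter [2]; rw [kerSum]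
  rw [Finset.mul_sum, Finset.sum_congr rfl (fun x _ => allSum_mul hm x), Finset.sum_const]
  exact odd_nsmul_self h2 _ (ker_card_odd l hl)

theorem kerSum_sq (h2 : ∀ a : R, a + a = 0) (hm : ∀ x y, ρ (x + y) = ρ x * ρ y) {l : X4}
    (hl : l ∈ Rep40) : kerSum ρ l * kerSum ρ l = kerSum ρ l := by
  conv_lhs => enter [2]; rw [kerSum]
  rw [Finset.mul_sum, Finset.sum_congr rfl (fun x hx => kerSum_mul_zero hm (Finset.mem_filter.1 hx).2),
    Finset.sum_const]
  exact odd_nsmul_self h2 _ (ker_card_odd l hl)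

theorem rho_comm (hm : ∀ x y, ρ (x + y) = ρ x * ρ y) (x y : X4) : Commute (ρ x) (ρ y) := by
  show ρ x * ρ y = ρ y * ρ x
  rw [← hm, ← hm, add_comm]

theorem kerSum_comm (hm : ∀ x y, ρ (x + y) = ρ x * ρ y) (l : X4) (y : X4) :
    Commute (kerSum ρ l) (ρ y) :=
  Commute.sum_left _ _ _ fun x _ => rho_comm hm x y

theorem allSum_comm (hm : ∀ x y, ρ (x + y) = ρ x * ρ y) (l : X4) :
    Commute (allSum ρ) (kerSum ρ l) :=
  Commute.sum_left _ _ _ fun x _ => (kerSum_comm hm l x).symm

theorem kerSum_mul_kerSum (h2 : ∀ a : R, a + a = 0) (hm : ∀ x y, ρ (x + y) = ρ x * ρ y) {l m : X4}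
    (hl : l ∈ Rep40) (hmR : m ∈ Rep40) (hne : l ≠ m) :
    kerSum ρ l * kerSum ρ m = allSum ρ := by
  obtain ⟨y, hy0, hy1⟩ := (rep_pair l hl m hmR).resolve_left hne
  have hy0' : dot m (y + y) = 0 := by rw [dot_add, hy0, add_zero]
  have e : ∀ z, dot m z = 0 → ρ z * kerSum ρ m = kerSum ρ m := fun z hz => by
    rw [← (kerSum_comm hm m z).eq, kerSum_mul_zero hm hz]
  have h : (kerSum ρ l + kerSum ρ l * ρ y + kerSum ρ l * ρ (y + y)) * kerSum ρ m =
      kerSum ρ l * kerSum ρ m := by
    rw [add_mul, add_mul, mul_assoc, mul_assoc, e y hy0, e (y + y) hy0', add_assoc, h2, add_zero]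
  rw [← h, kerSum_triple hm hy1]
  exact allSum_mul_kerSum h2 hm hmR

theorem sum_kerSum (h2 : ∀ a : R, a + a = 0) :
    ∑ l ∈ Rep40, kerSum ρ l = allSum ρ + ρ 0 := by
  unfold kerSum
  simp_rw [Finset.sum_filter]
  rw [Finset.sum_comm]
  have e : ∀ x : X4, (∑ l ∈ Rep40, if dot l x = 0 then ρ x else 0) = ρ x + if x = 0 then ρ 0 else 0 := by
    intro x
    rw [← Finset.sum_filter, Finset.sum_const]
    rcases eq_or_ne x 0 with rfl | hx
    · rw [even_nsmul_zero h2 _ count_zero, if_pos rfl, h2]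
    · rw [odd_nsmul_self h2 _ (count_odd x hx), if_neg hx, add_zero]
  rw [Finset.sum_congr rfl fun x _ => e x, Finset.sum_add_distrib, Finset.sum_ite_eq']
  simp [allSum]

/-- the idempotent of a functional -/
def idem (ρ : X4 → R) (l : X4) : R := kerSum ρ l + allSum ρ

theorem idem_mul (h2 : ∀ a : R, a + a = 0) (hm : ∀ x y, ρ (x + y) = ρ x * ρ y) {l m : X4}
    (hl : l ∈ Rep40) (hmR : m ∈ Rep40) :
    idem ρ l * idem ρ m = if l = m then idem ρ l else 0 := by
  have e1 := allSum_mul_kerSum h2 hm hmR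
  have e2 : kerSum ρ l * allSum ρ = allSum ρ := by
    rw [← (allSum_comm hm l).eq, allSum_mul_kerSum h2 hm hl]
  rw [idem, idem, add_mul, mul_add, mul_add, e1, e2, allSum_mul_allSum h2 hm]
  split
  · subst ‹l = m›; rw [kerSum_sq h2 hm hl, h2, add_zero]
  · rw [kerSum_mul_kerSum h2 hm hl hmR ‹¬l = m›, h2]

theorem kerSum_conj {F : R} {m : ℕ → X4} (hF : ∀ x, F * ρ x = ρ (applyM m x) * F)
    (hbij : Function.Bijective (applyM m)) (l : X4) :
    F * kerSum ρ (nf (pull m l)) = kerSum ρ l * F := by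
  rw [kerSum, kerSum, Finset.mul_sum, Finset.sum_mul]
  refine Finset.sum_equiv (Equiv.ofBijective _ hbij) (fun x => ?_) (fun x _ => hF x)
  simp [dot_nf_zero, dot_pull]

theorem allSum_conj {F : R} {m : ℕ → X4} (hF : ∀ x, F * ρ x = ρ (applyM m x) * F)
    (hbij : Function.Bijective (applyM m)) : F * allSum ρ = allSum ρ * F := by
  rw [allSum, Finset.mul_sum, Finset.sum_mul]
  exact Finset.sum_equiv (Equiv.ofBijective _ hbij) (fun x => by simp) (fun x _ => hF x)

theorem idem_ne_zero {F : R} {m : ℕ → X4} (hu : IsUnit F) (hF : ∀ x, F * ρ x = ρ (applyM m x) * F)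
    (hbij : Function.Bijective (applyM m)) {l : X4} (hl : idem ρ l ≠ 0) :
    idem ρ (nf (pull m l)) ≠ 0 := by
  intro h
  have h' : F * idem ρ (nf (pull m l)) = idem ρ l * F := by
    rw [idem, idem, mul_add, add_mul, kerSum_conj hF hbij, allSum_conj hF hbij]
  rw [h, mul_zero, eq_comm, hu.mul_left_eq_zero] at h'
  exact hl h'

end Ring

/-- a module of dimension at most ten is trivial for the model -/
theorem model_trivial {V : Type*} [AddCommGroup V] [Finite V] (h2 : ∀ v : V, v + v = 0)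
    (hcard : Nat.card V ≤ 2 ^ 10) [IsSimpleGroup model] (θ : model →* AddMonoid.End V) : θ = 1 := by
  classical
  have hR2 : ∀ a : AddMonoid.End V, a + a = 0 := fun a => AddMonoidHom.ext fun v => h2 (a v)
  obtain ⟨φ, f, c, hφ0, hφ, hne, hf, hc⟩ := exists_coord
  let ρ : X4 → AddMonoid.End V := fun x => θ (φ x)
  have hm : ∀ x y, ρ (x + y) = ρ x * ρ y := fun x y => by simp only [ρ, hφ, map_mul]
  have hconj : ∀ (k : model) (m : ℕ → X4), (∀ x, k * φ x = φ (applyM m x) * k) →
      ∀ x, θ k * ρ x = ρ (applyM m x) * θ k := fun k m h x => by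
    simp only [ρ, ← map_mul, h]
  have hbF : Function.Bijective (applyM cF) := Finite.surjective_iff_bijective.1 bij_F.1
  have hbC : Function.Bijective (applyM cC) := Finite.surjective_iff_bijective.1 bij_F.2
  by_cases hall : ∀ l ∈ Rep40, idem ρ l = 0
  · have hT : allSum ρ = 1 := by
      have hk : ∀ l ∈ Rep40, kerSum ρ l = allSum ρ := fun l hl => by
        have := hall l hl
        rw [idem] at this
        calc kerSum ρ l = kerSum ρ l + (allSum ρ + allSum ρ) := by rw [hR2, add_zero]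
          _ = allSum ρ := by rw [← add_assoc, this, zero_add]
      have h := sum_kerSum (ρ := ρ) hR2
      rw [Finset.sum_congr rfl hk, Finset.sum_const, even_nsmul_zero hR2 _ card_rep_even,
        show ρ 0 = 1 by simp only [ρ, hφ0, map_one]] at h
      calc allSum ρ = allSum ρ + (1 + 1) := by rw [hR2, add_zero]
        _ = (allSum ρ + 1) + 1 := by rw [add_assoc]
        _ = 1 := by rw [← h, zero_add]
    have h1 : θ (φ (basisX 0)) = 1 := by
      have h := allSum_mul hm (basisX 0)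
      rwa [hT, one_mul] at h
    have hmem : φ (basisX 0) ∈ θ.ker := h1
    rcases (IsSimpleGroup.eq_bot_or_eq_top_of_normal θ.ker inferInstance) with hk | hk
    · exact absurd (by rwa [hk, Subgroup.mem_bot] at hmem) hne
    · exact MonoidHom.ext fun x => show x ∈ θ.ker from hk ▸ Subgroup.mem_top x
  exfalso
  push Not at hall
  obtain ⟨l0, hl0, hl0'⟩ := hall
  have hunit : ∀ k : model, IsUnit (θ k) := fun k =>
    IsUnit.map θ (Group.isUnit k)
  have hreach : ∀ n, ∀ m ∈ reach l0 n, m ∈ Rep40 ∧ idem ρ m ≠ 0 := by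
    intro n
    induction n with
    | zero => intro m hm'; rw [reach, Finset.mem_singleton] at hm'; exact hm' ▸ ⟨hl0, hl0'⟩
    | succ n ih =>
      intro m hm'
      simp only [reach, Finset.mem_union, Finset.mem_image] at hm'
      rcases hm' with (h | ⟨a, ha, rfl⟩) | ⟨a, ha, rfl⟩
      · exact ih m h
      · exact ⟨(rep_pull a (ih a ha).1).1,
          idem_ne_zero (hunit f) (hconj f cF hf) hbF (ih a ha).2⟩
      · exact ⟨(rep_pull a (ih a ha).1).2,
          idem_ne_zero (hunit c) (hconj c cC hc) hbC (ih a ha).2⟩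
  obtain ⟨S, hSsub, hScard⟩ := Finset.exists_subset_card_eq (reach_big l0 hl0)
  have hfour : ∀ l : S, ∃ w : Fin 4 → V, Function.Injective w ∧ ∀ i, idem ρ l.1 (w i) = w i := by
    rintro ⟨l, hlS⟩
    obtain ⟨hlR, hlne⟩ := hreach 4 l (hSsub hlS)
    obtain ⟨v, hv⟩ : ∃ v, idem ρ l v ≠ 0 := by
      by_contra h; push Not at h; exact hlne (AddMonoidHom.ext h)
    obtain ⟨y, hy⟩ := rep_one l hlR
    set w0 := idem ρ l v with hw0
    have hee : idem ρ l * idem ρ l = idem ρ l := by rw [idem_mul hR2 hm hlR hlR, if_pos rfl]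
    have hfix0 : idem ρ l w0 = w0 := DFunLike.congr_fun hee v
    have hSe : kerSum ρ l * idem ρ l = idem ρ l := by
      rw [idem, mul_add, kerSum_sq hR2 hm hlR, ← (allSum_comm hm l).eq, allSum_mul_kerSum hR2 hm hlR]
    have hTe : allSum ρ * idem ρ l = 0 := by
      rw [idem, mul_add, allSum_mul_kerSum hR2 hm hlR, allSum_mul_allSum hR2 hm, hR2]
    have hsum : w0 + ρ y w0 + ρ (y + y) w0 = 0 := by
      have h : (kerSum ρ l + kerSum ρ l * ρ y + kerSum ρ l * ρ (y + y)) * idem ρ l = 0 := by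
        rw [kerSum_triple hm hy, hTe]
      rw [(kerSum_comm hm l y).eq, (kerSum_comm hm l (y + y)).eq, add_mul, add_mul, mul_assoc,
        mul_assoc, hSe] at h
      exact DFunLike.congr_fun h v
    have hinj : ∀ z, Function.Injective (ρ z) := fun z => by
      obtain ⟨u, hu⟩ := hunit (φ z)
      intro a b hab
      have e : ∀ t, (↑u⁻¹ : AddMonoid.End V) (ρ z t) = t := fun t =>
        DFunLike.congr_fun (show (↑u⁻¹ : AddMonoid.End V) * θ (φ z) = 1 by rw [← hu, Units.inv_mul]) t
      rw [← e a, ← e b, hab]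
    have hne1 : ρ y w0 ≠ w0 := by
      intro e
      have e2 : ρ (y + y) w0 = w0 := by rw [hm]; exact (congrArg (ρ y) e).trans e
      rw [e, e2, h2, zero_add] at hsum
      exact hv hsum
    have hne2 : ρ (y + y) w0 ≠ ρ y w0 := by
      intro e; rw [hm] at e; exact hne1 (hinj y e)
    have hne3 : ρ (y + y) w0 ≠ w0 := by
      intro e
      rw [e] at hsum
      have h0 : ρ y w0 = 0 := by
        rwa [add_comm w0, add_assoc, h2, add_zero] at hsum
      exact hv (hinj y (h0.trans (map_zero _).symm))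
    have hzero : ∀ z, ρ z w0 ≠ 0 := fun z e => hv (hinj z (e.trans (map_zero _).symm))
    have hfix : ∀ z, idem ρ l (ρ z w0) = ρ z w0 := fun z => by
      have h : idem ρ l * ρ z = ρ z * idem ρ l :=
        (((kerSum_comm hm l z).add_left (Commute.sum_left _ _ _ fun x _ => rho_comm hm x z))).eq
      exact (DFunLike.congr_fun h w0).trans (congrArg (ρ z) hfix0)
    refine ⟨![0, w0, ρ y w0, ρ (y + y) w0], ?_, ?_⟩
    · intro i j hij
      fin_cases i <;> fin_cases j <;> simp at hij ⊢ <;>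
        first
          | exact hv hij | exact hv hij.symm | exact hzero _ hij | exact hzero _ hij.symm
          | exact hne1 hij | exact hne1 hij.symm | exact hne2 hij | exact hne2 hij.symm
          | exact hne3 hij | exact hne3 hij.symm
    · intro i
      fin_cases i
      exacts [map_zero _, hfix0, hfix _, hfix _]
  choose w hwinj hwfix using hfour
  have hΦ : Function.Injective (fun (a : S → Fin 4) => ∑ l : S, w l (a l)) := by
    intro a b hab
    funext j
    refine hwinj j ?_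
    have e : ∀ a : S → Fin 4, idem ρ j.1 (∑ l : S, w l (a l)) = w j (a j) := by
      intro a
      rw [map_sum, Finset.sum_eq_single j]
      · exact hwfix j _
      · intro l _ hlj
        conv_lhs => rw [← hwfix l (a l)]
        show (idem ρ j.1 * idem ρ l.1) _ = 0
        rw [idem_mul hR2 hm (hreach 4 _ (hSsub j.2)).1 (hreach 4 _ (hSsub l.2)).1,
          if_neg (fun e => hlj (Subtype.ext e.symm))]
        rfl
      · intro h; exact absurd (Finset.mem_univ j) h
    rw [← e a, ← e b]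
    exact congrArg (fun t => idem ρ j.1 t) hab
  have h := Nat.card_le_card_of_injective _ hΦ
  rw [Nat.card_eq_fintype_card, Fintype.card_fun, Fintype.card_fin, Fintype.card_coe, hScard] at h
  omega

end CfsgLib.Spor.LargeFi.RepU43

namespace CfsgLib.Spor.LargeFi

open CfsgLib.Spor.McLUnitary (model)

/-- `PSU₄(3)` acts trivially on an elementary abelian 2-group of order at most `2¹⁰`. -/
theorem u43_rep_trivial {F9 : Type} [Field F9] [Fintype F9] (hF9 : Fintype.card F9 = 9)
    {V : Type*} [AddCommGroup V] [Finite V] (h2 : ∀ v : V, v + v = 0)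
    (hcard : Nat.card V ≤ 2 ^ 10) (f : Cfsg.PSU 4 F9 3 →* AddMonoid.End V) : f = 1 := by
  haveI : IsSimpleGroup (Cfsg.PSU 4 F9 3) := CfsgLib.Classical.Unitary.isSimpleGroup_PSU
    (by rw [Nat.card_eq_fintype_card, hF9]; norm_num) (by norm_num) (by norm_num)
  obtain ⟨e⟩ := CfsgLib.Spor.McLUnitary.psu_equiv_model hF9
  haveI : Nontrivial model := e.symm.toEquiv.nontrivial
  haveI : IsSimpleGroup model :=
    IsSimpleGroup.isSimpleGroup_of_surjective e.toMonoidHom e.surjective
  have h := RepU43.model_trivial h2 hcard (f.comp e.symm.toMonoidHom)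
  refine MonoidHom.ext fun x => ?_
  have hx := DFunLike.congr_fun h (e x)
  simpa using hx

/-- the same for an elementary abelian 2-group written multiplicatively -/
theorem u43_rep_trivial_mulAut {F9 : Type} [Field F9] [Fintype F9] (hF9 : Fintype.card F9 = 9)
    {W : Type*} [Group W] [Finite W] (h2 : ∀ w : W, w * w = 1)
    (hcard : Nat.card W ≤ 2 ^ 10) (f : Cfsg.PSU 4 F9 3 →* MulAut W) : f = 1 := by
  have hinv : ∀ w : W, w⁻¹ = w := fun w => inv_eq_of_mul_eq_one_right (h2 w)
  letI : CommGroup W := { ‹Group W› with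
    mul_comm := fun a b => by rw [← hinv (a * b), mul_inv_rev, hinv, hinv] }
  let ι : MulAut W →* AddMonoid.End (Additive W) :=
    { toFun := fun a => MonoidHom.toAdditive a.toMonoidHom
      map_one' := rfl
      map_mul' := fun _ _ => rfl }
  have h := u43_rep_trivial (V := Additive W) hF9 (fun v => h2 v.toMul)
    (by rwa [Nat.card_congr Additive.toMul]) (ι.comp f)
  refine MonoidHom.ext fun x => MulEquiv.ext fun w => ?_
  exact DFunLike.congr_fun (DFunLike.congr_fun h x) (Additive.ofMul w)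

end CfsgLib.Spor.LargeFi
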