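import Cfsg.Agent.Lib.Spor.LargeFi.QuadQuot
import Cfsg.Agent.Lib.Spor.LargeFi.DiagKS
import Cfsg.Agent.Lib.Spor.LargeFi.Rep
import Cfsg.Agent.Lib.Classical.UnitarySU
import Cfsg.Agent.Lib.Spor.U62.Final

/-!
The centraliser of large Fischer type: coordinates in which the image of the subgroup of index two
is the first subgroup `3.U₄(3)`.
-/

set_option autoImplicit false
set_option maxRecDepth 100000

namespace CfsgLib.Spor.LargeFi

open CfsgLib.Spor.U62 CfsgLib.ThreeTransp
open Matrix
open scoped Pointwise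

variable {H : Type*} [Group H] [Finite H]

/-- coordinates for a centraliser of large Fischer type -/
structure Model (Q : Subgroup H) [Q.Normal] (z : H) where
  /-- the projection to the space -/
  vec : Q → V6
  /-- the action -/
  act : H →* AddMonoid.End V6
  /-- the subgroup of index two -/
  M : Subgroup H
  /-- a field of order nine -/
  F9 : Type
  [fld : Field F9]
  [fin : Fintype F9]
  card_F9 : Fintype.card F9 = 9
  xc : XCent Q z
  zc : ∀ h : H, h * z = z * h
  vec_mul : ∀ a b : Q, vec (a * b) = vec a + vec b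
  vec_surj : Function.Surjective vec
  vec_eq_zero : ∀ a : Q, vec a = 0 ↔ (a : H) = 1 ∨ (a : H) = z
  vec_sq : ∀ a : Q, (a : H) * a = 1 ↔ nf (vec a) = 0
  vec_comm : ∀ a b : Q, (a : H) * b = b * a ↔ (Cfsg.hermForm 6 K4 2 (vec a) (vec b)).im = 0
  vec_conj : ∀ (h : H) (a : Q), vec (MulAut.conjNormal h a) = act h (vec a)
  ker_act : ∀ h, act h = 1 ↔ h ∈ Q
  act_nf : ∀ h v, nf (act h v) = nf v
  act_semi : ∀ h, (∀ v, act h (om • v) = om • act h v) ∨ (∀ v, act h (om • v) = (om ^ 2) • act h v)
  Q_le : Q ≤ M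
  M_index : M.index = 2
  M_lin : ∀ h ∈ M, ∃ g ∈ KS 0, ∀ v, act h v = mat g *ᵥ v
  KS_lift : ∀ g ∈ KS 0, ∃ h ∈ M, ∀ v, act h v = mat g *ᵥ v
  card_Q : Nat.card Q = 2 ^ 13

theorem psu_simple {F9 : Type} [Field F9] [Fintype F9] (hF9 : Fintype.card F9 = 9) :
    IsSimpleGroup (Cfsg.PSU 4 F9 3) :=
  CfsgLib.Classical.Unitary.isSimpleGroup_PSU
    (by rw [Nat.card_eq_fintype_card, hF9]; norm_num) (by norm_num) (by norm_num)

section simple

variable {F9 : Type} [Field F9] [Fintype F9] (hF9 : Fintype.card F9 = 9) {G : Type*} [Group G]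
  {N : Subgroup G} [N.Normal] (e : G ⧸ N ≃* Cfsg.PSU 4 F9 3)

include hF9 e in
theorem normal_cases (S : Subgroup G) [S.Normal] (h : N ≤ S) : S = N ∨ S = ⊤ := by
  haveI := psu_simple hF9
  haveI : Nontrivial (G ⧸ N) := e.toEquiv.nontrivial
  haveI : IsSimpleGroup (G ⧸ N) := IsSimpleGroup.isSimpleGroup_of_surjective e.symm.toMonoidHom e.symm.surjective
  haveI : (S.map (QuotientGroup.mk' N)).Normal :=
    Subgroup.Normal.map inferInstance _ (QuotientGroup.mk'_surjective N)
  have hc : (S.map (QuotientGroup.mk' N)).comap (QuotientGroup.mk' N) = S :=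
    Subgroup.comap_map_eq_self (by rwa [QuotientGroup.ker_mk'])
  rcases Subgroup.Normal.eq_bot_or_eq_top (inferInstance : (S.map (QuotientGroup.mk' N)).Normal)
    with h1 | h1 <;> rw [h1] at hc
  · left; rw [← hc, MonoidHom.comap_bot, QuotientGroup.ker_mk']
  · right; rw [← hc, Subgroup.comap_top]

include hF9 e in
theorem index_eq : N.index = 3265920 := by
  rw [Subgroup.index, Nat.card_congr e.toEquiv, CfsgLib.Spor.McLUnitary.card_PSU_four_three hF9]

include hF9 e in
theorem hom_small {T : Type*} [Group T] [Finite T] (f : G →* T) (hN : N ≤ f.ker)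
    (hT : Nat.card T < 3265920) : ∀ g, f g = 1 := by
  rcases normal_cases hF9 e f.ker hN with h | h
  · exfalso
    have h1 := Subgroup.index_ker f
    rw [h, index_eq hF9 e] at h1
    have h2 := Subgroup.card_le_card_group f.range
    omega
  · intro g
    exact MonoidHom.mem_ker.1 (h ▸ Subgroup.mem_top g)

end simple

theorem seven_not_dvd_GU {k : ℕ} (hk : k ≤ 5) : ¬ 7 ∣ Nat.card (Cfsg.GU k K4 2) := by
  rw [CfsgLib.Classical.card_GU (q := 2) (by rw [card_K4]; norm_num)]
  interval_cases k <;>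
    norm_num [Finset.prod_range_succ, show Even 2 from ⟨1, rfl⟩, show ¬ Even 3 by decide,
      show Even 4 from ⟨2, rfl⟩, show ¬ Even 5 by decide, show ¬ Even 1 by decide]

theorem mem_SU_of_GU {n : ℕ} {F : Type*} [Field F] {q : ℕ} (A : Cfsg.GU n F q)
    (h : Matrix.det (A.1 : Matrix (Fin n) (Fin n) F) = 1) :
    (⟨(A.1 : Matrix (Fin n) (Fin n) F), h⟩ : Matrix.SpecialLinearGroup (Fin n) F) ∈ Cfsg.SU n F q :=
  fun u v => A.2 u v

/-- a unitary matrix of determinant one -/
def upGU (A : Cfsg.GU 6 K4 2) (h : Matrix.det (A.1 : Matrix (Fin 6) (Fin 6) K4) = 1) : U6 :=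
  ⟨⟨(A.1 : Matrix (Fin 6) (Fin 6) K4), h⟩, mem_SU_of_GU A h⟩

theorem mat_upGU (A : Cfsg.GU 6 K4 2) (h : Matrix.det (A.1 : Matrix (Fin 6) (Fin 6) K4) = 1) :
    mat (upGU A h) = (A.1 : Matrix (Fin 6) (Fin 6) K4) := rfl

theorem GU_ext {k : ℕ} {a b : Cfsg.GU k K4 2}
    (h : ∀ v, (a.1 : Matrix (Fin k) (Fin k) K4) *ᵥ v = (b.1 : Matrix (Fin k) (Fin k) K4) *ᵥ v) :
    a = b :=
  Subtype.ext (Units.ext (Matrix.ext_of_mulVec_single fun i => h _))

set_option maxHeartbeats 1600000 in
theorem exists_model {Q : Subgroup H} [Q.Normal] {z : H} (hX : XCent Q z)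
    (hcent : ∀ h : H, h * z = z * h) (hQ : Nat.card Q = 2 ^ 13)
    (N M : Subgroup H) [N.Normal] [M.Normal] (hQN : Q ≤ N) (hNM : N ≤ M)
    (hN : Nat.card N = 3 * Nat.card Q) (hM : M.index = 2)
    {F9 : Type} [Field F9] [Fintype F9] (hF9 : Fintype.card F9 = 9)
    (eM : M ⧸ N.subgroupOf M ≃* Cfsg.PSU 4 F9 3) : Nonempty (Model Q z) := by
  classical
  obtain ⟨V, _, _, ⟨D⟩⟩ := exists_quadQuot hX hcent
  haveI : Fact (Nat.Prime 3) := ⟨by norm_num⟩
  haveI : Fact (Nat.Prime 7) := ⟨by norm_num⟩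
  obtain ⟨x, hx⟩ := exists_prime_orderOf_dvd_card' (G := N) 3 (by rw [hN]; exact dvd_mul_right _ _)
  have hxQ : (x : H) ∉ Q := by
    intro h
    have h1 : orderOf (⟨x, h⟩ : Q) = 3 := by rw [Subgroup.orderOf_mk, Subgroup.orderOf_coe, hx]
    have h2 : orderOf (⟨x, h⟩ : Q) ∣ Nat.card Q := orderOf_dvd_natCard _
    rw [h1, hQ] at h2
    norm_num at h2
  have hx3 : (x : H) ^ 3 = 1 := by
    rw [← hx, ← SubmonoidClass.coe_pow, pow_orderOf_eq_one]; rfl
  have hNeq : Q ⊔ Subgroup.zpowers (x : H) = N := by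
    refine Subgroup.eq_of_le_of_card_ge (sup_le hQN (Subgroup.zpowers_le.2 x.2)) ?_
    have h1 := Subgroup.card_dvd_of_le (le_sup_left : Q ≤ Q ⊔ Subgroup.zpowers (x : H))
    have h2 := Subgroup.card_dvd_of_le (le_sup_right : Subgroup.zpowers (x : H) ≤ Q ⊔ Subgroup.zpowers (x : H))
    rw [Nat.card_zpowers, Subgroup.orderOf_coe, hx] at h2
    rw [hQ] at h1
    rw [hN, hQ]
    exact Nat.le_of_dvd Nat.card_pos
      ((Nat.Coprime.mul_dvd_of_dvd_of_dvd (by norm_num) h2 h1))
  let w : V →+ V := D.act x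
  have hw3 : ∀ v, w (w (w v)) = v := by
    intro v
    show (D.act x * D.act x * D.act x) v = v
    rw [← map_mul, ← map_mul, ← pow_two, ← pow_succ, hx3, map_one]; rfl
  have hwq : ∀ v, D.q (w v) = D.q v := fun v => D.act_q _ v
  have hNcases : ∀ n ∈ N, D.act n = 1 ∨ D.act n = D.act x ∨ D.act n = D.act x * D.act x := by
    intro n hn
    rw [← hNeq, ← SetLike.mem_coe, Subgroup.normal_mul, Set.mem_mul] at hn
    obtain ⟨a, ha, b, hb, rfl⟩ := hn
    obtain ⟨j, rfl⟩ := Subgroup.mem_zpowers_iff.1 hb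
    rw [map_mul, (D.ker_act a).2 ha, one_mul]
    rw [zpow_eq_zpow_emod' j hx3]
    have h0 : 0 ≤ j % ((3 : ℕ) : ℤ) := Int.emod_nonneg _ (by norm_num)
    have h1 : j % ((3 : ℕ) : ℤ) < 3 := Int.emod_lt_of_pos _ (by norm_num)
    interval_cases (j % ((3 : ℕ) : ℤ))
    · exact Or.inl (by rw [zpow_zero, map_one])
    · exact Or.inr (Or.inl (by rw [zpow_one]))
    · exact Or.inr (Or.inr (by rw [← map_mul, show (2 : ℤ) = ((2 : ℕ) : ℤ) from rfl, zpow_natCast, pow_two]))
  have hact_inv : ∀ (h : H) v, D.act h (D.act h⁻¹ v) = v := fun h v => by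
    show (D.act h * D.act h⁻¹) v = v
    rw [← map_mul, mul_inv_cancel, map_one]; rfl
  have hsemiV : ∀ h : H, (∀ v, D.act h (w v) = w (D.act h v)) ∨
      (∀ v, D.act h (w v) = w (w (D.act h v))) := by
    intro h
    have hn : h * (x : H) * h⁻¹ ∈ N := (inferInstance : N.Normal).conj_mem _ x.2 h
    have e : ∀ v, D.act h (w v) = D.act (h * (x : H) * h⁻¹) (D.act h v) := by
      intro v
      show (D.act h * D.act x) v = (D.act (h * (x : H) * h⁻¹) * D.act h) v
      rw [← map_mul, ← map_mul, inv_mul_cancel_right]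
    rcases hNcases _ hn with h1 | h1 | h1
    · exfalso
      apply hxQ
      have := (D.ker_act _).1 h1
      have h' := (inferInstance : Q.Normal).conj_mem _ this h⁻¹
      simpa [mul_assoc] using h'
    · left; intro v; rw [e, h1]; rfl
    · right; intro v; rw [e, h1]; rfl
  -- elements of M commute with w
  have hMw : ∀ m ∈ M, ∀ v, D.act m (w v) = w (D.act m v) := by
    by_cases hall : ∀ m ∈ M, ∀ v, D.act m (w v) = w (D.act m v)
    · exact hall
    exfalso
    let S : Subgroup M :=
      { carrier := {m | ∀ v, D.act (m : H) (w v) = w (D.act (m : H) v)}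
        one_mem' := fun v => by
          show D.act 1 (w v) = w (D.act 1 v)
          rw [map_one]; rfl
        mul_mem' := fun {a b} ha hb v => by
          show D.act ((a : H) * b) (w v) = w (D.act ((a : H) * b) v)
          rw [map_mul]
          show D.act a (D.act b (w v)) = _
          rw [hb v, ha (D.act b v)]; rfl
        inv_mem' := fun {a} ha v => by
          show D.act (a : H)⁻¹ (w v) = w (D.act (a : H)⁻¹ v)
          have e1 := ha (D.act (a : H)⁻¹ v)
          rw [hact_inv] at e1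
          rw [← e1]
          show (D.act (a : H)⁻¹ * D.act (a : H)) _ = _
          rw [← map_mul, inv_mul_cancel, map_one]; rfl }
    have hidx : ∀ a b : M, a ∉ S → b ∉ S → a * b ∈ S := by
      intro a b ha hb v
      have ha' := (hsemiV a).resolve_left ha
      have hb' := (hsemiV b).resolve_left hb
      show D.act ((a : H) * b) (w v) = w (D.act ((a : H) * b) v)
      rw [map_mul]
      show D.act a (D.act b (w v)) = w (D.act a (D.act b v))
      rw [hb', ha', ha', hw3]
    haveI : S.Normal := ⟨fun n hn g => by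
      by_cases hg : g ∈ S
      · exact S.mul_mem (S.mul_mem hg hn) (S.inv_mem hg)
      · exact hidx _ _ (fun h => hg ((Subgroup.mul_mem_cancel_right S hn).1 h))
          (fun h => hg (inv_inv g ▸ S.inv_mem h))⟩
    have hNS : N.subgroupOf M ≤ S := by
      intro m hm v
      rcases hNcases (m : H) hm with h1 | h1 | h1 <;> rw [h1] <;> rfl
    rcases normal_cases hF9 eM S hNS with h | h
    · push Not at hall
      obtain ⟨m, hm, v, hv⟩ := hall
      have hmS : (⟨m, hm⟩ : M) ∉ S := fun h' => hv (h' v)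
      have hle : S.index ≤ 2 := by
        rw [← Subgroup.index_eq_two_iff.2 (⟨⟨m, hm⟩, fun b => ?_⟩ : ∃ a : M, ∀ b, Xor (b * a ∈ S) (b ∈ S))]
        by_cases hb : b ∈ S
        · exact Or.inr ⟨hb, fun h' => hmS ((Subgroup.mul_mem_cancel_left S hb).1 h')⟩
        · exact Or.inl ⟨hidx _ _ hb hmS, hb⟩
      rw [h, index_eq hF9 eM] at hle
      omega
    · refine hall fun m hm => ?_
      exact (h ▸ Subgroup.mem_top _ : (⟨m, hm⟩ : M) ∈ S)
  -- the fixed space and its complement
  let P0 : AddSubgroup V := (w + AddMonoidHom.id V).ker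
  let P1 : AddSubgroup V := (w.comp w + w + AddMonoidHom.id V).ker
  have hP0 : ∀ v, v ∈ P0 ↔ w v = v := by
    intro v
    show w v + v = 0 ↔ _
    rw [add_eq_zero_iff_eq_neg, neg_eq_of_add_eq_zero_left (D.two v)]
  have hP1 : ∀ v, v ∈ P1 ↔ w (w v) + w v + v = 0 := fun v => Iff.rfl
  have hdec0 : ∀ v, v + (w v + w (w v)) ∈ P0 := by
    intro v
    rw [hP0, map_add, map_add, hw3]; abel
  have hdec1 : ∀ v, w v + w (w v) ∈ P1 := by
    intro v
    have e : w (w (w v + w (w v))) + w (w v + w (w v)) + (w v + w (w v)) =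
        (v + v) + ((w v + w v) + (w (w v) + w (w v))) := by
      simp only [map_add, hw3]; abel
    rw [hP1, e, D.two, D.two, D.two, add_zero, add_zero]
  have hinter : ∀ v, v ∈ P0 → v ∈ P1 → v = 0 := by
    intro v h0 h1
    rw [hP0] at h0
    rw [hP1, h0, h0, D.two, zero_add] at h1
    exact h1
  have hsplit : ∀ v, v = (v + (w v + w (w v))) + (w v + w (w v)) := by
    intro v
    rw [add_assoc, D.two, add_zero]
  have hcardV : Nat.card V = 2 ^ 12 := by
    have := D.card_V
    rw [hQ] at this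
    omega
  have hB0' : ∀ y, D.B y 0 = 0 := by
    intro y
    have h := D.polar y 0
    have h' := D.polar 0 0
    have hz0 : D.B 0 0 = 0 := by simpa using D.bil 0 0 0
    rw [hz0, add_zero, add_zero] at h'
    have hq0 : D.q 0 = 0 := by simpa using h'
    rw [hq0, add_zero, add_zero] at h
    simpa using h
  have hsym : ∀ a b, D.B a b = D.B b a := fun a b => by
    have h1 := D.polar a b
    rw [add_comm a b, D.polar b a, add_comm (D.q b) (D.q a)] at h1
    exact (add_left_cancel h1).symm
  have hbr : ∀ a b c, D.B a (b + c) = D.B a b + D.B a c := fun a b c => by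
    rw [hsym, D.bil, hsym b, hsym c]
  have horth : ∀ a ∈ P0, ∀ b ∈ P1, D.B a b = 0 := by
    intro a ha b hb
    rw [hP0] at ha
    rw [hP1] at hb
    have hwB : ∀ c, D.B a (w c) = D.B a c := by
      intro c
      have h1 := D.polar a (w c)
      conv_lhs at h1 => rw [← ha, ← map_add, hwq]
      rw [hwq, D.polar a c] at h1
      exact (add_left_cancel h1).symm
    have h := congrArg (D.B a) hb
    rw [hbr, hbr, hwB, hwB, hB0', CharTwo.add_self_eq_zero, zero_add] at h
    exact h
  have hMstab : ∀ m ∈ M, (∀ v ∈ P0, D.act m v ∈ P0) ∧ ∀ v ∈ P1, D.act m v ∈ P1 := by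
    intro m hm
    refine ⟨fun v hv => ?_, fun v hv => ?_⟩
    · rw [hP0] at hv ⊢
      rw [← hMw m hm, hv]
    · rw [hP1] at hv ⊢
      rw [← hMw m hm, ← hMw m hm, ← map_add, ← map_add, hv, map_zero]
  let w1 : P1 →+ P1 := AddMonoidHom.mk' (fun v => ⟨w v, by
      have h := v.2
      rw [hP1] at h ⊢
      rw [← map_add, ← map_add, h, map_zero]⟩)
    fun a b => Subtype.ext (map_add w (a : V) b)
  have hnd1 : ∀ u : P1, (∀ v : P1, D.B u v = 0) → u = 0 := by
    intro u hu
    refine Subtype.ext (D.nondeg u fun v => ?_)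
    rw [hsplit v, hbr, hsym, horth _ (hdec0 v) _ u.2, zero_add]
    exact hu ⟨_, hdec1 v⟩
  obtain ⟨k, e, hew, heq⟩ := exists_frame (fun v : P1 => Subtype.ext (D.two v)) (fun v : P1 => D.q v)
    (fun u v : P1 => D.B u v) (fun a b => D.polar a b) (fun a b c => D.bil a b c) hnd1 w1
    (fun v => Subtype.ext v.2) (fun v => hwq v)
  have hcards : Nat.card P0 * 4 ^ k = 2 ^ 12 := by
    let T : V ≃ P0 × P1 :=
      { toFun := fun v => (⟨_, hdec0 v⟩, ⟨_, hdec1 v⟩)
        invFun := fun p => (p.1 : V) + p.2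
        left_inv := fun v => (hsplit v).symm
        right_inv := fun p => by
          obtain ⟨⟨a, ha⟩, ⟨b, hb⟩⟩ := p
          rw [hP0] at ha
          rw [hP1] at hb
          have hb' : w b + w (w b) = b := by
            rw [add_comm]; rw [add_eq_zero_iff_eq_neg, neg_eq_of_add_eq_zero_left (D.two b)] at hb
            exact hb
          have e1 : w (a + b) + w (w (a + b)) = b := by
            rw [map_add, map_add, ha, ha, show a + w b + (a + w (w b)) = (a + a) + (w b + w (w b)) by abel,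
              D.two, zero_add, hb']
          refine Prod.ext (Subtype.ext ?_) (Subtype.ext e1)
          show a + b + (w (a + b) + w (w (a + b))) = a
          rw [e1, add_assoc, D.two, add_zero] }
    rw [← hcardV, Nat.card_congr T, Nat.card_prod, Nat.card_congr e.toEquiv, Nat.card_fun,
      card_K4, Nat.card_fin]
  have hk6 : k ≤ 6 := by
    by_contra h
    have h' : 4 ^ 7 ≤ 4 ^ k := Nat.pow_le_pow_right (by norm_num) (by omega)
    have hp : 0 < Nat.card P0 := Nat.card_pos
    nlinarith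
  -- action of M on the complement
  have hg : ∀ m : M, ∃ A : Cfsg.GU k K4 2, ∀ v : P1, (A.1 : Matrix (Fin k) (Fin k) K4) *ᵥ e v =
      e ⟨D.act (m : H) v, (hMstab m m.2).2 v v.2⟩ := by
    intro m
    let g : (Fin k → K4) →+ (Fin k → K4) := AddMonoidHom.mk'
      (fun y => e ⟨D.act (m : H) (e.symm y : V), (hMstab m m.2).2 _ (e.symm y).2⟩) fun a b => by
        rw [← map_add]
        congr 1
        refine Subtype.ext ?_
        show D.act (m : H) (e.symm (a + b) : V) = _
        rw [map_add, AddSubgroup.coe_add, map_add]; rfl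
    have hω : ∀ y, g (om • y) = om • g y := by
      intro y
      show e _ = om • e _
      rw [← hew]
      congr 1
      refine Subtype.ext ?_
      show D.act (m : H) (e.symm (om • y) : V) = w (D.act (m : H) (e.symm y : V))
      rw [← hMw m m.2]
      congr 1
      have : e.symm (om • y) = w1 (e.symm y) := e.injective (by rw [hew]; simp)
      rw [this]; rfl
    have hq : ∀ y, nf (g y) = nf y := by
      intro y
      show nf (e _) = nf y
      rw [← heq]
      conv_rhs => rw [← e.apply_symm_apply y, ← heq]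
      rw [D.act_q]
    obtain ⟨A, hA⟩ := exists_GU g hω hq
    refine ⟨A, fun v => (hA _).trans ?_⟩
    show e ⟨D.act (m : H) (e.symm (e v) : V), _⟩ = _
    simp only [AddEquiv.symm_apply_apply]
  choose A hA using hg
  let ψ : M →* Cfsg.GU k K4 2 :=
    { toFun := A
      map_one' := GU_ext fun y => by
        obtain ⟨v, rfl⟩ := e.surjective y
        rw [hA]
        show _ = (1 : Matrix (Fin k) (Fin k) K4) *ᵥ e v
        rw [Matrix.one_mulVec]
        congr 1
        refine Subtype.ext ?_
        show D.act 1 (v : V) = v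
        rw [map_one]; rfl
      map_mul' := fun a b => GU_ext fun y => by
        obtain ⟨v, rfl⟩ := e.surjective y
        rw [hA]
        show _ = ((A a).1.1 * (A b).1.1) *ᵥ e v
        rw [← Matrix.mulVec_mulVec, hA, hA]
        congr 1
        refine Subtype.ext ?_
        show D.act ((a : H) * b) (v : V) = D.act (a : H) (D.act (b : H) v)
        rw [map_mul]; rfl }
  have hk : k = 6 := by
    by_contra hne
    have hk1 : 1 ≤ k := by
      by_contra h0
      have hk0 : k = 0 := by omega
      subst hk0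
      refine hxQ ((D.ker_act _).1 (AddMonoidHom.ext fun v => ?_))
      have h1 : (⟨_, hdec1 v⟩ : P1) = 0 := e.injective (Subsingleton.elim _ _)
      have h2 : w v + w (w v) = 0 := congrArg Subtype.val h1
      have h3 : v + (w v + w (w v)) ∈ P0 := hdec0 v
      rw [h2, add_zero, hP0] at h3
      exact h3
    have hP0le : Nat.card P0 ≤ 2 ^ 10 := by
      have h4 : 4 ^ 1 ≤ 4 ^ k := Nat.pow_le_pow_right (by norm_num) hk1
      nlinarith [Nat.card_pos (α := P0)]
    -- M is trivial on the fixed space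
    let f0 : M →* AddMonoid.End P0 :=
      { toFun := fun m => AddMonoidHom.mk' (fun v => ⟨D.act (m : H) v, (hMstab m m.2).1 v v.2⟩)
          fun a b => Subtype.ext (map_add (D.act (m : H)) (a : V) b)
        map_one' := AddMonoidHom.ext fun v => Subtype.ext (by
          show D.act 1 (v : V) = v
          rw [map_one]; rfl)
        map_mul' := fun a b => AddMonoidHom.ext fun v => Subtype.ext (by
          show D.act ((a : H) * b) (v : V) = D.act (a : H) (D.act (b : H) v)
          rw [map_mul]; rfl) }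
    have hf0 : N.subgroupOf M ≤ f0.ker := by
      intro m hm
      rw [MonoidHom.mem_ker]
      refine AddMonoidHom.ext fun v => Subtype.ext ?_
      show D.act (m : H) v = v
      have hv := (hP0 v).1 v.2
      rcases hNcases (m : H) hm with h1 | h1 | h1 <;> rw [h1]
      · rfl
      · exact hv
      · show w (w (v : V)) = v
        rw [hv, hv]
    have hf := u43_rep_trivial hF9 (fun v : P0 => Subtype.ext (D.two v)) hP0le
      ((QuotientGroup.lift _ f0 hf0).comp eM.symm.toMonoidHom)
    have h7 : 7 ∣ Nat.card M := by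
      have h := Subgroup.card_eq_card_quotient_mul_card_subgroup (N.subgroupOf M)
      rw [Nat.card_congr eM.toEquiv, CfsgLib.Spor.McLUnitary.card_PSU_four_three hF9] at h
      rw [h]
      exact (show 7 ∣ 3265920 by norm_num).trans (dvd_mul_right _ _)
    obtain ⟨m, hm⟩ := exists_prime_orderOf_dvd_card' (G := M) 7 h7
    have hm1 : ψ m = 1 := by
      rw [← orderOf_eq_one_iff]
      refine ((Nat.Prime.eq_one_or_self_of_dvd (by norm_num : Nat.Prime 7) _
        (hm ▸ orderOf_map_dvd ψ m))).resolve_right fun h => ?_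
      exact seven_not_dvd_GU (k := k) (by omega) (h ▸ orderOf_dvd_natCard _)
    have hmQ : (m : H) ∈ Q := by
      refine (D.ker_act _).1 (AddMonoidHom.ext fun v => ?_)
      show D.act (m : H) v = v
      rw [hsplit v, map_add]
      congr 1
      · have h1 := DFunLike.congr_fun hf (eM (QuotientGroup.mk m))
        simp only [MonoidHom.coe_comp, Function.comp_apply, MulEquiv.coe_toMonoidHom,
          MulEquiv.symm_apply_apply, MonoidHom.one_apply] at h1
        exact congrArg Subtype.val (DFunLike.congr_fun h1 ⟨_, hdec0 v⟩)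
      · have h1 : (ψ m).1.1 *ᵥ e ⟨_, hdec1 v⟩ = e ⟨_, hdec1 v⟩ := by
          rw [hm1]; exact Matrix.one_mulVec _
        rw [show (ψ m) = A m from rfl, hA] at h1
        exact congrArg Subtype.val (e.injective h1)
    have h2 : orderOf (⟨_, hmQ⟩ : Q) ∣ Nat.card Q := orderOf_dvd_natCard _
    rw [Subgroup.orderOf_mk, Subgroup.orderOf_coe, hm, hQ] at h2
    norm_num at h2
  subst hk
  have hP0bot : Nat.card P0 = 1 := by simpa using hcards
  have hall1 : ∀ v, v ∈ P1 := by
    intro v
    have : Subsingleton P0 := (Nat.card_eq_one_iff_unique.1 hP0bot).1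
    have h := congrArg Subtype.val (Subsingleton.elim (⟨_, hdec0 v⟩ : P0) 0)
    rw [hsplit v, show v + (w v + w (w v)) = 0 from h, zero_add]
    exact hdec1 v
  let eV : V ≃+ V6 :=
    { toFun := fun v => e ⟨v, hall1 v⟩
      invFun := fun y => (e.symm y : V)
      left_inv := fun v => by simp
      right_inv := fun y => e.apply_symm_apply y
      map_add' := fun a b => by rw [← map_add]; rfl }
  have heVw : ∀ v, eV (w v) = om • eV v := fun v => hew ⟨v, hall1 v⟩
  have heVq : ∀ v, toK (D.q v) = nf (eV v) := fun v => heq ⟨v, hall1 v⟩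
  -- determinant one
  have hψN : N.subgroupOf M ≤ ((CfsgLib.Classical.guDet 6 K4 2).comp ψ).ker := by
    intro m hm
    rw [MonoidHom.mem_ker, MonoidHom.comp_apply]
    have hcase : ∀ v, (ψ m).1.1 *ᵥ eV v = eV (D.act (m : H) v) := fun v => hA m ⟨v, hall1 v⟩
    have hmat : ∃ c : K4, c ^ 6 = 1 ∧ (ψ m).1.1 = Matrix.diagonal fun _ => c := by
      rcases hNcases (m : H) hm with h1 | h1 | h1
      · refine ⟨1, one_pow 6, Matrix.ext_of_mulVec_single fun i => ?_⟩
        obtain ⟨v, hv⟩ := eV.surjective (Pi.single i 1)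
        rw [← hv, hcase, h1, Matrix.diagonal_one, Matrix.one_mulVec]; rfl
      · refine ⟨om, by decide +kernel, Matrix.ext_of_mulVec_single fun i => ?_⟩
        obtain ⟨v, hv⟩ := eV.surjective (Pi.single i 1)
        rw [← hv, hcase, h1, show (D.act (x : H)) v = w v from rfl, heVw]
        funext j; simp [Matrix.mulVec_diagonal]
      · refine ⟨om * om, by decide +kernel, Matrix.ext_of_mulVec_single fun i => ?_⟩
        obtain ⟨v, hv⟩ := eV.surjective (Pi.single i 1)
        rw [← hv, hcase, h1, show (D.act (x : H) * D.act (x : H)) v = w (w v) from rfl, heVw, heVw]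
        funext j; simp [Matrix.mulVec_diagonal, mul_assoc]
    obtain ⟨c, hc, hmat⟩ := hmat
    refine Units.ext ?_
    show ((ψ m).1.1).det = 1
    rw [hmat, Matrix.det_diagonal, Finset.prod_const, Finset.card_fin, hc]
  have hdet := hom_small hF9 eM _ hψN (by
    rw [Nat.card_units, card_K4]; norm_num)
  have hdet' : ∀ m, Matrix.det ((ψ m).1 : Matrix (Fin 6) (Fin 6) K4) = 1 := fun m => by
    have h := hdet m
    rw [MonoidHom.comp_apply, CfsgLib.Classical.guDet, MonoidHom.comp_apply, Units.ext_iff,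
      Matrix.GeneralLinearGroup.val_det_apply] at h
    exact h
  let up : M → U6 := fun m => upGU (ψ m) (hdet' m)
  have hup : ∀ m, mat (up m) = ((ψ m).1 : Matrix (Fin 6) (Fin 6) K4) := fun m => mat_upGU _ _
  let ψ' : M →* U6 :=
    { toFun := up
      map_one' := mat_injective (by rw [hup, map_one, map_one]; rfl)
      map_mul' := fun a b => mat_injective (by rw [hup, map_mul ψ, map_mul mat, hup, hup]; rfl) }
  have hψ' : ∀ (m : M) v, mat (ψ' m) *ᵥ eV v = eV (D.act (m : H) v) := fun m v => hA m ⟨v, hall1 v⟩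
  have hψinj : ∀ m : M, ψ' m = 1 → (m : H) ∈ Q := by
    intro m hm
    refine (D.ker_act _).1 (AddMonoidHom.ext fun v => eV.injective ?_)
    show eV (D.act (m : H) v) = eV v
    exact (hψ' m v).symm.trans (by rw [hm, map_one, Matrix.one_mulVec])
  -- the cover
  let π := ψ'.rangeRestrict
  let Kz : Subgroup ψ'.range := (N.subgroupOf M).map π
  haveI : Kz.Normal := Subgroup.Normal.map inferInstance _ ψ'.rangeRestrict_surjective
  have hker : π.ker ≤ N.subgroupOf M := by
    intro m hm
    rw [MonoidHom.ker_rangeRestrict, MonoidHom.mem_ker] at hm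
    exact hQN (hψinj m hm)
  have hcom : Kz.comap π = N.subgroupOf M := Subgroup.comap_map_eq_self hker
  let f : M →* ψ'.range ⧸ Kz := (QuotientGroup.mk' Kz).comp π
  have hfk : f.ker = N.subgroupOf M := by
    rw [← MonoidHom.comap_ker, QuotientGroup.ker_mk', hcom]
  have hfs : Function.Surjective f :=
    (QuotientGroup.mk'_surjective Kz).comp ψ'.rangeRestrict_surjective
  let eK : ψ'.range ⧸ Kz ≃* Cfsg.PSU 4 F9 3 :=
    (QuotientGroup.quotientKerEquivOfSurjective f hfs).symm.trans
      ((QuotientGroup.quotientMulEquivOfEq hfk).trans eM)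
  let xM : M := ⟨x, hNM x.2⟩
  have hπx : ∀ m : M, π m * π xM = π xM * π m := by
    intro m
    refine Subtype.ext (mat_injective (Matrix.ext_of_mulVec_single fun i => ?_))
    obtain ⟨v, hv⟩ := eV.surjective (Pi.single i 1)
    show mat (ψ' m * ψ' xM) *ᵥ _ = mat (ψ' xM * ψ' m) *ᵥ _
    rw [← hv, ← map_mul, ← map_mul, hψ', hψ']
    congr 1
    show D.act ((m : H) * x) v = D.act ((x : H) * m) v
    rw [map_mul, map_mul]
    exact hMw m m.2 v
  have hNM' : N.subgroupOf M = (Q ⊔ Subgroup.zpowers (x : H)).subgroupOf M := by rw [hNeq]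
  have hKz : Kz = Subgroup.zpowers (π xM) := by
    refine le_antisymm ?_ (Subgroup.zpowers_le.2 ⟨xM, x.2, rfl⟩)
    rintro _ ⟨m, hm, rfl⟩
    have hm' : (m : H) ∈ (Q : Set H) * (Subgroup.zpowers (x : H) : Set H) := by
      rw [← Subgroup.normal_mul, SetLike.mem_coe, hNeq]; exact hm
    obtain ⟨a, ha, b, hb, hab⟩ := hm'
    obtain ⟨j, rfl⟩ := Subgroup.mem_zpowers_iff.1 hb
    have e1 : m = ⟨a, hNM (hQN ha)⟩ * xM ^ j := Subtype.ext (by
      rw [Subgroup.coe_mul, SubgroupClass.coe_zpow]; exact hab.symm)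
    have e2 : π ⟨a, hNM (hQN ha)⟩ = 1 := by
      refine Subtype.ext (mat_injective (Matrix.ext_of_mulVec_single fun i => ?_))
      obtain ⟨v, hv⟩ := eV.surjective (Pi.single i 1)
      show mat (ψ' ⟨a, _⟩) *ᵥ _ = mat 1 *ᵥ _
      rw [← hv, hψ', map_one, Matrix.one_mulVec, (D.ker_act a).2 ha]; rfl
    rw [e1, map_mul, e2, one_mul, map_zpow]
    exact Subgroup.zpow_mem _ (Subgroup.mem_zpowers _) _
  have hxord : orderOf (π xM) = 3 := by
    have h3 : π xM ^ 3 = 1 := by
      rw [← map_pow, show xM ^ 3 = 1 from Subtype.ext hx3, map_one]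
    exact orderOf_eq_prime h3 fun h => hxQ (hψinj xM (congrArg Subtype.val h))
  have hZ : Subgroup.center ψ'.range = Kz := by
    refine le_antisymm (fun y hy => ?_) ?_
    · haveI : (Subgroup.center ψ'.range ⊔ Kz).Normal := inferInstance
      rcases normal_cases hF9 eK (Subgroup.center ψ'.range ⊔ Kz) le_sup_right with h | h
      · exact h ▸ Subgroup.mem_sup_left hy
      · exfalso
        haveI := psu_simple hF9
        have hcomm : ∀ a b : Cfsg.PSU 4 F9 3, a * b = b * a := by
          intro a b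
          obtain ⟨a, rfl⟩ := eK.surjective a
          obtain ⟨b, rfl⟩ := eK.surjective b
          rw [← map_mul, ← map_mul]
          congr 1
          obtain ⟨a, rfl⟩ := QuotientGroup.mk_surjective a
          obtain ⟨b, rfl⟩ := QuotientGroup.mk_surjective b
          have ha : a ∈ Subgroup.center ψ'.range ⊔ Kz := h ▸ Subgroup.mem_top a
          rw [← SetLike.mem_coe, Subgroup.normal_mul, Set.mem_mul] at ha
          obtain ⟨c, hc, d, hd, rfl⟩ := ha
          have e : ((c * d : ψ'.range) : ψ'.range ⧸ Kz) = c := by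
            rw [QuotientGroup.mk_mul, (QuotientGroup.eq_one_iff d).2 hd, mul_one]
          rw [e, ← QuotientGroup.mk_mul, ← QuotientGroup.mk_mul, Subgroup.mem_center_iff.1 hc b]
        letI : CommGroup (Cfsg.PSU 4 F9 3) := { (inferInstance : Group (Cfsg.PSU 4 F9 3)) with mul_comm := hcomm }
        have hp := IsSimpleGroup.prime_card (α := Cfsg.PSU 4 F9 3)
        rw [CfsgLib.Spor.McLUnitary.card_PSU_four_three hF9] at hp
        norm_num at hp
    · rw [hKz, Subgroup.zpowers_le, Subgroup.mem_center_iff]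
      intro y
      obtain ⟨m, rfl⟩ := ψ'.rangeRestrict_surjective y
      exact hπx m
  have hcover : Cover F9 ψ'.range := ⟨by rw [hZ, hKz, Nat.card_zpowers, hxord],
    ⟨(QuotientGroup.quotientMulEquivOfEq hZ).trans eK⟩⟩
  obtain ⟨g, i, hgi⟩ := classify hF9 hcover
  have hKS : ∀ a : U6, a ∈ KS 0 ↔ ∃ m, dconj i (g * ψ' m * g⁻¹) = a := by
    intro a
    rw [← dconj_KS hF9 i, ← hgi, Subgroup.map_map]
    constructor
    · rintro ⟨_, ⟨m, rfl⟩, rfl⟩; exact ⟨m, rfl⟩
    · rintro ⟨m, rfl⟩; exact ⟨_, ⟨m, rfl⟩, rfl⟩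
  let T : V → V6 := fun v => DM i *ᵥ (mat g *ᵥ eV v)
  let S : V6 → V := fun y => eV.symm (mat g⁻¹ *ᵥ (DI i *ᵥ y))
  have c1 : ∀ (a : U6) u, mat a *ᵥ (mat a⁻¹ *ᵥ u) = u := fun a u => by
    rw [Matrix.mulVec_mulVec, ← map_mul, mul_inv_cancel, map_one, Matrix.one_mulVec]
  have c2 : ∀ u, DM i *ᵥ (DI i *ᵥ u) = u ∧ DI i *ᵥ (DM i *ᵥ u) = u := fun u => by
    rw [Matrix.mulVec_mulVec, Matrix.mulVec_mulVec, (DM_inv i).1, (DM_inv i).2, Matrix.one_mulVec]
    exact ⟨rfl, rfl⟩
  have hTS : ∀ y, T (S y) = y := fun y => by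
    show DM i *ᵥ (mat g *ᵥ eV (eV.symm (mat g⁻¹ *ᵥ (DI i *ᵥ y)))) = y
    rw [AddEquiv.apply_symm_apply, c1, (c2 y).1]
  have hST : ∀ v, S (T v) = v := fun v => by
    show eV.symm (mat g⁻¹ *ᵥ (DI i *ᵥ (DM i *ᵥ (mat g *ᵥ eV v)))) = v
    have h1 := c1 g⁻¹ (eV v)
    rw [inv_inv] at h1
    rw [(c2 _).2, h1, AddEquiv.symm_apply_apply]
  have hTadd : ∀ a b, T (a + b) = T a + T b := fun a b => by
    show DM i *ᵥ (mat g *ᵥ eV (a + b)) = _
    rw [map_add, Matrix.mulVec_add, Matrix.mulVec_add]
  have hT0 : T 0 = 0 := by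
    show DM i *ᵥ (mat g *ᵥ eV 0) = 0
    rw [map_zero, Matrix.mulVec_zero, Matrix.mulVec_zero]
  have hTw : ∀ v, T (w v) = om • T v := fun v => by
    show DM i *ᵥ (mat g *ᵥ eV (w v)) = _
    rw [heVw, Matrix.mulVec_smul, Matrix.mulVec_smul]
  have hTq : ∀ v, nf (T v) = toK (D.q v) := fun v => by
    show nf (DM i *ᵥ (mat g *ᵥ eV v)) = _
    rw [DM, nf_of_unit (dC_unit i).1, nf_mat, ← heVq]
  have hSadd : ∀ a b, S (a + b) = S a + S b := fun a b => by
    show eV.symm _ = eV.symm _ + eV.symm _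
    rw [Matrix.mulVec_add, Matrix.mulVec_add, map_add]
  let TS : AddMonoid.End V → AddMonoid.End V6 := fun f =>
    AddMonoidHom.mk' (fun y => T (f (S y))) fun a b => by rw [hSadd, map_add, hTadd]
  let act : H →* AddMonoid.End V6 :=
    { toFun := fun h => TS (D.act h)
      map_one' := AddMonoidHom.ext fun y => by
        show T (D.act 1 (S y)) = y
        rw [map_one]; exact hTS y
      map_mul' := fun a b => AddMonoidHom.ext fun y => by
        show T (D.act (a * b) (S y)) = T (D.act a (S (T (D.act b (S y)))))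
        rw [hST, map_mul]; rfl }
  have hlin : ∀ m : M, ∀ y, act (m : H) y = mat (dconj i (g * ψ' m * g⁻¹)) *ᵥ y := by
    intro m y
    show T (D.act (m : H) (S y)) = _
    show DM i *ᵥ (mat g *ᵥ eV (D.act (m : H) (S y))) = _
    rw [← hψ', mat_dconj, map_mul, map_mul]
    show _ = (DM i * (mat g * mat (ψ' m) * mat g⁻¹) * DI i) *ᵥ y
    simp only [← Matrix.mulVec_mulVec]
    show _ = DM i *ᵥ (mat g *ᵥ (mat (ψ' m) *ᵥ (mat g⁻¹ *ᵥ (DI i *ᵥ y))))
    rw [show eV (S y) = mat g⁻¹ *ᵥ (DI i *ᵥ y) from eV.apply_symm_apply _]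
  refine ⟨{
    vec := fun a => T (D.proj a), act := act, M := M, F9 := F9, card_F9 := hF9, xc := hX,
    zc := hcent, card_Q := hQ, Q_le := hQN.trans hNM, M_index := hM,
    vec_mul := fun a b => by rw [D.proj_mul, hTadd],
    vec_surj := fun y => by
      obtain ⟨a, ha⟩ := D.proj_surj (S y)
      exact ⟨a, by show T (D.proj a) = y; rw [ha, hTS]⟩,
    vec_eq_zero := fun a => by
      rw [← D.proj_eq_zero]
      exact ⟨fun h => by rw [← hST (D.proj a), h, ← hT0, hST], fun h => by rw [h, hT0]⟩,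
    vec_sq := fun a => by
      rw [D.proj_sq, hTq]
      exact ⟨fun h => by rw [h]; rfl, fun h => congrArg QuadraticAlgebra.re h⟩,
    vec_comm := fun a b => by
      rw [← D.proj_B]
      have e := hermForm_polar (T (D.proj a)) (T (D.proj b))
      rw [← hTadd, hTq, hTq, hTq, D.polar, ← toK_add, ← toK_add] at e
      have e' := congrArg QuadraticAlgebra.re e
      have hh : ∀ p q r : ZMod 2, p + q + r + p + q = r := by decide
      rw [show D.B (D.proj a) (D.proj b) = _ from (hh _ _ _).symm.trans e']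
      rfl,
    vec_conj := fun h a => by
      show T (D.proj (MulAut.conjNormal h a)) = T (D.act h (S (T (D.proj a))))
      rw [D.proj_conj, hST],
    ker_act := fun h => by
      rw [← D.ker_act]
      refine ⟨fun e => AddMonoidHom.ext fun v => ?_, fun e => AddMonoidHom.ext fun y => ?_⟩
      · have e1 : T (D.act h (S (T v))) = T v := DFunLike.congr_fun e (T v)
        rw [hST] at e1
        show D.act h v = v
        rw [← hST (D.act h v), e1, hST]
      · show T (D.act h (S y)) = y
        rw [e]; exact hTS y,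
    act_nf := fun h y => by
      show nf (T (D.act h (S y))) = nf y
      conv_rhs => rw [← hTS y]
      rw [hTq, hTq, D.act_q],
    act_semi := fun h => by
      have hSw : ∀ y, S (om • y) = w (S y) := fun y => by
        rw [← hST (w (S y)), hTw, hTS]
      rcases hsemiV h with h1 | h1
      · left; intro y
        show T (D.act h (S (om • y))) = om • T (D.act h (S y))
        rw [hSw, h1, hTw]
      · right; intro y
        show T (D.act h (S (om • y))) = om ^ 2 • T (D.act h (S y))
        rw [hSw, h1, hTw, hTw, smul_smul, pow_two],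
    M_lin := fun h hh => ⟨_, (hKS _).2 ⟨⟨h, hh⟩, rfl⟩, hlin ⟨h, hh⟩⟩,
    KS_lift := fun a ha => by
      obtain ⟨m, rfl⟩ := (hKS a).1 ha
      exact ⟨m, m.2, hlin m⟩ }⟩

end CfsgLib.Spor.LargeFi
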