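import Cfsg.Agent.Lib.Spor.LargeFi.Base
import Cfsg.Agent.Lib.Spor.LargeFi.RealData

/-!
Checks on the codes of the standard Sylow 2-subgroup.
-/

set_option autoImplicit false
set_option maxRecDepth 100000

namespace CfsgLib.Spor.LargeFi

open CfsgLib.Spor.U62 CfsgLib.ThreeTransp
open Matrix

/-- a tree for an arbitrary relation between a vertex, its parent and a label -/
def treeR (R : ℕ → ℕ → ℕ → Bool) (root : ℕ) : List (ℕ × ℕ × ℕ) → List ℕ → Bool
  | [], _ => true
  | (u, p, j) :: r, acc => R u (acc.getD p root) j && treeR R root r (u :: acc)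

theorem mem_of_treeR {R : ℕ → ℕ → ℕ → Bool} {root : ℕ} {P : ℕ → Prop} (h1 : P root)
    (hstep : ∀ u q j, R u q j = true → P q → P u) :
    ∀ (r : List (ℕ × ℕ × ℕ)) (acc : List ℕ), treeR R root r acc = true → (∀ u ∈ acc, P u) →
      ∀ u ∈ root :: r.map Prod.fst, P u := by
  intro r
  induction r with
  | nil => simp [h1]
  | cons x r ih =>
    obtain ⟨u, p, j⟩ := x
    intro acc h hacc v hv
    simp only [treeR, Bool.and_eq_true] at h
    have hp : P (acc.getD p root) := by
      by_cases hk : p < acc.length
      · rw [List.getD_eq_getElem _ _ hk]; exact hacc _ (List.getElem_mem hk)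
      · rw [List.getD_eq_default _ _ (not_lt.1 hk)]; exact h1
    have hu : P u := hstep _ _ _ h.1 hp
    have := ih (u :: acc) h.2 (List.forall_mem_cons.2 ⟨hu, hacc⟩)
    simp only [List.map_cons, List.mem_cons] at hv
    rcases hv with rfl | rfl | hv
    · exact h1
    · exact hu
    · exact this v (List.mem_cons_of_mem _ hv)

theorem sAct_two_mul (c : ℕ) (v : V6) : sAct (2 * c) v = ofCode c *ᵥ v := by
  have h := base_eq c false
  simp only [Bool.false_eq_true, if_false, add_zero] at h
  rw [sAct, h.1, h.2]; simp

theorem ofCode_oneC' : ofCode oneC = 1 := by decide +kernel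

theorem sAct_one (v : V6) : sAct (2 * oneC) v = v := by
  rw [sAct_two_mul, ofCode_oneC', Matrix.one_mulVec]

/-- the matrix code is the code of its entries -/
def canB (p : ℕ) : Bool := Nat.beq (build fun i j => ent (base p) i j) (base p)

/-- the first column is not zero -/
def colB (p : ℕ) : Bool := (List.range 6).any fun i => !Nat.beq (ent (base p) i 0) 0

theorem parts (p : ℕ) : p = 2 * base p + if flag p then 1 else 0 := by
  rw [base, flag, show Nat.shiftRight p 1 = p >>> 1 from rfl, Nat.shiftRight_eq_div_pow,
    show Nat.land p 1 = p &&& 1 from rfl, Nat.and_one_is_mod]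
  rcases Nat.mod_two_eq_zero_or_one p with h | h <;> rw [h]
  · show p = 2 * (p / 2 ^ 1) + 0; omega
  · show p = 2 * (p / 2 ^ 1) + 1; omega

theorem canB_sMul (p q : ℕ) : canB (sMul p q) = true := by
  rw [canB, sMul, (base_eq _ _).1, Nat.beq_eq]
  exact (codeM_ofCode _).symm.trans (codeM_ofCode_mulC _ _)

theorem sAct_eq_code {p q : ℕ} (hp : canB p = true) (hq : canB q = true) (hcol : colB p = true)
    (h : ∀ v, sAct p v = sAct q v) : p = q := by
  have hflag : flag p = flag q := by
    by_contra hne
    have key : ∀ a b : K4, (∀ c : K4, a * (if flag p then c ^ 2 else c) = b * if flag q then c ^ 2 else c) →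
        a = 0 := by
      have k : ∀ (f g : Bool), f ≠ g → ∀ x y x' y' : ZMod 2,
          (∀ c ∈ ([(⟨1, 0⟩ : K4), ⟨0, 1⟩] : List K4), (⟨x, y⟩ : K4) * (if f then c ^ 2 else c) =
            (⟨x', y'⟩ : K4) * if g then c ^ 2 else c) → (⟨x, y⟩ : K4) = 0 := by decide +kernel
      intro a b hab
      exact k _ _ hne a.re a.im b.re b.im fun c _ => hab c
    simp only [colB, List.any_eq_true, List.mem_range] at hcol
    obtain ⟨i, hi, hi0⟩ := hcol
    rw [Bool.not_eq_true', ← Bool.not_eq_true, Nat.beq_eq] at hi0
    refine hi0 (kOf_inj _ (ent_lt _ _ _) 0 (by norm_num) ?_)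
    rw [show kOf 0 = 0 by decide +kernel]
    refine key _ (kOf (ent (base q) i 0)) fun c => ?_
    have hv := congrFun (h (Pi.single (0 : Fin 6) c)) ⟨i, hi⟩
    have e : ∀ r : ℕ, sAct r (Pi.single (0 : Fin 6) c) ⟨i, hi⟩ =
        kOf (ent (base r) i 0) * if flag r then c ^ 2 else c := by
      intro r
      have hg : gal (Pi.single (0 : Fin 6) c) = Pi.single (0 : Fin 6) (c ^ 2) := by
        funext k
        rcases eq_or_ne k 0 with rfl | hk
        · simp [gal]
        · simp [gal, hk]
      cases hf : flag r <;> simp [sAct, hf, hg, Matrix.mulVec_single, ofCode, mul_comm]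
    rwa [e, e] at hv
  have hmat : ofCode (base p) = ofCode (base q) := by
    refine Matrix.ext_of_mulVec_single fun i => ?_
    cases hf : flag p
    · have := h (Pi.single i 1)
      simpa [sAct, hf, ← hflag] using this
    · have := h (gal (Pi.single i 1))
      simpa [sAct, hf, ← hflag, gal_gal] using this
  have hb : base p = base q := by
    simp only [canB, Nat.beq_eq] at hp hq
    rw [← hp, ← hq, ← codeM_ofCode, ← codeM_ofCode, hmat]
  rw [parts p, parts q, hb, hflag]

/-! ### The checks -/

theorem sylL_incr : incrB sylL = true := by decide +kernel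

theorem sylL_codes : (Nat.beq sylL.length 256 && memV sylL (2 * oneC) &&
    sylL.all fun p => canB p && colB p) = true := by decide +kernel

theorem sylL_right : (realG.all fun g => sylL.all fun p => memV sylL (sMul p g)) = true := by
  decide +kernel

theorem realTree_ok : treeR (fun u q j => Nat.beq u (sMul q (realG.getD j (2 * oneC))))
    (2 * oneC) realTree [] = true := by decide +kernel

theorem realTree_cover : (sylL.all fun p => memV (2 * oneC :: realTree.map Prod.fst) p) = true := by
  decide +kernel

theorem realProg_ok : progB realProg (gens 0) realT = true := by decide +kernel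

theorem realG_cases : ((memV realT omC && nrmG.all (memV realT)) && memV realG outerG && flag outerG &&
    realG.all fun g => Nat.beq g outerG || (!flag g && memV realT (base g))) = true := by
  decide +kernel

theorem linTree_ok : treeR (fun u q j => !(flag u) && Nat.beq u (sMul q (linG.getD j (2 * oneC))))
    (2 * oneC) linTree [] = true := by decide +kernel

theorem linTree_cover : ((linG.all fun g => !flag g && memV realT (base g)) &&
    sylL.all fun p => flag p || memV (2 * oneC :: linTree.map Prod.fst) p) = true := by decide +kernel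

theorem cosetT_ok : (sylL.all fun p => !flag p || cosetT.any fun e => Nat.beq e.1 p &&
    !flag e.2 && memV sylL e.2 && Nat.beq (sMul p e.2) outerG) = true := by decide +kernel

theorem backT_ok : (sylL.all fun p => !flag p || backT.any fun e => Nat.beq e.1 p &&
    !flag e.2 && memV sylL e.2 && Nat.beq (sMul outerG e.2) p) = true := by decide +kernel

end CfsgLib.Spor.LargeFi
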