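import Cfsg.Agent.Lib.Spor.LargeFi.SmallStabChk
import Cfsg.Agent.Lib.Classical.PSpFourThree

/-!
The stabiliser of a small vector induces the isometry group of the elliptic quadratic form of
dimension six: both act on forty-five objects by the same two permutations.
-/

set_option autoImplicit false
set_option maxRecDepth 100000

namespace CfsgLib.Spor.LargeFi.SmallStab

open CfsgLib.Spor.U62 CfsgLib.Spor.HSUnitary CfsgLib.ThreeTransp
open Matrix
open scoped Pointwise

theorem le_card_closure : 51840 ≤ Nat.card (Subgroup.closure ({perm1, perm2} : Set (Equiv.Perm (Fin 45)))) := by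
  set C := Subgroup.closure ({perm1, perm2} : Set (Equiv.Perm (Fin 45)))
  have hbase : ∀ a ∈ [permL2, permL1], ∃ σ ∈ C, RepL σ a := by
    intro a ha
    simp only [List.mem_cons, List.not_mem_nil, or_false] at ha
    rcases ha with rfl | rfl
    · exact ⟨perm2, Subgroup.subset_closure (by simp), perm_repL.2⟩
    · exact ⟨perm1, Subgroup.subset_closure (by simp), perm_repL.1⟩
  rw [← perm_prod]
  refine le_card_of_chainL _ perm_chain C fun l hl t ht => ?_
  have h := List.any_eq_true.1 (List.all_eq_true.1 (List.all_eq_true.1 perm_targets l hl) t ht)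
  obtain ⟨a, ha, e⟩ := h
  rw [decide_eq_true_eq] at e
  subst e
  rcases List.mem_cons.1 ha with rfl | ha
  · exact ⟨1, C.one_mem, RepL.one⟩
  rcases List.mem_cons.1 ha with rfl | ha
  · exact hbase _ (by simp)
  rcases List.mem_cons.1 ha with rfl | ha
  · exact hbase _ (by simp)
  obtain ⟨e, he, rfl⟩ := List.mem_map.1 ha
  exact mem_of_slpL _ _ perm_slp hbase e he

/-- the isometry group -/
abbrev O6 : Subgroup (Matrix.GeneralLinearGroup I2 (ZMod 2)) :=
  Cfsg.isometryGroup (ZMod 2) (Cfsg.quadFormMinus 2 (ZMod 2) 1 1)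

/-- the first isometry -/
def iso1 : O6 := ⟨⟨wMat 0, wMat 1, wMat_inv.1.1, wMat_inv.1.2⟩, fun u _ => (wMat_isometry u).1⟩

/-- the second isometry -/
def iso2 : O6 := ⟨⟨wMat 2, wMat 3, wMat_inv.2.1, wMat_inv.2.2⟩, fun u _ => (wMat_isometry u).2⟩

theorem card_O6 : Nat.card O6 = 51840 := by
  have h : (⇑CfsgLib.Classical.ESix.Q2 : W6 → ZMod 2) = Cfsg.quadFormMinus 2 (ZMod 2) 1 1 :=
    funext CfsgLib.Classical.ESix.Q2_apply
  rw [show O6 = Cfsg.isometryGroup (ZMod 2) ⇑CfsgLib.Classical.ESix.Q2 by rw [h]]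
  rw [← CfsgLib.Classical.card_orth_eq]
  exact CfsgLib.Classical.ESix.card_orth_two

theorem O6_equiv : Nonempty (O6 ≃* Subgroup.closure ({perm1, perm2} : Set (Equiv.Perm (Fin 45)))) := by
  letI : MulAction O6 W6 :=
    { smul := fun g v => ((g : Matrix.GeneralLinearGroup I2 (ZMod 2)) : Matrix I2 I2 (ZMod 2)) *ᵥ v
      one_smul := fun v => Matrix.one_mulVec v
      mul_smul := fun a b v => (Matrix.mulVec_mulVec v _ _).symm }
  exact equiv_closure_of_action (X := Finset W6) lineSet (fun i j => lineSet_injective i j) iso1 iso2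
    perm1 perm2 (fun i => (lineSet_map i).1) (fun i => (lineSet_map i).2)
    (le_of_eq_of_le card_O6 le_card_closure)

/-- a class of singular vectors orthogonal to the small representative -/
def pointSet (i : Fin 45) : Set V6 := {w | vc w ∈ pointL.getD i []}

theorem mem_pointSet {i : Fin 45} {w : V6} : w ∈ pointSet i ↔ vc w ∈ pointL.getD i [] := Iff.rfl

theorem pointSet_injective : Function.Injective pointSet := by
  intro i j h
  by_contra hne
  have e := List.all_eq_true.1 pointL_ok i (List.mem_range.2 i.2)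
  simp only [Bool.and_eq_true, Bool.not_eq_true', List.isEmpty_eq_false_iff, List.all_eq_true,
    Nat.blt_eq, List.mem_range, Bool.or_eq_true, Nat.beq_eq] at e
  obtain ⟨⟨hn, hlt⟩, hd⟩ := e
  have hu : (pointL.getD i []).getD 0 0 ∈ pointL.getD i [] := by
    rw [List.getD_eq_getElem _ _ (List.length_pos_iff.2 hn)]; exact List.getElem_mem _
  have hv : vOf ((pointL.getD i []).getD 0 0) ∈ pointSet i := by
    rw [mem_pointSet, vc_vOf (hlt _ hu)]; exact hu
  rw [h, mem_pointSet, vc_vOf (hlt _ hu)] at hv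
  have hv' := hv
  have := (hd j j.2).resolve_left (fun e => hne (Fin.ext e))
  rw [memV_iff.2 hv'] at this
  exact Bool.noConfusion this

theorem code_in {c : ℕ} (hc : c ∈ stabC1 :: stabC2 :: linCodes) : In (KS 0) c :=
  In.prog codeProg_ok (gens_mem 0) c hc

theorem sAct_maps {q : ℕ} {p : List ℕ} {σ : Equiv.Perm (Fin 45)} (h : mapsB q p = true)
    (hσ : ∀ i : Fin 45, p.getD i 0 = (σ i : ℕ)) :
    sAct q smallV = smallV ∧ ∀ i, sAct q '' pointSet i = pointSet (σ i) := by
  simp only [mapsB, Bool.and_eq_true, Nat.beq_eq, List.all_eq_true, List.mem_range] at h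
  have hs : vc smallV = smallRoot := by
    have e := smallRoot_mem
    rw [Bool.and_eq_true, Nat.beq_eq] at e
    exact e.1
  refine ⟨vc_injective (by rw [vc_sAct, hs, h.1]), fun i => Set.ext fun w => ⟨?_, fun hw => ?_⟩⟩
  · rintro ⟨v, hv, rfl⟩
    rw [mem_pointSet, vc_sAct, ← hσ]
    exact memV_iff.1 ((h.2 i i.2).1 _ hv)
  · have e : vc w ∈ pointL.getD (p.getD i 0) [] := by rw [hσ]; exact hw
    obtain ⟨u, hu, eu⟩ := List.mem_map.1 (memV_iff.1 ((h.2 i i.2).2 _ e))
    have hlt : u < 4096 := by
      have e := List.all_eq_true.1 pointL_ok i (List.mem_range.2 i.2)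
      simp only [Bool.and_eq_true, List.all_eq_true, Nat.blt_eq] at e
      exact e.1.2 u hu
    refine ⟨vOf u, ?_, vc_injective (by rw [vc_sAct, vc_vOf hlt, eu])⟩
    rw [mem_pointSet, vc_vOf hlt]; exact hu

/-- the linear action -/
def linAct : U6 →* AddMonoid.End V6 where
  toFun g := AddMonoidHom.mk' (fun v => mat g *ᵥ v) fun _ _ => Matrix.mulVec_add _ _ _
  map_one' := AddMonoidHom.ext fun v => by
    show mat 1 *ᵥ v = v
    rw [map_one, Matrix.one_mulVec]
  map_mul' a b := AddMonoidHom.ext fun v => by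
    show mat (a * b) *ᵥ v = mat a *ᵥ (mat b *ᵥ v)
    rw [map_mul, Matrix.mulVec_mulVec]

theorem linAct_injective : Function.Injective linAct.toHomUnits := fun a b h =>
  mat_injective (Matrix.ext_of_mulVec_single fun i =>
    DFunLike.congr_fun (congrArg Units.val h) (Pi.single i 1))

variable {H : Type*} [Group H] [Finite H] {Q : Subgroup H} [Q.Normal] {z : H} (D : Model Q z)

omit [Finite H] in
theorem ker_units (h : H) : D.act.toHomUnits h = 1 ↔ h ∈ Q := by
  rw [← D.ker_act]
  exact ⟨fun e => congrArg Units.val e, fun e => Units.ext e⟩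

theorem card_eq_map (S : Subgroup H) (hS : Q ≤ S) :
    Nat.card S = Nat.card Q * Nat.card (S.map D.act.toHomUnits) := by
  let r := D.act.toHomUnits.comp S.subtype
  have hk : r.ker = Q.subgroupOf S := by
    ext x
    rw [MonoidHom.mem_ker, Subgroup.mem_subgroupOf]
    exact ker_units D x
  rw [← r.ker.card_mul_index, Subgroup.index_ker, MonoidHom.range_comp, Subgroup.range_subtype, hk,
    Nat.card_congr (Subgroup.subgroupOfEquivOfLe hS).toEquiv]

omit [Finite H] in
theorem Q_le_vstab (v : V6) : Q ≤ D.vstab v := fun q hq => by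
  show D.act q v = v
  rw [(D.ker_act q).2 hq]; rfl

include D in
theorem card_H : Nat.card H = 2 * (Nat.card Q * (3 * 3265920)) := by
  letI := D.fld
  letI := D.fin
  have he : D.M.map D.act.toHomUnits = (KS 0).map linAct.toHomUnits := by
    ext u
    simp only [Subgroup.mem_map]
    constructor
    · rintro ⟨m, hm, rfl⟩
      obtain ⟨g, hg, e⟩ := D.M_lin m hm
      exact ⟨g, hg, Units.ext (AddMonoidHom.ext fun v => (e v).symm)⟩
    · rintro ⟨g, hg, rfl⟩
      obtain ⟨m, hm, e⟩ := D.KS_lift g hg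
      exact ⟨m, hm, Units.ext (AddMonoidHom.ext fun v => e v)⟩
  rw [← D.M.card_mul_index, D.M_index, card_eq_map D D.M D.Q_le, he,
    ← Nat.card_congr (Subgroup.equivMapOfInjective _ _ linAct_injective).toEquiv,
    (KS_spec D.card_F9 0).2]
  ring

theorem card_vstab_map : Nat.card ((D.vstab smallV).map D.act.toHomUnits) = 51840 := by
  letI : MulAction H V6 := MulAction.compHom V6 D.act.toHomUnits
  have hst : MulAction.stabilizer H smallV = D.vstab smallV := Subgroup.ext fun h => Iff.rfl
  have horb : MulAction.orbit H smallV = {v | Small v} := by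
    ext v
    constructor
    · rintro ⟨h, rfl⟩
      exact D.act_small h small_smallV
    · intro hv
      obtain ⟨h, -, e⟩ := D.exists_small hv
      exact ⟨h, e⟩
  have h1 := (D.vstab smallV).card_mul_index
  rw [← hst, MulAction.index_stabilizer, horb, ncard_small, hst, card_H D,
    card_eq_map D _ (Q_le_vstab D _), D.card_Q] at h1
  omega

theorem exists_outer (hout : D.HasOuter) : ∃ h : H, ∀ v, D.act h v = sAct outerCode v := by
  obtain ⟨h, -, p, hp, hflag, hact⟩ := hout
  have e := sylL_check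
  simp only [Bool.and_eq_true, List.all_eq_true, Bool.or_eq_true, Bool.not_eq_true'] at e
  have hp' := (e.1 p hp).resolve_left (by rw [hflag]; exact Bool.noConfusion)
  obtain ⟨c, hc, rfl⟩ := List.mem_map.1 (memV_iff.1 hp')
  obtain ⟨g, hg, hcd⟩ := code_in (List.mem_cons_of_mem _ (List.mem_cons_of_mem _ hc))
  obtain ⟨m, -, hm⟩ := D.KS_lift g hg
  refine ⟨m⁻¹ * h, fun v => ?_⟩
  obtain ⟨eb, ef⟩ := base_eq (mulC c (base outerCode)) true
  simp only [if_true] at eb ef
  have h1 : D.act h v = D.act m (sAct outerCode v) := by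
    rw [hact, hm, sAct, sAct, eb, ef, e.2, ofCode_mulC, ← Matrix.mulVec_mulVec, mat_eq, hcd]
  rw [D.act_mul_apply, h1, D.act_inv_apply]

theorem vstab_equiv (hout : D.HasOuter) :
    Nonempty ((D.vstab smallV).map D.act.toHomUnits ≃* O6) := by
  obtain ⟨C⟩ := O6_equiv
  obtain ⟨ho, hho⟩ := exists_outer D hout
  obtain ⟨g1, hg1, hcd1⟩ := code_in (List.mem_cons_self (a := stabC1) (l := stabC2 :: linCodes))
  obtain ⟨g2, hg2, hcd2⟩ := code_in (List.mem_cons_of_mem stabC1 (List.mem_cons_self (a := stabC2) (l := linCodes)))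
  obtain ⟨m1, -, hm1⟩ := D.KS_lift g1 hg1
  obtain ⟨m2, -, hm2⟩ := D.KS_lift g2 hg2
  have hf : flag outerCode = true := (Bool.and_eq_true .. ▸ sylL_check).2
  have a1 : ∀ v, D.act (m1 * ho) v = sAct genCode1 v := by
    intro v
    obtain ⟨eb, ef⟩ := base_eq (mulC stabC1 (base outerCode)) true
    simp only [if_true] at eb ef
    rw [D.act_mul_apply, hho, hm1, genCode1, sAct, sAct, eb, ef, hf, ofCode_mulC,
      ← Matrix.mulVec_mulVec, mat_eq, hcd1]
  have a2 : ∀ v, D.act m2 v = sAct (2 * stabC2) v := by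
    intro v
    obtain ⟨eb, ef⟩ := base_eq stabC2 false
    simp only [Bool.false_eq_true, if_false, add_zero] at eb ef
    rw [hm2, sAct, eb, ef, mat_eq, hcd2]
    rfl
  have hmaps := maps_check
  rw [Bool.and_eq_true] at hmaps
  obtain ⟨f1, s1⟩ := sAct_maps hmaps.1 perm_repL.1
  obtain ⟨f2, s2⟩ := sAct_maps hmaps.2 perm_repL.2
  have k1 : D.act.toHomUnits (m1 * ho) ∈ (D.vstab smallV).map D.act.toHomUnits :=
    ⟨_, (a1 smallV).trans f1, rfl⟩
  have k2 : D.act.toHomUnits m2 ∈ (D.vstab smallV).map D.act.toHomUnits :=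
    ⟨_, (a2 smallV).trans f2, rfl⟩
  haveI : Finite ((D.vstab smallV).map D.act.toHomUnits) :=
    Nat.finite_of_card_ne_zero (by rw [card_vstab_map D]; norm_num)
  obtain ⟨B⟩ := equiv_closure_of_action (G := (D.vstab smallV).map D.act.toHomUnits) (X := Set V6)
    pointSet pointSet_injective ⟨_, k1⟩ ⟨_, k2⟩ perm1 perm2
    (fun i => (Set.image_congr fun v _ => a1 v).trans (s1 i))
    (fun i => (Set.image_congr fun v _ => a2 v).trans (s2 i))
    (le_of_eq_of_le (card_vstab_map D) le_card_closure)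
  exact ⟨B.trans C.symm⟩

/-- The stabiliser of a small vector induces the full isometry group of the elliptic form. -/
theorem vstab_quotient_equiv (hout : D.HasOuter) {v : V6} (hv : Small v) :
    Nonempty ((D.vstab v).map (QuotientGroup.mk' Q) ≃* O6) := by
  obtain ⟨e⟩ := vstab_equiv D hout
  let U : H ⧸ Q →* (AddMonoid.End V6)ˣ :=
    QuotientGroup.lift Q D.act.toHomUnits fun q hq => (ker_units D q).2 hq
  have hU : Function.Injective U := by
    rw [injective_iff_map_eq_one]
    intro x
    obtain ⟨h, rfl⟩ := QuotientGroup.mk_surjective x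
    intro hx
    exact (QuotientGroup.eq_one_iff h).2 ((ker_units D h).1 hx)
  have hcomp : ((D.vstab smallV).map (QuotientGroup.mk' Q)).map U =
      (D.vstab smallV).map D.act.toHomUnits := by
    rw [Subgroup.map_map]; rfl
  obtain ⟨k, -, hk⟩ := D.exists_small hv
  have hconj : D.vstab v = (D.vstab smallV).map (MulAut.conj k).toMonoidHom := by
    ext h
    rw [Subgroup.mem_map_equiv]
    show D.act h v = v ↔ D.act (k⁻¹ * h * k) smallV = smallV
    rw [D.act_mul_apply, D.act_mul_apply, hk]
    exact ⟨fun e => by rw [e, ← hk, D.act_inv_apply], fun e => D.act_injective k⁻¹ (e.trans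
      (by rw [← hk, D.act_inv_apply]))⟩
  have hcm : (D.vstab v).map (QuotientGroup.mk' Q) = ((D.vstab smallV).map (QuotientGroup.mk' Q)).map
      (MulAut.conj (QuotientGroup.mk' Q k)).toMonoidHom := by
    rw [hconj, Subgroup.map_map, Subgroup.map_map]
    congr 1
  exact ⟨(MulEquiv.subgroupCongr hcm).trans ((((Subgroup.equivMapOfInjective _ _
    (MulAut.conj (QuotientGroup.mk' Q k)).injective).symm.trans
    (Subgroup.equivMapOfInjective _ U hU)).trans (MulEquiv.subgroupCongr hcomp)).trans e)⟩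

end CfsgLib.Spor.LargeFi.SmallStab
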