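import Cfsg.Agent.Lib.Spor.LargeFi.SixLift
import Cfsg.Agent.Lib.Spor.LargeFi.SmallStab
import Cfsg.Agent.Lib.Spor.LargeFi.BigPair
import Cfsg.Agent.Lib.KnownB.TypeUSix.Defs
import Cfsg.Agent.Lib.Base.Cores

/-!
The centraliser of the distinguished involution of `C(E)/E`: an extraspecial-like group of order `2^9`
extended by the stabiliser of order 25920, generated by the neighbours of the involution.
-/

set_option autoImplicit false
set_option maxRecDepth 100000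

namespace CfsgLib.Spor.LargeFi

open CfsgLib.Spor.U62 CfsgLib.ThreeTransp CfsgLib.Spor.LargeFi.SixPt
open Matrix

theorem perpW_length : perpW.length = 1024 := by decide +kernel

variable {G : Type*} [Group G] [Finite G] {z : G}

namespace Model.ABase

variable {Q : Subgroup (Subgroup.centralizer ({z} : Set G))} [Q.Normal]
  {D : Model Q (zH z)} (B : D.ABase)

/-- the image of the extraspecial group -/
noncomputable def sJ : Subgroup B.SX := (Q.subgroupOf B.sH).map B.sρ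

theorem mem_sJ {a : B.SX} : a ∈ B.sJ ↔
    ∃ (q : Q) (hq : (q : Subgroup.centralizer ({z} : Set G)) ∈ B.sH), B.sρ ⟨q, hq⟩ = a :=
  ⟨fun ⟨h, hh, e⟩ => ⟨⟨h, hh⟩, h.2, e⟩, fun ⟨q, hq, e⟩ => ⟨⟨q, hq⟩, q.2, e⟩⟩

theorem sJ_isPGroup : IsPGroup 2 B.sJ := by
  have hQ : IsPGroup 2 Q := IsPGroup.of_card D.card_Q
  exact (hQ.comap_subtype).map B.sρ

theorem sJ_conj (h : ↥B.sH) {a : B.SX} (ha : a ∈ B.sJ) : B.sρ h * a * (B.sρ h)⁻¹ ∈ B.sJ := by
  obtain ⟨k, hk, rfl⟩ := ha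
  exact ⟨h * k * h⁻¹, (inferInstance : Q.Normal).conj_mem _ hk h, by rw [map_mul, map_mul, map_inv]⟩

theorem zS_mem_sJ : B.zS ∈ B.sJ := ⟨⟨zH z, B.zH_mem_sH⟩, D.xc.mem, B.sρ_zH⟩

/-- two elements of the image commute when they do in the extraspecial group; else they give `zS` -/
theorem sJ_comm {q q' : Q} (hq : (q : Subgroup.centralizer ({z} : Set G)) ∈ B.sH)
    (hq' : (q' : Subgroup.centralizer ({z} : Set G)) ∈ B.sH) :
    (Commute (B.sρ ⟨q, hq⟩) (B.sρ ⟨q', hq'⟩) ↔ (hm (D.vec q) (D.vec q')).im = 0) ∧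
      (¬ Commute (B.sρ ⟨q, hq⟩) (B.sρ ⟨q', hq'⟩) →
        B.sρ ⟨q, hq⟩ * B.sρ ⟨q', hq'⟩ * (B.sρ ⟨q, hq⟩)⁻¹ * (B.sρ ⟨q', hq'⟩)⁻¹ = B.zS) := by
  set a : ↥B.sH := ⟨q, hq⟩
  set b : ↥B.sH := ⟨q', hq'⟩
  have hsplit : a * b * a⁻¹ * b⁻¹ = 1 ∨ a * b * a⁻¹ * b⁻¹ = ⟨zH z, B.zH_mem_sH⟩ := by
    rcases D.xc.commEl (q : Subgroup.centralizer ({z} : Set G)) q.2
      (q' : Subgroup.centralizer ({z} : Set G)) q'.2 with e | e
    · refine Or.inl (Subtype.ext ?_)
      show (q : Subgroup.centralizer ({z} : Set G)) * q' * (q : Subgroup.centralizer ({z} : Set G))⁻¹ *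
        (q' : Subgroup.centralizer ({z} : Set G))⁻¹ = 1
      rw [e, mul_inv_cancel]
    · refine Or.inr (Subtype.ext ?_)
      show (q : Subgroup.centralizer ({z} : Set G)) * q' * (q : Subgroup.centralizer ({z} : Set G))⁻¹ *
        (q' : Subgroup.centralizer ({z} : Set G))⁻¹ = zH z
      rw [e, mul_inv_cancel_right]
  have hc : Commute (B.sρ a) (B.sρ b) ↔ a * b * a⁻¹ * b⁻¹ = 1 := by
    refine ⟨fun h => hsplit.resolve_right fun e => B.zS_ne_one ?_, fun e => ?_⟩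
    · rw [← B.sρ_zH, ← e, map_mul, map_mul, map_mul, map_inv, map_inv, h.eq, mul_inv_cancel_right,
        mul_inv_cancel]
    · exact Commute.map (mul_inv_eq_iff_eq_mul.1 (mul_inv_eq_one.1 e) : Commute a b) B.sρ
  constructor
  · rw [hc]
    constructor
    · intro e
      have e' : (q : Subgroup.centralizer ({z} : Set G)) * q' = q' * q :=
        congrArg Subtype.val (mul_inv_eq_iff_eq_mul.1 (mul_inv_eq_one.1 e))
      exact (D.vec_comm q q').1 e'
    · intro e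
      refine mul_inv_eq_one.2 (mul_inv_eq_iff_eq_mul.2 (Subtype.ext ?_))
      exact (D.vec_comm q q').2 e
  · intro hne
    have e := hsplit.resolve_left fun e => hne (hc.2 e)
    rw [← B.sρ_zH, ← e, map_mul, map_mul, map_mul, map_inv, map_inv]

/-- the centraliser of the image in the centraliser of the involution is `⟨zS⟩` -/
theorem cent_sJ (hF : Cfsg.IsOfLargeFischerTypeAt z Q) (h : ↥B.sH)
    (hc : ∀ a ∈ B.sJ, Commute (B.sρ h) a) : B.sρ h = 1 ∨ B.sρ h = B.zS := by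
  letI := D.fld
  letI := D.fin
  obtain ⟨g, hg, eg⟩ := B.act_sH hF h
  have hg1 : g = 1 := by
    refine kv_line_trivial D.card_F9 hg fun w hw => ?_
    obtain ⟨q, hq, rfl⟩ := B.exists_sQ hw
    have e : B.sρ (h * ⟨q, hq⟩ * h⁻¹) = B.sρ ⟨q, hq⟩ := by
      rw [map_mul, map_mul, map_inv]
      exact mul_inv_eq_iff_eq_mul.2 (hc _ ⟨⟨q, hq⟩, q.2, rfl⟩).eq
    obtain ⟨n, hn, e'⟩ := B.sρ_eq_iff.1 e
    have hm' := (inferInstance : Q.Normal).conj_mem _ q.2 (h : Subgroup.centralizer ({z} : Set G))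
    have e2 : q = (⟨_, hm'⟩ : Q) * ⟨B.el n, B.eL_mem_Q hn⟩ := Subtype.ext e'
    have e3 := congrArg D.vec e2
    rw [D.vec_mul, D.vec_conj' _ q hm', eg] at e3
    rw [show mat g *ᵥ D.vec q + D.vec q = D.vec ⟨B.el n, B.eL_mem_Q hn⟩ by
      nth_rewrite 2 [e3]
      rw [← add_assoc, v6_two, zero_add]]
    exact (B.eL_line hn).2
  have hQ : (h : Subgroup.centralizer ({z} : Set G)) ∈ Q := by
    refine (D.ker_act _).1 (AddMonoidHom.ext fun v => ?_)
    show D.act (h : Subgroup.centralizer ({z} : Set G)) v = v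
    rw [eg, hg1, map_one, Matrix.one_mulVec]
  have hl : Line (D.vec ⟨h, hQ⟩) := by
    refine line_of_im (B.mem_sQ.1 h.2) fun w hw => ?_
    obtain ⟨q, hq, rfl⟩ := B.exists_sQ hw
    exact (B.sJ_comm (q := ⟨h, hQ⟩) h.2 hq).1.1 (hc _ ⟨⟨q, hq⟩, q.2, rfl⟩)
  obtain ⟨n, hn, e⟩ := B.line_el hl
  have key : B.sρ ⟨B.el n, B.el_mem_sH n⟩ = 1 := by
    rw [← map_one B.sρ]
    exact (B.sρ_eq_iff.2 ⟨n, hn, (one_mul _).symm⟩).symm
  rcases e with e | e
  · left
    rw [show h = ⟨B.el n, B.el_mem_sH n⟩ from Subtype.ext e, key]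
  · right
    rw [show h = ⟨zH z, B.zH_mem_sH⟩ * ⟨B.el n, B.el_mem_sH n⟩ from Subtype.ext e, map_mul, key,
      mul_one, B.sρ_zH]

theorem sX_card (hF : Cfsg.IsOfLargeFischerTypeAt z Q) (hN : B.Normed) :
    Nat.card ↥(Subgroup.centralizer ({B.zS} : Set B.SX)) = 2 ^ 9 * 25920 := by
  classical
  letI := D.fld
  letI := D.fin
  rw [← B.sρ_range hF hN, ← Subgroup.index_ker]
  have hk : Nat.card B.sρ.ker = 4 := by
    have e : (B.sρ.ker : Set ↥B.sH) = (fun n => (⟨B.el n, B.el_mem_sH n⟩ : ↥B.sH)) ''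
        ((eL.toFinset : Finset ℕ) : Set ℕ) := by
      ext h
      rw [SetLike.mem_coe, MonoidHom.mem_ker, ← map_one B.sρ, eq_comm, B.sρ_eq_iff]
      simp only [Set.mem_image, Finset.mem_coe, List.mem_toFinset, OneMemClass.coe_one, one_mul]
      exact ⟨fun ⟨n, hn, e⟩ => ⟨n, hn, Subtype.ext e.symm⟩,
        fun ⟨n, hn, e⟩ => ⟨n, hn, (congrArg Subtype.val e).symm⟩⟩
    show Nat.card (B.sρ.ker : Set ↥B.sH) = 4
    rw [Nat.card_coe_set_eq, e, Set.InjOn.ncard_image, Set.ncard_coe_finset]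
    · decide
    · intro a ha b hb h
      simp only [Finset.mem_coe, List.mem_toFinset] at ha hb
      exact B.el_injOn (eL_lt ha) (eL_lt hb) (congrArg Subtype.val h)
  have h1 := B.sρ.ker.card_mul_index
  let ψ : ↥B.sH →* (AddMonoid.End V6)ˣ := D.act.toHomUnits.comp B.sH.subtype
  have hψ : ψ.range = (KV smallV).map SmallStab.linAct.toHomUnits := by
    refine le_antisymm ?_ ?_
    · rintro _ ⟨h, rfl⟩
      obtain ⟨g, hg, e⟩ := B.act_sH hF h
      exact ⟨g, hg, Units.ext (AddMonoidHom.ext fun v => (e v).symm)⟩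
    · rintro _ ⟨g, hg, rfl⟩
      obtain ⟨h, -, e⟩ := B.exists_lift_KV hg
      exact ⟨h, Units.ext (AddMonoidHom.ext fun v => e v)⟩
  have hψk : Nat.card ψ.ker = 2 ^ 11 := by
    have hS : Nat.card ↥(B.sH ⊓ Q) = 2 * perpW.length :=
      D.card_pre (B.sH ⊓ Q) perpW (List.nodup_range.filter _)
        (fun u hu => List.mem_range.1 (List.mem_filter.1 hu).1) fun h =>
        ⟨fun hh => ⟨hh.2, mem_perpW.1 ((B.mem_sQ (q := ⟨h, hh.2⟩)).1 hh.1)⟩,
          fun ⟨hq, hv⟩ => ⟨(B.mem_sQ (q := ⟨h, hq⟩)).2 (mem_perpW.2 hv), hq⟩⟩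
    rw [perpW_length] at hS
    rw [show (2 : ℕ) ^ 11 = 2 * 1024 by norm_num, ← hS]
    exact Nat.card_congr
      { toFun := fun h => ⟨(h.1 : Subgroup.centralizer ({z} : Set G)), h.1.2,
          (D.ker_act _).1 (congrArg Units.val (MonoidHom.mem_ker.1 h.2))⟩
        invFun := fun h => ⟨⟨h, h.2.1⟩, MonoidHom.mem_ker.2 (Units.ext ((D.ker_act _).2 h.2.2))⟩
        left_inv := fun _ => rfl
        right_inv := fun _ => rfl }
  have h2 := ψ.ker.card_mul_index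
  rw [Subgroup.index_ker, hψ, ← Nat.card_congr (Subgroup.equivMapOfInjective _ _ SmallStab.linAct_injective).toEquiv,
    card_KV_small D.card_F9, hψk, ← h1, hk] at h2
  omega

/-- the neighbours generate the centraliser -/
theorem sX_gen (hF : Cfsg.IsOfLargeFischerTypeAt z Q) (hN : B.Normed) :
    Subgroup.closure (nb B.sD B.zS) = Subgroup.centralizer ({B.zS} : Set B.SX) := by
  letI := D.fld
  letI := D.fin
  refine le_antisymm (closure_nb_le _ _) ?_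
  rw [← B.sρ_range hF hN]
  set K := Subgroup.closure (nb B.sD B.zS) with hK
  have hconj : ∀ h : ↥B.sH, ∀ a ∈ K, B.sρ h * a * (B.sρ h)⁻¹ ∈ K := by
    intro h a ha
    have hle : K ≤ K.comap (MulAut.conj (B.sρ h)).toMonoidHom := by
      refine (Subgroup.closure_le _).2 ?_
      rintro y ⟨hyD, hy1, hyc⟩
      refine Subgroup.subset_closure ⟨B.sD_conj _ hyD, fun e => hy1 ?_, ?_⟩
      · refine (MulAut.conj (B.sρ h)).injective (e.trans ?_)
        show B.zS = B.sρ h * B.zS * (B.sρ h)⁻¹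
        rw [(B.sρ_commute h).eq, mul_inv_cancel_right]
      · exact ((B.sρ_commute h).symm.mul_right hyc).mul_right (B.sρ_commute h).symm.inv_right
    exact hle ha
  have hsk : ∀ i < 45, B.sk i ∈ K := fun i hi => Subgroup.subset_closure (B.sk_mem_nb hF hN hi)
  -- the image of the extraspecial group
  let P : V6 → Prop := fun w => ∃ (q : Q) (hq : (q : Subgroup.centralizer ({z} : Set G)) ∈ B.sH),
    B.sρ ⟨q, hq⟩ ∈ K ∧ Line (D.vec q + w)
  have hP : ∀ {w}, Perp w → P w := by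
    intro w hw
    refine perp_induction (P := P) ?_ ?_ ?_ hw
    · intro u hu
      refine ⟨1, B.sH.one_mem, ?_, ?_⟩
      · show B.sρ 1 ∈ K
        rw [map_one]; exact one_mem _
      · rw [D.vec_one, zero_add]; exact hu
    · rintro u v ⟨q, hq, hqK, hu⟩ ⟨q', hq', hqK', hv⟩
      refine ⟨q * q', mul_mem hq hq', ?_, ?_⟩
      · show B.sρ (⟨q, hq⟩ * ⟨q', hq'⟩) ∈ K
        rw [map_mul]; exact mul_mem hqK hqK'
      · rw [D.vec_mul, show D.vec q + D.vec q' + (u + v) = D.vec q + u + (D.vec q' + v) by abel]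
        exact hu.add hv
    · intro i hi c
      have hi' : i < 45 := by simp at hi; omega
      obtain ⟨w, hw, hl⟩ := comm_value hi c
      obtain ⟨q, hq, rfl⟩ := B.exists_sQ hw
      obtain ⟨⟨h, eh, -, ea⟩, -, -⟩ := B.sk_spec hF hN hi'
      have hm' := (inferInstance : Q.Normal).conj_mem _ (q⁻¹).2 (h : Subgroup.centralizer ({z} : Set G))
      refine ⟨q * ⟨_, hm'⟩, mul_mem hq (mul_mem (mul_mem h.2 (inv_mem hq)) (inv_mem h.2)), ?_, ?_⟩
      · show B.sρ (⟨q, hq⟩ * (h * ⟨q, hq⟩⁻¹ * h⁻¹)) ∈ K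
        rw [map_mul, map_mul, map_mul, map_inv, map_inv, eh]
        rw [show B.sρ ⟨q, hq⟩ * (B.sk i * (B.sρ ⟨q, hq⟩)⁻¹ * (B.sk i)⁻¹) =
          B.sρ ⟨q, hq⟩ * B.sk i * (B.sρ ⟨q, hq⟩)⁻¹ * (B.sk i)⁻¹ by simp [mul_assoc]]
        exact mul_mem (hconj _ _ (hsk i hi')) (inv_mem (hsk i hi'))
      · rw [D.vec_mul, D.vec_conj' (h : Subgroup.centralizer ({z} : Set G)) q⁻¹ hm', D.vec_inv, ea,
          add_comm (D.vec q)]
        exact hl
  have hexact : ∀ (q : Q) (hq : (q : Subgroup.centralizer ({z} : Set G)) ∈ B.sH),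
      ∃ e, (e = 1 ∨ e = B.zS) ∧ B.sρ ⟨q, hq⟩ * e ∈ K := by
    intro q hq
    obtain ⟨q', hq', hqK, hl⟩ := hP (B.mem_sQ.1 hq)
    obtain ⟨n, hn, e⟩ := B.line_el (q := q⁻¹ * q') (by rwa [D.vec_mul, D.vec_inv, add_comm])
    have key : B.sρ ⟨B.el n, B.el_mem_sH n⟩ = 1 := by
      rw [← map_one B.sρ]
      exact (B.sρ_eq_iff.2 ⟨n, hn, (one_mul _).symm⟩).symm
    have e' : (q' : Subgroup.centralizer ({z} : Set G)) =
        (q : Subgroup.centralizer ({z} : Set G)) * ((q⁻¹ * q' : Q) : Subgroup.centralizer ({z} : Set G)) := by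
      rw [← Subgroup.coe_mul, mul_inv_cancel_left]
    rcases e with e | e <;> rw [e] at e'
    · refine ⟨1, Or.inl rfl, ?_⟩
      rw [show (⟨q', hq'⟩ : ↥B.sH) = ⟨q, hq⟩ * ⟨B.el n, B.el_mem_sH n⟩ from Subtype.ext e', map_mul,
        key] at hqK
      exact hqK
    · refine ⟨B.zS, Or.inr rfl, ?_⟩
      rw [show (⟨q', hq'⟩ : ↥B.sH) = ⟨q, hq⟩ * (⟨zH z, B.zH_mem_sH⟩ * ⟨B.el n, B.el_mem_sH n⟩) from
        Subtype.ext e', map_mul, map_mul, key, mul_one, B.sρ_zH] at hqK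
      exact hqK
  have hz : B.zS ∈ K := by
    obtain ⟨-, hw, -, hnl⟩ := rep_spec (show 0 < 45 by norm_num)
    obtain ⟨w', hw', hne⟩ : ∃ w', Perp w' ∧ (hm (rV 0) w').im ≠ 0 := by
      by_contra h
      push Not at h
      exact hnl (line_of_im hw h)
    obtain ⟨q, hq, hqv⟩ := B.exists_sQ hw
    obtain ⟨q', hq', rfl⟩ := B.exists_sQ hw'
    have hnc := fun h => hne (hqv ▸ (B.sJ_comm hq hq').1.1 h)
    have hz' := (B.sJ_comm hq hq').2 hnc
    obtain ⟨e, he, heK⟩ := hexact q hq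
    obtain ⟨f, hf, hfK⟩ := hexact q' hq'
    have hcen : ∀ e' : B.SX, e' = 1 ∨ e' = B.zS → ∀ h : ↥B.sH, Commute (B.sρ h) e' := by
      rintro e' (rfl | rfl) h
      exacts [Commute.one_right _, B.sρ_commute h]
    have hef : Commute e f := by
      rcases he with rfl | rfl
      · exact Commute.one_left _
      · rcases hf with rfl | rfl
        exacts [Commute.one_right _, Commute.refl _]
    have h := mul_mem (mul_mem (mul_mem heK hfK) (inv_mem heK)) (inv_mem hfK)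
    have e1 : B.sρ ⟨q, hq⟩ * e * (B.sρ ⟨q', hq'⟩ * f) * (B.sρ ⟨q, hq⟩ * e)⁻¹ * (B.sρ ⟨q', hq'⟩ * f)⁻¹ =
        B.sρ ⟨q, hq⟩ * B.sρ ⟨q', hq'⟩ * (B.sρ ⟨q, hq⟩)⁻¹ * (B.sρ ⟨q', hq'⟩)⁻¹ := by
      have c1 := (hcen e he ⟨q', hq'⟩).symm.eq
      calc _ = B.sρ ⟨q, hq⟩ * ((e * B.sρ ⟨q', hq'⟩) * f * e⁻¹) * (B.sρ ⟨q, hq⟩)⁻¹ *
            (f⁻¹ * (B.sρ ⟨q', hq'⟩)⁻¹) := by simp [mul_assoc]
        _ = B.sρ ⟨q, hq⟩ * (B.sρ ⟨q', hq'⟩ * f) * (B.sρ ⟨q, hq⟩)⁻¹ *
            (f⁻¹ * (B.sρ ⟨q', hq'⟩)⁻¹) := by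
            rw [c1, mul_assoc _ e f, hef.eq]; simp [mul_assoc]
        _ = B.sρ ⟨q, hq⟩ * B.sρ ⟨q', hq'⟩ * (f * (B.sρ ⟨q, hq⟩)⁻¹) * f⁻¹ * (B.sρ ⟨q', hq'⟩)⁻¹ := by
            simp [mul_assoc]
        _ = _ := by rw [← (hcen f hf ⟨q, hq⟩).inv_left.eq]; simp [mul_assoc]
    rw [e1, hz'] at h
    exact h
  have hJ : ∀ (q : Q) (hq : (q : Subgroup.centralizer ({z} : Set G)) ∈ B.sH), B.sρ ⟨q, hq⟩ ∈ K := by
    intro q hq
    obtain ⟨e, he, heK⟩ := hexact q hq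
    rcases he with rfl | rfl
    · rwa [mul_one] at heK
    · exact (Subgroup.mul_mem_cancel_right K hz).1 heK
  have hkv : ∀ g ∈ KV smallV, ∀ k : ↥B.sH,
      (k : Subgroup.centralizer ({z} : Set G)) * B.x = B.x * k →
      (∀ v, D.act (k : Subgroup.centralizer ({z} : Set G)) v = mat g *ᵥ v) → B.sρ k ∈ K := by
    intro g hg
    refine And.left (And.intro ?_ trivial)
    suffices hh : g ∈ KV smallV ∧ ∀ k : ↥B.sH,
        (k : Subgroup.centralizer ({z} : Set G)) * B.x = B.x * k →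
        (∀ v, D.act (k : Subgroup.centralizer ({z} : Set G)) v = mat g *ᵥ v) → B.sρ k ∈ K from hh.2
    have huniq : ∀ (k k' : ↥B.sH), (k : Subgroup.centralizer ({z} : Set G)) * B.x = B.x * k →
        (k' : Subgroup.centralizer ({z} : Set G)) * B.x = B.x * k' →
        (∀ v, D.act (k : Subgroup.centralizer ({z} : Set G)) v =
          D.act (k' : Subgroup.centralizer ({z} : Set G)) v) → B.sρ k ∈ K → B.sρ k' ∈ K := by
      intro k k' h1 h2 e hk
      rcases D.lift_unique B.x_act h1 h2 e with e' | e'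
      · rwa [show k' = k from Subtype.ext e']
      · rw [show k' = k * ⟨zH z, B.zH_mem_sH⟩ from Subtype.ext e', map_mul, B.sρ_zH]
        exact mul_mem hk hz
    refine kv_induction D.card_F9 (P := fun g => g ∈ KV smallV ∧ ∀ k : ↥B.sH,
      (k : Subgroup.centralizer ({z} : Set G)) * B.x = B.x * k →
      (∀ v, D.act (k : Subgroup.centralizer ({z} : Set G)) v = mat g *ᵥ v) → B.sρ k ∈ K) ?_ ?_ ?_ hg
    · refine ⟨one_mem _, fun k hk e => huniq 1 k ?_ hk (fun v => ?_) (by rw [map_one]; exact one_mem _)⟩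
      · show (1 : Subgroup.centralizer ({z} : Set G)) * B.x = B.x * 1
        rw [one_mul, mul_one]
      · rw [OneMemClass.coe_one, map_one, e, map_one, Matrix.one_mulVec]; rfl
    · rintro a b ⟨ha, hak⟩ ⟨hb, hbk⟩
      refine ⟨mul_mem ha hb, fun k hk e => ?_⟩
      obtain ⟨ka, kax, kae⟩ := B.exists_lift_KV ha
      obtain ⟨kb, kbx, kbe⟩ := B.exists_lift_KV hb
      refine huniq (ka * kb) k ((show Commute _ _ from kax).mul_left kbx).eq hk (fun v => ?_)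
        (by rw [map_mul]; exact mul_mem (hak ka kax kae) (hbk kb kbx kbe))
      rw [Subgroup.coe_mul, D.act_mul_apply, kbe, kae, e, Matrix.mulVec_mulVec, ← map_mul]
    · intro i hi
      refine ⟨tg_mem hi, fun k hk e => ?_⟩
      obtain ⟨⟨h, eh, hx, ea⟩, -, -⟩ := B.sk_spec hF hN hi
      exact huniq h k hx hk (fun v => by rw [ea, e]) (eh ▸ hsk i hi)
  rintro _ ⟨h, rfl⟩
  obtain ⟨g, hg, q, k, hq, hkx, ek, -, rfl⟩ := B.decomp hF h
  rw [map_mul]
  exact mul_mem (hJ q hq) (hkv g hg k hkx ek)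

/-- a nontrivial subgroup normalised by the centraliser contains the involution -/
theorem zS_mem_normal (hF : Cfsg.IsOfLargeFischerTypeAt z Q) (hN : B.Normed) (N : Subgroup B.SX)
    (hNC : N ≤ Subgroup.centralizer ({B.zS} : Set B.SX))
    (hn : ∀ g : B.SX, Commute g B.zS → ∀ x ∈ N, g * x * g⁻¹ ∈ N) (hne : N ≠ ⊥) : B.zS ∈ N := by
  obtain ⟨x, hx, hx1⟩ := N.bot_or_exists_ne_one.resolve_left hne
  obtain ⟨h, rfl⟩ := (B.sρ_range hF hN).ge (hNC hx)
  by_cases hc : ∀ a ∈ B.sJ, Commute (B.sρ h) a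
  · exact ((B.cent_sJ hF h hc).resolve_left hx1) ▸ hx
  · push Not at hc
    obtain ⟨a, ha, hna⟩ := hc
    obtain ⟨k, hk, rfl⟩ := ha
    set c := B.sρ h * B.sρ k * (B.sρ h)⁻¹ * (B.sρ k)⁻¹ with hcdef
    have hcN : c ∈ N := by
      rw [hcdef, show B.sρ h * B.sρ k * (B.sρ h)⁻¹ * (B.sρ k)⁻¹ =
        B.sρ h * (B.sρ k * (B.sρ h)⁻¹ * (B.sρ k)⁻¹) by simp [mul_assoc]]
      exact mul_mem hx (hn _ (B.sρ_commute k) _ (inv_mem hx))
    have hcJ : c ∈ B.sJ := mul_mem (B.sJ_conj h ⟨k, hk, rfl⟩) (inv_mem ⟨k, hk, rfl⟩)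
    have hc1 : c ≠ 1 := fun e => hna (mul_inv_eq_iff_eq_mul.1 (mul_inv_eq_one.1 e))
    obtain ⟨q, hq, eq⟩ := B.mem_sJ.1 hcJ
    by_cases hcc : ∀ b ∈ B.sJ, Commute c b
    · rcases B.cent_sJ hF ⟨q, hq⟩ (eq.symm ▸ hcc) with e | e
      · exact absurd (eq.symm.trans e) hc1
      · rw [← e, eq]; exact hcN
    · push Not at hcc
      obtain ⟨b, hb, hnb⟩ := hcc
      obtain ⟨q', hq', rfl⟩ := B.mem_sJ.1 hb
      rw [← eq] at hnb hcN
      rw [← (B.sJ_comm hq hq').2 hnb, show B.sρ ⟨q, hq⟩ * B.sρ ⟨q', hq'⟩ * (B.sρ ⟨q, hq⟩)⁻¹ *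
        (B.sρ ⟨q', hq'⟩)⁻¹ = B.sρ ⟨q, hq⟩ * (B.sρ ⟨q', hq'⟩ * (B.sρ ⟨q, hq⟩)⁻¹ * (B.sρ ⟨q', hq'⟩)⁻¹) by
        simp [mul_assoc]]
      exact mul_mem hcN (hn _ (B.sρ_commute _) _ (inv_mem hcN))

theorem sX_odd_index (hF : Cfsg.IsOfLargeFischerTypeAt z Q) (hN : B.Normed) :
    Odd (Subgroup.centralizer ({B.zS} : Set B.SX)).index := by
  haveI : Fact (Nat.Prime 2) := ⟨Nat.prime_two⟩
  set C := Subgroup.centralizer ({B.zS} : Set B.SX) with hC
  have hJC : B.sJ ≤ C := fun a ⟨k, _, e⟩ => e ▸ (B.sρ_range hF hN).le ⟨k, rfl⟩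
  obtain ⟨S0, hS0⟩ := (B.sJ_isPGroup.comap_subtype : IsPGroup 2 (B.sJ.subgroupOf C)).exists_le_sylow
  set S' := (S0 : Subgroup C).map C.subtype with hS'
  have hS'C : S' ≤ C := Subgroup.map_subtype_le _
  have hJS : B.sJ ≤ S' := fun a ha => ⟨⟨a, hJC ha⟩, hS0 ha, rfl⟩
  obtain ⟨T, hT⟩ := (S0.2.map C.subtype : IsPGroup 2 S').exists_le_sylow
  have hmax : ∀ u ∈ (T : Subgroup B.SX), u ∈ C → u ∈ S' := by
    intro u hu huC
    have hp : IsPGroup 2 ((T : Subgroup B.SX).subgroupOf C) := T.2.comap_subtype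
    have hle : (S0 : Subgroup C) ≤ (T : Subgroup B.SX).subgroupOf C := fun v hv => hT ⟨v, hv, rfl⟩
    exact ⟨⟨u, huC⟩, (S0.3 hp hle).le hu, rfl⟩
  have hTC : (T : Subgroup B.SX) ≤ C := by
    haveI : Group.IsNilpotent ↥(T : Subgroup B.SX) := T.2.isNilpotent
    by_contra hno
    have hlt : S'.subgroupOf (T : Subgroup B.SX) < ⊤ := by
      refine lt_top_iff_ne_top.2 fun e => hno fun u hu => hS'C ?_
      exact Subgroup.mem_subgroupOf.1 (e ▸ Subgroup.mem_top (⟨u, hu⟩ : (T : Subgroup B.SX)))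
    obtain ⟨t, htn, htS⟩ := SetLike.exists_of_lt (Group.normalizerCondition_of_isNilpotent _ hlt)
    refine htS (Subgroup.mem_subgroupOf.2 (hmax t t.2 ?_))
    have hnorm : ∀ u ∈ S', (t : B.SX)⁻¹ * u * t ∈ S' := by
      intro u hu
      have := (Subgroup.mem_normalizer_iff.1 (inv_mem htn) ⟨u, hT hu⟩).1 hu
      simpa [Subgroup.mem_subgroupOf] using this
    have hzS : B.zS ∈ S' := hJS B.zS_mem_sJ
    -- the conjugate is central in the image
    set y := (t : B.SX) * B.zS * (t : B.SX)⁻¹ with hy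
    have hyS : y ∈ S' := by
      have := (Subgroup.mem_normalizer_iff.1 htn ⟨B.zS, hT hzS⟩).1 hzS
      simpa [Subgroup.mem_subgroupOf] using this
    obtain ⟨h, hh⟩ := (B.sρ_range hF hN).ge (hS'C hyS)
    have hcen : ∀ a ∈ B.sJ, Commute (B.sρ h) a := by
      intro a ha
      have h1 : Commute ((t : B.SX)⁻¹ * a * t) B.zS :=
        Subgroup.mem_centralizer_singleton_iff.1 (hS'C (hnorm a (hJS ha)))
      rw [hh]
      have h2 := h1.symm.map (MulAut.conj (t : B.SX)).toMonoidHom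
      simpa [mul_assoc, hy] using h2
    refine Subgroup.mem_centralizer_singleton_iff.2 ?_
    rcases B.cent_sJ hF h hcen with e | e <;> rw [hh] at e
    · exact absurd (conj_eq_one_iff.1 e) B.zS_ne_one
    · exact mul_inv_eq_iff_eq_mul.1 e
  have hodd := T.not_dvd_index
  rw [Nat.odd_iff]
  by_contra h
  exact hodd ((Nat.dvd_of_mod_eq_zero (by omega)).trans (Subgroup.index_dvd_of_le hTC))

/-- the centraliser -/
theorem sX_cent (hF : Cfsg.IsOfLargeFischerTypeAt z Q) (hN : B.Normed) :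
    CfsgLib.KnownB.TypeUSix.Cent B.sD B.zS where
  card := B.sX_card hF hN
  odd_index := B.sX_odd_index hF hN
  gen := B.sX_gen hF hN
  core := by
    intro hle
    have hK := B.sX_gen hF hN
    set K := Subgroup.closure (nb B.sD B.zS)
    have hJK : B.sJ ≤ K := fun a ⟨k, _, e⟩ => e ▸ hK.ge ((B.sρ_range hF hN).le ⟨k, rfl⟩)
    haveI : (B.sJ.subgroupOf K).Normal := ⟨fun a ha k => by
      obtain ⟨h, hh⟩ := (B.sρ_range hF hN).ge (hK.le k.2)
      rw [Subgroup.mem_subgroupOf] at ha ⊢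
      show (k : B.SX) * a * (k : B.SX)⁻¹ ∈ B.sJ
      rw [← hh]
      exact B.sJ_conj h ha⟩
    have hJc : B.sJ.subgroupOf K ≤ Subgroup.center K :=
      (CfsgLib.Base.le_pCore (N := B.sJ.subgroupOf K) B.sJ_isPGroup.comap_subtype).trans hle
    obtain ⟨w, hw, h1⟩ := exists_value (i := 0) (by norm_num) (1 : K4)
    obtain ⟨q, hq, rfl⟩ := B.exists_sQ hw
    have hqJ : B.sρ ⟨q, hq⟩ ∈ B.sJ := ⟨⟨q, hq⟩, q.2, rfl⟩
    have h2 := congrArg Subtype.val (Subgroup.mem_center_iff.1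
      (hJc (show (⟨_, hJK hqJ⟩ : K) ∈ B.sJ.subgroupOf K from hqJ))
      ⟨B.sk 0, Subgroup.subset_closure (B.sk_mem_nb hF hN (by norm_num))⟩)
    have h3 := (B.sk_comm_iff hF hN (by norm_num) hq).1 h2
    rw [h1] at h3
    exact one_ne_zero h3
  odd_trivial := fun N hNC hn hodd => by
    by_contra hne
    have hz := B.zS_mem_normal hF hN N hNC hn hne
    have h2 : orderOf B.zS = 2 :=
      haveI : Fact (Nat.Prime 2) := ⟨Nat.prime_two⟩
      orderOf_eq_prime (by rw [pow_two]; exact B.zS_sq) B.zS_ne_one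
    exact (Nat.not_even_iff_odd.2 hodd) (even_iff_two_dvd.2 (h2 ▸ Subgroup.orderOf_dvd_natCard N hz))
  two_mem := fun N hNC hn _ hne => B.zS_mem_normal hF hN N hNC hn hne
  derived := by
    have h := B.z_mem_commutator hF hN
    rw [show ⁅B.sC, B.sC⁆ = Subgroup.map B.sC.subtype (commutator ↥B.sC) by
      rw [commutator_def, Subgroup.map_commutator, ← MonoidHom.range_eq_map, Subgroup.range_subtype]] at h
    obtain ⟨c, hc, e⟩ := h
    have hc' := Subgroup.mem_map_of_mem B.sπ hc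
    rw [commutator_def, Subgroup.map_commutator] at hc'
    rw [commutator_def]
    rw [show B.zS = B.sπ c from congrArg B.sπ (Subtype.ext e.symm)]
    exact Subgroup.commutator_mono le_top le_top hc'

end Model.ABase

end CfsgLib.Spor.LargeFi
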