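import Cfsg.Agent.Lib.Spor.LargeFi.SixMaxi
import Cfsg.Agent.Lib.KnownB.TypeUSix.Defs

/-!
The data of the quotient `C(E)/E` from the facts around the image of the central involution.
-/

set_option autoImplicit false
set_option linter.style.haveILetI false

namespace CfsgLib.Spor.LargeFi

open Cfsg CfsgLib.ThreeTransp CfsgLib.KnownB.TypeUSix

namespace Model.ABase

variable {G : Type*} [Group G] [Finite G] {z : G} {Q : Subgroup (Subgroup.centralizer ({z} : Set G))} [Q.Normal]
  {D : Model Q (zH z)} (B : D.ABase)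

theorem orderOf_zS : orderOf B.zS = 2 := by
  haveI := Fact.mk Nat.prime_two
  refine orderOf_eq_prime ?_ fun e => B.z_not_mem_sE ?_
  · rw [zS, ← map_pow, show (⟨z, B.z_mem_sC⟩ : ↥B.sC) ^ 2 = 1 from Subtype.ext (by
      have h1 : B.elG 1 * B.elG 1 = 1 := by
        rw [← B.elG_xor, show Nat.xor 1 1 = 0 from Nat.xor_self 1, B.elG_zero]
      rw [B.elG_one] at h1
      rw [Subgroup.coe_pow, pow_two, Subgroup.coe_one]
      exact h1), map_one]
  · obtain ⟨e', he', h⟩ := B.sπ_eq_iff.1 (show B.sπ 1 = B.sπ ⟨z, B.z_mem_sC⟩ by rw [map_one]; exact e.symm)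
    rw [Subgroup.coe_one, one_mul] at h
    exact (show z = e' from h) ▸ he'

/-- The data. -/
theorem sData_of (hF : Cfsg.IsOfLargeFischerTypeAt z Q) (hN : B.Normed)
    (hL : Local (conjugatesOf B.zS) B.zS) (hC : Cent (conjugatesOf B.zS) B.zS)
    (hP : ∀ x : B.SX, Commute x B.zS → x * x = 1 → ∃ g, Commute g B.zS ∧ g * x * g⁻¹ ∈ B.sA) : Data B.zS :=
  ⟨B.orderOf_zS, hL, hC, B.sA,
    { base := B.zS_mem_sD
      mem := B.zS_mem_sA
      comm := B.sA_comm
      sq := B.sA_sq
      types := B.sA_types hF hN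
      pull := hP
      rel := B.sA_rel hF hN
      maxi := B.sA_maxi hF hN
      outside := B.sA_outside hF hN
      second := B.sA_second hF hN }⟩

end Model.ABase

end CfsgLib.Spor.LargeFi
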