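import Cfsg.Agent.Lib.Spor.LargeFi.SixSetup
import Cfsg.Agent.Lib.KnownB.TypeUSix.Quasi

/-!
From the identification of `C(E)/E` to the shape of `C(E)`.
-/

set_option autoImplicit false

namespace CfsgLib.Spor.LargeFi

open Cfsg CfsgLib.KnownB.TypeUSix

variable {G : Type*} [Group G] [Finite G] {z : G} {Q : Subgroup (Subgroup.centralizer ({z} : Set G))} [Q.Normal]
  {D : Model Q (zH z)}

/-- The conclusion for the four-group of the setup, from the quotient. -/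
theorem exists_four_of_quot (B : D.ABase) (hF : Cfsg.IsOfLargeFischerTypeAt z Q) (hN : B.Normed)
    (hE : B.sE.subgroupOf B.sC ≤ commutator ↥B.sC)
    (hX : ∃ (F : Type) (_ : Field F) (_ : Fintype F), Fintype.card F = 4 ∧ Nonempty (B.SX ≃* Cfsg.PSU 6 F 2)) :
    ∃ E : Subgroup G, E ≤ (Q.map (Subgroup.centralizer ({z} : Set G)).subtype) ∧ Cfsg.IsElementaryAbelian 2 E ∧
      Nat.card E = 4 ∧ z ∉ E ∧ (∃ t ∈ E, orderOf t = 2 ∧ ¬ IsConj z t) ∧
      Cfsg.IsQuasisimple ↥(Subgroup.centralizer (E : Set G)) ∧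
      ∃ (_ : (E.subgroupOf (Subgroup.centralizer (E : Set G))).Normal) (K : Type) (_ : Field K) (_ : Fintype K),
        Fintype.card K = 4 ∧ Nonempty (↥(Subgroup.centralizer (E : Set G)) ⧸
          E.subgroupOf (Subgroup.centralizer (E : Set G)) ≃* Cfsg.PSU 6 K 2) := by
  obtain ⟨F, _, _, hF4, ⟨e⟩⟩ := hX
  have hn : (B.sE.subgroupOf B.sC).Normal := inferInstance
  have hc : B.sE.subgroupOf B.sC ≤ Subgroup.center ↥B.sC := fun x hx =>
    Subgroup.mem_center_iff.2 fun y => Subtype.ext ((Subgroup.mem_centralizer_iff.1 y.2 _ hx).symm)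
  refine ⟨B.sE, B.sE_le_qG, B.sE_elementary, B.card_sE, B.z_not_mem_sE, ?_,
    isQuasisimple_of_psu (C := ↥B.sC) (B.sE.subgroupOf B.sC) hc hE hF4 e, hn, F, inferInstance, inferInstance, hF4, ⟨e⟩⟩
  have hne : B.sE ≠ ⊥ := fun h0 => by
    have h1 := B.card_sE
    rw [h0, Subgroup.card_bot] at h1
    omega
  obtain ⟨t, ht⟩ := Subgroup.ne_bot_iff_exists_ne_one.1 hne
  exact ⟨t, t.2, orderOf_eq_prime (B.sE_elementary.2 _ t.2) fun e0 => ht (Subtype.ext e0),
    B.sE_not_conj hF hN t.2⟩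

end CfsgLib.Spor.LargeFi
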