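import Cfsg.Agent.Lib.Spor.LargeFi.SixPtChk
import Cfsg.Agent.Lib.Spor.LargeFi.Real
import Cfsg.Agent.Lib.Spor.LargeFi.AFacts

/-!
The stabiliser of a small singular vector on the vectors orthogonal to it: forty-five transvections,
their points, and representatives of the involutions.
-/

set_option autoImplicit false
set_option maxRecDepth 100000

namespace CfsgLib.Spor.LargeFi.SixPt

open CfsgLib.Spor.U62 CfsgLib.Spor.HSUnitary CfsgLib.Spor.LargeFi
open Matrix

/-- the form -/
abbrev hm (u w : V6) : K4 := Cfsg.hermForm 6 K4 2 u w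

/-- orthogonal to the small representative -/
def Perp (w : V6) : Prop := hm w smallV = 0

/-- a multiple of the small representative -/
def Line (w : V6) : Prop := lineB (vc w) = true

/-- the vector of a point -/
def rV (i : ℕ) : V6 := vOf (rC i)

/-- the transvection of a point -/
noncomputable def tg (i : ℕ) : U6 := U62.el (tC i)

/-- the mover of a line -/
noncomputable def lg (m : ℕ) : U6 := U62.el (lineG.getD m oneC)

/-- the mover of a distinguished point -/
noncomputable def fg (k : ℕ) : U6 := U62.el (fiveG.getD k oneC)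

/-! ### Further checks -/

theorem line_cases : ([0, smallRoot, smC 2 smallRoot, smC 3 smallRoot].all fun x =>
    Nat.blt x 4096 && Nat.beq (nfC x) 0 && (List.range 45).all fun i => Nat.beq (hC x (rC i)) 0) = true := by
  decide +kernel

theorem smC_line : ((List.range 4).all fun c => lineB (smC c smallRoot)) = true := by decide +kernel

theorem t_closed : (genT.all fun g => Nat.beq (mulC g g) oneC && (List.range 45).all fun i =>
    memB tL (mulC (mulC g (tC i)) g)) = true := by decide +kernel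

theorem comm_span : ([0, 1, 3, 9].all fun i => (List.range 4).all fun c => perpW.any fun w =>
    lineB (Nat.xor (Nat.xor (mvC (tC i) w) w) (smC c (rC i)))) = true := by decide +kernel

theorem perp_perp_check : ((List.range 4096).all fun a => lineB a || !Nat.beq (hC a smallRoot) 0 ||
    [rC 0, rC 1, rC 3, rC 9].any fun r => !Nat.beq (hC a r) 0) = true := by decide +kernel

theorem smallV_code : vc smallV = smallRoot := by
  have h := smallRoot_mem
  rw [Bool.and_eq_true, Nat.beq_eq] at h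
  exact h.1

/-! ### The form -/

theorem kOf_hC (u w : V6) : kOf (hC (vc u) (vc w)) = hm u w := by
  have hs : ∀ x < 4, kOf (sqN x) = kOf x ^ 2 := by decide +kernel
  rw [hC, kOf_dot6 (fun k => entV_lt _ _) fun k => sqN_lt _, hm, Cfsg.hermForm]
  refine Finset.sum_congr rfl fun i _ => ?_
  rw [hs _ (entV_lt _ _)]
  exact congrArg₂ (fun a b => a * b ^ 2) (congrFun (vOf_vc u) i) (congrFun (vOf_vc w) i)

theorem hm_code (u w : V6) {c : ℕ} (hc : c < 4) : hm u w = kOf c ↔ hC (vc u) (vc w) = c := by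
  rw [← kOf_hC]
  exact ⟨fun h => kOf_inj _ (dot6_lt _ _) _ hc h, fun h => by rw [h]⟩

theorem hm_zero (u w : V6) : hm u w = 0 ↔ hC (vc u) (vc w) = 0 := by
  rw [← show kOf 0 = 0 by decide +kernel]
  exact hm_code u w (by norm_num)

theorem hm_add (u u' w : V6) : hm (u + u') w = hm u w + hm u' w := by
  simp only [hm, Cfsg.hermForm, Pi.add_apply, add_mul, Finset.sum_add_distrib]

theorem hm_smul (c : K4) (u w : V6) : hm (c • u) w = c * hm u w := by
  simp only [hm, Cfsg.hermForm, Pi.smul_apply, smul_eq_mul, Finset.mul_sum, mul_assoc]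

theorem hm_om (u w : V6) : hm u (om • w) = om ^ 2 * hm u w := by
  simp only [hm, Cfsg.hermForm, Pi.smul_apply, smul_eq_mul, Finset.mul_sum]
  exact Finset.sum_congr rfl fun i _ => by ring

theorem zero_of_im : ∀ a : K4, a.im = 0 → (om ^ 2 * a).im = 0 → a = 0 := by
  have h : ∀ x y : ZMod 2, y = 0 → (om ^ 2 * (⟨x, y⟩ : K4)).im = 0 → (⟨x, y⟩ : K4) = 0 := by
    decide +kernel
  exact fun a => h a.re a.im

theorem hm_mat (g : U6) (u w : V6) : hm (mat g *ᵥ u) (mat g *ᵥ w) = hm u w := g.2 u w

theorem vc_smul (c : K4) (v : V6) : vc (c • v) = smC (kCode c) (vc v) := by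
  apply Eq.symm
  have hlt : smC (kCode c) (vc v) < 4096 := buildV_lt fun _ => mulN_lt _ _
  rw [← vc_vOf hlt]
  congr 1
  funext i
  show kOf (entV (smC (kCode c) (vc v)) i) = c * v i
  rw [smC, entV_buildV (fun _ => mulN_lt _ _) i.2, kOf_mul _ (kCode_lt c) _ (entV_lt _ _), kOf_code,
    show kOf (entV (vc v) i) = v i from congrFun (vOf_vc v) i]

theorem mem_perpW {w : V6} : Perp w ↔ vc w ∈ perpW := by
  rw [perpW, List.mem_filter, List.mem_range, Nat.beq_eq, Perp, hm_zero, smallV_code]
  exact ⟨fun h => ⟨vc_lt _, h⟩, fun h => h.2⟩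

theorem perp_vOf {u : ℕ} (hu : u ∈ perpW) : Perp (vOf u) := by
  rw [mem_perpW, vc_vOf (List.mem_range.1 (List.mem_filter.1 hu).1)]
  exact hu

theorem Perp.add {u w : V6} (hu : Perp u) (hw : Perp w) : Perp (u + w) := by
  rw [Perp, hm_add, show hm u smallV = 0 from hu, show hm w smallV = 0 from hw, add_zero]

theorem Perp.smul {u : V6} (hu : Perp u) (c : K4) : Perp (c • u) := by
  rw [Perp, hm_smul, show hm u smallV = 0 from hu, mul_zero]

theorem Perp.map {g : U6} (hg : g ∈ KV smallV) {u : V6} (hu : Perp u) : Perp (mat g *ᵥ u) := by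
  have h := hm_mat g u smallV
  rw [(mem_KV.1 hg).2] at h
  exact h.trans hu

theorem rep_spec {i : ℕ} (hi : i < 45) :
    vc (rV i) = rC i ∧ Perp (rV i) ∧ nf (rV i) = 0 ∧ ¬ Line (rV i) := by
  have h := List.all_eq_true.1 rep_ok i (List.mem_range.2 hi)
  simp only [Bool.and_eq_true, Nat.blt_eq, Nat.beq_eq, Bool.not_eq_true'] at h
  have e : vc (rV i) = rC i := vc_vOf h.1.1.1
  refine ⟨e, ?_, ?_, ?_⟩
  · rw [Perp, hm_zero, e, smallV_code]; exact h.1.1.2
  · rw [nf_eq_zero_iff, e]; exact h.1.2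
  · rw [Line, e, h.2]; exact Bool.false_ne_true

/-! ### The line -/

theorem line_iff {w : V6} : Line w ↔ ∃ c : K4, w = c • smallV := by
  constructor
  · intro h
    have h' : vc w ∈ [0, smallRoot, smC 2 smallRoot, smC 3 smallRoot] := memV_iff.1 h
    have hk : ∀ c : ℕ, c < 4 → vc w = smC c smallRoot → ∃ c : K4, w = c • smallV := fun c hc e =>
      ⟨kOf c, vc_injective (by rw [vc_smul, kCode_kOf c hc, smallV_code, e])⟩
    simp only [List.mem_cons, List.not_mem_nil, or_false] at h'
    rcases h' with e | e | e | e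
    · exact ⟨0, vc_injective (by rw [e, zero_smul, vc_zero])⟩
    · exact ⟨1, vc_injective (by rw [e, one_smul, smallV_code])⟩
    · exact hk 2 (by norm_num) e
    · exact hk 3 (by norm_num) e
  · rintro ⟨c, rfl⟩
    rw [Line, vc_smul, smallV_code]
    exact List.all_eq_true.1 smC_line _ (List.mem_range.2 (kCode_lt c))

theorem line_zero : Line 0 := line_iff.2 ⟨0, (zero_smul _ _).symm⟩

theorem Line.add {u w : V6} (hu : Line u) (hw : Line w) : Line (u + w) := by
  obtain ⟨a, rfl⟩ := line_iff.1 hu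
  obtain ⟨b, rfl⟩ := line_iff.1 hw
  exact line_iff.2 ⟨a + b, (add_smul _ _ _).symm⟩

theorem Line.smul {u : V6} (hu : Line u) (c : K4) : Line (c • u) := by
  obtain ⟨a, rfl⟩ := line_iff.1 hu
  exact line_iff.2 ⟨c * a, by rw [smul_smul]⟩

theorem Line.map {g : U6} (hg : g ∈ KV smallV) {u : V6} (hu : Line u) : Line (mat g *ᵥ u) := by
  obtain ⟨a, rfl⟩ := line_iff.1 hu
  exact line_iff.2 ⟨a, by rw [Matrix.mulVec_smul, (mem_KV.1 hg).2]⟩

theorem Line.fixed {g : U6} (hg : g ∈ KV smallV) {u : V6} (hu : Line u) : mat g *ᵥ u = u := by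
  obtain ⟨a, rfl⟩ := line_iff.1 hu
  rw [Matrix.mulVec_smul, (mem_KV.1 hg).2]

theorem line_code {u : V6} (hu : Line u) :
    vc u ∈ fixL ∧ nf u = 0 ∧ ∀ i < 45, hm u (rV i) = 0 := by
  have h' : vc u ∈ [0, smallRoot, smC 2 smallRoot, smC 3 smallRoot] := memV_iff.1 hu
  have h := List.all_eq_true.1 line_cases _ h'
  simp only [Bool.and_eq_true, Nat.beq_eq, List.all_eq_true, List.mem_range] at h
  refine ⟨memV_iff.1 (List.all_eq_true.1 fixL_small _ h'), (nf_eq_zero_iff _).2 h.1.2, fun i hi => ?_⟩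
  rw [hm_zero, (rep_spec hi).1]
  exact h.2 i hi

theorem line_perp {u : V6} (hu : Line u) : Perp u := by
  obtain ⟨c, rfl⟩ := line_iff.1 hu
  have h0 : Perp smallV := by
    rw [Perp, hm_zero, smallV_code]
    decide +kernel
  exact h0.smul c

theorem fixL_add {u w : V6} (hu : vc u ∈ fixL) (hw : vc w ∈ fixL) : vc (u + w) ∈ fixL := by
  rw [vc_add]; exact (fixL_facts.2 _ hu).2.2.2.1 _ hw

theorem fixL_smul {u : V6} (hu : vc u ∈ fixL) (c : K4) : vc (c • u) ∈ fixL := by
  have ho : ∀ v : V6, vc v ∈ fixL → vc (om • v) ∈ fixL := fun v hv => by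
    rw [vc_om_smul]; exact (fixL_facts.2 _ hv).2.2.1
  have hc : ∀ a b : ZMod 2, (⟨a, b⟩ : K4) = 0 ∨ (⟨a, b⟩ : K4) = 1 ∨ (⟨a, b⟩ : K4) = om ∨
      (⟨a, b⟩ : K4) = om * om := by decide +kernel
  rcases (show c = 0 ∨ c = 1 ∨ c = om ∨ c = om * om from hc c.re c.im) with e | e | e | e <;> rw [e]
  · rw [zero_smul, vc_zero]; exact fixL_facts.1
  · rwa [one_smul]
  · exact ho u hu
  · rw [← smul_smul]; exact ho _ (ho u hu)

theorem indep_pair {i l : ℕ} (hi : i < 45) (hl : l < 45) (hne : i ≠ l) (a b : K4) :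
    ∃ w, Perp w ∧ hm w (rV i) = a ∧ hm w (rV l) = b := by
  have key : ∀ p q : ℕ, p < 45 → q < 45 → p ≠ q → ∃ w, Perp w ∧ hm w (rV p) = 1 ∧ hm w (rV q) = 0 := by
    intro p q hp hq hpq
    have h := List.all_eq_true.1 (List.all_eq_true.1 indep p (List.mem_range.2 hp)) q (List.mem_range.2 hq)
    simp only [Bool.or_eq_true, Nat.beq_eq, List.any_eq_true, Bool.and_eq_true] at h
    obtain ⟨w, hw, h1, h2⟩ := h.resolve_left hpq
    refine ⟨vOf w, perp_vOf hw, ?_, ?_⟩
    · rw [← kOf_hC, vc_vOf (List.mem_range.1 (List.mem_filter.1 hw).1), (rep_spec hp).1, h1]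
      decide +kernel
    · rw [hm_zero, vc_vOf (List.mem_range.1 (List.mem_filter.1 hw).1), (rep_spec hq).1, h2]
  obtain ⟨u, hu, u1, u0⟩ := key i l hi hl hne
  obtain ⟨w, hw, w1, w0⟩ := key l i hl hi (Ne.symm hne)
  exact ⟨a • u + b • w, (hu.smul a).add (hw.smul b),
    by rw [hm_add, hm_smul, hm_smul, u1, w0, mul_one, mul_zero, add_zero],
    by rw [hm_add, hm_smul, hm_smul, u0, w1, mul_one, mul_zero, zero_add]⟩

theorem exists_value {i : ℕ} (hi : i < 45) (a : K4) : ∃ w, Perp w ∧ hm w (rV i) = a := by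
  obtain ⟨w, hw, h1⟩ := List.any_eq_true.1 (List.all_eq_true.1 nondeg_each i (List.mem_range.2 hi))
  refine ⟨a • vOf w, (perp_vOf hw).smul a, ?_⟩
  rw [hm_smul, ← kOf_hC, vc_vOf (List.mem_range.1 (List.mem_filter.1 hw).1), (rep_spec hi).1,
    Nat.eq_of_beq_eq_true h1, show kOf 1 = 1 by decide +kernel, mul_one]

theorem line_of_im {a : V6} (hp : Perp a) (h : ∀ w, Perp w → (hm a w).im = 0) : Line a := by
  have h0 : ∀ i < 45, hC (vc a) (rC i) = 0 := fun i hi => by
    rw [← (rep_spec hi).1, ← hm_zero]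
    refine zero_of_im _ (h _ (rep_spec hi).2.1) ?_
    rw [← hm_om]
    exact h _ ((rep_spec hi).2.1.smul om)
  have e := List.all_eq_true.1 perp_perp_check (vc a) (List.mem_range.2 (vc_lt a))
  simp only [Bool.or_eq_true, Bool.not_eq_true', ← Bool.not_eq_true, Nat.beq_eq, List.any_eq_true] at e
  rcases e with (e | e) | ⟨r, hr, e⟩
  · exact e
  · exact absurd (by rw [← smallV_code, ← hm_zero]; exact hp) e
  · exfalso
    simp only [List.mem_cons, List.not_mem_nil, or_false] at hr
    rcases hr with rfl | rfl | rfl | rfl <;> exact e (h0 _ (by norm_num))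

theorem mem_foldl {P : ℕ → Prop} : ∀ (l acc : List ℕ),
    (∀ r ∈ l, ∀ c < 4, ∀ x, P x → P (Nat.xor x (smC c r))) → (∀ x ∈ acc, P x) →
      ∀ x ∈ l.foldl (fun acc r => (List.range 4).flatMap fun c => acc.map fun x => Nat.xor x (smC c r)) acc,
        P x
  | [], _, _, hacc => hacc
  | r :: l, acc, hl, hacc => mem_foldl l _ (fun s hs => hl s (List.mem_cons_of_mem _ hs)) fun x hx => by
    obtain ⟨c, hc, hx⟩ := List.mem_flatMap.1 hx
    obtain ⟨y, hy, rfl⟩ := List.mem_map.1 hx
    exact hl r List.mem_cons_self c (List.mem_range.1 hc) y (hacc y hy)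

/-- four points and the line span the orthogonal space -/
theorem perp_induction {P : V6 → Prop} (hline : ∀ u, Line u → P u)
    (hadd : ∀ u w, P u → P w → P (u + w))
    (hrep : ∀ i ∈ [0, 1, 3, 9], ∀ c : K4, P (c • rV i)) {w : V6} (hw : Perp w) : P w := by
  have h := List.all_eq_true.1 span_ok _ (mem_perpW.1 hw)
  rw [inM_mask] at h
  rw [← vOf_vc w]
  refine mem_foldl (P := fun x => P (vOf x)) _ _ ?_ ?_ _ h
  · intro r hr c hc x hx
    rw [vOf_xor]
    refine hadd _ _ hx ?_
    have e : ∀ i, i < 45 → vOf (smC c (rC i)) = kOf c • rV i := fun i hi => by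
      rw [← vOf_vc (kOf c • rV i), vc_smul, kCode_kOf c hc, (rep_spec hi).1]
    simp only [List.mem_cons, List.not_mem_nil, or_false] at hr
    rcases hr with rfl | rfl | rfl | rfl | rfl
    · rw [e 0 (by norm_num)]; exact hrep 0 (by simp) _
    · rw [e 1 (by norm_num)]; exact hrep 1 (by simp) _
    · rw [e 3 (by norm_num)]; exact hrep 3 (by simp) _
    · rw [e 9 (by norm_num)]; exact hrep 9 (by simp) _
    · refine hline _ ?_
      rw [← smallV_code, ← kCode_kOf c hc, ← vc_smul, vOf_vc]
      exact line_iff.2 ⟨_, rfl⟩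
  · intro x hx
    rw [List.mem_singleton] at hx
    subst hx
    refine hline _ ?_
    rw [show vOf 0 = 0 by rw [← vc_zero, vOf_vc]]
    exact line_zero

/-! ### The transvections and movers -/

theorem in_kCodes : ∀ c, memB kCodes c = true → In (KV smallV) c :=
  progBase kProg_ok fun c hc => in_KV (by rw [smallV_code]; exact List.all_eq_true.1 kBase_ok c hc)

theorem tC_mem {i : ℕ} (hi : i < 45) : tC i ∈ tL := by
  have h := lengths
  simp only [Bool.and_eq_true, Nat.beq_eq] at h
  have hl : i < tL.length := by omega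
  rw [tC, List.getD_eq_getElem _ _ hl]
  exact List.getElem_mem hl

theorem mem_tL {c : ℕ} (hc : c ∈ tL) : ∃ i < 45, tC i = c := by
  have h := lengths
  simp only [Bool.and_eq_true, Nat.beq_eq] at h
  obtain ⟨i, hi, e⟩ := List.mem_iff_getElem.1 hc
  exact ⟨i, by omega, by rw [tC, List.getD_eq_getElem _ _ hi, e]⟩

theorem in_tC {i : ℕ} (hi : i < 45) : In (KV smallV) (tC i) :=
  in_kCodes _ (List.all_eq_true.1 targets_in _
    (List.mem_append_left _ (List.mem_append_left _ (tC_mem hi))))

theorem in_lineG {m : ℕ} (hm' : m < 27) : In (KV smallV) (lineG.getD m oneC) := by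
  have h := lengths
  simp only [Bool.and_eq_true, Nat.beq_eq] at h
  have hl : m < lineG.length := by omega
  rw [List.getD_eq_getElem _ _ hl]
  exact in_kCodes _ (List.all_eq_true.1 targets_in _
    (List.mem_append_left _ (List.mem_append_right _ (List.getElem_mem hl))))

theorem in_fiveG {k : ℕ} (hk : k < 5) : In (KV smallV) (fiveG.getD k oneC) := by
  have h := lengths
  simp only [Bool.and_eq_true, Nat.beq_eq] at h
  have hl : k < fiveG.length := by omega
  rw [List.getD_eq_getElem _ _ hl]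
  exact in_kCodes _ (List.all_eq_true.1 targets_in _ (List.mem_append_right _ (List.getElem_mem hl)))

theorem tg_mem {i : ℕ} (hi : i < 45) : tg i ∈ KV smallV := (in_tC hi).el_mem
theorem cd_tg {i : ℕ} (hi : i < 45) : cd (tg i) = tC i := cd_el (in_tC hi)
theorem lg_mem {m : ℕ} (hm' : m < 27) : lg m ∈ KV smallV := (in_lineG hm').el_mem
theorem fg_mem {k : ℕ} (hk : k < 5) : fg k ∈ KV smallV := (in_fiveG hk).el_mem

theorem tg_inj {i l : ℕ} (hi : i < 45) (hl : l < 45) (h : tg i = tg l) : i = l := by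
  have e := List.all_eq_true.1 t_sep i (List.mem_range.2 hi)
  simp only [Bool.and_eq_true, List.all_eq_true, List.mem_range, Bool.or_eq_true, Nat.beq_eq,
    Bool.not_eq_true', ← Bool.not_eq_true] at e
  exact (e.2 l hl).resolve_right fun hne => hne (by rw [← cd_tg hi, ← cd_tg hl, h])

theorem tg_sq {i : ℕ} (hi : i < 45) : tg i * tg i = 1 ∧ tg i ≠ 1 := by
  have e := List.all_eq_true.1 t_sep i (List.mem_range.2 hi)
  simp only [Bool.and_eq_true, Nat.beq_eq, Bool.not_eq_true', ← Bool.not_eq_true] at e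
  refine ⟨cd_injective (by rw [cd_mul, cd_tg hi, cd_one]; exact e.1.1.2), fun h => e.1.2 ?_⟩
  rw [← cd_tg hi, h, cd_one]

theorem tg_fix {i : ℕ} (hi : i < 45) {w : V6} (hw : Perp w) :
    Line (mat (tg i) *ᵥ w + w) ↔ hm w (rV i) = 0 := by
  have h := List.all_eq_true.1 (List.all_eq_true.1 t_fixed i (List.mem_range.2 hi)) _ (mem_perpW.1 hw)
  rw [beq_iff_eq] at h
  rw [Line, vc_add, vc_mat, cd_tg hi, h, hm_zero, (rep_spec hi).1, Nat.beq_eq]

theorem adj_self {i : ℕ} (hi : i < 45) : adjB i i = true := by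
  have h := List.all_eq_true.1 adj_deg i (List.mem_range.2 hi)
  simp only [Bool.and_eq_true] at h
  exact h.1.1

theorem adj_symm {i l : ℕ} (hi : i < 45) (hl : l < 45) : adjB i l = adjB l i := by
  have h := List.all_eq_true.1 adj_deg i (List.mem_range.2 hi)
  simp only [Bool.and_eq_true, List.all_eq_true, List.mem_range] at h
  exact beq_iff_eq.1 (h.2 l hl).1

theorem adj_iff {i l : ℕ} (hi : i < 45) (hl : l < 45) : adjB i l = true ↔ hm (rV i) (rV l) = 0 := by
  rw [adjB, Nat.beq_eq, hm_zero, (rep_spec hi).1, (rep_spec hl).1]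

theorem line_move {m i : ℕ} (hm' : m < 27) (hi : i ∈ lineP.getD m []) :
    i < 45 ∧ vc (mat (lg m) *ᵥ rV i) ∈ fixL ∧
      ∃ k < 5, lg m * tg i = tg (pt5.getD k 0) * lg m := by
  have h := List.all_eq_true.1 (List.all_eq_true.1 lines_ok m (List.mem_range.2 hm')) i hi
  simp only [Bool.and_eq_true, Nat.blt_eq, memV_iff, List.any_eq_true, List.mem_range, Nat.beq_eq] at h
  obtain ⟨⟨h1, h2⟩, k, hk, e⟩ := h
  have hk5 : pt5.getD k 0 < 45 := by
    have hf := List.all_eq_true.1 five_ok k (List.mem_range.2 hk)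
    simp only [Bool.and_eq_true, Nat.blt_eq] at hf
    have h' := hf.1.1.1.1.1
    interval_cases k <;> simp_all [pt5]
  have hcl : cd (lg m) = lineG.getD m oneC := cd_el (in_lineG hm')
  refine ⟨h1, ?_, k, hk, cd_injective ?_⟩
  · rw [vc_mat, hcl, (rep_spec h1).1]; exact h2
  · rw [cd_mul, cd_mul, hcl, cd_tg h1, cd_tg hk5]; exact e

theorem exists_line {i l : ℕ} (hi : i < 45) (hl : l < 45) (h : adjB i l = true) :
    ∃ m < 27, i ∈ lineP.getD m [] ∧ l ∈ lineP.getD m [] := by
  have e := List.all_eq_true.1 (List.all_eq_true.1 lines_cover i (List.mem_range.2 hi)) l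
    (List.mem_range.2 hl)
  simp only [Bool.or_eq_true, Bool.not_eq_true', h, Bool.true_eq_false, false_or, List.any_eq_true,
    Bool.and_eq_true, memV_iff, List.mem_range] at e
  exact e

theorem pt5_lt {k : ℕ} (hk : k < 5) : pt5.getD k 0 < 45 := by
  interval_cases k <;> decide

theorem five_move {k : ℕ} (hk : k < 5) : fg k * tg (pt5.getD k 0) = tg (pt5.getD 0 0) * fg k := by
  have h := List.all_eq_true.1 five_ok k (List.mem_range.2 hk)
  simp only [Bool.and_eq_true, Nat.beq_eq] at h
  refine cd_injective ?_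
  rw [cd_mul, cd_mul, cd_tg (pt5_lt hk), cd_tg (pt5_lt (by norm_num)),
    show cd (fg k) = fiveG.getD k oneC from cd_el (in_fiveG hk)]
  exact h.2

theorem five_act {k : ℕ} (hk : k < 5) : p5.getD k 0 < 16 ∧ p5.getD k 0 ≠ 0 ∧
    ∀ v : V6, sAct (peC (p5.getD k 0)) v = mat (tg (pt5.getD k 0)) *ᵥ v := by
  have h := List.all_eq_true.1 five_ok k (List.mem_range.2 hk)
  simp only [Bool.and_eq_true, Nat.beq_eq, Bool.not_eq_true', ← Bool.not_eq_true] at h
  obtain ⟨⟨⟨⟨⟨-, -⟩, h3⟩, h4⟩, -⟩, -⟩ := h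
  refine ⟨by interval_cases k <;> decide, h3, fun v => ?_⟩
  obtain ⟨eb, ef⟩ := base_eq (tC (pt5.getD k 0)) false
  simp only [Bool.false_eq_true, if_false, add_zero] at eb ef
  rw [← h4, sAct, eb, ef, mat_eq, cd_tg (pt5_lt hk)]
  rfl

/-- the group of the forty-five transvections -/
def tGrp : Subgroup U6 := span genT

theorem genT_in : ∀ c ∈ genT, In (KV smallV) c := by
  intro c hc
  obtain ⟨i, hi, rfl⟩ := List.mem_map.1 hc
  exact in_tC (Nat.blt_eq.mp (List.all_eq_true.1 gen_lt i hi))

theorem tGrp_le : tGrp ≤ KV smallV := span_le genT_in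

theorem genT_in_tGrp : ∀ c ∈ genT, In tGrp c := fun c hc => by
  obtain ⟨g, -, e⟩ := genT_in c hc
  exact In.span ⟨g, Subgroup.mem_top _, e⟩ hc

theorem card_tGrp : 25920 ≤ Nat.card tGrp := by
  classical
  letI := u6Action
  let r : V6 := vOf orbRoot
  have hr := orb_ok
  simp only [Bool.and_eq_true, List.all_eq_true, Nat.blt_eq] at hr
  have hone : ofCode oneC = 1 := by rw [← cd_one, ← mat_eq, map_one]
  have horb : ∀ u ∈ orbRoot :: orbTree.map Prod.fst, vOf u ∈ MulAction.orbit tGrp r := by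
    intro u hu
    rcases List.mem_cons.1 hu with rfl | hu
    · exact MulAction.mem_orbit_self _
    obtain ⟨e, he, rfl⟩ := List.mem_map.1 hu
    refine mem_of_treeB (P := fun u => vOf u ∈ MulAction.orbit tGrp r) (MulAction.mem_orbit_self _)
      ?_ ?_ _ _ hr.1 (by simp) e he
    · intro c hc u hu
      obtain ⟨g, hg, rfl⟩ := genT_in_tGrp c hc
      obtain ⟨a, ha⟩ := hu
      refine ⟨⟨g, hg⟩ * a, ?_⟩
      show mat (g * (a : U6)) *ᵥ r = _
      rw [map_mul, ← Matrix.mulVec_mulVec, vOf_mvC, ← mat_eq]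
      exact congrArg _ ha
    · intro u hu
      rwa [vOf_mvC, hone, Matrix.one_mulVec]
  have h135 : 135 ≤ (MulAction.orbit tGrp r).ncard := by
    have hsub : vOf '' (((orbRoot :: orbTree.map Prod.fst).toFinset : Finset ℕ) : Set ℕ) ⊆
        MulAction.orbit tGrp r := by
      rintro _ ⟨u, hu, rfl⟩
      exact horb u (List.mem_toFinset.1 hu)
    have hc := Set.ncard_le_ncard hsub (Set.toFinite _)
    rw [Set.InjOn.ncard_image, Set.ncard_coe_finset, List.toFinset_card_of_nodup orb_nodup.1,
      orb_nodup.2] at hc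
    · exact hc
    · intro a ha b hb e
      rw [← vc_vOf (hr.2 a (List.mem_toFinset.1 ha)), e, vc_vOf (hr.2 b (List.mem_toFinset.1 hb))]
  have hst := stL_ok
  simp only [Bool.and_eq_true, List.all_eq_true, Nat.beq_eq] at hst
  have hstG : ∀ c ∈ stL, In tGrp c := spanTree_in (In.prog stProg_ok genT_in_tGrp) 10 [oneC] (by
    intro c hc; rw [List.mem_singleton] at hc; subst hc; exact ⟨1, one_mem _, cd_one⟩)
  have h192 : 192 ≤ Nat.card (MulAction.stabilizer tGrp r) := by
    revert hst hstG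
    generalize stL = L
    intro hst hstG
    choose f hf hfc using fun c : L.toFinset => hstG c (List.mem_toFinset.1 c.2)
    have hnd : L.Nodup := by
      rw [List.nodup_iff_count_le_one]
      intro a
      by_cases ha : a ∈ L
      · have h1 := (hst.2 a ha).2
        have : (L.filter fun d => Nat.beq a d) = L.filter (· == a) := by
          refine List.filter_congr fun d _ => ?_
          rw [Bool.eq_iff_iff, beq_iff_eq, Nat.beq_eq]
          exact eq_comm
        rw [List.count_eq_length_filter, ← this, h1]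
      · rw [List.count_eq_zero.2 ha]; exact zero_le_one
    let F : L.toFinset → MulAction.stabilizer tGrp r := fun c => ⟨⟨f c, hf c⟩, by
      show mat (f c) *ᵥ r = r
      refine vc_injective ?_
      rw [vc_mat, hfc c, vc_vOf (hr.2 orbRoot List.mem_cons_self)]
      exact (hst.2 c (List.mem_toFinset.1 c.2)).1⟩
    have hF : Function.Injective F := fun a b e => by
      have e' : f a = f b := congrArg Subtype.val (congrArg Subtype.val e)
      exact Subtype.ext ((hfc a).symm.trans ((congrArg cd e').trans (hfc b)))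
    have := Nat.card_le_card_of_injective F hF
    rwa [Nat.card_eq_finsetCard, List.toFinset_card_of_nodup hnd, hst.1] at this
  have h := Subgroup.card_mul_index (MulAction.stabilizer tGrp r)
  rw [MulAction.index_stabilizer] at h
  rw [← h]
  calc 25920 = 192 * 135 := by norm_num
    _ ≤ _ := Nat.mul_le_mul h192 h135

section

variable {F9 : Type} [Field F9] [Fintype F9] (hF9 : Fintype.card F9 = 9)

include hF9 in
theorem tGrp_eq : tGrp = KV smallV :=
  Subgroup.eq_of_le_of_card_ge tGrp_le (by rw [card_KV_small hF9]; exact card_tGrp)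

include hF9 in
/-- induction along the transvections -/
theorem kv_induction {P : U6 → Prop} (h1 : P 1) (hmul : ∀ g h, P g → P h → P (g * h))
    (ht : ∀ i < 45, P (tg i)) {g : U6} (hg : g ∈ KV smallV) : P g := by
  rw [← tGrp_eq hF9] at hg
  have hg' : g ∈ Submonoid.closure {x : U6 | cd x ∈ genT} := by
    rw [← Subgroup.closure_toSubmonoid_of_finite]; exact hg
  clear hg
  induction hg' using Submonoid.closure_induction with
  | mem x hx =>
    obtain ⟨i, hi, e⟩ := List.mem_map.1 hx
    have hi' : i < 45 := Nat.blt_eq.mp (List.all_eq_true.1 gen_lt i hi)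
    rw [show x = tg i from cd_injective (by rw [cd_tg hi', e])]
    exact ht i hi'
  | one => exact h1
  | mul a b _ _ ha hb => exact hmul a b ha hb

include hF9 in
theorem tg_conj {g : U6} (hg : g ∈ KV smallV) :
    ∀ i < 45, ∃ l < 45, g * tg i = tg l * g := by
  have hgen : ∀ x : U6, cd x ∈ genT → ∀ i < 45, ∃ l < 45, x * tg i = tg l * x := by
    intro x hx i hi
    have h := List.all_eq_true.1 t_closed _ hx
    simp only [Bool.and_eq_true, Nat.beq_eq, List.all_eq_true, List.mem_range, memB_iff] at h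
    obtain ⟨l, hl, e⟩ := mem_tL (h.2 i hi)
    refine ⟨l, hl, ?_⟩
    have hxx : x * x = 1 := cd_injective (by rw [cd_mul, h.1, cd_one])
    have e' : tg l = x * tg i * x := cd_injective (by rw [cd_tg hl, cd_mul, cd_mul, cd_tg hi, e])
    rw [e', mul_assoc, hxx, mul_one]
  rw [← tGrp_eq hF9] at hg
  have hg' : g ∈ Submonoid.closure {x : U6 | cd x ∈ genT} := by
    rw [← Subgroup.closure_toSubmonoid_of_finite]; exact hg
  clear hg
  induction hg' using Submonoid.closure_induction with
  | mem x hx => exact hgen x hx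
  | one => exact fun i hi => ⟨i, hi, by rw [one_mul, mul_one]⟩
  | mul a b _ _ ha hb =>
    intro i hi
    obtain ⟨j, hj, ej⟩ := hb i hi
    obtain ⟨l, hl, el'⟩ := ha j hj
    exact ⟨l, hl, by rw [mul_assoc, ej, ← mul_assoc, el', mul_assoc]⟩

include hF9 in
/-- only the identity acts trivially on the orthogonal space modulo the line -/
theorem kv_line_trivial {g : U6} (hg : g ∈ KV smallV)
    (h : ∀ w, Perp w → Line (mat g *ᵥ w + w)) : g = 1 := by
  let R : Subgroup U6 :=
    { carrier := {g | g ∈ KV smallV ∧ ∀ w, Perp w → Line (mat g *ᵥ w + w)}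
      one_mem' := ⟨one_mem _, fun w _ => by rw [map_one, Matrix.one_mulVec, v6_two]; exact line_zero⟩
      mul_mem' := fun {a b} ha hb => ⟨mul_mem ha.1 hb.1, fun w hw => by
        rw [map_mul, ← Matrix.mulVec_mulVec]
        have e := (ha.2 _ (hw.map hb.1)).add (hb.2 w hw)
        rwa [show mat a *ᵥ (mat b *ᵥ w) + mat b *ᵥ w + (mat b *ᵥ w + w) =
          mat a *ᵥ (mat b *ᵥ w) + w by rw [add_assoc, ← add_assoc (mat b *ᵥ w), v6_two, zero_add]] at e⟩
      inv_mem' := fun {a} ha => ⟨inv_mem ha.1, fun w hw => by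
        have e := ha.2 _ (hw.map (inv_mem ha.1))
        rw [Matrix.mulVec_mulVec, ← map_mul, mul_inv_cancel, map_one, Matrix.one_mulVec, add_comm] at e
        exact e⟩ }
  have hR : R ≤ KV smallV := fun _ hx => hx.1
  have hfour : ∀ a ∈ R, a ^ 4 = 1 := by
    intro a ha
    set b := a * a with hb
    have hbK : b ∈ KV smallV := mul_mem ha.1 ha.1
    have hfix : ∀ w, Perp w → mat b *ᵥ w = w := by
      intro w hw
      have e := Line.fixed ha.1 (ha.2 w hw)
      rw [Matrix.mulVec_add, Matrix.mulVec_mulVec, ← map_mul, ← hb,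
        add_comm (mat a *ᵥ w) w] at e
      exact add_right_cancel e
    have hlin : ∀ u, Line (mat b *ᵥ u + u) := by
      intro u
      have hz : ∀ w, Perp w → hm (mat b *ᵥ u + u) w = 0 := by
        intro w hw
        rw [hm_add]
        nth_rewrite 1 [← hfix w hw]
        rw [hm_mat, k_two]
      have hp : Perp (mat b *ᵥ u + u) := by
        rw [Perp]
        exact hz _ (line_perp (line_iff.2 ⟨1, (one_smul _ _).symm⟩))
      exact line_of_im hp fun w hw => by rw [hz w hw]; rfl
    have hbb : b * b = 1 := by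
      refine mat_injective (Matrix.ext_of_mulVec_single fun i => ?_)
      rw [map_one, Matrix.one_mulVec, map_mul, ← Matrix.mulVec_mulVec]
      set u : V6 := Pi.single i 1
      have e := Line.fixed hbK (hlin u)
      rw [Matrix.mulVec_add, add_comm (mat b *ᵥ u) u] at e
      exact add_right_cancel e
    rw [show (4 : ℕ) = 2 * 2 from rfl, pow_mul, pow_two, pow_two, hbb]
  have hnorm : ∀ k ∈ KV smallV, ∀ r ∈ R, k * r * k⁻¹ ∈ R := by
    intro k hk r hr
    refine ⟨mul_mem (mul_mem hk hr.1) (inv_mem hk), fun w hw => ?_⟩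
    have e := (hr.2 _ (hw.map (inv_mem hk))).map hk
    rw [Matrix.mulVec_add, Matrix.mulVec_mulVec, Matrix.mulVec_mulVec, ← map_mul, ← map_mul,
      Matrix.mulVec_mulVec, ← map_mul, mul_inv_cancel, map_one, Matrix.one_mulVec] at e
    exact e
  have hp : IsPGroup 2 R := fun a => ⟨2, Subtype.ext (hfour a a.2)⟩
  have hs := small_chk
  rw [Bool.and_eq_true, Nat.beq_eq] at hs
  have hc := normal_two_le smallV_code hs.1 hs.2 small_full (fun {_} => by
    rw [card_KV_small hF9, Nat.factorization_def _ Nat.prime_two]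
    have e : padicValNat 2 25920 = 6 := by
      rw [show (25920 : ℕ) = 2 ^ 6 * 405 by norm_num, padicValNat.mul (by norm_num) (by norm_num),
        padicValNat.prime_pow, padicValNat.eq_zero_of_not_dvd (by norm_num)]
    rw [e]
    norm_num) hR hnorm hp g ⟨hg, h⟩
  rw [List.mem_singleton] at hc
  exact cd_injective (hc.trans cd_one.symm)

include hF9 in
/-- every involution is conjugate to the action of one of sixteen -/
theorem invol_rep {g : U6} (hg : g ∈ KV smallV) (hgg : g * g = 1) :
    ∃ k ∈ KV smallV, ∃ p < 16, ∀ v : V6, mat (k * g * k⁻¹) *ᵥ v = sAct (peC p) v := by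
  classical
  haveI : Fact (Nat.Prime 2) := ⟨Nat.prime_two⟩
  by_cases hg1 : g = 1
  · refine ⟨1, one_mem _, 0, by norm_num, fun v => ?_⟩
    rw [hg1, mul_one, one_mul, inv_one, map_one, Matrix.one_mulVec, Nat.eq_of_beq_eq_true aPE_zero, sAct_one]
  have hs := small_chk
  simp only [sylChk, Bool.and_eq_true, List.all_eq_true, Nat.beq_eq] at hs
  obtain ⟨⟨⟨⟨⟨hinc, hgs⟩, -⟩, hclo⟩, -⟩, hlen⟩ := hs
  have hgsKV : ∀ c ∈ smallSylGens, In (KV smallV) c := fun c hc => in_KV (by
    rw [Bool.and_eq_true, Nat.beq_eq, smallV_code]; exact hgs c hc)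
  have hgsP : ∀ c ∈ smallSylGens, In (span smallSylGens) c := fun c hc => In.span (by
    obtain ⟨x, -, e⟩ := hgsKV c hc; exact ⟨x, Subgroup.mem_top _, e⟩) hc
  have hclo' : (memB smallSylL oneC && smallSylL.all fun x => smallSylGens.all fun g =>
      memB smallSylL (mulC x g)) = true := by
    simp only [Bool.and_eq_true, List.all_eq_true]; exact hclo
  have hPmem : ∀ x ∈ span smallSylGens, cd x ∈ smallSylL := fun x hx => inList_of_gens hclo' hx
  have hPle : span smallSylGens ≤ KV smallV := span_le hgsKV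
  have hLin : ∀ c ∈ smallSylL, In (span smallSylGens) c := fun c hc =>
    spanTree_in hgsP 8 [oneC] (fun c hc => by
      rw [List.mem_singleton] at hc; subst hc; exact ⟨1, one_mem _, cd_one⟩) c
      (memB_iff.1 (List.all_eq_true.1 small_full c hc))
  have hPcard : Nat.card (span smallSylGens) = 64 := by
    rw [← hlen]
    exact card_eq_length cd_injective
      ((List.isChain_iff_pairwise.1 (incrB_spec hinc)).imp fun hh => Nat.ne_of_lt hh) hPmem
      fun x hx => by obtain ⟨y, hy, e⟩ := hLin x hx; exact ⟨y, hy, e⟩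
  let S0 : Sylow 2 (KV smallV) := Sylow.ofCard ((span smallSylGens).subgroupOf (KV smallV)) (by
    rw [Nat.card_congr (Subgroup.subgroupOfEquivOfLe hPle).toEquiv, hPcard, card_KV_small hF9,
      Nat.factorization_def _ Nat.prime_two, show (25920 : ℕ) = 2 ^ 6 * 405 by norm_num,
      padicValNat.mul (by norm_num) (by norm_num), padicValNat.prime_pow,
      padicValNat.eq_zero_of_not_dvd (by norm_num)]
    norm_num)
  let y : KV smallV := ⟨g, hg⟩
  have hord : orderOf y = 2 := orderOf_eq_prime (by rw [pow_two]; exact Subtype.ext hgg)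
    fun h => hg1 (congrArg Subtype.val h)
  obtain ⟨S1, hS1⟩ := (IsPGroup.of_card (n := 1) (by rw [Nat.card_zpowers, hord, pow_one]) :
    IsPGroup 2 (Subgroup.zpowers y)).exists_le_sylow
  obtain ⟨a, ha⟩ := MulAction.exists_smul_eq (KV smallV) S1 S0
  have h2 : a * y * a⁻¹ ∈ (S0 : Subgroup (KV smallV)) := by
    rw [← ha]
    exact ⟨y, hS1 (Subgroup.mem_zpowers y), rfl⟩
  have hc := hPmem _ (Subgroup.mem_subgroupOf.1 h2)
  have e := List.all_eq_true.1 invol_class _ hc
  set g' : U6 := ((a * y * a⁻¹ : KV smallV) : U6) with hg'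
  have hg'2 : g' * g' = 1 := by
    rw [hg', ← Subgroup.coe_mul]
    have : (a * y * a⁻¹) * (a * y * a⁻¹) = 1 := by
      rw [show (a * y * a⁻¹) * (a * y * a⁻¹) = a * (y * y) * a⁻¹ by simp [mul_assoc],
        show y * y = 1 from Subtype.ext hgg]
      simp
    rw [this]; rfl
  simp only [Bool.or_eq_true, Bool.not_eq_true', ← Bool.not_eq_true, Nat.beq_eq, List.any_eq_true,
    List.mem_range] at e
  rcases e with (e | e) | ⟨m, hm', p, hp, e⟩
  · exact absurd (by rw [← cd_mul, hg'2, cd_one]) e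
  · exfalso
    have h1 : g' = 1 := cd_injective (by rw [e, cd_one])
    refine hg1 ?_
    have h1' : (a : U6) * g * (a : U6)⁻¹ = 1 := h1
    exact conj_eq_one_iff.1 h1'
  · refine ⟨lg m * (a : U6), mul_mem (lg_mem hm') a.2, p, hp, fun v => ?_⟩
    have hfl : flag (peC p) = false := by
      have h := aPE_facts
      simp only [List.all_eq_true, Bool.and_eq_true, memV_iff, List.mem_range] at h
      exact (elem_facts (h p hp).1).2.1
    have e' : mat (lg m) * mat g' = ofCode (base (peC p)) * mat (lg m) := by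
      rw [mat_eq (lg m), mat_eq g', show cd (lg m) = lineG.getD m oneC from cd_el (in_lineG hm'),
        ← ofCode_mulC, ← ofCode_mulC, e]
    rw [sAct, hfl, show lg m * (a : U6) * g * (lg m * (a : U6))⁻¹ = lg m * g' * (lg m)⁻¹ by
      simp [hg', y, mul_assoc], map_mul, map_mul, e', mul_assoc, ← map_mul, mul_inv_cancel, map_one,
      mul_one]
    rfl

end

theorem big_fix {p : ℕ} (hp : p < 16) (hp0 : p ≠ 0) (hp5 : p ∉ p5) {w : V6} (hw : Perp w)
    (h : Line (sAct (peC p) w + w)) : vc w ∈ fixL := by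
  have hfl : flag (peC p) = false := by
    have h := aPE_facts
    simp only [List.all_eq_true, Bool.and_eq_true, memV_iff, List.mem_range] at h
    exact (elem_facts (h p hp).1).2.1
  have e := List.all_eq_true.1 big_fixed p (List.mem_range.2 hp)
  simp only [Bool.or_eq_true, Nat.beq_eq, memV_iff, List.all_eq_true, Bool.not_eq_true',
    ← Bool.not_eq_true] at e
  refine (((e.resolve_left (fun h' => h'.elim hp0 hp5)) _ (mem_perpW.1 hw))).resolve_left
    fun hn => hn ?_
  rw [Line, vc_add, vc_sAct, sActC, hfl] at h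
  exact h

theorem sing_cases {w : V6} (hw : Perp w) (h0 : nf w = 0) :
    Line w ∨ ∃ l < 45, ∃ c : K4, Line (w + c • rV l) := by
  have e := List.all_eq_true.1 sing_points _ (mem_perpW.1 hw)
  simp only [Bool.or_eq_true, Bool.not_eq_true', ← Bool.not_eq_true, Nat.beq_eq, List.any_eq_true,
    List.mem_range] at e
  rcases e with (e | e) | ⟨l, hl, c, hc, e⟩
  · exact absurd ((nf_eq_zero_iff w).1 h0) e
  · exact Or.inl e
  · refine Or.inr ⟨l, hl, kOf c, ?_⟩
    rw [Line, vc_add, vc_smul, kCode_kOf c hc, (rep_spec hl).1]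
    exact e

theorem comm_value {i : ℕ} (hi : i ∈ [0, 1, 3, 9]) (c : K4) :
    ∃ w, Perp w ∧ Line (mat (tg i) *ᵥ w + w + c • rV i) := by
  have hi' : i < 45 := by simp at hi; omega
  have e := List.all_eq_true.1 (List.all_eq_true.1 comm_span i hi) (kCode c) (List.mem_range.2 (kCode_lt c))
  obtain ⟨w, hw, e⟩ := List.any_eq_true.1 e
  refine ⟨vOf w, perp_vOf hw, ?_⟩
  rw [Line, vc_add, vc_add, vc_mat, cd_tg hi', vc_smul, (rep_spec hi').1,
    vc_vOf (List.mem_range.1 (List.mem_filter.1 hw).1)]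
  exact e

end CfsgLib.Spor.LargeFi.SixPt
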