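import Cfsg.Agent.Lib.Spor.LargeFi.SixPlane
import Cfsg.Agent.Lib.Spor.LargeFi.SixForm
import Cfsg.Agent.Lib.ThreeTransp.Neighbours

/-!
The centraliser of the distinguished involution of `C(E)/E` as the image of a subgroup of the
centraliser of the central involution, and the forty-five distinguished lifts of transvections in it.
-/

set_option autoImplicit false
set_option maxRecDepth 100000

namespace CfsgLib.Spor.LargeFi

open CfsgLib.Spor.U62 CfsgLib.ThreeTransp CfsgLib.Spor.LargeFi.SixPt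
open Matrix

theorem eL_odd : (eL.all fun a => eL.all fun b => eL.all fun c =>
    !Nat.beq (Nat.xor (Nat.xor (Nat.xor 1 a) (Nat.xor 1 b)) (Nat.xor 1 c)) 0) = true := by decide +kernel

theorem eL_xC : (eL.all fun n => memV eL (xC n)) = true := by decide +kernel

theorem eL_vec : (eL.all fun n => Nat.beq (n / 2 * 2) n && Nat.blt (n / 2) 64 &&
    lineB (wV (n / 2))) = true := by decide +kernel

theorem line_eL : ([0, smallRoot, smC 2 smallRoot, smC 3 smallRoot].all fun x =>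
    eL.any fun n => Nat.beq (wV (n / 2)) x) = true := by decide +kernel

theorem five_sign : ((List.range 5).all fun k =>
    memV (pL.map rdC) (rdC (p5.getD k 0 * 128)) != memV (pL.map rdC) (rdC (Nat.xor (p5.getD k 0 * 128) 1))) =
    true := by decide +kernel

theorem five_codes : ((List.range 5).all fun k => Nat.blt (p5.getD k 0 * 128) 2048 &&
    Nat.blt (Nat.xor (p5.getD k 0 * 128) 1) 2048) = true := by decide +kernel

theorem hm_smul_right (c : K4) (u w : V6) : hm u (c • w) = c ^ 2 * hm u w := by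
  simp only [hm, Cfsg.hermForm, Pi.smul_apply, smul_eq_mul, Finset.mul_sum]
  exact Finset.sum_congr rfl fun i _ => by ring

theorem pull_out {M : Type*} [Monoid M] {A B C a b c : M} (hB : Commute a B) (haC : Commute a C)
    (hbC : Commute b C) : A * a * (B * b) * (C * c) = A * B * C * (a * b * c) := by
  calc A * a * (B * b) * (C * c) = A * (a * B) * (b * C) * c := by simp only [mul_assoc]
    _ = A * B * (a * (C * b)) * c := by rw [hB.eq, hbC.eq]; simp only [mul_assoc]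
    _ = A * B * (C * (a * b)) * c := by rw [← mul_assoc a C, haC.eq, mul_assoc C]
    _ = A * B * C * (a * b * c) := by simp only [mul_assoc]

theorem mat_ext {g g' : U6} (h : ∀ v, mat g *ᵥ v = mat g' *ᵥ v) : g = g' :=
  mat_injective (Matrix.ext_of_mulVec_single fun _ => h _)

variable {G : Type*} [Group G] [Finite G] {z : G}

namespace Model.ABase

variable {Q : Subgroup (Subgroup.centralizer ({z} : Set G))} [Q.Normal]
  {D : Model Q (zH z)} (B : D.ABase)

/-- the centraliser of the four-group inside the centraliser of the involution -/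
noncomputable def sH : Subgroup (Subgroup.centralizer ({z} : Set G)) :=
  B.sC.comap (Subgroup.centralizer ({z} : Set G)).subtype

/-- the map onto the centraliser of the distinguished involution -/
noncomputable def sρ : ↥B.sH →* B.SX :=
  B.sπ.comp (((Subgroup.centralizer ({z} : Set G)).subtype.comp B.sH.subtype).codRestrict B.sC
    fun h => h.2)

theorem mem_sH_iff {h : Subgroup.centralizer ({z} : Set G)} :
    h ∈ B.sH ↔ ∀ n ∈ eL, h * B.el n = B.el n * h := by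
  constructor
  · intro hh n hn
    exact Subtype.ext (Subgroup.mem_centralizer_iff.1 hh _ ⟨n, hn, rfl⟩).symm
  · intro hh
    refine Subgroup.mem_centralizer_iff.2 ?_
    rintro _ ⟨n, hn, rfl⟩
    exact congrArg Subtype.val (hh n hn).symm

theorem el_mem_sH (n : ℕ) : B.el n ∈ B.sH := B.A0_le_sC (B.elG_mem n)

theorem sρ_el (n : ℕ) : B.sρ ⟨B.el n, B.el_mem_sH n⟩ = B.cls n := rfl

theorem zH_mem_sH : zH z ∈ B.sH := B.z_mem_sC

theorem sρ_zH : B.sρ ⟨zH z, B.zH_mem_sH⟩ = B.zS := rfl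

theorem sρ_eq_iff {h k : ↥B.sH} : B.sρ h = B.sρ k ↔
    ∃ n ∈ eL, (k : Subgroup.centralizer ({z} : Set G)) =
      (h : Subgroup.centralizer ({z} : Set G)) * B.el n := by
  refine B.sπ_eq_iff.trans ⟨?_, ?_⟩
  · rintro ⟨_, ⟨n, hn, rfl⟩, e⟩
    exact ⟨n, hn, Subtype.ext e⟩
  · rintro ⟨n, hn, e⟩
    exact ⟨_, ⟨n, hn, rfl⟩, congrArg Subtype.val e⟩

theorem eL_mem_Q {n : ℕ} (hn : n ∈ eL) : B.el n ∈ Q := by
  simp only [eL, List.mem_cons, List.not_mem_nil, or_false] at hn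
  exact (B.mem_Q_iff (by omega)).2 (by simp only [pI]; omega)

theorem act_of_eq {h k : ↥B.sH} (e : B.sρ h = B.sρ k) (v : V6) :
    D.act (k : Subgroup.centralizer ({z} : Set G)) v = D.act (h : Subgroup.centralizer ({z} : Set G)) v := by
  obtain ⟨n, hn, e'⟩ := B.sρ_eq_iff.1 e
  rw [e', D.act_mul_apply, (D.ker_act _).2 (B.eL_mem_Q hn)]
  rfl

theorem zS_sq : B.zS * B.zS = 1 := by
  rw [← B.cls_one, ← B.cls_xor, show Nat.xor 1 1 = 0 from rfl, B.cls_zero]

theorem zS_ne_one : B.zS ≠ 1 := by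
  rw [← B.cls_one, ← B.cls_zero, Ne, B.cls_eq_iff (by norm_num) (by norm_num)]
  decide

theorem sD_conj (g : B.SX) {a : B.SX} (ha : a ∈ B.sD) : g * a * g⁻¹ ∈ B.sD :=
  (show IsConj B.zS a from ha).trans (isConj_iff.2 ⟨g, rfl⟩)

theorem sρ_commute (h : ↥B.sH) : Commute (B.sρ h) B.zS := by
  rw [← B.sρ_zH]
  show _ * _ = _ * _
  rw [← map_mul, ← map_mul]
  exact congrArg B.sρ (Subtype.ext (zH_comm _))

/-- the centraliser of the distinguished involution -/
theorem sρ_range (hF : Cfsg.IsOfLargeFischerTypeAt z Q) (hN : B.Normed) :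
    B.sρ.range = Subgroup.centralizer ({B.zS} : Set B.SX) := by
  ext a
  rw [Subgroup.mem_centralizer_singleton_iff]
  constructor
  · rintro ⟨h, rfl⟩
    exact (B.sρ_commute h).eq
  · intro ha
    obtain ⟨u, rfl⟩ := B.sπ_surj a
    have hc : B.sπ (u * ⟨z, B.z_mem_sC⟩ * u⁻¹) = B.sπ ⟨z, B.z_mem_sC⟩ := by
      rw [map_mul, map_mul, map_inv]
      exact mul_inv_eq_iff_eq_mul.2 ha
    obtain ⟨e, he, he'⟩ := B.sπ_eq_iff.1 hc
    change z = (u : G) * z * (u : G)⁻¹ * e at he'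
    have h1 := B.conj_unique' hF hN u.2 he (by rw [← he'])
    rw [h1, mul_one] at he'
    have hu : (u : G) ∈ Subgroup.centralizer ({z} : Set G) :=
      Subgroup.mem_centralizer_singleton_iff.2 (mul_inv_eq_iff_eq_mul.1 he'.symm)
    exact ⟨⟨⟨u, hu⟩, u.2⟩, rfl⟩

theorem eL_line {n : ℕ} (hn : n ∈ eL) :
    B.CN (B.el n) ∧ Line (D.vec ⟨B.el n, B.eL_mem_Q hn⟩) := by
  have h := List.all_eq_true.1 eL_vec n hn
  simp only [Bool.and_eq_true, Nat.beq_eq, Nat.blt_eq] at h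
  obtain ⟨hc, hq, hv⟩ := B.cpart h.1.2
  simp only [h.1.1] at hc hq hv
  refine ⟨hc, ?_⟩
  rw [show D.vec ⟨B.el n, B.eL_mem_Q hn⟩ = vOf (wV (n / 2)) from hv, Line,
    vc_vOf (by
      have := List.all_eq_true.1 wK_wV (n / 2) (List.mem_range.2 h.1.2)
      simp only [Bool.and_eq_true, Nat.blt_eq] at this
      exact this.2)]
  exact h.2

/-- an element commuting with the scalar and fixing the small representative centralises the four-group -/
theorem mem_sH {h : Subgroup.centralizer ({z} : Set G)} (hx : h * B.x = B.x * h) {g : U6}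
    (hg : g ∈ KV smallV) (e : ∀ v, D.act h v = mat g *ᵥ v) : h ∈ B.sH := by
  refine B.mem_sH_iff.2 fun n hn => ?_
  obtain ⟨hc, hl⟩ := B.eL_line hn
  have hm : h * B.el n * h⁻¹ ∈ Q := (inferInstance : Q.Normal).conj_mem _ (B.eL_mem_Q hn) h
  have hv : D.vec ⟨_, hm⟩ = D.vec ⟨B.el n, B.eL_mem_Q hn⟩ := by
    rw [D.vec_conj' h ⟨B.el n, B.eL_mem_Q hn⟩ hm, e, Line.fixed hg hl]
  have hcx : ∀ u, B.cx (h * u * h⁻¹) = h * B.cx u * h⁻¹ := fun u => by
    show B.x * (h * u * h⁻¹) * B.x⁻¹ = h * (B.x * u * B.x⁻¹) * h⁻¹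
    calc B.x * (h * u * h⁻¹) * B.x⁻¹ = (B.x * h) * u * (B.x * h)⁻¹ := by simp [mul_assoc]
      _ = (h * B.x) * u * (h * B.x)⁻¹ := by rw [hx]
      _ = _ := by simp [mul_assoc]
  have hc' : B.CN (h * B.el n * h⁻¹) := by
    refine ⟨⟨hm, ?_⟩, ?_⟩
    · rw [hv]
      obtain ⟨hq, hf⟩ := hc.1
      exact hf
    · rw [hcx, hcx]
      calc h * B.el n * h⁻¹ * (h * B.cx (B.el n) * h⁻¹) * (h * B.cx (B.cx (B.el n)) * h⁻¹) =
            h * (B.el n * B.cx (B.el n) * B.cx (B.cx (B.el n))) * h⁻¹ := by simp [mul_assoc]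
        _ = 1 := by rw [hc.2]; simp
  exact mul_inv_eq_iff_eq_mul.1 (B.CN_unique hc' hc hm (B.eL_mem_Q hn) hv)

/-- every element acts linearly, fixing the small representative -/
theorem act_sH (hF : Cfsg.IsOfLargeFischerTypeAt z Q) (h : ↥B.sH) :
    ∃ g ∈ KV smallV, ∀ v, D.act (h : Subgroup.centralizer ({z} : Set G)) v = mat g *ᵥ v := by
  obtain ⟨h, hh⟩ := h
  have hfix : ∀ n, n ∈ eL → ∀ hq : B.el n ∈ Q, D.act h (D.vec ⟨B.el n, hq⟩) = D.vec ⟨B.el n, hq⟩ := by
    intro n hn hq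
    have hm : h * B.el n * h⁻¹ ∈ Q := (inferInstance : Q.Normal).conj_mem _ hq h
    rw [← D.vec_conj' h ⟨B.el n, hq⟩ hm]
    congr 1
    exact Subtype.ext (mul_inv_eq_iff_eq_mul.2 (B.mem_sH_iff.1 hh n hn))
  have hval : ∀ c, c < 64 → c * 2 ∈ eL → D.act h (vOf (wV c)) = vOf (wV c) := by
    intro c hc hn
    obtain ⟨-, hq, hv⟩ := B.cpart hc
    rw [← hv]
    exact hfix _ hn hq
  have h1 : D.act h smallV = smallV := by
    have := hval 16 (by norm_num) (by decide)
    rwa [show wV 16 = smallRoot by decide] at this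
  have h2 : D.act h (om • smallV) = om • smallV := by
    have := hval 32 (by norm_num) (by decide)
    rwa [show vOf (wV 32) = om • smallV from vc_injective (by
      rw [vc_om_smul, smallV_code, vc_vOf (by decide)]; decide)] at this
  have hv0 : smallV ≠ 0 := fun e => by
    have := congrArg vc e
    rw [smallV_code, vc_zero] at this
    exact absurd this (by decide)
  have hne : om ^ 2 + om ≠ (0 : K4) := by decide +kernel
  have hsemi : ∀ a : Subgroup.centralizer ({z} : Set G), ∀ v : V6, v ≠ 0 →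
      D.act a (om • v) = om ^ 2 • D.act a v → D.act a (om • v) ≠ om • D.act a v := by
    intro a v hv e e'
    rw [e] at e'
    have : (om ^ 2 + om) • D.act a v = 0 := by rw [add_smul, e', v6_two]
    rcases smul_eq_zero.1 this with h' | h'
    · exact hne h'
    · exact hv (D.act_injective a (h'.trans (map_zero _).symm))
  have hlin : ∀ v, D.act h (om • v) = om • D.act h v := by
    refine (D.act_semi h).resolve_right fun hs => hsemi h smallV hv0 (hs _) ?_
    rw [h2, h1]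
  have hM : h ∈ D.M := by
    by_contra hM
    obtain ⟨h0, hh0, p, -, hf, hp⟩ := hasOuter_of_type hF D
    have hmem : h * h0 ∈ D.M :=
      (Subgroup.mul_mem_iff_of_index_two D.M_index).2 (iff_of_false hM hh0)
    obtain ⟨g, -, eg⟩ := D.M_lin _ hmem
    have hgal : gal (om • smallV) = om ^ 2 • gal smallV := by
      funext i
      show (om * smallV i) ^ 2 = om ^ 2 * smallV i ^ 2
      rw [mul_pow]
    have h0s : D.act h0 (om • smallV) = om ^ 2 • D.act h0 smallV := by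
      rw [hp, hp, sAct, sAct, hf, if_pos rfl, if_pos rfl, hgal, Matrix.mulVec_smul]
    refine hsemi (h * h0) smallV hv0 ?_ (by rw [eg, eg, Matrix.mulVec_smul])
    rw [D.act_mul_apply, D.act_mul_apply, h0s, pow_two, ← smul_smul, ← smul_smul, hlin, hlin]
  obtain ⟨g, hg, eg⟩ := D.M_lin h hM
  exact ⟨g, mem_KV.2 ⟨hg, by rw [← eg]; exact h1⟩, eg⟩

/-- lifts commuting with the scalar -/
theorem exists_lift_KV {g : U6} (hg : g ∈ KV smallV) :
    ∃ h : ↥B.sH, (h : Subgroup.centralizer ({z} : Set G)) * B.x = B.x * h ∧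
      ∀ v, D.act (h : Subgroup.centralizer ({z} : Set G)) v = mat g *ᵥ v := by
  obtain ⟨h, hx, e⟩ := D.lift_cent B.x_three B.x_act (mem_KV.1 hg).1
  exact ⟨⟨h, B.mem_sH hx hg e⟩, hx, e⟩

/-- which elements of the extraspecial group centralise the four-group -/
theorem mem_sQ {q : Q} : (q : Subgroup.centralizer ({z} : Set G)) ∈ B.sH ↔ Perp (D.vec q) := by
  rw [B.mem_sH_iff]
  constructor
  · intro h
    have key : ∀ c, c < 64 → c * 2 ∈ eL → (hm (D.vec q) (vOf (wV c))).im = 0 := by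
      intro c hc hn
      obtain ⟨-, hq, hv⟩ := B.cpart hc
      rw [← hv]
      exact (D.vec_comm q ⟨_, hq⟩).1 (h _ hn)
    have k1 := key 16 (by norm_num) (by decide)
    have k2 := key 32 (by norm_num) (by decide)
    rw [show wV 16 = smallRoot by decide] at k1
    rw [show vOf (wV 32) = om • smallV from vc_injective (by
      rw [vc_om_smul, smallV_code, vc_vOf (by decide)]; decide), hm_om] at k2
    exact zero_of_im _ k1 k2
  · intro h n hn
    refine (D.vec_comm q ⟨B.el n, B.eL_mem_Q hn⟩).2 ?_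
    obtain ⟨c, hc⟩ := line_iff.1 (B.eL_line hn).2
    show (hm _ _).im = 0
    rw [hc, hm_smul_right, show hm (D.vec q) smallV = 0 from h, mul_zero]
    rfl

theorem exists_sQ {w : V6} (hw : Perp w) :
    ∃ q : Q, (q : Subgroup.centralizer ({z} : Set G)) ∈ B.sH ∧ D.vec q = w := by
  obtain ⟨q, hq⟩ := D.vec_surj w
  exact ⟨q, B.mem_sQ.2 (by rw [hq]; exact hw), hq⟩

theorem line_el {q : Q} (h : Line (D.vec q)) : ∃ n ∈ eL,
    (q : Subgroup.centralizer ({z} : Set G)) = B.el n ∨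
      (q : Subgroup.centralizer ({z} : Set G)) = zH z * B.el n := by
  obtain ⟨n, hn, e⟩ := List.any_eq_true.1 (List.all_eq_true.1 line_eL _ (memV_iff.1 h))
  have hh := List.all_eq_true.1 eL_vec n hn
  simp only [Bool.and_eq_true, Nat.beq_eq, Nat.blt_eq] at hh
  obtain ⟨-, hq, hv⟩ := B.cpart hh.1.2
  simp only [hh.1.1] at hq hv
  refine ⟨n, hn, D.vec_eq (a := ⟨B.el n, hq⟩) ?_⟩
  show D.vec ⟨B.el n, hq⟩ = _
  rw [hv, Nat.eq_of_beq_eq_true e, vOf_vc]

/-- an element is an element of the extraspecial group times one commuting with the scalar -/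
theorem decomp (hF : Cfsg.IsOfLargeFischerTypeAt z Q) (h : ↥B.sH) : ∃ g ∈ KV smallV,
    ∃ (q : Q) (k : ↥B.sH) (hq : (q : Subgroup.centralizer ({z} : Set G)) ∈ B.sH),
      (k : Subgroup.centralizer ({z} : Set G)) * B.x = B.x * k ∧
      (∀ v, D.act (k : Subgroup.centralizer ({z} : Set G)) v = mat g *ᵥ v) ∧
      (∀ v, D.act (h : Subgroup.centralizer ({z} : Set G)) v = mat g *ᵥ v) ∧ h = ⟨q, hq⟩ * k := by
  obtain ⟨g, hg, eg⟩ := B.act_sH hF h
  obtain ⟨k, hkx, ek⟩ := B.exists_lift_KV hg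
  have hq : ((h * k⁻¹ : ↥B.sH) : Subgroup.centralizer ({z} : Set G)) ∈ Q := by
    refine (D.ker_act _).1 (AddMonoidHom.ext fun v => ?_)
    show D.act ((h : Subgroup.centralizer ({z} : Set G)) * (k : Subgroup.centralizer ({z} : Set G))⁻¹) v = v
    rw [D.act_mul_apply, eg, ← ek, ← D.act_mul_apply, mul_inv_cancel, map_one]
    rfl
  exact ⟨g, hg, ⟨_, hq⟩, k, (h * k⁻¹).2, hkx, ek, eg, (inv_mul_cancel_right h k).symm⟩

/-- when a lift commutes with an element of the extraspecial group modulo the four-group -/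
theorem sρ_comm_iff {k : ↥B.sH} (hkx : (k : Subgroup.centralizer ({z} : Set G)) * B.x = B.x * k)
    {g : U6} (_hg : g ∈ KV smallV)
    (hk : ∀ v, D.act (k : Subgroup.centralizer ({z} : Set G)) v = mat g *ᵥ v) {q : Q}
    (hq : (q : Subgroup.centralizer ({z} : Set G)) ∈ B.sH) :
    Commute (B.sρ k) (B.sρ ⟨q, hq⟩) ↔ Line (mat g *ᵥ D.vec q + D.vec q) := by
  set K : Subgroup.centralizer ({z} : Set G) := (k : Subgroup.centralizer ({z} : Set G)) with hK
  have hm : ∀ a : Q, K * (a : Subgroup.centralizer ({z} : Set G)) * K⁻¹ ∈ Q := fun a =>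
    (inferInstance : Q.Normal).conj_mem _ a.2 K
  set q' : Q := ⟨_, hm q⟩ with hq'
  have hv' : D.vec q' = mat g *ᵥ D.vec q := by
    rw [← hk]; exact D.vec_conj' K q (hm q)
  constructor
  · intro hc
    have e : B.sρ (k * ⟨q, hq⟩ * k⁻¹) = B.sρ ⟨q, hq⟩ := by
      rw [map_mul, map_mul, map_inv]; exact mul_inv_eq_iff_eq_mul.2 hc
    obtain ⟨n, hn, e'⟩ := B.sρ_eq_iff.1 e
    have e2 : q = q' * ⟨B.el n, B.eL_mem_Q hn⟩ := Subtype.ext e'
    have e3 := congrArg D.vec e2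
    rw [D.vec_mul, hv'] at e3
    rw [show mat g *ᵥ D.vec q + D.vec q = D.vec ⟨B.el n, B.eL_mem_Q hn⟩ by
      nth_rewrite 2 [e3]
      rw [← add_assoc, v6_two, zero_add]]
    exact (B.eL_line hn).2
  · intro hl
    obtain ⟨n, hn, hd⟩ := B.line_el (q := q'⁻¹ * q) (by rwa [D.vec_mul, D.vec_inv, hv'])
    have hfin : ∀ d : Subgroup.centralizer ({z} : Set G), d = B.el n →
        (q : Subgroup.centralizer ({z} : Set G)) = (q' : Subgroup.centralizer ({z} : Set G)) * d →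
        Commute (B.sρ k) (B.sρ ⟨q, hq⟩) := by
      intro d hd hqd
      have e : B.sρ (k * ⟨q, hq⟩ * k⁻¹) = B.sρ ⟨q, hq⟩ :=
        B.sρ_eq_iff.2 ⟨n, hn, by rw [← hd]; exact hqd⟩
      rw [map_mul, map_mul, map_inv] at e
      exact mul_inv_eq_iff_eq_mul.1 e
    have hqd : (q : Subgroup.centralizer ({z} : Set G)) = (q' : Subgroup.centralizer ({z} : Set G)) *
        ((q'⁻¹ * q : Q) : Subgroup.centralizer ({z} : Set G)) := by
      rw [← Subgroup.coe_mul, mul_inv_cancel_left]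
    refine hd.elim (fun hd => hfin _ hd hqd) fun hd => ?_
    exfalso
    -- the images under the scalar
    have hcx : ∀ u, B.cx (K * u * K⁻¹) = K * B.cx u * K⁻¹ := fun u => by
      show B.x * (K * u * K⁻¹) * B.x⁻¹ = K * (B.x * u * B.x⁻¹) * K⁻¹
      calc B.x * (K * u * K⁻¹) * B.x⁻¹ = (B.x * K) * u * (B.x * K)⁻¹ := by simp [mul_assoc]
        _ = (K * B.x) * u * (K * B.x)⁻¹ := by rw [hkx]
        _ = _ := by simp [mul_assoc]
    have hxQ : ∀ a : Q, B.cx (a : Subgroup.centralizer ({z} : Set G)) ∈ Q := fun a =>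
      (inferInstance : Q.Normal).conj_mem _ a.2 B.x
    have hxH : ∀ a : Q, (a : Subgroup.centralizer ({z} : Set G)) ∈ B.sH →
        B.cx (a : Subgroup.centralizer ({z} : Set G)) ∈ B.sH := by
      intro a ha
      refine (B.mem_sQ (q := ⟨_, hxQ a⟩)).2 ?_
      rw [B.vec_cx a.2 (hxQ a)]
      exact (B.mem_sQ.1 ha).smul om
    set p1 : Subgroup.centralizer ({z} : Set G) := (q : Subgroup.centralizer ({z} : Set G))
    set p2 := B.cx p1 with hp2
    set p3 := B.cx p2 with hp3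
    have hH1 : K * p1 * K⁻¹ ∈ B.sH := mul_mem (mul_mem k.2 hq) (inv_mem k.2)
    have hH2 : K * p2 * K⁻¹ ∈ B.sH := mul_mem (mul_mem k.2 (hxH q hq)) (inv_mem k.2)
    have hH3 : K * p3 * K⁻¹ ∈ B.sH :=
      mul_mem (mul_mem k.2 (hxH ⟨_, hxQ q⟩ (hxH q hq))) (inv_mem k.2)
    have hP : p1 * p2 * p3 = 1 ∨ p1 * p2 * p3 = zH z := by
      refine (D.vec_eq_zero (q * ⟨_, hxQ q⟩ * ⟨_, hxQ ⟨_, hxQ q⟩⟩)).1 ?_
      rw [D.vec_mul, D.vec_mul, B.vec_cx (hxQ q) (hxQ ⟨_, hxQ q⟩), B.vec_cx q.2 (hxQ q), smul_smul]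
      show (D.vec q + om • D.vec q) + (om * om) • D.vec q = 0
      nth_rewrite 1 [← one_smul K4 (D.vec q)]
      rw [← add_smul, ← add_smul, show (1 : K4) + om + om * om = 0 by decide +kernel, zero_smul]
    have hKP : K * (p1 * p2 * p3) * K⁻¹ = p1 * p2 * p3 := by
      rcases hP with e | e <;> rw [e]
      · simp
      · rw [zH_comm K, mul_inv_cancel_right]
    set n2 := xC n with hn2
    set n3 := xC n2 with hn3
    have hn2E : n2 ∈ eL := memV_iff.1 (List.all_eq_true.1 eL_xC n hn)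
    have hn3E : n3 ∈ eL := memV_iff.1 (List.all_eq_true.1 eL_xC n2 hn2E)
    have hzc : ∀ a, a ∈ B.sH → ∀ m ∈ eL, a * (zH z * B.el m) = zH z * B.el m * a := by
      intro a ha m hm'
      rw [← mul_assoc, zH_comm a, mul_assoc, B.mem_sH_iff.1 ha m hm', mul_assoc]
    have hxe : ∀ m ∈ eL, B.cx (zH z * B.el m) = zH z * B.el (xC m) := by
      intro m hm'
      rw [map_mul, B.cx_z, show B.cx (B.el m) = B.el (xC m) from B.x_conj (eL_lt hm')]
    have e1 : p1 = K * p1 * K⁻¹ * (zH z * B.el n) := by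
      rw [← hd]; exact hqd
    have e2 : p2 = K * p2 * K⁻¹ * (zH z * B.el n2) := by
      conv_lhs => rw [hp2, e1, map_mul, hcx, hxe n hn]
    have e3 : p3 = K * p3 * K⁻¹ * (zH z * B.el n3) := by
      conv_lhs => rw [hp3, e2, map_mul, hcx, hxe n2 hn2E]
    have e4 : p1 * p2 * p3 = (K * p1 * K⁻¹) * (K * p2 * K⁻¹) * (K * p3 * K⁻¹) *
        ((zH z * B.el n) * (zH z * B.el n2) * (zH z * B.el n3)) := by
      conv_lhs => rw [e1, e2, e3]
      exact pull_out (hzc _ hH2 n hn).symm (hzc _ hH3 n hn).symm (hzc _ hH3 n2 hn2E).symm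
    have e5 : K * p1 * K⁻¹ * (K * p2 * K⁻¹) * (K * p3 * K⁻¹) = p1 * p2 * p3 := by
      rw [← hKP]; simp [mul_assoc]
    rw [e5, left_eq_mul] at e4
    have hz1 : B.el 1 = zH z := B.el_one
    replace e4 : B.el 1 * B.el n * (B.el 1 * B.el n2) * (B.el 1 * B.el n3) = 1 := by
      rw [hz1]; exact e4
    rw [← B.el_xor, ← B.el_xor, ← B.el_xor, ← B.el_xor, ← B.el_xor] at e4
    have hlt : ∀ m ∈ eL, Nat.xor 1 m < 2048 := fun m hm' => xor_lt' (by norm_num) (eL_lt hm')
    have h0 := B.el_injOn (xor_lt' (xor_lt' (hlt n hn) (hlt n2 hn2E)) (hlt n3 hn3E))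
      (by norm_num : (0 : ℕ) < 2048) (e4.trans B.el_zero.symm)
    have hc := List.all_eq_true.1 (List.all_eq_true.1 (List.all_eq_true.1 eL_odd n hn) n2 hn2E) n3 hn3E
    rw [h0] at hc
    exact absurd hc (by decide)

/-! ### The lifts of the transvections -/

/-- a lift of a transvection commuting with the scalar -/
def Lift (i : ℕ) (a : B.SX) : Prop :=
  ∃ h : ↥B.sH, B.sρ h = a ∧ (h : Subgroup.centralizer ({z} : Set G)) * B.x = B.x * h ∧
    ∀ v, D.act (h : Subgroup.centralizer ({z} : Set G)) v = mat (tg i) *ᵥ v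

theorem lift_two {i : ℕ} {a b : B.SX} (ha : B.Lift i a) (hb : B.Lift i b) :
    b = a ∨ b = a * B.zS := by
  obtain ⟨h, rfl, hx, eh⟩ := ha
  obtain ⟨k, rfl, kx, ek⟩ := hb
  rcases D.lift_unique B.x_act hx kx (fun v => by rw [eh, ek]) with e | e
  · exact Or.inl (congrArg B.sρ (Subtype.ext e))
  · refine Or.inr ?_
    rw [← B.sρ_zH, ← map_mul]
    exact congrArg B.sρ (Subtype.ext e)

theorem lift_mul_zS {i : ℕ} {a : B.SX} (ha : B.Lift i a) : B.Lift i (a * B.zS) := by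
  obtain ⟨h, rfl, hx, eh⟩ := ha
  refine ⟨h * ⟨zH z, B.zH_mem_sH⟩, by rw [map_mul, B.sρ_zH], ?_, fun v => ?_⟩
  · show (h : Subgroup.centralizer ({z} : Set G)) * zH z * B.x = B.x * (h * zH z)
    rw [mul_assoc, ← zH_comm B.x, ← mul_assoc, hx, mul_assoc]
  · show D.act ((h : Subgroup.centralizer ({z} : Set G)) * zH z) v = _
    rw [D.act_mul_apply, (D.ker_act _).2 D.xc.mem]
    exact eh v

theorem lift_conj {i l : ℕ} {a : B.SX} (ha : B.Lift i a) {k : ↥B.sH}
    (hkx : (k : Subgroup.centralizer ({z} : Set G)) * B.x = B.x * k) {g : U6}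
    (hk : ∀ v, D.act (k : Subgroup.centralizer ({z} : Set G)) v = mat g *ᵥ v)
    (hg : g * tg i = tg l * g) : B.Lift l (B.sρ k * a * (B.sρ k)⁻¹) := by
  obtain ⟨h, rfl, hx, eh⟩ := ha
  refine ⟨k * h * k⁻¹, by rw [map_mul, map_mul, map_inv], ?_, fun v => ?_⟩
  · show (Commute ((k : Subgroup.centralizer ({z} : Set G)) * h * (k : Subgroup.centralizer ({z} : Set G))⁻¹) B.x)
    exact ((show Commute _ _ from hkx).mul_left hx).mul_left (Commute.inv_left hkx)
  · show D.act ((k : Subgroup.centralizer ({z} : Set G)) * h *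
      (k : Subgroup.centralizer ({z} : Set G))⁻¹) v = _
    set w := D.act ((k : Subgroup.centralizer ({z} : Set G))⁻¹) v with hw
    have hv : mat g *ᵥ w = v := by
      rw [← hk, hw, ← D.act_mul_apply, mul_inv_cancel, map_one]; rfl
    rw [D.act_mul_apply, D.act_mul_apply, ← hw, eh, hk, Matrix.mulVec_mulVec, ← map_mul, hg, map_mul,
      ← Matrix.mulVec_mulVec, hv]

theorem lift_five {k : ℕ} (hk : k < 5) {b : ℕ} (hb : b = 0 ∨ b = 1) :
    B.Lift (pt5.getD k 0) (B.cls (Nat.xor (p5.getD k 0 * 128) b)) := by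
  obtain ⟨hp, -, hact⟩ := five_act hk
  obtain ⟨hcx, he⟩ := B.ppart hp
  refine ⟨⟨_, B.el_mem_sH _⟩, rfl, ?_, fun v => ?_⟩
  · show B.el _ * B.x = B.x * B.el _
    rw [B.el_xor]
    refine ((show Commute _ _ from hcx).mul_left ?_).eq
    rcases hb with rfl | rfl
    · rw [B.el_zero]; exact Commute.one_left _
    · rw [B.el_one]; exact (zH_comm B.x).symm
  · show D.act (B.el _) v = _
    rw [B.el_xor, D.act_mul_apply]
    have h0 : D.act (B.el b) v = v := by
      rcases hb with rfl | rfl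
      · rw [B.el_zero, map_one]; rfl
      · rw [B.el_one, (D.ker_act _).2 D.xc.mem]; rfl
    rw [h0, he, hact]

/-- exactly one lift of each transvection lies in the class -/
theorem exists_sk (hF : Cfsg.IsOfLargeFischerTypeAt z Q) (hN : B.Normed) {i : ℕ} (hi : i < 45) :
    ∃ a, B.Lift i a ∧ a ∈ B.sD ∧ a * B.zS ∉ B.sD := by
  obtain ⟨m, hm, him, -⟩ := exists_line hi hi (adj_self hi)
  obtain ⟨-, -, k, hk, ek⟩ := line_move hm him
  obtain ⟨u, hux, eu⟩ := B.exists_lift_KV (lg_mem hm)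
  have hlt : Nat.xor (p5.getD k 0 * 128) 0 < 2048 ∧ Nat.xor (p5.getD k 0 * 128) 1 < 2048 := by
    have h := List.all_eq_true.1 five_codes k (List.mem_range.2 hk)
    simp only [Bool.and_eq_true, Nat.blt_eq] at h
    exact ⟨by show _ ^^^ 0 < 2048; rw [Nat.xor_zero]; exact h.1, h.2⟩
  have hmem : ∀ {n : ℕ}, n < 2048 → (B.cls n ∈ B.sD ↔ memV (pL.map rdC) (rdC n) = true) := by
    intro n hn
    rw [B.cls_mem_sD_iff hF hN hn, memV_iff, List.mem_map]
    exact ⟨fun ⟨p, hp, e⟩ => ⟨p, hp, e.symm⟩, fun ⟨p, hp, e⟩ => ⟨p, hp, e.symm⟩⟩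
  obtain ⟨a, ha, haD, haz⟩ : ∃ a, B.Lift (pt5.getD k 0) a ∧ a ∈ B.sD ∧ a * B.zS ∉ B.sD := by
    have hs : memV (pL.map rdC) (rdC (p5.getD k 0 * 128)) ≠
        memV (pL.map rdC) (rdC (Nat.xor (p5.getD k 0 * 128) 1)) :=
      bne_iff_ne.1 (List.all_eq_true.1 five_sign k (List.mem_range.2 hk))
    have e0 : B.cls (p5.getD k 0 * 128) * B.zS = B.cls (Nat.xor (p5.getD k 0 * 128) 1) := by
      rw [B.cls_xor, B.cls_one]
    have h0 := B.lift_five hk (Or.inl (rfl : (0 : ℕ) = 0))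
    rw [show Nat.xor (p5.getD k 0 * 128) 0 = p5.getD k 0 * 128 from Nat.xor_zero _] at h0
    have hn0 : p5.getD k 0 * 128 < 2048 := by
      rw [← Nat.xor_zero (p5.getD k 0 * 128)]; exact hlt.1
    by_cases hA : B.cls (p5.getD k 0 * 128) ∈ B.sD
    · refine ⟨_, h0, hA, ?_⟩
      rw [e0, hmem hlt.2]
      rw [hmem hn0] at hA
      rw [hA] at hs
      exact fun h => hs h.symm
    · refine ⟨_, B.lift_mul_zS h0, ?_, ?_⟩
      · rw [e0, hmem hlt.2]
        rw [hmem hn0, Bool.not_eq_true] at hA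
        rw [hA] at hs
        simpa using hs
      · rwa [mul_assoc, B.zS_sq, mul_one]
  refine ⟨(B.sρ u)⁻¹ * a * B.sρ u, ?_, ?_, fun h => haz ?_⟩
  · have := B.lift_conj (l := i) ha (k := u⁻¹) (g := (lg m)⁻¹) ?_ ?_ ?_
    · rwa [map_inv, inv_inv] at this
    · exact (Commute.inv_left hux : Commute ((u : Subgroup.centralizer ({z} : Set G))⁻¹) B.x)
    · intro v
      apply D.act_injective (u : Subgroup.centralizer ({z} : Set G))
      show D.act _ (D.act (u : Subgroup.centralizer ({z} : Set G))⁻¹ v) = _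
      rw [← D.act_mul_apply, mul_inv_cancel, map_one, eu, Matrix.mulVec_mulVec, ← map_mul,
        mul_inv_cancel, map_one, Matrix.one_mulVec]
      rfl
    · rw [inv_mul_eq_iff_eq_mul, ← mul_assoc, ek, mul_inv_cancel_right]
  · simpa using B.sD_conj (B.sρ u)⁻¹ haD
  · have h' := B.sD_conj (B.sρ u) h
    have hz := (B.sρ_commute u).eq
    rwa [show B.sρ u * ((B.sρ u)⁻¹ * a * B.sρ u * B.zS) * (B.sρ u)⁻¹ = a * B.zS by
      simp only [mul_assoc]
      rw [← mul_assoc (B.sρ u) B.zS, hz]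
      simp [mul_assoc]] at h'

open _root_.Classical in
/-- the distinguished lift -/
noncomputable def sk (i : ℕ) : B.SX :=
  if h : ∃ a, B.Lift i a ∧ a ∈ B.sD ∧ a * B.zS ∉ B.sD then _root_.Classical.choose h else 1

theorem sk_spec (hF : Cfsg.IsOfLargeFischerTypeAt z Q) (hN : B.Normed) {i : ℕ} (hi : i < 45) :
    B.Lift i (B.sk i) ∧ B.sk i ∈ B.sD ∧ B.sk i * B.zS ∉ B.sD := by
  rw [sk, dif_pos (B.exists_sk hF hN hi)]
  exact _root_.Classical.choose_spec (B.exists_sk hF hN hi)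

theorem eq_sk (hF : Cfsg.IsOfLargeFischerTypeAt z Q) (hN : B.Normed) {i : ℕ} (hi : i < 45)
    {a : B.SX} (ha : B.Lift i a) (haD : a ∈ B.sD) : a = B.sk i := by
  obtain ⟨h1, -, h3⟩ := B.sk_spec hF hN hi
  exact (B.lift_two h1 ha).resolve_right fun e => h3 (e ▸ haD)

theorem sk_conj (hF : Cfsg.IsOfLargeFischerTypeAt z Q) (hN : B.Normed) {i l : ℕ} (hi : i < 45)
    (hl : l < 45) {k : ↥B.sH}
    (hkx : (k : Subgroup.centralizer ({z} : Set G)) * B.x = B.x * k) {g : U6}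
    (hk : ∀ v, D.act (k : Subgroup.centralizer ({z} : Set G)) v = mat g *ᵥ v)
    (hg : g * tg i = tg l * g) : B.sρ k * B.sk i * (B.sρ k)⁻¹ = B.sk l :=
  B.eq_sk hF hN hl (B.lift_conj (B.sk_spec hF hN hi).1 hkx hk hg)
    (B.sD_conj _ (B.sk_spec hF hN hi).2.1)

theorem sk_comm_iff (hF : Cfsg.IsOfLargeFischerTypeAt z Q) (hN : B.Normed) {i : ℕ} (hi : i < 45)
    {q : Q} (hq : (q : Subgroup.centralizer ({z} : Set G)) ∈ B.sH) :
    Commute (B.sk i) (B.sρ ⟨q, hq⟩) ↔ hm (D.vec q) (rV i) = 0 := by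
  obtain ⟨⟨h, e, hx, eh⟩, -⟩ := B.sk_spec hF hN hi
  rw [← e, B.sρ_comm_iff hx (tg_mem hi) eh hq, tg_fix hi (B.mem_sQ.1 hq)]

theorem sk_mem_nb (hF : Cfsg.IsOfLargeFischerTypeAt z Q) (hN : B.Normed) {i : ℕ} (hi : i < 45) :
    B.sk i ∈ nb B.sD B.zS := by
  obtain ⟨⟨h, e, -, eh⟩, hD, -⟩ := B.sk_spec hF hN hi
  refine ⟨hD, fun e' => (tg_sq hi).2 ?_, ?_⟩
  · refine mat_ext fun v => ?_
    rw [← eh, map_one, Matrix.one_mulVec,
      B.act_of_eq (h := ⟨zH z, B.zH_mem_sH⟩) (k := h) (by rw [B.sρ_zH, e, e']) v]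
    show D.act (zH z) v = v
    rw [(D.ker_act _).2 D.xc.mem]
    rfl
  · rw [← e]; exact (B.sρ_commute h).symm

end Model.ABase

end CfsgLib.Spor.LargeFi
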