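import Cfsg.Agent.Lib.Spor.LargeFi.SixLift
import Cfsg.Agent.Lib.KnownB.TypeUSix.Defs

/-!
The neighbours of the distinguished involution of `C(E)/E`: forty-five points, each four times, with
commutation given by orthogonality of the points.
-/

set_option autoImplicit false
set_option maxRecDepth 100000

namespace CfsgLib.Spor.LargeFi

open CfsgLib.Spor.U62 CfsgLib.ThreeTransp CfsgLib.Spor.LargeFi.SixPt
open Matrix

theorem four_check : (pL.all fun p => pL.all fun q => Nat.beq p q || Nat.beq p 1 || Nat.beq q 1 ||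
    !Nat.beq (pI p) (pI q) || !memV (pL.map rdC) (rdC (Nat.xor (Nat.xor 1 p) q))) = true := by
  decide +kernel

theorem pt5_inj : ((List.range 5).all fun j => (List.range 5).all fun k => Nat.beq j k ||
    !Nat.beq (pt5.getD j 0) (pt5.getD k 0)) = true := by decide +kernel

theorem card_adj : ((List.range 45).all fun i =>
    Nat.beq ((List.range 45).filter fun l => adjB i l).length 13) = true := by decide +kernel

variable {G : Type*} [Group G] [Finite G] {z : G}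

namespace Model.ABase

variable {Q : Subgroup (Subgroup.centralizer ({z} : Set G))} [Q.Normal]
  {D : Model Q (zH z)} (B : D.ABase)

open _root_.Classical in
/-- a translation with given value at a point -/
noncomputable def sjl (i : ℕ) (a : K4) : B.SX :=
  if h : ∃ q : Q, (q : Subgroup.centralizer ({z} : Set G)) ∈ B.sH ∧ hm (D.vec q) (rV i) = a then
    B.sρ ⟨((_root_.Classical.choose h : Q) : Subgroup.centralizer ({z} : Set G)),
      (_root_.Classical.choose_spec h).1⟩ else 1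

/-- the four members over each point -/
noncomputable def sP (i : ℕ) (a : K4) : B.SX := B.sjl i a * B.sk i * (B.sjl i a)⁻¹

theorem sjl_spec {i : ℕ} (hi : i < 45) (a : K4) :
    ∃ (q : Q) (hq : (q : Subgroup.centralizer ({z} : Set G)) ∈ B.sH),
      hm (D.vec q) (rV i) = a ∧ B.sjl i a = B.sρ ⟨q, hq⟩ := by
  obtain ⟨w, hw, ew⟩ := exists_value hi a
  obtain ⟨q, hq, eq'⟩ := B.exists_sQ hw
  have h : ∃ q : Q, (q : Subgroup.centralizer ({z} : Set G)) ∈ B.sH ∧ hm (D.vec q) (rV i) = a :=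
    ⟨q, hq, by rw [eq', ew]⟩
  exact ⟨_, (_root_.Classical.choose_spec h).1, (_root_.Classical.choose_spec h).2,
    by rw [sjl, dif_pos h]⟩

theorem sP_eq (hF : Cfsg.IsOfLargeFischerTypeAt z Q) (hN : B.Normed) {i : ℕ} (hi : i < 45) {q : Q}
    (hq : (q : Subgroup.centralizer ({z} : Set G)) ∈ B.sH) :
    B.sρ ⟨q, hq⟩ * B.sk i * (B.sρ ⟨q, hq⟩)⁻¹ = B.sP i (hm (D.vec q) (rV i)) := by
  obtain ⟨q0, hq0, e0, ej⟩ := B.sjl_spec hi (hm (D.vec q) (rV i))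
  have hd : ((q0⁻¹ * q : Q) : Subgroup.centralizer ({z} : Set G)) ∈ B.sH :=
    mul_mem (inv_mem hq0) hq
  have hc := (B.sk_comm_iff hF hN hi hd).2 (by
    rw [D.vec_mul, D.vec_inv, hm_add, e0, k_two])
  have e : (⟨q, hq⟩ : ↥B.sH) = ⟨q0, hq0⟩ * ⟨((q0⁻¹ * q : Q) : Subgroup.centralizer ({z} : Set G)), hd⟩ :=
    Subtype.ext (by simp)
  rw [sP, ej, e, map_mul]
  calc B.sρ ⟨q0, hq0⟩ * B.sρ ⟨((q0⁻¹ * q : Q) : Subgroup.centralizer ({z} : Set G)), hd⟩ * B.sk i *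
        (B.sρ ⟨q0, hq0⟩ * B.sρ ⟨((q0⁻¹ * q : Q) : Subgroup.centralizer ({z} : Set G)), hd⟩)⁻¹
      = B.sρ ⟨q0, hq0⟩ * (B.sρ ⟨((q0⁻¹ * q : Q) : Subgroup.centralizer ({z} : Set G)), hd⟩ * B.sk i *
          (B.sρ ⟨((q0⁻¹ * q : Q) : Subgroup.centralizer ({z} : Set G)), hd⟩)⁻¹) * (B.sρ ⟨q0, hq0⟩)⁻¹ := by
        simp [mul_assoc]
    _ = _ := by rw [← hc.eq, mul_inv_cancel_right]

theorem sP_zero (hF : Cfsg.IsOfLargeFischerTypeAt z Q) (hN : B.Normed) {i : ℕ} (hi : i < 45) :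
    B.sP i 0 = B.sk i := by
  have h := B.sP_eq hF hN hi (q := 1) (one_mem _)
  rw [D.vec_one, show hm (0 : V6) (rV i) = 0 by simp [hm, Cfsg.hermForm],
    show (⟨((1 : Q) : Subgroup.centralizer ({z} : Set G)), one_mem B.sH⟩ : ↥B.sH) = 1 from rfl,
    map_one, one_mul, inv_one, mul_one] at h
  exact h.symm

theorem sP_lift (hF : Cfsg.IsOfLargeFischerTypeAt z Q) (hN : B.Normed) {i : ℕ} (hi : i < 45) (a : K4) :
    ∃ h : ↥B.sH, B.sρ h = B.sP i a ∧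
      ∀ v, D.act (h : Subgroup.centralizer ({z} : Set G)) v = mat (tg i) *ᵥ v := by
  obtain ⟨q, hq, -, ej⟩ := B.sjl_spec hi a
  obtain ⟨⟨h, eh, -, ah⟩, -⟩ := B.sk_spec hF hN hi
  refine ⟨⟨q, hq⟩ * h * ⟨q, hq⟩⁻¹, by rw [map_mul, map_mul, map_inv, eh, sP, ej], fun v => ?_⟩
  show D.act ((q : Subgroup.centralizer ({z} : Set G)) * h * (q : Subgroup.centralizer ({z} : Set G))⁻¹) v = _
  rw [D.act_mul_apply, D.act_mul_apply, ah, (D.ker_act _).2 q.2, (D.ker_act _).2 (inv_mem q.2)]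
  rfl

theorem sP_inj (hF : Cfsg.IsOfLargeFischerTypeAt z Q) (hN : B.Normed) {i l : ℕ} (hi : i < 45)
    (hl : l < 45) {a b : K4} (h : B.sP i a = B.sP l b) : i = l ∧ a = b := by
  obtain ⟨u, eu, au⟩ := B.sP_lift hF hN hi a
  obtain ⟨v, ev, av⟩ := B.sP_lift hF hN hl b
  have hil : i = l := tg_inj hi hl (mat_ext fun w => by
    rw [← au, ← av, B.act_of_eq (h := u) (k := v) (eu.trans (h.trans ev.symm)) w])
  subst hil
  refine ⟨rfl, ?_⟩
  obtain ⟨q, hq, rfl, ej⟩ := B.sjl_spec hi a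
  obtain ⟨p, hp, rfl, ep⟩ := B.sjl_spec hi b
  rw [sP, sP, ej, ep] at h
  have hd : ((q⁻¹ * p : Q) : Subgroup.centralizer ({z} : Set G)) ∈ B.sH := mul_mem (inv_mem hq) hp
  have hc : Commute (B.sk i) (B.sρ ⟨((q⁻¹ * p : Q) : Subgroup.centralizer ({z} : Set G)), hd⟩) := by
    rw [show (⟨((q⁻¹ * p : Q) : Subgroup.centralizer ({z} : Set G)), hd⟩ : ↥B.sH) =
      ⟨q, hq⟩⁻¹ * ⟨p, hp⟩ from rfl, map_mul, map_inv]
    show B.sk i * ((B.sρ ⟨q, hq⟩)⁻¹ * B.sρ ⟨p, hp⟩) = (B.sρ ⟨q, hq⟩)⁻¹ * B.sρ ⟨p, hp⟩ * B.sk i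
    calc B.sk i * ((B.sρ ⟨q, hq⟩)⁻¹ * B.sρ ⟨p, hp⟩)
        = (B.sρ ⟨q, hq⟩)⁻¹ * (B.sρ ⟨q, hq⟩ * B.sk i * (B.sρ ⟨q, hq⟩)⁻¹) * B.sρ ⟨p, hp⟩ := by
          simp [mul_assoc]
      _ = _ := by rw [h]; simp [mul_assoc]
  have h0 := (B.sk_comm_iff hF hN hi hd).1 hc
  rw [D.vec_mul, D.vec_inv, hm_add] at h0
  exact add_right_cancel (h0.trans (k_two _).symm)

/-- conjugation by a lift commuting with the scalar -/
theorem sP_move (hF : Cfsg.IsOfLargeFischerTypeAt z Q) (hN : B.Normed) {i l : ℕ} (hi : i < 45)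
    (hl : l < 45) {k : ↥B.sH}
    (hkx : (k : Subgroup.centralizer ({z} : Set G)) * B.x = B.x * k) {g : U6}
    (hk : ∀ v, D.act (k : Subgroup.centralizer ({z} : Set G)) v = mat g *ᵥ v)
    (hg : g * tg i = tg l * g) (a : K4) : ∃ b, B.sρ k * B.sP i a * (B.sρ k)⁻¹ = B.sP l b := by
  obtain ⟨q, hq, -, ej⟩ := B.sjl_spec hi a
  have hm' : (k : Subgroup.centralizer ({z} : Set G)) * (q : Subgroup.centralizer ({z} : Set G)) *
      (k : Subgroup.centralizer ({z} : Set G))⁻¹ ∈ Q := (inferInstance : Q.Normal).conj_mem _ q.2 _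
  have hs : (k : Subgroup.centralizer ({z} : Set G)) * (q : Subgroup.centralizer ({z} : Set G)) *
      (k : Subgroup.centralizer ({z} : Set G))⁻¹ ∈ B.sH := mul_mem (mul_mem k.2 hq) (inv_mem k.2)
  refine ⟨_, Eq.trans ?_ (B.sP_eq hF hN hl (q := ⟨_, hm'⟩) hs)⟩
  rw [show (⟨_, hs⟩ : ↥B.sH) = k * ⟨q, hq⟩ * k⁻¹ from rfl, map_mul, map_mul, map_inv, sP, ej,
    ← B.sk_conj hF hN hi hl hkx hk hg]
  simp [mul_assoc]

theorem sP_conj (hF : Cfsg.IsOfLargeFischerTypeAt z Q) (hN : B.Normed) {i : ℕ} (hi : i < 45) (a : K4)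
    (h : ↥B.sH) : ∃ l < 45, ∃ b, B.sρ h * B.sP i a * (B.sρ h)⁻¹ = B.sP l b := by
  letI := D.fld
  letI := D.fin
  obtain ⟨g, hg, q, k, hq, hkx, hk, -, rfl⟩ := B.decomp hF h
  obtain ⟨l, hl, e⟩ := tg_conj D.card_F9 hg i hi
  obtain ⟨b, hb⟩ := B.sP_move hF hN hi hl hkx hk e a
  obtain ⟨p, hp, -, ej⟩ := B.sjl_spec hl b
  refine ⟨l, hl, _, Eq.trans ?_ (B.sP_eq hF hN hl (q := q * p) (mul_mem hq hp))⟩
  rw [show (⟨((q * p : Q) : Subgroup.centralizer ({z} : Set G)), mul_mem hq hp⟩ : ↥B.sH) =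
    ⟨q, hq⟩ * ⟨p, hp⟩ from rfl, map_mul, map_mul]
  have hb' := hb
  rw [sP, sP, ej] at hb'
  calc B.sρ ⟨q, hq⟩ * B.sρ k * B.sP i a * (B.sρ ⟨q, hq⟩ * B.sρ k)⁻¹
      = B.sρ ⟨q, hq⟩ * (B.sρ k * B.sP i a * (B.sρ k)⁻¹) * (B.sρ ⟨q, hq⟩)⁻¹ := by simp [mul_assoc]
    _ = _ := by rw [hb, sP, ej]; simp [mul_assoc]

theorem sA_conj {n : ℕ} {q : Q} (hq : (q : Subgroup.centralizer ({z} : Set G)) ∈ B.sH) :
    B.sρ ⟨q, hq⟩ * B.cls n * (B.sρ ⟨q, hq⟩)⁻¹ ∈ B.sA := by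
  obtain ⟨m, hm', e⟩ := B.el_surj (Model.std_norm_bigA' q.2 (B.el_mem n))
  refine B.mem_sA.2 ⟨m, hm', ?_⟩
  rw [← B.sρ_el, ← B.sρ_el, ← map_inv, ← map_mul, ← map_mul]
  exact congrArg B.sρ (Subtype.ext e.symm)

theorem sP_five (hF : Cfsg.IsOfLargeFischerTypeAt z Q) (hN : B.Normed) {k : ℕ} (hk : k < 5) (a : K4) :
    B.sP (pt5.getD k 0) a ∈ B.sA := by
  obtain ⟨q, hq, -, ej⟩ := B.sjl_spec (pt5_lt hk) a
  rw [sP, ej]
  rcases B.lift_two (B.lift_five hk (Or.inl (rfl : (0 : ℕ) = 0))) (B.sk_spec hF hN (pt5_lt hk)).1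
    with e | e <;> rw [e]
  · exact B.sA_conj hq
  · rw [← B.cls_one, ← B.cls_xor]
    exact B.sA_conj hq

theorem sP_mem_nb (hF : Cfsg.IsOfLargeFischerTypeAt z Q) (hN : B.Normed) {i : ℕ} (hi : i < 45) (a : K4) :
    B.sP i a ∈ nb B.sD B.zS := by
  obtain ⟨q, hq, -, ej⟩ := B.sjl_spec hi a
  obtain ⟨hD, hne, hc⟩ := B.sk_mem_nb hF hN hi
  have hz : B.sρ ⟨q, hq⟩ * B.zS * (B.sρ ⟨q, hq⟩)⁻¹ = B.zS := by
    rw [(B.sρ_commute _).eq, mul_inv_cancel_right]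
  rw [sP, ej]
  refine ⟨B.sD_conj _ hD, fun e => hne ?_, ?_⟩
  · exact mul_left_cancel (mul_right_cancel (e.trans hz.symm))
  · have h := (commute_conj_iff (B.sρ ⟨q, hq⟩)).2 hc
    rwa [hz] at h

theorem sA_five (hF : Cfsg.IsOfLargeFischerTypeAt z Q) (hN : B.Normed) {x : B.SX} (hA : x ∈ B.sA)
    (hD : x ∈ B.sD) (hne : x ≠ B.zS) : ∃ k < 5, ∃ a, x = B.sP (pt5.getD k 0) a := by
  classical
  let f : Fin 5 × K4 → B.SX := fun p => B.sP (pt5.getD p.1 0) p.2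
  have hf : Function.Injective f := by
    rintro ⟨j, a⟩ ⟨k, b⟩ e
    obtain ⟨e1, rfl⟩ := B.sP_inj hF hN (pt5_lt j.2) (pt5_lt k.2) e
    have h := List.all_eq_true.1 (List.all_eq_true.1 pt5_inj j (List.mem_range.2 j.2)) k
      (List.mem_range.2 k.2)
    simp only [Bool.or_eq_true, Nat.beq_eq, Bool.not_eq_true', ← Bool.not_eq_true] at h
    exact Prod.ext (Fin.ext (h.resolve_right fun h' => h' e1)) rfl
  set S : Set B.SX := {v | v ∈ B.sA ∧ v ∈ B.sD} with hS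
  have hsub : Set.range f ⊆ S \ {B.zS} := by
    rintro _ ⟨p, rfl⟩
    have h := B.sP_mem_nb hF hN (pt5_lt p.1.2) p.2
    exact ⟨⟨B.sP_five hF hN p.1.2 p.2, h.1⟩, h.2.1⟩
  have hle : (S \ {B.zS}).ncard ≤ (Set.range f).ncard := by
    rw [Set.ncard_range_of_injective hf, Nat.card_prod, Nat.card_fin, card_K4,
      Set.ncard_sdiff_singleton_of_mem (show B.zS ∈ S from ⟨B.zS_mem_sA, B.zS_mem_sD⟩),
      B.plane_card hF hN]
  have heq := Set.eq_of_subset_of_ncard_le hsub hle (Set.toFinite _)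
  obtain ⟨⟨k, a⟩, e⟩ := heq.ge (show x ∈ S \ {B.zS} from ⟨⟨hA, hD⟩, hne⟩)
  exact ⟨k, k.2, a, e.symm⟩

theorem sD_sq {x : B.SX} (hx : x ∈ B.sD) : x * x = 1 := by
  obtain ⟨g, rfl⟩ := isConj_iff.1 (show IsConj B.zS x from hx)
  rw [show g * B.zS * g⁻¹ * (g * B.zS * g⁻¹) = g * (B.zS * B.zS) * g⁻¹ by simp [mul_assoc], B.zS_sq]
  simp

/-- the neighbours are the members over the points -/
theorem nb_zS (hF : Cfsg.IsOfLargeFischerTypeAt z Q) (hN : B.Normed)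
    (hpull : ∀ x : B.SX, Commute x B.zS → x * x = 1 → ∃ g, Commute g B.zS ∧ g * x * g⁻¹ ∈ B.sA)
    {y : B.SX} (hy : y ∈ nb B.sD B.zS) : ∃ i < 45, ∃ a, y = B.sP i a := by
  obtain ⟨hD, hne, hc⟩ := hy
  obtain ⟨g, hg, hA⟩ := hpull y hc.symm (B.sD_sq hD)
  have hz : g * B.zS * g⁻¹ = B.zS := by rw [hg.eq, mul_inv_cancel_right]
  obtain ⟨k, hk, a, e⟩ := B.sA_five hF hN hA (B.sD_conj g hD)
    fun e => hne (mul_left_cancel (mul_right_cancel (e.trans hz.symm)))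
  obtain ⟨u, rfl⟩ : g ∈ B.sρ.range := by
    rw [B.sρ_range hF hN]
    exact Subgroup.mem_centralizer_singleton_iff.2 hg.eq
  obtain ⟨l, hl, b, hb⟩ := B.sP_conj hF hN (pt5_lt hk) a u⁻¹
  refine ⟨l, hl, b, ?_⟩
  rw [← hb, ← e, map_inv]
  simp [mul_assoc]

theorem sP_pair (hF : Cfsg.IsOfLargeFischerTypeAt z Q) (hN : B.Normed) {i l : ℕ} (hi : i < 45)
    (hl : l < 45) (hne : i ≠ l) (a b : K4) :
    ∃ r : B.SX, B.sP i a = r * B.sk i * r⁻¹ ∧ B.sP l b = r * B.sk l * r⁻¹ := by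
  obtain ⟨w, hw, ea, eb⟩ := indep_pair hi hl hne a b
  obtain ⟨q, hq, rfl⟩ := B.exists_sQ hw
  exact ⟨B.sρ ⟨q, hq⟩, by rw [B.sP_eq hF hN hi hq, ea], by rw [B.sP_eq hF hN hl hq, eb]⟩

theorem sP_comm (hF : Cfsg.IsOfLargeFischerTypeAt z Q) (hN : B.Normed) {i l : ℕ} (hi : i < 45)
    (hl : l < 45) (h : adjB i l = true) (a b : K4) : Commute (B.sP i a) (B.sP l b) := by
  obtain ⟨m, hm', him, hlm⟩ := exists_line hi hl h
  obtain ⟨-, -, j, hj, ej⟩ := line_move hm' him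
  obtain ⟨-, -, k, hk, ek⟩ := line_move hm' hlm
  obtain ⟨u, hux, eu⟩ := B.exists_lift_KV (lg_mem hm')
  obtain ⟨a', ha⟩ := B.sP_move hF hN hi (pt5_lt hj) hux eu ej a
  obtain ⟨b', hb⟩ := B.sP_move hF hN hl (pt5_lt hk) hux eu ek b
  refine (commute_conj_iff (B.sρ u)).1 ?_
  rw [ha, hb]
  exact B.sA_comm _ (B.sP_five hF hN hj a') _ (B.sP_five hF hN hk b')

theorem tg_pair {i l : ℕ} (hi : i < 45) (hl : l < 45) (h : adjB i l = false) :
    tg i * tg l ≠ tg l * tg i ∧ tg i * tg l * tg i = tg l * tg i * tg l := by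
  have e := List.all_eq_true.1 (List.all_eq_true.1 t_pairs i (List.mem_range.2 hi)) l (List.mem_range.2 hl)
  simp only [h, Bool.false_or, Bool.and_eq_true, Bool.not_eq_true', ← Bool.not_eq_true, Nat.beq_eq] at e
  refine ⟨fun he => e.1 ?_, cd_injective ?_⟩
  · rw [← cd_tg hi, ← cd_tg hl, ← cd_mul, ← cd_mul, he]
  · rw [cd_mul, cd_mul, cd_mul, cd_mul, cd_tg hi, cd_tg hl]
    exact e.2

theorem sP_commute_iff (hF : Cfsg.IsOfLargeFischerTypeAt z Q) (hN : B.Normed) {i l : ℕ} (hi : i < 45)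
    (hl : l < 45) (a b : K4) : Commute (B.sP i a) (B.sP l b) ↔ adjB i l = true := by
  refine ⟨fun hc => ?_, fun h => B.sP_comm hF hN hi hl h a b⟩
  by_contra h
  rw [Bool.not_eq_true] at h
  obtain ⟨u, eu, au⟩ := B.sP_lift hF hN hi a
  obtain ⟨v, ev, av⟩ := B.sP_lift hF hN hl b
  rw [← eu, ← ev] at hc
  refine (tg_pair hi hl h).1 (mat_ext fun w => ?_)
  have := B.act_of_eq (h := u * v) (k := v * u) (by rw [map_mul, map_mul]; exact hc) w
  rw [map_mul, map_mul, ← Matrix.mulVec_mulVec, ← Matrix.mulVec_mulVec, ← au, ← av, ← av, ← au,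
    ← D.act_mul_apply, ← D.act_mul_apply]
  exact this.symm

theorem sP_braid (hF : Cfsg.IsOfLargeFischerTypeAt z Q) (hN : B.Normed) {i l : ℕ} (hi : i < 45)
    (hl : l < 45) (h : adjB i l = false) (a b : K4) :
    B.sP i a * B.sP l b * B.sP i a = B.sP l b * B.sP i a * B.sP l b := by
  have hne : i ≠ l := fun e => by rw [e, adj_self hl] at h; exact Bool.noConfusion h
  obtain ⟨r, ea, eb⟩ := B.sP_pair hF hN hi hl hne a b
  suffices key : B.sk i * B.sk l * B.sk i = B.sk l * B.sk i * B.sk l by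
    rw [ea, eb]
    calc r * B.sk i * r⁻¹ * (r * B.sk l * r⁻¹) * (r * B.sk i * r⁻¹) =
          r * (B.sk i * B.sk l * B.sk i) * r⁻¹ := by simp [mul_assoc]
      _ = r * (B.sk l * B.sk i * B.sk l) * r⁻¹ := by rw [key]
      _ = _ := by simp [mul_assoc]
  obtain ⟨⟨u, eu, ux, au⟩, hiD, -⟩ := B.sk_spec hF hN hi
  obtain ⟨⟨v, ev, vx, av⟩, hlD, hlz⟩ := B.sk_spec hF hN hl
  have hi1 := B.sD_sq hiD
  have hl1 := B.sD_sq hlD
  have hw : ∀ p q : ↥B.sH, (p : Subgroup.centralizer ({z} : Set G)) * B.x = B.x * p →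
      (q : Subgroup.centralizer ({z} : Set G)) * B.x = B.x * q →
      ((p * q * p : ↥B.sH) : Subgroup.centralizer ({z} : Set G)) * B.x = B.x * (p * q * p : ↥B.sH) := by
    intro p q hp hq
    exact (((show Commute _ B.x from hp).mul_left hq).mul_left hp).eq
  rcases D.lift_unique B.x_act (hw v u vx ux) (hw u v ux vx) (fun w => by
      simp only [Subgroup.coe_mul, D.act_mul_apply, au, av, Matrix.mulVec_mulVec, ← map_mul,
        ← mul_assoc, (tg_pair hi hl h).2]) with e | e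
  · rw [← eu, ← ev, ← map_mul, ← map_mul, ← map_mul, ← map_mul]
    exact congrArg B.sρ (Subtype.ext e)
  · exfalso
    refine hlz ?_
    have e' : B.sk i * B.sk l * B.sk i = B.sk l * B.sk i * B.sk l * B.zS := by
      rw [← eu, ← ev, ← B.sρ_zH, ← map_mul, ← map_mul, ← map_mul, ← map_mul, ← map_mul]
      exact congrArg B.sρ (Subtype.ext e)
    have hzi : B.sk i * B.zS = B.zS * B.sk i := (B.sk_mem_nb hF hN hi).2.2.eq.symm
    have hzl : B.sk l * B.zS = B.zS * B.sk l := (B.sk_mem_nb hF hN hl).2.2.eq.symm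
    have hc := B.sD_conj (B.sk i * B.sk l) hiD
    rwa [show B.sk i * B.sk l * B.sk i * (B.sk i * B.sk l)⁻¹ = B.sk l * B.zS by
      rw [e', _root_.mul_inv_rev, inv_eq_of_mul_eq_one_right hl1, inv_eq_of_mul_eq_one_right hi1]
      simp only [mul_assoc]
      rw [← mul_assoc B.zS (B.sk l), ← hzl, mul_assoc, ← mul_assoc (B.sk l) (B.sk l), hl1, one_mul,
        ← hzi, ← mul_assoc (B.sk i) (B.sk i), hi1, one_mul]] at hc

theorem sP_first (hF : Cfsg.IsOfLargeFischerTypeAt z Q) (hN : B.Normed) {i : ℕ} (hi : i < 45) (a : K4) :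
    ∃ g : B.SX, Commute g B.zS ∧ g * B.sP i a * g⁻¹ = B.sk (pt5.getD 0 0) := by
  obtain ⟨m, hm', him, -⟩ := exists_line hi hi (adj_self hi)
  obtain ⟨-, -, j, hj, ej⟩ := line_move hm' him
  obtain ⟨u, hux, eu⟩ := B.exists_lift_KV (lg_mem hm')
  obtain ⟨f, hfx, ef⟩ := B.exists_lift_KV (fg_mem hj)
  obtain ⟨a', ha⟩ := B.sP_move hF hN hi (pt5_lt hj) hux eu ej a
  obtain ⟨b, hb⟩ := B.sP_move hF hN (pt5_lt hj) (pt5_lt (by norm_num)) hfx ef (five_move hj) a'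
  obtain ⟨q, hq, -, ek⟩ := B.sjl_spec (pt5_lt (k := 0) (by norm_num)) b
  refine ⟨(B.sρ ⟨q, hq⟩)⁻¹ * B.sρ f * B.sρ u,
    ((B.sρ_commute _).inv_left.mul_left (B.sρ_commute f)).mul_left (B.sρ_commute u), ?_⟩
  calc (B.sρ ⟨q, hq⟩)⁻¹ * B.sρ f * B.sρ u * B.sP i a * ((B.sρ ⟨q, hq⟩)⁻¹ * B.sρ f * B.sρ u)⁻¹
      = (B.sρ ⟨q, hq⟩)⁻¹ * (B.sρ f * (B.sρ u * B.sP i a * (B.sρ u)⁻¹) * (B.sρ f)⁻¹) * B.sρ ⟨q, hq⟩ := by
        simp [mul_assoc]
    _ = _ := by rw [ha, hb, sP, ek]; simp [mul_assoc]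

theorem sP_not_D (hF : Cfsg.IsOfLargeFischerTypeAt z Q) (hN : B.Normed) {i : ℕ} (hi : i < 45) {a b : K4}
    (hab : a ≠ b) : B.zS * B.sP i a * B.sP i b ∉ B.sD := by
  intro hD
  obtain ⟨m, hm', him, -⟩ := exists_line hi hi (adj_self hi)
  obtain ⟨-, -, j, hj, ej⟩ := line_move hm' him
  obtain ⟨u, hux, eu⟩ := B.exists_lift_KV (lg_mem hm')
  obtain ⟨a', ha⟩ := B.sP_move hF hN hi (pt5_lt hj) hux eu ej a
  obtain ⟨b', hb⟩ := B.sP_move hF hN hi (pt5_lt hj) hux eu ej b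
  have hne : a' ≠ b' := by
    rintro rfl
    exact hab (B.sP_inj hF hN hi hi (mul_left_cancel (mul_right_cancel (ha.trans hb.symm)))).2
  have key : ∀ c, ∃ p ∈ pL, p ≠ 1 ∧ B.cls p = B.sP (pt5.getD j 0) c ∧
      ∀ v, sAct (peC (pI p)) v = mat (tg (pt5.getD j 0)) *ᵥ v := by
    intro c
    have h := B.sP_mem_nb hF hN (pt5_lt hj) c
    obtain ⟨p, hp, e⟩ := (B.mem_sA_sD hF hN).1 ⟨B.sP_five hF hN hj c, h.1⟩
    refine ⟨p, hp, fun e1 => h.2.1 (by rw [e, e1, B.cls_one]), e.symm, fun v => ?_⟩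
    obtain ⟨w, ew, aw⟩ := B.sP_lift hF hN (pt5_lt hj) c
    have := B.act_of_eq (h := ⟨B.el p, B.el_mem_sH p⟩) (k := w) (by rw [B.sρ_el, ew, e]) v
    rw [aw] at this
    rw [this]
    exact (B.act_el (pL_spec hp).1 v).symm
  obtain ⟨p, hp, hp1, ep, ap⟩ := key a'
  obtain ⟨q, hq, hq1, eq', aq⟩ := key b'
  have hlt : ∀ {r : ℕ}, r ∈ pL → pI r < 16 := fun hr => by
    have := (pL_spec hr).1
    simp only [pI]; omega
  have hI : pI p = pI q := Model.ABase.pI_unique (hlt hp) (hlt hq) fun v => by rw [ap, aq]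
  have hD' := B.sD_conj (B.sρ u) hD
  rw [show B.sρ u * (B.zS * B.sP i a * B.sP i b) * (B.sρ u)⁻¹ =
      B.sρ u * B.zS * (B.sρ u)⁻¹ * (B.sρ u * B.sP i a * (B.sρ u)⁻¹) *
        (B.sρ u * B.sP i b * (B.sρ u)⁻¹) by simp [mul_assoc],
    (B.sρ_commute u).eq, mul_inv_cancel_right, ha, hb, ← ep, ← eq', ← B.cls_one, ← B.cls_xor,
    ← B.cls_xor, B.cls_mem_sD_iff hF hN (xor_lt' (xor_lt' (by norm_num) (pL_spec hp).1) (pL_spec hq).1)]
    at hD'
  obtain ⟨r, hr, er⟩ := hD'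
  have h := List.all_eq_true.1 (List.all_eq_true.1 four_check p hp) q hq
  simp only [Bool.or_eq_true, Nat.beq_eq, Bool.not_eq_true', ← Bool.not_eq_true, memV_iff,
    List.mem_map] at h
  rcases h with (((e | e) | e) | e) | e
  · exact hne (B.sP_inj hF hN (pt5_lt hj) (pt5_lt hj) (by rw [← ep, ← eq', e])).2
  · exact hp1 e
  · exact hq1 e
  · exact e hI
  · exact e ⟨r, hr, er.symm⟩

theorem adj_separate {i l : ℕ} (hi : i < 45) (hl : l < 45) (hne : i ≠ l) :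
    ∃ p < 45, adjB i p = true ∧ adjB l p = false := by
  have h := List.all_eq_true.1 adj_deg i (List.mem_range.2 hi)
  simp only [Bool.and_eq_true, List.all_eq_true, List.mem_range, Bool.or_eq_true, Nat.beq_eq,
    List.any_eq_true, Bool.not_eq_true'] at h
  exact (h.2 l hl).2.resolve_left hne

set_option maxHeartbeats 1000000 in
/-- the local data at the distinguished involution, given that involutions pull into the plane -/
theorem sX_local (hF : Cfsg.IsOfLargeFischerTypeAt z Q) (hN : B.Normed)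
    (hpull : ∀ x : B.SX, Commute x B.zS → x * x = 1 → ∃ g, Commute g B.zS ∧ g * x * g⁻¹ ∈ B.sA) :
    CfsgLib.KnownB.TypeUSix.Local B.sD B.zS := by
  classical
  let f : Fin 45 × K4 → B.SX := fun p => B.sP p.1 p.2
  have hf : Function.Injective f := by
    rintro ⟨i, a⟩ ⟨l, b⟩ e
    obtain ⟨e1, rfl⟩ := B.sP_inj hF hN i.2 l.2 e
    exact Prod.ext (Fin.ext e1) rfl
  have hnb : nb B.sD B.zS = Set.range f := by
    ext y
    constructor
    · intro hy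
      obtain ⟨i, hi, a, rfl⟩ := B.nb_zS hF hN hpull hy
      exact ⟨(⟨i, hi⟩, a), rfl⟩
    · rintro ⟨p, rfl⟩
      exact B.sP_mem_nb hF hN p.1.2 p.2
  have hcm : ∀ p q : Fin 45 × K4, Commute (f p) (f q) ↔ adjB p.1 q.1 = true :=
    fun p q => B.sP_commute_iff hF hN p.1.2 q.1.2 p.2 q.2
  have htwin : ∀ p q : Fin 45 × K4,
      CfsgLib.KnownB.TypeUSix.Twin B.sD B.zS (f p) (f q) ↔ q.1 = p.1 ∧ q ≠ p := by
    intro p q
    constructor
    · rintro ⟨-, -, hne, hpq, hall⟩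
      refine ⟨?_, fun e => hne (by rw [e])⟩
      by_contra hd
      obtain ⟨r, hr, h1, h2⟩ := adj_separate p.1.2 q.1.2 (fun e => hd (Fin.ext e.symm))
      have h3 := hall (f (⟨r, hr⟩, 0)) (by rw [hnb]; exact ⟨_, rfl⟩)
        ((hcm _ _).2 (by rw [adj_symm hr p.1.2]; exact h1))
      rw [hcm, adj_symm hr q.1.2, h2] at h3
      exact Bool.noConfusion h3
    · rintro ⟨e1, e2⟩
      refine ⟨hnb ▸ ⟨p, rfl⟩, hnb ▸ ⟨q, rfl⟩, fun e => e2 (hf e).symm,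
        (hcm p q).2 (by rw [e1]; exact adj_self p.1.2), fun y hy hc => ?_⟩
      obtain ⟨r, rfl⟩ := hnb ▸ hy
      rw [hcm] at hc ⊢
      rwa [e1]
  constructor
  · intro x hx y hy hxy
    obtain ⟨p, rfl⟩ := hnb ▸ hx
    obtain ⟨q, rfl⟩ := hnb ▸ hy
    rw [hcm, Bool.not_eq_true] at hxy
    exact B.sP_braid hF hN p.1.2 q.1.2 hxy p.2 q.2
  · intro x hx y hy
    obtain ⟨p, rfl⟩ := hnb ▸ hx
    obtain ⟨q, rfl⟩ := hnb ▸ hy
    obtain ⟨g, hg, eg⟩ := B.sP_first hF hN p.1.2 p.2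
    obtain ⟨k, hk, ek⟩ := B.sP_first hF hN q.1.2 q.2
    refine ⟨k⁻¹ * g, ?_, ?_⟩
    · rw [((Commute.inv_left hk).mul_left hg).eq, mul_inv_cancel_right]
    · calc k⁻¹ * g * f p * (k⁻¹ * g)⁻¹ = k⁻¹ * (g * B.sP p.1 p.2 * g⁻¹) * k := by simp [f, mul_assoc]
        _ = f q := by rw [eg, ← ek]; simp [f, mul_assoc]
  · rw [hnb, Set.ncard_range_of_injective hf, Nat.card_prod, Nat.card_fin, card_K4]
  · intro x hx
    obtain ⟨p, rfl⟩ := hnb ▸ hx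
    have e : nb B.sD B.zS ∩ nb B.sD (f p) =
        f '' ((({l : Fin 45 | adjB p.1 l = true} : Set (Fin 45)) ×ˢ (Set.univ : Set K4)) \ {p}) := by
      ext y
      constructor
      · rintro ⟨h1, -, hne, hc⟩
        obtain ⟨q, rfl⟩ := hnb ▸ h1
        exact ⟨q, ⟨⟨(hcm p q).1 hc, trivial⟩, fun e => hne (congrArg f e)⟩, rfl⟩
      · rintro ⟨q, ⟨⟨hq, -⟩, hne⟩, rfl⟩
        exact ⟨hnb ▸ ⟨q, rfl⟩, (B.sP_mem_nb hF hN q.1.2 q.2).1, fun e => hne (hf e), (hcm p q).2 hq⟩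
    have h13 : ({l : Fin 45 | adjB p.1 l = true} : Set (Fin 45)).ncard = 13 := by
      have h := Nat.eq_of_beq_eq_true (List.all_eq_true.1 card_adj p.1 (List.mem_range.2 p.1.2))
      have e' : Fin.val '' ({l : Fin 45 | adjB p.1 l = true} : Set (Fin 45)) =
          ((((List.range 45).filter fun l => adjB p.1 l).toFinset : Finset ℕ) : Set ℕ) := by
        ext l
        simp only [Set.mem_image, Set.mem_ofPred_eq, Finset.mem_coe, List.mem_toFinset, List.mem_filter,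
          List.mem_range]
        exact ⟨fun ⟨l', h', e⟩ => e ▸ ⟨l'.2, h'⟩, fun ⟨h1, h2⟩ => ⟨⟨l, h1⟩, h2, rfl⟩⟩
      rw [← Set.ncard_image_of_injective _ Fin.val_injective, e', Set.ncard_coe_finset,
        List.toFinset_card_of_nodup (List.nodup_range.filter _), h]
    rw [e, Set.ncard_image_of_injective _ hf, Set.ncard_sdiff_singleton_of_mem
      (show p ∈ ({l : Fin 45 | adjB p.1 l = true} : Set (Fin 45)) ×ˢ (Set.univ : Set K4) from
        ⟨adj_self p.1.2, trivial⟩), Set.ncard_prod, h13, Set.ncard_univ, card_K4]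
  · intro x y h
    obtain ⟨p, rfl⟩ := hnb ▸ h.1
    obtain ⟨q, rfl⟩ := hnb ▸ h.2.1
    obtain ⟨e1, e2⟩ := (htwin p q).1 h
    exact (htwin q p).2 ⟨e1.symm, e2.symm⟩
  · intro x hx
    obtain ⟨p, rfl⟩ := hnb ▸ hx
    have e : {y | CfsgLib.KnownB.TypeUSix.Twin B.sD B.zS (f p) y} =
        f '' ((({p.1} : Set (Fin 45)) ×ˢ (Set.univ : Set K4)) \ {p}) := by
      ext y
      constructor
      · intro h
        obtain ⟨q, rfl⟩ := hnb ▸ h.2.1
        obtain ⟨e1, e2⟩ := (htwin p q).1 h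
        exact ⟨q, ⟨⟨e1, trivial⟩, e2⟩, rfl⟩
      · rintro ⟨q, ⟨⟨e1, -⟩, e2⟩, rfl⟩
        exact (htwin p q).2 ⟨e1, e2⟩
    rw [e, Set.ncard_image_of_injective _ hf, Set.ncard_sdiff_singleton_of_mem
      (show p ∈ ({p.1} : Set (Fin 45)) ×ˢ (Set.univ : Set K4) from ⟨rfl, trivial⟩), Set.ncard_prod,
      Set.ncard_singleton, Set.ncard_univ, card_K4]
  · intro x hx y hy hxy
    obtain ⟨p, rfl⟩ := hnb ▸ hx
    obtain ⟨q, rfl⟩ := hnb ▸ hy
    rw [hcm] at hxy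
    have h := List.all_eq_true.1 (List.all_eq_true.1 adj_join p.1 (List.mem_range.2 p.1.2)) q.1
      (List.mem_range.2 q.1.2)
    simp only [Bool.or_eq_true, hxy, Bool.false_eq_true, false_or, List.any_eq_true, Bool.and_eq_true, List.mem_range] at h
    obtain ⟨r, hr, h1, h2⟩ := h
    exact ⟨f (⟨r, hr⟩, 0), hnb ▸ ⟨_, rfl⟩, (hcm _ _).2 h1, (hcm _ _).2 h2⟩
  · intro w hw P hP hmem hpair a ha haw
    obtain ⟨w', rfl⟩ := hnb ▸ hw
    obtain ⟨a', rfl⟩ := hnb ▸ ha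
    rw [hcm] at haw
    obtain ⟨x₁, x₂, x₃, x₄, h12, h13, h14, h23, h24, h34, rfl⟩ := Finset.card_eq_four.1 hP
    have hsrc : ∀ p ∈ ({x₁, x₂, x₃, x₄} : Finset B.SX), ∃ p' : Fin 45 × K4, f p' = p ∧
        adjB p'.1 w'.1 = true ∧ p'.1 ≠ w'.1 := by
      intro p hp
      obtain ⟨h1, h2, h3, h4⟩ := hmem p hp
      obtain ⟨p', rfl⟩ := hnb ▸ h1
      refine ⟨p', rfl, (hcm _ _).1 h2, fun e => h4 ((htwin w' p').2 ⟨e, fun e' => h3 (by rw [e'])⟩)⟩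
    have hdis : ∀ p q : Fin 45 × K4, f p ∈ ({x₁, x₂, x₃, x₄} : Finset B.SX) →
        f q ∈ ({x₁, x₂, x₃, x₄} : Finset B.SX) → f p ≠ f q →
        p.1 ≠ q.1 ∧ adjB p.1 q.1 = true := by
      intro p q hp hq hne
      obtain ⟨h1, h2⟩ := hpair _ hp _ hq hne
      exact ⟨fun e => h2 ((htwin p q).2 ⟨e.symm, fun e' => hne (by rw [e'])⟩), (hcm p q).1 h1⟩
    obtain ⟨p, rfl, hp1, hp2⟩ := hsrc x₁ (by simp)
    obtain ⟨q, rfl, hq1, hq2⟩ := hsrc x₂ (by simp)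
    obtain ⟨r, rfl, hr1, hr2⟩ := hsrc x₃ (by simp)
    obtain ⟨s, rfl, hs1, hs2⟩ := hsrc x₄ (by simp)
    obtain ⟨npq, apq⟩ := hdis p q (by simp) (by simp) h12
    obtain ⟨npr, apr⟩ := hdis p r (by simp) (by simp) h13
    obtain ⟨nps, aps⟩ := hdis p s (by simp) (by simp) h14
    obtain ⟨nqr, aqr⟩ := hdis q r (by simp) (by simp) h23
    obtain ⟨nqs, aqs⟩ := hdis q s (by simp) (by simp) h24
    obtain ⟨nrs, ars⟩ := hdis r s (by simp) (by simp) h34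
    have hne' : ∀ {i j : Fin 45}, i ≠ j → Nat.beq (i : ℕ) (j : ℕ) = false := fun hij => by
      rw [← Bool.not_eq_true, Nat.beq_eq]; exact fun e => hij (Fin.ext e)
    have hL : ∀ t : Fin 45 × K4, adjB t.1 w'.1 = true → t.1 ≠ w'.1 →
        (t.1 : ℕ) ∈ (List.range 45).filter fun p => adjB p w'.1 && !Nat.beq p w'.1 := fun t ht1 ht2 =>
      List.mem_filter.2 ⟨List.mem_range.2 t.1.2, by rw [ht1, hne' ht2]; rfl⟩
    have hL2 : ∀ t : Fin 45 × K4, adjB t.1 w'.1 = true → t.1 ≠ w'.1 → adjB p.1 t.1 = true → p.1 ≠ t.1 →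
        (t.1 : ℕ) ∈ ((List.range 45).filter fun p => adjB p w'.1 && !Nat.beq p w'.1).filter fun q =>
          adjB p.1 q && !Nat.beq (p.1 : ℕ) q := fun t ht1 ht2 ht3 ht4 =>
      List.mem_filter.2 ⟨hL t ht1 ht2, by rw [ht3, hne' ht4]; rfl⟩
    have h := List.all_eq_true.1 adj_meet w'.1 (List.mem_range.2 w'.1.2)
    rw [meetB] at h
    have h2 := List.all_eq_true.1 (List.all_eq_true.1 (List.all_eq_true.1 h _ (hL p hp1 hp2)) _
      (hL2 q hq1 hq2 apq npq)) _ (hL2 r hr1 hr2 apr npr)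
    simp only [hne' nqr.symm, aqr, Bool.false_or, Bool.not_true, Bool.or_false] at h2
    have h3 := List.all_eq_true.1 h2 _ (hL2 s hs1 hs2 aps nps)
    simp only [hne' nqs.symm, hne' nrs.symm, aqs, ars, Bool.false_or, Bool.not_true, Bool.or_false] at h3
    have h4 := List.all_eq_true.1 h3 a'.1 (List.mem_range.2 a'.1.2)
    simp only [Bool.or_eq_true, haw, Bool.false_eq_true, false_or] at h4
    rcases h4 with ((h4 | h4) | h4) | h4
    · exact ⟨f p, by simp, (hcm _ _).2 h4⟩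
    · exact ⟨f q, by simp, (hcm _ _).2 h4⟩
    · exact ⟨f r, by simp, (hcm _ _).2 h4⟩
    · exact ⟨f s, by simp, (hcm _ _).2 h4⟩
  · intro x y h
    obtain ⟨p, rfl⟩ := hnb ▸ h.1
    obtain ⟨q, rfl⟩ := hnb ▸ h.2.1
    obtain ⟨e1, e2⟩ := (htwin p q).1 h
    have := B.sP_not_D hF hN p.1.2 (a := p.2) (b := q.2) fun e => e2 (Prod.ext e1 e.symm)
    show B.zS * B.sP p.1 p.2 * B.sP q.1 q.2 ∉ B.sD
    rwa [e1]

end Model.ABase

end CfsgLib.Spor.LargeFi
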