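import Cfsg.Agent.Lib.Spor.LargeFi.SixPlane

/-!
The image of the elementary subgroup of order `2^11` is its own centraliser in the quotient `C(E)/E`.
-/

set_option autoImplicit false
set_option maxRecDepth 100000

namespace CfsgLib.Spor.LargeFi

open CfsgLib.Spor.U62 CfsgLib.ThreeTransp

variable {G : Type*} [Group G] [Finite G] {z : G}

namespace Model.ABase

variable {Q : Subgroup (Subgroup.centralizer ({z} : Set G))} [Q.Normal]
  {D : Model Q (zH z)} (B : D.ABase)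

theorem cent_sA (hF : Cfsg.IsOfLargeFischerTypeAt z Q) (hN : B.Normed) {x : B.SX}
    (hx : ∀ y ∈ B.sA, Commute y x) : x ∈ B.sA := by
  classical
  obtain ⟨g, rfl⟩ := B.sπ_surj x
  have hE : ∀ k ∈ eL, Commute (g : G) (B.elG k) := fun k hk =>
    (Subgroup.mem_centralizer_iff.1 g.2 _ ⟨k, hk, rfl⟩).symm
  have hP : ∀ p ∈ pL, Commute (g : G) (B.elG p) := by
    intro p hp
    obtain ⟨m, hm, e⟩ := B.conj_rep hF hN hp
    have hpA : B.cls p ∈ B.sA := B.mem_sA.2 ⟨p, (pL_spec hp).1, rfl⟩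
    have hc : B.sπ (g * ⟨B.elG p, B.A0_le_sC (B.elG_mem p)⟩ * g⁻¹) =
        B.sπ ⟨B.elG p, B.A0_le_sC (B.elG_mem p)⟩ := by
      rw [map_mul, map_mul, map_inv]
      exact mul_inv_eq_iff_eq_mul.2 (hx _ hpA).eq.symm
    obtain ⟨k, hk, he⟩ := B.sπ_eq_iff.1 hc
    change B.elG p = (g : G) * B.elG p * (g : G)⁻¹ * k at he
    have hk1 : k = 1 := B.conj_unique' hF hN (mul_mem g.2 hm.2) hk (by
      have h1 : (g : G) * m * z * ((g : G) * m)⁻¹ * k = B.elG p := by
        rw [show (g : G) * m * z * ((g : G) * m)⁻¹ = (g : G) * (m * z * m⁻¹) * (g : G)⁻¹ by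
          simp [mul_assoc], e]
        exact he.symm
      rw [h1]
      exact isConj_iff.2 ⟨m, e⟩)
    rw [hk1, mul_one] at he
    exact mul_inv_eq_iff_eq_mul.1 he.symm
  have hxor : ∀ {a b : ℕ}, Commute (g : G) (B.elG a) → Commute (g : G) (B.elG b) →
      Commute (g : G) (B.elG (Nat.xor a b)) := fun ha hb => by
    rw [B.elG_xor]; exact ha.mul_right hb
  have hrd : ∀ {t n : ℕ}, t < 2048 → n < 2048 → rdC t = rdC n → Commute (g : G) (B.elG t) →
      Commute (g : G) (B.elG n) := by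
    intro t n ht hn e h
    have := hxor h (hE _ (eL_of_rd ht hn e))
    rwa [show Nat.xor t (Nat.xor t n) = n by
      show t ^^^ (t ^^^ n) = n
      rw [← Nat.xor_assoc, Nat.xor_self, Nat.zero_xor]] at this
  have hall : ∀ n < 2048, Commute (g : G) (B.elG n) := by
    intro n hn
    have h := List.all_eq_true.1 types_check n (List.mem_range.2 hn)
    simp only [Bool.or_eq_true, memV_iff, inM_mask, List.mem_map] at h
    rcases h with ((h | ⟨p, hp, e⟩) | ⟨t, ht, e⟩) | ⟨t, ht, e⟩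
    · exact hE n h
    · exact hrd (pL_spec hp).1 hn e (hP p hp)
    · obtain ⟨p, hp, q, hq, -, rfl⟩ := p2L_mem.1 ht
      exact hrd (xor_lt' (pL_spec hp).1 (pL_spec hq).1) hn e (hxor (hP p hp) (hP q hq))
    · obtain ⟨p, hp, q, hq, r, hr, -, -, rfl⟩ := p3L_mem ht
      exact hrd (xor_lt' (xor_lt' (pL_spec hp).1 (pL_spec hq).1) (pL_spec hr).1) hn e
        (hxor (hxor (hP p hp) (hP q hq)) (hP r hr))
  have hg : (g : G) ∈ B.A0 := by
    rw [← B.cent_A0 hF]
    refine Subgroup.mem_centralizer_iff.2 fun a ha => ?_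
    obtain ⟨n, hn, rfl⟩ := B.elG_surj ha
    exact (hall n hn).eq.symm
  exact ⟨g, Subgroup.mem_subgroupOf.2 hg, rfl⟩

/-- no member outside the plane centralises it -/
theorem sA_maxi (hF : Cfsg.IsOfLargeFischerTypeAt z Q) (hN : B.Normed) :
    ∀ p ∈ B.sD, (∀ x ∈ B.sA, Commute x p) → p ∈ B.sA :=
  fun _ _ h => B.cent_sA hF hN h

end Model.ABase

end CfsgLib.Spor.LargeFi
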