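import Cfsg.Agent.Lib.Spor.LargeFi.SixSetup

/-!
The plane of twenty-one points in the image of the elementary subgroup of order `2^11`: the cosets of
the four-group with exactly one conjugate of the central involution.
-/

set_option autoImplicit false
set_option maxRecDepth 100000

namespace CfsgLib.Spor.DuadM24

open Cfsg
open scoped symmDiff Pointwise

namespace Coord

variable {A : Type*} [AddCommGroup A] (C : Coord A)

theorem inter_of_duads {P R : Finset GolayPt} (hP : P.card = 2) (hR : R.card = 2)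
    (h : C.S P + C.S R ∈ C.duads) : (P ∩ R).card = 1 := by
  obtain ⟨T, hT, hs⟩ := C.mem_duads_iff.1 h
  rw [← C.S_symmDiff] at hs
  have hc := card_symmDiff_add P R
  have he := C.S_inj (s := P ∆ R) (t := T) (by rw [Nat.even_iff]; omega) (by omega) hs
  rw [he, hT, hP, hR] at hc
  omega

theorem tetrad_of_duad {u : A} (hu0 : u ≠ 0) (hu : u ∉ C.duads) {P : Finset GolayPt} (hP : P.card = 2)
    (h : u + C.S P ∈ C.duads) : ∃ W : Finset GolayPt, P ⊆ W ∧ W.card = 4 ∧ u = C.S W := by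
  classical
  obtain ⟨X, hX, hs⟩ := C.mem_duads_iff.1 h
  have hu' : u = C.S (P ∆ X) := by
    rw [C.S_symmDiff, ← hs, add_comm u, ← add_assoc, C.two, zero_add]
  have hc := card_symmDiff_add P X
  have h0 : (P ∩ X).card = 0 := by
    by_contra hne
    rcases (show (P ∩ X).card = 1 ∨ (P ∩ X).card = 2 by omega) with e | e
    · exact hu (hu' ▸ C.mem_duads_iff.2 ⟨P ∆ X, by omega, rfl⟩)
    · refine hu0 ?_
      rw [hu', Finset.card_eq_zero.1 (show (P ∆ X).card = 0 by omega)]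
      rfl
  refine ⟨P ∆ X, fun p hp => ?_, by omega, hu'⟩
  rw [Finset.mem_symmDiff]
  exact Or.inl ⟨hp, fun hpX => Finset.notMem_empty p
    (Finset.card_eq_zero.1 h0 ▸ Finset.mem_inter.2 ⟨hp, hpX⟩)⟩

theorem tetrad_through {u : A} (hu0 : u ≠ 0) (hu : u ∉ C.duads) {P R : Finset GolayPt} (hP : P.card = 2)
    (hR : R.card = 2) (hPR : (P ∩ R).card = 1) (h1 : u + C.S P ∈ C.duads) (h2 : u + C.S R ∈ C.duads) :
    ∃ W : Finset GolayPt, P ∪ R ⊆ W ∧ W.card = 4 ∧ u = C.S W := by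
  classical
  obtain ⟨W, hW, hW4, hWu⟩ := C.tetrad_of_duad hu0 hu hP h1
  obtain ⟨V, hV, hV4, hVu⟩ := C.tetrad_of_duad hu0 hu hR h2
  have h1' : 1 ≤ (W ∩ V).card := hPR ▸ Finset.card_le_card (Finset.inter_subset_inter hW hV)
  have hc := card_symmDiff_add W V
  have h0 : W ∆ V = ∅ := by
    refine C.S_inj (by rw [Finset.card_empty, Nat.even_iff]; omega) (by rw [Finset.card_empty]; omega) ?_
    rw [C.S_symmDiff, ← hWu, ← hVu, C.two]
    rfl
  exact ⟨W, Finset.union_subset hW (symmDiff_eq_bot.1 h0 ▸ hV), hW4, hWu⟩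

end Coord

theorem smul_of_fixed (σ : Equiv.Perm GolayPt) {s : Finset GolayPt} (h : ∀ p ∈ s, σ p = p) :
    σ • s = s := by
  classical
  refine Finset.eq_of_subset_of_card_le (fun q hq => ?_) (by rw [Finset.card_smul_finset])
  obtain ⟨p, hp, rfl⟩ := Finset.mem_smul_finset.1 hq
  rw [Equiv.Perm.smul_def, h p hp]
  exact hp

/-- a permutation of the code fixing three points and moving a fourth to a given place -/
theorem exists_fix_move {U W W' : Finset GolayPt} (hU : U.card = 3) (hW : U ⊆ W) (hW4 : W.card = 4)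
    (hW' : U ⊆ W') (hW'4 : W'.card = 4) :
    ∃ σ : M24, (∀ p ∈ U, (σ : Equiv.Perm GolayPt) p = p) ∧ (σ : Equiv.Perm GolayPt) • W = W' := by
  classical
  obtain ⟨a, b, c, hab, hac, hbc, hUe⟩ := Finset.card_eq_three.1 hU
  have hext : ∀ X : Finset GolayPt, U ⊆ X → X.card = 4 →
      ∃ d, a ≠ d ∧ b ≠ d ∧ c ≠ d ∧ X = {a, b, c, d} := by
    intro X hX hX4
    obtain ⟨d, hd⟩ := Finset.card_eq_one.1 (show (X \ U).card = 1 by
      rw [Finset.card_sdiff, Finset.inter_eq_left.2 hX, hX4, hU])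
    have hd' : d ∈ X ∧ d ∉ U := Finset.mem_sdiff.1 (hd ▸ Finset.mem_singleton_self d)
    refine ⟨d, fun e => hd'.2 (by rw [hUe, ← e]; simp), fun e => hd'.2 (by rw [hUe, ← e]; simp),
      fun e => hd'.2 (by rw [hUe, ← e]; simp), ?_⟩
    rw [← Finset.union_sdiff_of_subset hX, hd, hUe]
    ext p
    simp
  obtain ⟨d, had, hbd, hcd, hWe⟩ := hext W hW hW4
  obtain ⟨e, hae, hbe, hce, hWe'⟩ := hext W' hW' hW'4
  have hinj : ∀ t : GolayPt, a ≠ t → b ≠ t → c ≠ t → Function.Injective ![a, b, c, t] := by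
    intro t h1 h2 h3 i j
    fin_cases i <;> fin_cases j <;> simp <;> first | tauto | (intro h; exact absurd h.symm (by assumption))
  haveI := isMultiplyPretransitive_le_five (k := 4) (by norm_num)
  obtain ⟨σ, hσ⟩ := MulAction.exists_smul_eq M24
    (⟨![a, b, c, d], hinj d had hbd hcd⟩ : Fin 4 ↪ GolayPt) ⟨![a, b, c, e], hinj e hae hbe hce⟩
  have h : ∀ i : Fin 4, (σ : Equiv.Perm GolayPt) (![a, b, c, d] i) = ![a, b, c, e] i :=
    fun i => congrArg (fun f : Fin 4 ↪ GolayPt => f i) hσ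
  have ha : (σ : Equiv.Perm GolayPt) a = a := h 0
  have hb : (σ : Equiv.Perm GolayPt) b = b := h 1
  have hc : (σ : Equiv.Perm GolayPt) c = c := h 2
  have hd : (σ : Equiv.Perm GolayPt) d = e := h 3
  refine ⟨σ, fun p hp => ?_, ?_⟩
  · rw [hUe] at hp
    simp only [Finset.mem_insert, Finset.mem_singleton] at hp
    rcases hp with rfl | rfl | rfl <;> assumption
  · rw [hWe, hWe']
    simp only [Finset.smul_finset_insert, Finset.smul_finset_singleton, Equiv.Perm.smul_def, ha, hb, hc, hd]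

end CfsgLib.Spor.DuadM24

namespace CfsgLib.Spor.LargeFi

open CfsgLib.Spor.U62 CfsgLib.ThreeTransp
open scoped symmDiff Pointwise commutatorElement

/-- the twenty-one codes -/
def pL : List ℕ := [1, 129, 136, 144, 152, 257, 258, 260, 262, 769, 810, 852, 894, 1281, 1340, 1358,
  1394, 1920, 1975, 2011, 2029]

/-- the sums of two points -/
def p2L : List ℕ := pL.flatMap fun p => (pL.filter fun q => !Nat.beq p q).map fun q => Nat.xor p q

/-- the sums of three points -/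
def p3L : List ℕ := pL.flatMap fun p => (pL.filter fun q => Nat.blt p q).flatMap fun q =>
  (pL.filter fun r => Nat.blt q r).map fun r => Nat.xor (Nat.xor p q) r

/-- the coset of the four-group as a number -/
def rdC (n : ℕ) : ℕ := n % 32 + n / 128 * 32

/-- a representative of a coset -/
def upC (r : ℕ) : ℕ := r % 32 + r / 32 * 128

theorem rd_up : ((List.range 2048).all fun n => memV eL (Nat.xor n (upC (rdC n)))) = true := by
  decide +kernel

theorem rd_eL : ((List.range 2048).all fun n => eL.all fun k => Nat.beq (rdC (Nat.xor n k)) (rdC n)) =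
    true := by
  decide +kernel

theorem pL_check : (pL.all fun p => Nat.blt p 2048 && !Nat.beq p 0 && !inM (dM 0 1) p &&
    inM (dM 0 1) (Nat.xor p 32) && inM (dM 0 1) (Nat.xor p 64) && inM (dM 0 1) (Nat.xor p 96)) = true := by
  decide +kernel

theorem pL_complete : ((List.range 2048).all fun n => Nat.beq n 0 || inM (dM 0 1) n ||
    !inM (dM 0 1) (Nat.xor n 32) || !inM (dM 0 1) (Nat.xor n 64) || !inM (dM 0 1) (Nat.xor n 96) ||
      memV pL n) = true := by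
  decide +kernel

theorem types_check : ((List.range 2048).all fun n => memV eL n ||
    inM (mask (pL.map rdC)) (rdC n) || inM (mask (p2L.map rdC)) (rdC n) ||
      inM (mask (p3L.map rdC)) (rdC n)) = true := by
  decide +kernel

theorem three_check : (pL.all fun p => pL.all fun q => pL.all fun r => Nat.beq p q || Nat.beq p r ||
    Nat.beq q r || inM (mask p3L) (Nat.xor (Nat.xor p q) r)) = true := by
  decide +kernel

theorem outside_check : (p3L.all fun t => pL.any fun s =>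
    !inM (mask (p2L.map rdC)) (rdC (Nat.xor t s))) = true := by
  decide +kernel

theorem rel_check : Nat.beq (Nat.xor 1 (Nat.xor 129 (Nat.xor 136 (Nat.xor 144 152)))) 0 = true := by
  decide +kernel

theorem xor_lt' {a b : ℕ} (ha : a < 2048) (hb : b < 2048) : Nat.xor a b < 2048 := by
  show a ^^^ b < 2 ^ 11
  exact Nat.xor_lt_two_pow (by omega) (by omega)

theorem eL_lt {k : ℕ} (hk : k ∈ eL) : k < 2048 := by
  simp only [eL, List.mem_cons, List.not_mem_nil, or_false] at hk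
  omega

theorem eL_of_rd {m n : ℕ} (hm : m < 2048) (hn : n < 2048) (h : rdC m = rdC n) : Nat.xor m n ∈ eL := by
  have h1 := memV_iff.1 (List.all_eq_true.1 rd_up m (List.mem_range.2 hm))
  have h2 := memV_iff.1 (List.all_eq_true.1 rd_up n (List.mem_range.2 hn))
  rw [h] at h1
  have h3 := memV_iff.1 (List.all_eq_true.1 (List.all_eq_true.1 eL_check _ h1) _ h2)
  convert h3 using 1
  show m ^^^ n = (m ^^^ upC (rdC n)) ^^^ (n ^^^ upC (rdC n))
  rw [Nat.xor_comm n (upC (rdC n)), ← Nat.xor_assoc, Nat.xor_assoc m (upC (rdC n)), Nat.xor_self,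
    Nat.xor_zero]

theorem rd_of_eL {m n : ℕ} (hm : m < 2048) (h : Nat.xor m n ∈ eL) : rdC n = rdC m := by
  have h1 := Nat.eq_of_beq_eq_true
    (List.all_eq_true.1 (List.all_eq_true.1 rd_eL m (List.mem_range.2 hm)) _ h)
  rw [← h1]
  congr 1
  show n = m ^^^ (m ^^^ n)
  rw [← Nat.xor_assoc, Nat.xor_self, Nat.zero_xor]

theorem pL_spec {p : ℕ} (hp : p ∈ pL) : p < 2048 ∧ p ≠ 0 ∧ p ∉ dL 0 1 ∧ Nat.xor p 32 ∈ dL 0 1 ∧
    Nat.xor p 64 ∈ dL 0 1 ∧ Nat.xor p 96 ∈ dL 0 1 := by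
  have h := List.all_eq_true.1 pL_check p hp
  simp only [Bool.and_eq_true, Nat.blt_eq, Bool.not_eq_true', ← Bool.not_eq_true, Nat.beq_eq, dM,
    inM_mask] at h
  tauto

theorem p2L_mem {t : ℕ} : t ∈ p2L ↔ ∃ p ∈ pL, ∃ q ∈ pL, p ≠ q ∧ t = Nat.xor p q := by
  simp only [p2L, List.mem_flatMap, List.mem_map, List.mem_filter, Bool.not_eq_true',
    ← Bool.not_eq_true, Nat.beq_eq]
  constructor
  · rintro ⟨p, hp, q, ⟨hq, hne⟩, rfl⟩
    exact ⟨p, hp, q, hq, hne, rfl⟩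
  · rintro ⟨p, hp, q, hq, hne, rfl⟩
    exact ⟨p, hp, q, ⟨hq, hne⟩, rfl⟩

theorem p3L_mem {t : ℕ} (h : t ∈ p3L) :
    ∃ p ∈ pL, ∃ q ∈ pL, ∃ r ∈ pL, p < q ∧ q < r ∧ t = Nat.xor (Nat.xor p q) r := by
  simp only [p3L, List.mem_flatMap, List.mem_map, List.mem_filter, Nat.blt_eq] at h
  obtain ⟨p, hp, q, ⟨hq, hpq⟩, r, ⟨hr, hqr⟩, rfl⟩ := h
  exact ⟨p, hp, q, hq, r, hr, hpq, hqr, rfl⟩

variable {G : Type*} [Group G] [Finite G] {z : G}

namespace Model.ABase

variable {Q : Subgroup (Subgroup.centralizer ({z} : Set G))} [Q.Normal]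
  {D : Model Q (zH z)} (B : D.ABase)

/-- an element of the normaliser of the elementary subgroup for each element of `M24` -/
theorem exists_lift (hF : Cfsg.IsOfLargeFischerTypeAt z Q) (hN : B.Normed)
    (C : DuadM24.Coord (Additive ↥B.A0))
    (hC : ∀ v : Additive ↥B.A0, v ∈ C.duads ↔ v ≠ 0 ∧ ¬ IsConj z ((Additive.toMul v : ↥B.A0) : G))
    (σ : Cfsg.M24) : ∃ m ∈ B.M0, ∀ s : Finset Cfsg.GolayPt, Even s.card →
      m * ((Additive.toMul (C.S s) : ↥B.A0) : G) * m⁻¹ =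
        ((Additive.toMul (C.S ((σ : Equiv.Perm Cfsg.GolayPt) • s)) : ↥B.A0) : G) := by
  classical
  set M : Subgroup G := B.M0 with hM
  have hn : (B.A0.subgroupOf M).Normal := ⟨fun a ha m => by
    rw [Subgroup.mem_subgroupOf] at ha ⊢
    exact (Subgroup.mem_normalizer_iff.1 m.2 _).1 ha⟩
  haveI := hn
  let c : M → Additive ↥B.A0 → Additive ↥B.A0 := fun m v =>
    Additive.ofMul ⟨(m : G) * ((Additive.toMul v : ↥B.A0) : G) * (m : G)⁻¹,
      (Subgroup.mem_normalizer_iff.1 m.2 _).1 (Additive.toMul v).2⟩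
  have hext : ∀ {u v : Additive ↥B.A0},
      ((Additive.toMul u : ↥B.A0) : G) = ((Additive.toMul v : ↥B.A0) : G) → u = v :=
    fun h => Additive.toMul.injective (Subtype.ext h)
  have hcmul : ∀ (m k : M) v, c (m * k) v = c m (c k v) := fun m k v => hext (by
    show ((m : G) * k) * _ * ((m : G) * k)⁻¹ = _
    simp [c, mul_assoc])
  have hcA : ∀ m : M, (m : G) ∈ B.A0 → ∀ v, c m v = v := fun m hm v => hext (by
    show (m : G) * _ * (m : G)⁻¹ = _
    have h2 : (⟨_, hm⟩ : ↥B.A0) * Additive.toMul v = Additive.toMul v * ⟨_, hm⟩ := mul_comm _ _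
    exact mul_inv_eq_iff_eq_mul.2 (congrArg Subtype.val h2))
  let act : M ⧸ B.A0.subgroupOf M → Additive ↥B.A0 → Additive ↥B.A0 := fun γ v =>
    Quotient.liftOn' γ (fun m => c m v) fun m k hmk => by
      have hd : m⁻¹ * k ∈ B.A0.subgroupOf M := QuotientGroup.leftRel_apply.1 hmk
      show c m v = c k v
      conv_rhs => rw [← mul_inv_cancel_left m k, hcmul, hcA (m⁻¹ * k) (Subgroup.mem_subgroupOf.1 hd)]
  have hone : ∀ v, c 1 v = v := fun v => hcA 1 (one_mem B.A0) v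
  have hiff : ∀ (m : M) v, IsConj z ((Additive.toMul (c m v) : ↥B.A0) : G) ↔
      IsConj z ((Additive.toMul v : ↥B.A0) : G) := fun m v => by
    have hc : IsConj ((Additive.toMul v : ↥B.A0) : G) ((Additive.toMul (c m v) : ↥B.A0) : G) :=
      isConj_iff.2 ⟨(m : G), rfl⟩
    exact ⟨fun h => h.trans hc.symm, fun h => h.trans hc⟩
  have hzero : ∀ m : M, c m 0 = 0 := fun m => hext (by
    show (m : G) * 1 * (m : G)⁻¹ = 1
    rw [mul_one, mul_inv_cancel])
  have hAM : B.A0 ≤ M := Subgroup.le_normalizer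
  have hcA11 : Nat.card (B.A0.subgroupOf M) = 2 ^ 11 := by
    rw [Nat.card_congr (Subgroup.subgroupOfEquivOfLe hAM).toEquiv, Model.ABase.A0,
      Subgroup.card_map_of_injective (Subgroup.subtype_injective _), D.card_bigA]
  have hActs : DuadM24.Acts C act := by
    refine ⟨?_, ?_, ?_, ?_, ?_, ?_⟩
    · rintro ⟨m⟩ u v
      exact hext (by
        show (m : G) * (((Additive.toMul u : ↥B.A0) : G) * ((Additive.toMul v : ↥B.A0) : G)) *
          (m : G)⁻¹ = (m : G) * _ * (m : G)⁻¹ * ((m : G) * _ * (m : G)⁻¹)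
        simp [mul_assoc])
    · rintro ⟨m⟩ ⟨k⟩ v; exact hcmul m k v
    · exact fun v => hone v
    · rintro ⟨m⟩ h
      refine (QuotientGroup.eq_one_iff m).2 ?_
      rw [Subgroup.mem_subgroupOf, ← B.cent_A0 hF]
      refine Subgroup.mem_centralizer_iff.2 fun a ha => ?_
      have := congrArg (fun v => ((Additive.toMul v : ↥B.A0) : G)) (h (Additive.ofMul ⟨a, ha⟩))
      exact (mul_inv_eq_iff_eq_mul.1 this).symm
    · rintro ⟨m⟩ v hv
      rw [hC] at hv ⊢
      refine ⟨fun e => hv.1 ?_, fun h => hv.2 ((hiff m v).1 h)⟩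
      have e' : c m v = 0 := e
      have := congrArg (c m⁻¹) e'
      rwa [← hcmul, inv_mul_cancel, hone, hzero] at this
    · have h1 := Subgroup.card_eq_card_quotient_mul_card_subgroup (B.A0.subgroupOf M)
      rw [hcA11] at h1
      have h2 := B.card_M0_ge hF hN
      rw [← hM, h1] at h2
      have := Nat.le_of_mul_le_mul_right h2 (by norm_num)
      omega
  obtain ⟨e, he⟩ := hActs.exists_iso
  obtain ⟨m, hm⟩ := QuotientGroup.mk_surjective (e.symm σ)
  refine ⟨m, m.2, fun s hs => ?_⟩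
  have := he (e.symm σ) s hs
  rw [e.apply_symm_apply, ← hm] at this
  exact congrArg (fun v => ((Additive.toMul v : ↥B.A0) : G)) this

/-- the coset of a code -/
noncomputable def cls (n : ℕ) : B.SX := B.sπ ⟨B.elG n, B.A0_le_sC (B.elG_mem n)⟩

theorem cls_xor (m n : ℕ) : B.cls (Nat.xor m n) = B.cls m * B.cls n := by
  rw [cls, cls, cls, ← map_mul]
  exact congrArg B.sπ (Subtype.ext (B.elG_xor m n))

theorem cls_zero : B.cls 0 = 1 := by
  rw [cls, show (⟨B.elG 0, B.A0_le_sC (B.elG_mem 0)⟩ : ↥B.sC) = 1 from Subtype.ext B.elG_zero, map_one]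

theorem cls_one : B.cls 1 = B.zS := congrArg B.sπ (Subtype.ext B.elG_one)

theorem elG_inv (n : ℕ) : (B.elG n)⁻¹ = B.elG n :=
  inv_eq_of_mul_eq_one_right (by rw [← B.elG_xor, show Nat.xor n n = 0 from Nat.xor_self n, B.elG_zero])

theorem cls_eq_iff {m n : ℕ} (hm : m < 2048) (hn : n < 2048) : B.cls m = B.cls n ↔ Nat.xor m n ∈ eL := by
  rw [cls, cls, B.sπ_eq_iff]
  constructor
  · rintro ⟨_, ⟨k, hk, rfl⟩, h⟩
    have h' : B.elG (Nat.xor m n) = B.elG k := by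
      rw [B.elG_xor]
      change B.elG m * B.elG n = B.elG k
      rw [show B.elG n = B.elG m * B.elG k from h, ← mul_assoc]
      nth_rewrite 1 [← B.elG_inv m]
      rw [inv_mul_cancel, one_mul]
    rw [B.elG_injOn (xor_lt' hm hn) (eL_lt hk) h']
    exact hk
  · intro h
    refine ⟨B.elG (Nat.xor m n), ⟨_, h, rfl⟩, ?_⟩
    show B.elG n = B.elG m * B.elG (Nat.xor m n)
    rw [B.elG_xor, ← mul_assoc]
    nth_rewrite 1 [← B.elG_inv m]
    rw [inv_mul_cancel, one_mul]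

theorem cls_rd {m n : ℕ} (hm : m < 2048) (hn : n < 2048) (h : rdC m = rdC n) : B.cls m = B.cls n :=
  (B.cls_eq_iff hm hn).2 (eL_of_rd hm hn h)

theorem mem_sA {x : B.SX} : x ∈ B.sA ↔ ∃ n < 2048, x = B.cls n := by
  constructor
  · rintro ⟨u, hu, rfl⟩
    obtain ⟨n, hn, e⟩ := B.elG_surj (Subgroup.mem_subgroupOf.1 hu)
    exact ⟨n, hn, congrArg B.sπ (Subtype.ext e.symm)⟩
  · rintro ⟨n, -, rfl⟩
    exact ⟨⟨B.elG n, B.A0_le_sC (B.elG_mem n)⟩, Subgroup.mem_subgroupOf.2 (B.elG_mem n), rfl⟩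

theorem conj_code (hF : Cfsg.IsOfLargeFischerTypeAt z Q) (hN : B.Normed) {n : ℕ} (hn : n < 2048) :
    IsConj z (B.elG n) ↔ n ≠ 0 ∧ n ∉ dL 0 1 := by
  have h : n ∈ B.dSet ↔ n ∈ dL 0 1 := by rw [B.signs hF hN, List.mem_toFinset]
  constructor
  · intro hc
    refine ⟨?_, fun hd => (B.mem_dSet.1 (h.2 hd)).2.2 hc⟩
    rintro rfl
    rw [B.elG_zero] at hc
    exact D.xc.ne_one (Subtype.ext (isConj_one_left.1 hc))
  · rintro ⟨h0, hd⟩
    by_contra hc
    exact hd (h.1 (B.mem_dSet.2 ⟨hn, h0, hc⟩))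

/-- two conjugates of the central involution in one coset of the four-group -/
theorem conj_unique' (hF : Cfsg.IsOfLargeFischerTypeAt z Q) (hN : B.Normed) {g e : G} (hg : g ∈ B.sC)
    (he : e ∈ B.sE) (h : IsConj z (g * z * g⁻¹ * e)) : e = 1 := by
  obtain ⟨k, hk, rfl⟩ := he
  have hge : B.elG k * g = g * B.elG k := Subgroup.mem_centralizer_iff.1 hg _ ⟨k, hk, rfl⟩
  have h' : IsConj z (B.elG (Nat.xor 1 k)) := by
    refine h.trans (isConj_iff.2 ⟨g⁻¹, ?_⟩)
    rw [B.elG_xor, B.elG_one, inv_inv]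
    simp only [mul_assoc]
    rw [hge, inv_mul_cancel_left, inv_mul_cancel_left]
  have hk0 := (B.conj_code hF hN (xor_lt' (by norm_num) (eL_lt hk))).1 h'
  simp only [eL, List.mem_cons, List.not_mem_nil, or_false] at hk
  have hp := pL_spec (p := 1) (by simp [pL])
  rcases hk with rfl | rfl | rfl | rfl
  · exact B.elG_zero
  · exact absurd hp.2.2.2.1 hk0.2
  · exact absurd hp.2.2.2.2.1 hk0.2
  · exact absurd hp.2.2.2.2.2 hk0.2

theorem conj_unique (hF : Cfsg.IsOfLargeFischerTypeAt z Q) (hN : B.Normed) {u v : ↥B.sC}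
    (hu : IsConj (⟨z, B.z_mem_sC⟩ : ↥B.sC) u) (hv : IsConj z (v : G)) (h : B.sπ u = B.sπ v) : u = v := by
  obtain ⟨g, rfl⟩ := isConj_iff.1 hu
  obtain ⟨e, he, hve⟩ := B.sπ_eq_iff.1 h
  have h1 := B.conj_unique' hF hN g.2 he (by rw [hve] at hv; exact hv)
  exact Subtype.ext (by rw [hve, h1, mul_one])

/-- each of the twenty-one codes is a conjugate under the centraliser of the four-group -/
theorem conj_rep (hF : Cfsg.IsOfLargeFischerTypeAt z Q) (hN : B.Normed) {p : ℕ} (hp : p ∈ pL) :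
    ∃ m ∈ B.M0 ⊓ B.sC, m * z * m⁻¹ = B.elG p := by
  classical
  obtain ⟨C, hC⟩ := B.exists_coord hF hN
  have hd : ∀ {n}, n < 2048 → (B.toV n ∈ C.duads ↔ n ∈ dL 0 1) := by
    intro n hn
    rw [hC]
    show B.toV n ≠ 0 ∧ ¬ IsConj z (B.elG n) ↔ _
    rw [B.conj_code hF hN hn]
    constructor
    · rintro ⟨h0, hc⟩
      by_contra hd
      exact hc ⟨fun e => h0 (by rw [e, B.toV_zero]), hd⟩
    · intro hd
      refine ⟨fun e => ?_, fun h => h.2 hd⟩
      have hm : n ∈ B.dSet := by rw [B.signs hF hN, List.mem_toFinset]; exact hd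
      exact (B.mem_dSet.1 hm).2.1 (B.toV_injOn hn (by norm_num) (e.trans B.toV_zero.symm))
  have hE : ∀ k ∈ [32, 64, 96], k < 2048 ∧ k ∈ dL 0 1 := by
    intro k hk
    have h := List.all_eq_true.1 eL_small k hk
    simp only [Bool.and_eq_true, memV_iff] at h
    refine ⟨?_, h.1.1.1⟩
    simp only [List.mem_cons, List.not_mem_nil, or_false] at hk
    omega
  obtain ⟨P, hP, hPe⟩ := C.mem_duads_iff.1 ((hd (hE 32 (by simp)).1).2 (hE 32 (by simp)).2)
  obtain ⟨R, hR, hRe⟩ := C.mem_duads_iff.1 ((hd (hE 64 (by simp)).1).2 (hE 64 (by simp)).2)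
  have hPR : (P ∩ R).card = 1 := C.inter_of_duads hP hR (by
    rw [← hPe, ← hRe, ← B.toV_xor]
    exact (hd (by decide)).2 (hE 96 (by simp)).2)
  have hU : (P ∪ R).card = 3 := by
    have := Finset.card_union_add_card_inter P R
    omega
  have htet : ∀ q ∈ pL, ∃ W : Finset Cfsg.GolayPt, P ∪ R ⊆ W ∧ W.card = 4 ∧ B.toV q = C.S W := by
    intro q hq
    obtain ⟨h1, h2, h3, h4, h5, -⟩ := pL_spec hq
    refine C.tetrad_through (fun e => h2 (B.toV_injOn h1 (by norm_num) (e.trans B.toV_zero.symm)))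
      (fun e => h3 ((hd h1).1 e)) hP hR hPR ?_ ?_
    · rw [← hPe, ← B.toV_xor]
      exact (hd (xor_lt' h1 (by norm_num))).2 h4
    · rw [← hRe, ← B.toV_xor]
      exact (hd (xor_lt' h1 (by norm_num))).2 h5
  obtain ⟨W, hW, hW4, hWe⟩ := htet 1 (by simp [pL])
  obtain ⟨W', hW', hW'4, hWe'⟩ := htet p hp
  obtain ⟨σ, hσ, hσW⟩ := DuadM24.exists_fix_move hU hW hW4 hW' hW'4
  obtain ⟨m, hm, hconj⟩ := B.exists_lift hF hN C hC σ
  have hval : ∀ n s, B.toV n = C.S s → ((Additive.toMul (C.S s) : ↥B.A0) : G) = B.elG n :=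
    fun n s e => by rw [← e]; rfl
  refine ⟨m, ⟨hm, ?_⟩, ?_⟩
  · have h32 : Commute m (B.elG 32) := by
      have := hconj P (by rw [hP]; decide)
      rw [DuadM24.smul_of_fixed _ (fun q hq => hσ q (Finset.mem_union_left _ hq)), hval _ _ hPe] at this
      exact mul_inv_eq_iff_eq_mul.1 this
    have h64 : Commute m (B.elG 64) := by
      have := hconj R (by rw [hR]; decide)
      rw [DuadM24.smul_of_fixed _ (fun q hq => hσ q (Finset.mem_union_right _ hq)), hval _ _ hRe] at this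
      exact mul_inv_eq_iff_eq_mul.1 this
    refine Subgroup.mem_centralizer_iff.2 ?_
    rintro _ ⟨k, hk, rfl⟩
    simp only [eL, List.mem_cons, List.not_mem_nil, or_false] at hk
    rcases hk with rfl | rfl | rfl | rfl
    · rw [B.elG_zero, one_mul, mul_one]
    · exact h32.eq.symm
    · exact h64.eq.symm
    · have h96 : B.elG 96 = B.elG 32 * B.elG 64 := B.elG_xor 32 64
      rw [h96]
      exact (h32.mul_right h64).eq.symm
  · have := hconj W (by rw [hW4]; decide)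
    rw [hσW, hval _ _ hWe, hval _ _ hWe', B.elG_one] at this
    exact this

theorem cls_mem_sD (hF : Cfsg.IsOfLargeFischerTypeAt z Q) (hN : B.Normed) {p : ℕ} (hp : p ∈ pL) :
    B.cls p ∈ B.sD := by
  obtain ⟨m, hm, e⟩ := B.conj_rep hF hN hp
  refine isConj_iff.2 ⟨B.sπ ⟨m, hm.2⟩, ?_⟩
  rw [← B.cls_one, cls, cls, ← map_inv, ← map_mul, ← map_mul]
  refine congrArg B.sπ (Subtype.ext ?_)
  show m * B.elG 1 * m⁻¹ = B.elG p
  rw [B.elG_one, e]

/-- the class meets the elementary subgroup in the twenty-one points -/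
theorem mem_sA_sD (hF : Cfsg.IsOfLargeFischerTypeAt z Q) (hN : B.Normed) {x : B.SX} :
    x ∈ B.sA ∧ x ∈ B.sD ↔ ∃ p ∈ pL, x = B.cls p := by
  constructor
  · rintro ⟨hA, hD⟩
    obtain ⟨n, hn, rfl⟩ := B.mem_sA.1 hA
    obtain ⟨γ, hγ⟩ := isConj_iff.1 hD
    obtain ⟨g, rfl⟩ := B.sπ_surj γ
    rw [zS, cls, ← map_inv, ← map_mul, ← map_mul, B.sπ_eq_iff] at hγ
    obtain ⟨e, ⟨k, hk, rfl⟩, he⟩ := hγ
    change B.elG n = (g : G) * z * (g : G)⁻¹ * B.elG k at he
    set m := Nat.xor n k with hmdef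
    have hm : m < 2048 := xor_lt' hn (eL_lt hk)
    have hme : B.elG m = (g : G) * z * (g : G)⁻¹ := by
      rw [hmdef, B.elG_xor, he, mul_assoc]
      nth_rewrite 1 [← B.elG_inv k]
      rw [inv_mul_cancel, mul_one]
    obtain ⟨hm0, hmd⟩ := (B.conj_code hF hN hm).1 (isConj_iff.2 ⟨g, hme.symm⟩)
    have hk' : ∀ j ∈ [32, 64, 96], Nat.xor m j ∈ dL 0 1 := by
      intro j hj
      have hjE : j ∈ eL := by
        simp only [eL, List.mem_cons, List.not_mem_nil, or_false] at hj ⊢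
        omega
      by_contra hd
      have hc : IsConj z (B.elG (Nat.xor m j)) := by
        refine (B.conj_code hF hN (xor_lt' hm (eL_lt hjE))).2 ⟨fun e0 => ?_, hd⟩
        have : m = j := Nat.xor_eq_zero_iff.1 e0
        refine hmd ?_
        rw [this]
        have h := List.all_eq_true.1 eL_small j hj
        simp only [Bool.and_eq_true, memV_iff] at h
        exact h.1.1.1
      rw [B.elG_xor, hme] at hc
      have h1 := B.conj_unique' hF hN g.2 ⟨j, hjE, rfl⟩ hc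
      have h2 := B.elG_injOn (eL_lt hjE) (by norm_num : (0:ℕ) < 2048) (h1.trans B.elG_zero.symm)
      subst h2
      simp at hj
    have hp : m ∈ pL := by
      have h := List.all_eq_true.1 pL_complete m (List.mem_range.2 hm)
      simp only [Bool.or_eq_true, Bool.not_eq_true', ← Bool.not_eq_true, Nat.beq_eq, memV_iff, dM,
        inM_mask] at h
      have h1 := hk' 32 (by simp)
      have h2 := hk' 64 (by simp)
      have h3 := hk' 96 (by simp)
      tauto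
    refine ⟨m, hp, (B.cls_eq_iff hn hm).2 ?_⟩
    show n ^^^ (n ^^^ k) ∈ eL
    rwa [← Nat.xor_assoc, Nat.xor_self, Nat.zero_xor]
  · rintro ⟨p, hp, rfl⟩
    exact ⟨B.mem_sA.2 ⟨p, (pL_spec hp).1, rfl⟩, B.cls_mem_sD hF hN hp⟩

theorem zS_mem_sD : B.zS ∈ B.sD := IsConj.refl _

theorem zS_mem_sA : B.zS ∈ B.sA := B.mem_sA.2 ⟨1, by norm_num, B.cls_one.symm⟩

theorem sA_comm : ∀ x ∈ B.sA, ∀ y ∈ B.sA, Commute x y := by
  intro x hx y hy
  obtain ⟨m, -, rfl⟩ := B.mem_sA.1 hx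
  obtain ⟨n, -, rfl⟩ := B.mem_sA.1 hy
  show _ * _ = _ * _
  rw [← B.cls_xor, ← B.cls_xor, show Nat.xor m n = Nat.xor n m from Nat.xor_comm m n]

theorem sA_sq : ∀ x ∈ B.sA, x * x = 1 := by
  intro x hx
  obtain ⟨n, -, rfl⟩ := B.mem_sA.1 hx
  rw [← B.cls_xor, show Nat.xor n n = 0 from Nat.xor_self n, B.cls_zero]

theorem cls_inj {p q : ℕ} (hp : p ∈ pL) (hq : q ∈ pL) (h : B.cls p = B.cls q) : p = q := by
  obtain ⟨h1, -, h3, h4, h5, h6⟩ := pL_spec hp
  obtain ⟨h1', -, h3', -⟩ := pL_spec hq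
  have hm := (B.cls_eq_iff h1 h1').1 h
  have hq' : q = Nat.xor p (Nat.xor p q) := by
    show q = p ^^^ (p ^^^ q)
    rw [← Nat.xor_assoc, Nat.xor_self, Nat.zero_xor]
  simp only [eL, List.mem_cons, List.not_mem_nil, or_false] at hm
  rcases hm with e | e | e | e <;> rw [e] at hq'
  · rw [hq']; exact (Nat.xor_zero p).symm
  all_goals exact absurd (by rw [hq']; assumption) h3'

theorem sA_types (hF : Cfsg.IsOfLargeFischerTypeAt z Q) (hN : B.Normed) :
    ∀ x ∈ B.sA, x ≠ 1 → x ∈ B.sD ∨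
      (∃ a ∈ B.sA, ∃ b ∈ B.sA, a ∈ B.sD ∧ b ∈ B.sD ∧ a ≠ b ∧ x = a * b) ∨
      ∃ a ∈ B.sA, ∃ b ∈ B.sA, ∃ c ∈ B.sA, a ∈ B.sD ∧ b ∈ B.sD ∧ c ∈ B.sD ∧ a ≠ b ∧ a ≠ c ∧ b ≠ c ∧
        x = a * b * c := by
  intro x hx hx1
  obtain ⟨n, hn, rfl⟩ := B.mem_sA.1 hx
  have h := List.all_eq_true.1 types_check n (List.mem_range.2 hn)
  simp only [Bool.or_eq_true, memV_iff, inM_mask, List.mem_map] at h
  have hin : ∀ p ∈ pL, B.cls p ∈ B.sA ∧ B.cls p ∈ B.sD := fun p hp =>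
    (B.mem_sA_sD hF hN).2 ⟨p, hp, rfl⟩
  rcases h with ((h | ⟨p, hp, e⟩) | ⟨t, ht, e⟩) | ⟨t, ht, e⟩
  · refine absurd ?_ hx1
    rw [← B.cls_zero, B.cls_eq_iff hn (by norm_num)]
    show n ^^^ 0 ∈ eL
    rwa [Nat.xor_zero]
  · left
    rw [B.cls_rd hn (pL_spec hp).1 e.symm]
    exact (hin p hp).2
  · right; left
    obtain ⟨p, hp, q, hq, hpq, rfl⟩ := p2L_mem.1 ht
    refine ⟨_, (hin p hp).1, _, (hin q hq).1, (hin p hp).2, (hin q hq).2,
      fun e' => hpq (B.cls_inj hp hq e'), ?_⟩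
    rw [← B.cls_xor]
    exact B.cls_rd hn (xor_lt' (pL_spec hp).1 (pL_spec hq).1) e.symm
  · right; right
    obtain ⟨p, hp, q, hq, r, hr, hpq, hqr, rfl⟩ := p3L_mem ht
    refine ⟨_, (hin p hp).1, _, (hin q hq).1, _, (hin r hr).1, (hin p hp).2, (hin q hq).2, (hin r hr).2,
      fun e' => hpq.ne (B.cls_inj hp hq e'), fun e' => (hpq.trans hqr).ne (B.cls_inj hp hr e'),
      fun e' => hqr.ne (B.cls_inj hq hr e'), ?_⟩
    rw [← B.cls_xor, ← B.cls_xor]
    exact B.cls_rd hn (xor_lt' (xor_lt' (pL_spec hp).1 (pL_spec hq).1) (pL_spec hr).1) e.symm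

theorem sA_rel (hF : Cfsg.IsOfLargeFischerTypeAt z Q) (hN : B.Normed) :
    ∃ T : List B.SX, (∀ y ∈ T, y ∈ B.sA ∧ y ∈ B.sD) ∧ Odd T.length ∧ T.prod = 1 := by
  refine ⟨([1, 129, 136, 144, 152] : List ℕ).map B.cls, fun y hy => ?_, by simp; decide, ?_⟩
  · obtain ⟨p, hp, rfl⟩ := List.mem_map.1 hy
    exact (B.mem_sA_sD hF hN).2 ⟨p, by
      simp only [List.mem_cons, List.not_mem_nil, or_false, pL] at hp ⊢
      tauto, rfl⟩
  · simp only [List.map_cons, List.map_nil, List.prod_cons, List.prod_nil, mul_one, ← mul_assoc,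
      ← B.cls_xor]
    rw [Nat.eq_of_beq_eq_true rel_check, B.cls_zero]

theorem sA_outside (hF : Cfsg.IsOfLargeFischerTypeAt z Q) (hN : B.Normed) :
    ∀ a ∈ B.sA, ∀ b ∈ B.sA, ∀ c ∈ B.sA, a ∈ B.sD → b ∈ B.sD → c ∈ B.sD → a ≠ b → a ≠ c → b ≠ c →
      ∃ y ∈ B.sA, y ∈ B.sD ∧ ∀ p ∈ B.sA, ∀ q ∈ B.sA, p ∈ B.sD → q ∈ B.sD → p ≠ q →
        a * b * c * y ≠ p * q := by
  intro a ha b hb c hc haD hbD hcD hab hac hbc
  obtain ⟨p, hp, rfl⟩ := (B.mem_sA_sD hF hN).1 ⟨ha, haD⟩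
  obtain ⟨q, hq, rfl⟩ := (B.mem_sA_sD hF hN).1 ⟨hb, hbD⟩
  obtain ⟨r, hr, rfl⟩ := (B.mem_sA_sD hF hN).1 ⟨hc, hcD⟩
  have ht : Nat.xor (Nat.xor p q) r ∈ p3L := by
    have h := List.all_eq_true.1 (List.all_eq_true.1 (List.all_eq_true.1 three_check p hp) q hq) r hr
    simp only [Bool.or_eq_true, Nat.beq_eq, inM_mask] at h
    rcases h with ((e | e) | e) | e
    · exact absurd (congrArg B.cls e) hab
    · exact absurd (congrArg B.cls e) hac
    · exact absurd (congrArg B.cls e) hbc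
    · exact e
  obtain ⟨s, hs, hns⟩ := List.any_eq_true.1 (List.all_eq_true.1 outside_check _ ht)
  simp only [Bool.not_eq_true', ← Bool.not_eq_true, inM_mask, List.mem_map] at hns
  obtain ⟨hsA, hsD⟩ := (B.mem_sA_sD hF hN).2 ⟨s, hs, rfl⟩
  refine ⟨_, hsA, hsD, fun u hu v hv huD hvD huv he => hns ?_⟩
  obtain ⟨i, hi, rfl⟩ := (B.mem_sA_sD hF hN).1 ⟨hu, huD⟩
  obtain ⟨j, hj, rfl⟩ := (B.mem_sA_sD hF hN).1 ⟨hv, hvD⟩
  refine ⟨Nat.xor i j, p2L_mem.2 ⟨i, hi, j, hj, fun e => huv (by rw [e]), rfl⟩, ?_⟩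
  rw [← B.cls_xor, ← B.cls_xor, ← B.cls_xor, ← B.cls_xor] at he
  have hl := xor_lt' (xor_lt' (xor_lt' (pL_spec hp).1 (pL_spec hq).1) (pL_spec hr).1) (pL_spec hs).1
  exact rd_of_eL hl ((B.cls_eq_iff hl (xor_lt' (pL_spec hi).1 (pL_spec hj).1)).1 he)

theorem sA_second (hF : Cfsg.IsOfLargeFischerTypeAt z Q) (hN : B.Normed) :
    ∃ b ∈ B.sA, b ∈ B.sD ∧ b ≠ B.zS := by
  obtain ⟨h1, h2⟩ := (B.mem_sA_sD hF hN).2 ⟨129, by simp [pL], rfl⟩
  refine ⟨_, h1, h2, fun e => ?_⟩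
  rw [← B.cls_one] at e
  exact absurd (B.cls_inj (by simp [pL]) (by simp [pL]) e) (by norm_num)

theorem plane_card (hF : Cfsg.IsOfLargeFischerTypeAt z Q) (hN : B.Normed) :
    ({v : B.SX | v ∈ B.sA ∧ v ∈ B.sD}).ncard = 21 := by
  classical
  have e : {v : B.SX | v ∈ B.sA ∧ v ∈ B.sD} = B.cls '' ((pL.toFinset : Finset ℕ) : Set ℕ) := by
    ext v
    rw [Set.mem_setOf_eq, B.mem_sA_sD hF hN, Set.mem_image]
    simp only [Finset.mem_coe, List.mem_toFinset, eq_comm]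
  rw [e, Set.InjOn.ncard_image, Set.ncard_coe_finset]
  · decide
  · intro a ha b hb h
    exact B.cls_inj (List.mem_toFinset.1 (Finset.mem_coe.1 ha)) (List.mem_toFinset.1 (Finset.mem_coe.1 hb)) h

/-- membership in the class, by the code -/
theorem cls_mem_sD_iff (hF : Cfsg.IsOfLargeFischerTypeAt z Q) (hN : B.Normed) {n : ℕ} (hn : n < 2048) :
    B.cls n ∈ B.sD ↔ ∃ p ∈ pL, rdC n = rdC p := by
  constructor
  · intro h
    obtain ⟨p, hp, e⟩ := (B.mem_sA_sD hF hN).1 ⟨B.mem_sA.2 ⟨n, hn, rfl⟩, h⟩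
    exact ⟨p, hp, (rd_of_eL hn ((B.cls_eq_iff hn (pL_spec hp).1).1 e)).symm⟩
  · rintro ⟨p, hp, e⟩
    rw [B.cls_rd hn (pL_spec hp).1 e]
    exact B.cls_mem_sD hF hN hp

theorem elG_xor_one_mem_commutator (hF : Cfsg.IsOfLargeFischerTypeAt z Q) (hN : B.Normed) {p : ℕ}
    (hp : p ∈ pL) : B.elG (Nat.xor p 1) ∈ ⁅B.sC, B.sC⁆ := by
  obtain ⟨m, hm, e⟩ := B.conj_rep hF hN hp
  have h : B.elG (Nat.xor p 1) = ⁅m, z⁆ := by
    rw [B.elG_xor, B.elG_one, commutatorElement_def, e]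
    congr 1
    rw [← B.elG_one, B.elG_inv]
  rw [h]
  exact Subgroup.commutator_mem_commutator hm.2 B.z_mem_sC

theorem z_mem_commutator (hF : Cfsg.IsOfLargeFischerTypeAt z Q) (hN : B.Normed) :
    z ∈ ⁅B.sC, B.sC⁆ := by
  have h := fun p hp => B.elG_xor_one_mem_commutator hF hN (p := p) hp
  have h' := mul_mem (mul_mem (mul_mem (h 129 (by simp [pL])) (h 136 (by simp [pL]))) (h 144 (by simp [pL])))
    (h 152 (by simp [pL]))
  rw [← B.elG_xor, ← B.elG_xor, ← B.elG_xor] at h'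
  rw [show Nat.xor (Nat.xor (Nat.xor (Nat.xor 129 1) (Nat.xor 136 1)) (Nat.xor 144 1)) (Nat.xor 152 1) = 1
    by decide, B.elG_one] at h'
  exact h'

theorem sE_le_commutator (hF : Cfsg.IsOfLargeFischerTypeAt z Q) (hN : B.Normed) :
    B.sE ≤ ⁅B.sC, B.sC⁆ := by
  have h := fun p hp => B.elG_xor_one_mem_commutator hF hN (p := p) hp
  have h32 : B.elG 32 ∈ ⁅B.sC, B.sC⁆ := by
    have h' := mul_mem (mul_mem (mul_mem (mul_mem (h 129 (by simp [pL])) (h 257 (by simp [pL])))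
      (h 810 (by simp [pL]))) (h 1340 (by simp [pL]))) (h 1975 (by simp [pL]))
    rw [← B.elG_xor, ← B.elG_xor, ← B.elG_xor, ← B.elG_xor] at h'
    rwa [show Nat.xor (Nat.xor (Nat.xor (Nat.xor (Nat.xor 129 1) (Nat.xor 257 1)) (Nat.xor 810 1))
      (Nat.xor 1340 1)) (Nat.xor 1975 1) = 32 by decide] at h'
  have h64 : B.elG 64 ∈ ⁅B.sC, B.sC⁆ := by
    have h' := mul_mem (mul_mem (mul_mem (mul_mem (h 129 (by simp [pL])) (h 257 (by simp [pL])))
      (h 852 (by simp [pL]))) (h 1358 (by simp [pL]))) (h 2011 (by simp [pL]))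
    rw [← B.elG_xor, ← B.elG_xor, ← B.elG_xor, ← B.elG_xor] at h'
    rwa [show Nat.xor (Nat.xor (Nat.xor (Nat.xor (Nat.xor 129 1) (Nat.xor 257 1)) (Nat.xor 852 1))
      (Nat.xor 1358 1)) (Nat.xor 2011 1) = 64 by decide] at h'
  rintro _ ⟨k, hk, rfl⟩
  simp only [eL, List.mem_cons, List.not_mem_nil, or_false] at hk
  rcases hk with rfl | rfl | rfl | rfl
  · rw [B.elG_zero]; exact one_mem _
  · exact h32
  · exact h64
  · have := mul_mem h32 h64
    rwa [← B.elG_xor] at this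

end Model.ABase

end CfsgLib.Spor.LargeFi
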