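import Cfsg.Agent.Lib.Spor.LargeFi.Orbits
import Cfsg.Agent.Lib.Spor.LargeFi.StabData
import Cfsg.Agent.Lib.Spor.LargeFi.StabTab
import Cfsg.Agent.Lib.Spor.U62.Classify
import Cfsg.Agent.Lib.Spor.HSUnitary.Chain

/-!
The stabilisers in the first subgroup `3.U₄(3)` of the two representative vectors: their orders,
their normal 2-subgroups, and the quotient `A₆` of the second.
-/

set_option autoImplicit false
set_option maxRecDepth 100000

namespace CfsgLib.Spor.LargeFi

open CfsgLib.Spor.U62 CfsgLib.Spor.HSUnitary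
open Matrix
open scoped Pointwise

/-- the action on vectors -/
@[reducible] def u6Action : MulAction U6 V6 where
  smul g v := mat g *ᵥ v
  one_smul v := by show mat 1 *ᵥ v = v; rw [map_one, Matrix.one_mulVec]
  mul_smul a b v := by
    show mat (a * b) *ᵥ v = mat a *ᵥ (mat b *ᵥ v)
    rw [map_mul, Matrix.mulVec_mulVec]

/-- the stabiliser of a vector in the first subgroup -/
def KV (v : V6) : Subgroup U6 :=
  letI := u6Action
  KS 0 ⊓ MulAction.stabilizer U6 v

theorem mem_KV {v : V6} {g : U6} : g ∈ KV v ↔ g ∈ KS 0 ∧ mat g *ᵥ v = v := Iff.rfl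

theorem card_KV {P : V6 → Prop} (v : V6) (hmap : ∀ w, P w → ∀ g ∈ KS 0, P (mat g *ᵥ w))
    (hP : P v) (hex : ∀ w, P w → ∃ g ∈ KS 0, mat g *ᵥ v = w) :
    Nat.card (KV v) * {w | P w}.ncard = Nat.card (KS 0) := by
  letI := u6Action
  have h := Subgroup.card_mul_index (MulAction.stabilizer (KS 0) v)
  rw [MulAction.index_stabilizer] at h
  have e1 : MulAction.orbit (KS 0) v = {w | P w} := by
    ext w
    constructor
    · rintro ⟨g, rfl⟩
      exact hmap v hP g g.2
    · intro hw
      obtain ⟨g, hg, e⟩ := hex w hw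
      exact ⟨⟨g, hg⟩, e⟩
  have e2 : Nat.card (MulAction.stabilizer (KS 0) v) = Nat.card (KV v) :=
    Nat.card_congr
      { toFun := fun g => ⟨g.1.1, g.1.2, g.2⟩
        invFun := fun g => ⟨⟨g.1, g.2.1⟩, g.2.2⟩
        left_inv := fun _ => rfl
        right_inv := fun _ => rfl }
  rw [← e1, ← e2]
  exact h

theorem card_KV_small {F9 : Type} [Field F9] [Fintype F9] (hF9 : Fintype.card F9 = 9) :
    Nat.card (KV smallV) = 25920 := by
  have h := card_KV (P := Small) smallV (fun w hw g hg => Small.map hw hg) small_smallV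
    (fun w hw => Small.exists_map hw)
  rw [ncard_small, (KS_spec hF9 0).2] at h
  omega

theorem card_KV_big {F9 : Type} [Field F9] [Fintype F9] (hF9 : Fintype.card F9 = 9) :
    Nat.card (KV bigV) = 5760 := by
  have h := card_KV (P := Big) bigV (fun w hw g hg => Big.map hw hg) big_bigV
    (fun w hw => Big.exists_map hw)
  rw [ncard_big, (KS_spec hF9 0).2] at h
  omega

theorem stabProg_ok : slpB stabProg (gens 0) = true := by decide +kernel

/-- the codes reached by the words -/
def stabCodes : List ℕ := oneC :: (stabProg.map Prod.fst ++ gens 0)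

theorem stabCodes_in : ∀ c, memB stabCodes c = true → In (KS 0) c :=
  progBase stabProg_ok (gens_mem 0)

theorem in_KV {v : V6} {c : ℕ}
    (h : (memB stabCodes c && Nat.beq (mvC c (vc v)) (vc v)) = true) : In (KV v) c := by
  rw [Bool.and_eq_true, Nat.beq_eq] at h
  obtain ⟨g, hg, rfl⟩ := stabCodes_in c h.1
  exact ⟨g, mem_KV.2 ⟨hg, vc_injective (by rw [vc_mat, h.2])⟩, rfl⟩

/-- the checks for a Sylow list -/
def sylChk (root : ℕ) (gs L : List ℕ) (y y' : ℕ) (keep : List ℕ) : Bool :=
  incrB L && (gs.all fun c => memB stabCodes c && Nat.beq (mvC c root) root) &&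
    (memB stabCodes y && Nat.beq (mvC y root) root && Nat.beq (mulC y' y) oneC &&
      Nat.beq (build fun i j => ent y' i j) y') &&
    (memB L oneC && L.all fun x => gs.all fun g => memB L (mulC x g)) &&
    L.all fun x => !memB L (mulC (mulC y x) y') || memB keep x

theorem small_chk : (sylChk smallRoot smallSylGens smallSylL smallY smallYinv [oneC] &&
    Nat.beq smallSylL.length 64) = true := by decide +kernel

theorem big_chk : (sylChk bigRoot bigSylGens bigSylL bigY bigYinv oL &&
    Nat.beq bigSylL.length 128) = true := by decide +kernel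

/-- a breadth-first closure listing every element of the span -/
def spanTree (gs L : List ℕ) : ℕ → List ℕ → List ℕ
  | 0, acc => acc
  | n + 1, acc => spanTree gs L n
      ((acc.flatMap fun x => gs.map fun g => mulC x g).foldl
        (fun a x => if memB a x then a else x :: a) acc)

theorem small_full : (smallSylL.all fun x => memB (spanTree smallSylGens smallSylL 8 [oneC]) x) = true := by
  decide +kernel

theorem big_full : (bigSylL.all fun x => memB (spanTree bigSylGens bigSylL 9 [oneC]) x) = true := by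
  decide +kernel

theorem spanTree_in {H : Subgroup U6} {gs L : List ℕ} (hg : ∀ c ∈ gs, In H c) :
    ∀ (n : ℕ) (acc : List ℕ), (∀ c ∈ acc, In H c) → ∀ c ∈ spanTree gs L n acc, In H c := by
  intro n
  induction n with
  | zero => intro acc h; exact h
  | succ n ih =>
    intro acc h
    refine ih _ ?_
    have key : ∀ (l a : List ℕ), (∀ c ∈ a, In H c) → (∀ c ∈ l, In H c) →
        ∀ c ∈ l.foldl (fun a x => if memB a x then a else x :: a) a, In H c := by
      intro l
      induction l with
      | nil => intro a ha _; exact ha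
      | cons x r ihr =>
        intro a ha hl
        refine ihr _ (fun c hc => ?_) fun c hc => hl c (List.mem_cons_of_mem _ hc)
        simp only at hc
        by_cases hm : memB a x = true
        · rw [if_pos hm] at hc; exact ha c hc
        · rw [if_neg hm] at hc
          rcases List.mem_cons.1 hc with rfl | hc
          · exact hl c List.mem_cons_self
          · exact ha c hc
    refine key _ acc h fun c hc => ?_
    obtain ⟨x, hx, hc⟩ := List.mem_flatMap.1 hc
    obtain ⟨g, hg', rfl⟩ := List.mem_map.1 hc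
    exact (h x hx).mul (hg g hg')

theorem normal_two_le {v : V6} {root : ℕ} (hroot : vc v = root) {gs L : List ℕ} {y y' n m : ℕ}
    {keep : List ℕ} (hchk : sylChk root gs L y y' keep = true) (hlen : L.length = n)
    (hfull : (L.all fun x => memB (spanTree gs L m [oneC]) x) = true)
    (hn : ∀ [Fact (Nat.Prime 2)], n = 2 ^ (Nat.card (KV v)).factorization 2)
    {R : Subgroup U6} (hR : R ≤ KV v) (hnorm : ∀ g ∈ KV v, ∀ r ∈ R, g * r * g⁻¹ ∈ R)
    (hp : IsPGroup 2 R) : ∀ r ∈ R, cd r ∈ keep := by
  haveI : Fact (Nat.Prime 2) := ⟨Nat.prime_two⟩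
  simp only [sylChk, Bool.and_eq_true, List.all_eq_true, Nat.beq_eq] at hchk
  obtain ⟨⟨⟨⟨hinc, hgs⟩, ⟨⟨hy1, hy2⟩, hy3⟩, hy4⟩, hclo⟩, hkeep⟩ := hchk
  have hgsKV : ∀ c ∈ gs, In (KV v) c := fun c hc => in_KV (by
    rw [Bool.and_eq_true, Nat.beq_eq, hroot]; exact hgs c hc)
  have hgsP : ∀ c ∈ gs, In (span gs) c := fun c hc =>
    In.span (by obtain ⟨g, -, e⟩ := hgsKV c hc; exact ⟨g, Subgroup.mem_top _, e⟩) hc
  have hLin : ∀ c ∈ L, In (span gs) c := fun c hc =>
    spanTree_in hgsP m [oneC] (fun c hc => by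
      rw [List.mem_singleton] at hc; subst hc; exact ⟨1, Subgroup.one_mem _, cd_one⟩) c
      (memB_iff.1 (List.all_eq_true.1 hfull c hc))
  have hclo' : (memB L oneC && L.all fun x => gs.all fun g => memB L (mulC x g)) = true := by
    simp only [Bool.and_eq_true, List.all_eq_true]; exact hclo
  have hPmem : ∀ g ∈ span gs, cd g ∈ L := fun g hg => inList_of_gens hclo' hg
  have hPle : span gs ≤ KV v := span_le hgsKV
  have hPcard : Nat.card (span gs) = n := by
    rw [← hlen]
    exact card_eq_length cd_injective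
      ((List.isChain_iff_pairwise.1 (incrB_spec hinc)).imp fun hh => Nat.ne_of_lt hh) hPmem
      fun x hx => by obtain ⟨g, hg, e⟩ := hLin x hx; exact ⟨g, hg, e⟩
  let S0 : Sylow 2 (KV v) := Sylow.ofCard ((span gs).subgroupOf (KV v))
    (by rw [Nat.card_congr (Subgroup.subgroupOfEquivOfLe hPle).toEquiv, hPcard, hn])
  let R0 : Subgroup (KV v) := R.subgroupOf (KV v)
  haveI : R0.Normal := ⟨fun r hr g => hnorm g g.2 r hr⟩
  have hR0 : IsPGroup 2 R0 := hp.of_equiv (Subgroup.subgroupOfEquivOfLe hR).symm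
  have hRP : ∀ r ∈ R, r ∈ span gs := by
    obtain ⟨S1, hS1⟩ := hR0.exists_le_sylow
    obtain ⟨k, hk⟩ := MulAction.exists_smul_eq (KV v) S1 S0
    intro r hr
    have h1 : k⁻¹ * ⟨r, hR hr⟩ * k ∈ R0 := by
      simpa using (inferInstance : R0.Normal).conj_mem _ (show (⟨r, hR hr⟩ : KV v) ∈ R0 from hr) k⁻¹
    have h2 := Subgroup.smul_mem_pointwise_smul _ (MulAut.conj k) _ (hS1 h1)
    have e : MulAut.conj k • (S1 : Subgroup (KV v)) = (S0 : Subgroup (KV v)) := by rw [← hk]; rfl
    rw [e, MulAut.smul_def, MulAut.conj_apply] at h2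
    rw [show k * (k⁻¹ * (⟨r, hR hr⟩ : KV v) * k) * k⁻¹ = ⟨r, hR hr⟩ by group] at h2
    exact h2
  intro r hr
  obtain ⟨g, hg, hgy⟩ := in_KV (v := v) (c := y) (by
    rw [Bool.and_eq_true, Nat.beq_eq, hroot]; exact ⟨hy1, hy2⟩)
  have hy' : cd g⁻¹ = y' := by
    have e1 : ∀ c : ℕ, ofCode (mulC y' y) = 1 → mat g⁻¹ = ofCode y' := by
      intro _ h
      rw [ofCode_mulC, ← hgy, ← mat_eq] at h
      calc mat g⁻¹ = (ofCode y' * mat g) * mat g⁻¹ := by rw [h, one_mul]
        _ = ofCode y' := by rw [mul_assoc, ← map_mul, mul_inv_cancel, map_one, mul_one]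
    have h1 : ofCode (mulC y' y) = 1 := by rw [hy3, ← cd_one, ← mat_eq, map_one]
    rw [cd, e1 y h1, codeM_ofCode, hy4]
  have hc := hPmem _ (hRP _ (hnorm g hg r hr))
  rw [cd_mul, cd_mul, hgy, hy'] at hc
  have := hkeep (cd r) (hPmem r (hRP r hr))
  rw [Bool.or_eq_true, Bool.not_eq_true', ← Bool.not_eq_true, memB_iff, memB_iff] at this
  exact this.resolve_left fun h => h hc

end CfsgLib.Spor.LargeFi
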