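import Cfsg.Agent.Lib.Spor.LargeFi.SixPtData
import Cfsg.Agent.Lib.Spor.LargeFi.StabU
import Cfsg.Agent.Lib.Spor.LargeFi.ACodeChk

/-!
Kernel checks for the forty-five points at the stabiliser of a small singular vector.
-/

set_option autoImplicit false
set_option maxRecDepth 100000

namespace CfsgLib.Spor.LargeFi.SixPt

open CfsgLib.Spor.U62 CfsgLib.Spor.LargeFi

/-- the hermitian form on codes -/
def hC (u w : ℕ) : ℕ := dot6 (entV u) fun k => sqN (entV w k)

/-- the representative of a point -/
def rC (i : ℕ) : ℕ := repL.getD i 0

/-- the transvection of a point -/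
def tC (i : ℕ) : ℕ := tL.getD i oneC

/-- two points are orthogonal -/
def adjB (i l : ℕ) : Bool := Nat.beq (hC (rC i) (rC l)) 0

/-- the multiples of the small representative -/
def lineB (x : ℕ) : Bool := memV [0, smallRoot, smC 2 smallRoot, smC 3 smallRoot] x

/-- the vectors orthogonal to the small representative -/
def perpW : List ℕ := (List.range 4096).filter fun w => Nat.beq (hC w smallRoot) 0

/-- the codes reached by the program -/
def kCodes : List ℕ := oneC :: (kProg.map Prod.fst ++ kBase)

theorem kBase_ok : (kBase.all fun c => memB stabCodes c && Nat.beq (mvC c smallRoot) smallRoot) = true := by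
  decide +kernel

theorem kProg_ok : slpB kProg kBase = true := by decide +kernel

theorem targets_in : ((tL ++ lineG ++ fiveG).all fun c => memB kCodes c) = true := by decide +kernel

theorem lengths : (Nat.beq repL.length 45 && Nat.beq tL.length 45 && Nat.beq lineP.length 27 &&
    Nat.beq lineG.length 27 && Nat.beq fiveG.length 5 && Nat.beq p5.length 5 && Nat.beq pt5.length 5) = true := by
  decide +kernel

theorem rep_ok : ((List.range 45).all fun i => Nat.blt (rC i) 4096 && Nat.beq (hC (rC i) smallRoot) 0 &&
    Nat.beq (nfC (rC i)) 0 && !lineB (rC i)) = true := by decide +kernel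

theorem t_fixed : ((List.range 45).all fun i => (perpW).all fun w =>
    lineB (Nat.xor (mvC (tC i) w) w) == Nat.beq (hC w (rC i)) 0) = true := by decide +kernel

theorem five_ok : ((List.range 5).all fun k => Nat.blt (pt5.getD k 45) 45 && Nat.blt (p5.getD k 16) 16 &&
    !Nat.beq (p5.getD k 0) 0 &&
    Nat.beq (2 * tC (pt5.getD k 0)) (peC (p5.getD k 0)) && memV fixL (rC (pt5.getD k 0)) &&
    Nat.beq (mulC (fiveG.getD k oneC) (tC (pt5.getD k 0))) (mulC (tC (pt5.getD 0 0)) (fiveG.getD k oneC))) =
    true := by decide +kernel

/-- a line lies over the distinguished one -/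
def lineOk (m : ℕ) : Bool := (lineP.getD m []).all fun i => Nat.blt i 45 &&
  memV fixL (mvC (lineG.getD m oneC) (rC i)) &&
  (List.range 5).any fun k =>
    Nat.beq (mulC (lineG.getD m oneC) (tC i)) (mulC (tC (pt5.getD k 0)) (lineG.getD m oneC))

theorem lines_ok : ((List.range 27).all lineOk) = true := by decide +kernel

theorem lines_cover : ((List.range 45).all fun i => (List.range 45).all fun l => !adjB i l ||
    (List.range 27).any fun m => memV (lineP.getD m []) i && memV (lineP.getD m []) l) = true := by
  decide +kernel

theorem fixL_small : ([0, smallRoot, smC 2 smallRoot, smC 3 smallRoot].all fun x => memV fixL x) = true := by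
  decide +kernel

theorem t_pairs : ((List.range 45).all fun i => (List.range 45).all fun l => adjB i l ||
    (!Nat.beq (mulC (tC i) (tC l)) (mulC (tC l) (tC i)) &&
      Nat.beq (mulC (mulC (tC i) (tC l)) (tC i)) (mulC (mulC (tC l) (tC i)) (tC l)))) = true := by
  decide +kernel

theorem t_sep : ((List.range 45).all fun i => Nat.beq (build fun a b => ent (tC i) a b) (tC i) &&
    Nat.beq (mulC (tC i) (tC i)) oneC && !Nat.beq (tC i) oneC &&
    (List.range 45).all fun l => Nat.beq i l || !Nat.beq (tC i) (tC l)) = true := by
  decide +kernel

theorem adj_deg : ((List.range 45).all fun i => adjB i i &&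
    Nat.beq ((List.range 45).filter fun l => adjB i l && !Nat.beq i l).length 12 &&
    (List.range 45).all fun l => adjB i l == adjB l i && (Nat.beq i l ||
      (List.range 45).any fun p => adjB i p && !adjB l p)) = true := by decide +kernel

theorem adj_join : ((List.range 45).all fun i => (List.range 45).all fun l => adjB i l ||
    (List.range 45).any fun p => adjB p i && adjB p l) = true := by decide +kernel

/-- four pairwise orthogonal points next to a point exhaust a line -/
def meetB (w : ℕ) : Bool :=
  (((List.range 45).filter fun p => adjB p w && !Nat.beq p w)).all fun p =>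
  (((List.range 45).filter fun p => adjB p w && !Nat.beq p w).filter fun q => adjB p q && !Nat.beq p q).all fun q =>
  (((List.range 45).filter fun p => adjB p w && !Nat.beq p w).filter fun q => adjB p q && !Nat.beq p q).all fun r =>
    Nat.beq r q || !adjB q r ||
  ((((List.range 45).filter fun p => adjB p w && !Nat.beq p w).filter fun q => adjB p q && !Nat.beq p q).all fun s =>
    Nat.beq s q || Nat.beq s r || !adjB q s || !adjB r s ||
    (List.range 45).all fun a => adjB a w || adjB a p || adjB a q || adjB a r || adjB a s)

theorem adj_meet : ((List.range 45).all meetB) = true := by decide +kernel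

theorem indep : ((List.range 45).all fun i => (List.range 45).all fun l => Nat.beq i l ||
    perpW.any fun w => Nat.beq (hC w (rC i)) 1 && Nat.beq (hC w (rC l)) 0) = true := by
  decide +kernel

theorem nondeg_each : ((List.range 45).all fun i =>
    perpW.any fun w => Nat.beq (hC w (rC i)) 1) = true := by
  decide +kernel

theorem invol_class : (smallSylL.all fun c => !Nat.beq (mulC c c) oneC || Nat.beq c oneC ||
    (List.range 27).any fun m => (List.range 16).any fun p =>
      Nat.beq (mulC (lineG.getD m oneC) c) (mulC (base (peC p)) (lineG.getD m oneC))) = true := by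
  decide +kernel

theorem big_fixed : ((List.range 16).all fun p => Nat.beq p 0 || memV p5 p || perpW.all fun w =>
    !lineB (Nat.xor (mvC (base (peC p)) w) w) || memV fixL w) = true := by decide +kernel

theorem sing_points : (perpW.all fun w => !Nat.beq (nfC w) 0 || lineB w ||
    (List.range 45).any fun l => (List.range 4).any fun c => lineB (Nat.xor w (smC c (rC l)))) = true := by
  decide +kernel

/-- combinations of four points and the small representative -/
def spanW : List ℕ :=
  [rC 0, rC 1, rC 3, rC 9, smallRoot].foldl
    (fun acc r => (List.range 4).flatMap fun c => acc.map fun x => Nat.xor x (smC c r)) [0]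

theorem span_ok : (let m := mask spanW; perpW.all fun w => inM m w) = true := by decide +kernel

/-- the five generating transvections -/
def genT : List ℕ := genI.map tC

theorem gen_lt : (genI.all fun i => Nat.blt i 45) = true := by decide +kernel

theorem orb_ok : (treeB genT orbRoot orbTree [] &&
    (orbRoot :: orbTree.map Prod.fst).all fun u => Nat.blt u 4096) = true := by decide +kernel

theorem orb_nodup : (orbRoot :: orbTree.map Prod.fst).Nodup ∧
    (orbRoot :: orbTree.map Prod.fst).length = 135 := by decide +kernel

theorem stProg_ok : progB stProg genT stGens = true := by decide +kernel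

/-- the stabiliser of the root of the orbit -/
def stL : List ℕ := spanTree stGens [] 10 [oneC]

theorem stL_ok : (Nat.beq stL.length 192 && stL.all fun c => Nat.beq (mvC c orbRoot) orbRoot &&
    Nat.beq ((stL.filter fun d => Nat.beq c d).length) 1) = true := by decide +kernel

end CfsgLib.Spor.LargeFi.SixPt
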