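import Cfsg.Agent.Lib.Spor.LargeFi.SixPlane
import Cfsg.Agent.Lib.Spor.LargeFi.SixPtChk

/-!
Kernel checks for the involutions over the distinguished elements in `C(E)/E`.
-/

set_option autoImplicit false
set_option maxRecDepth 100000

namespace CfsgLib.Spor.LargeFi

open CfsgLib.Spor.U62
open CfsgLib.Spor.LargeFi.SixPt (lineG)

/-! ### Checks on codes -/

/-- the vectors of the elements of the extraspecial group centralising the four-group -/
def candW : List ℕ :=
  (List.range 4096).filter fun v => Nat.beq (qC v 32) 32 && Nat.beq (qC v 64) 64

/-- the square of an element over the distinguished element `p` lies in the four-group -/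
def sqB (p v : ℕ) : Bool :=
  memV eL (Nat.xor (Nat.xor (qC v (p * 128)) (p * 128)) (if Nat.beq (nfC v) 0 then 0 else 1))

/-- for each distinguished element, the lines used and their images -/
def pullTab : List (List (ℕ × ℕ)) :=
  [[(4, 0), (8, 0), (10, 0), (12, 0), (11, 0), (15, 0), (18, 0), (23, 0), (25, 0)], [(3, 10), (6, 6)],
    [(1, 10), (2, 1)], [], [], [], [(9, 10), (18, 15)], [], [], [], [(17, 1), (26, 1)], [], [], [], [],
    [(13, 15), (22, 10)]]

/-- the vectors moved by a line into the singular space -/
def lineW (m : ℕ) : List ℕ := candW.filter fun w => memV fixL (mvC (lineG.getD m oneC) w)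

theorem pull_tab : ((List.range 16).all fun p => (pullTab.getD p []).all fun e =>
    Nat.blt e.1 27 && Nat.blt e.2 16 &&
      Nat.beq (mulC (lineG.getD e.1 oneC) (base (peC p))) (mulC (base (peC e.2)) (lineG.getD e.1 oneC)) &&
      candW.all fun o => !sqB p o || memV fixL (mvC (lineG.getD e.1 oneC) o) ||
        (lineW e.1).any fun w => !sqB p (Nat.xor w o)) = true := by
  decide +kernel

theorem pull_cover : ((List.range 16).all fun p => candW.all fun v => !sqB p v || memV fixL v ||
    (pullTab.getD p []).any fun e => memV fixL (mvC (lineG.getD e.1 oneC) v)) = true := by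
  decide +kernel

theorem sign_cover : ((List.range 2).all fun a => (List.range 2).all fun b => (List.range 4096).any fun v =>
    Nat.beq (qC v 32) (Nat.xor 32 a) && Nat.beq (qC v 64) (Nat.xor 64 b)) = true := by
  decide +kernel

theorem sign_bound : ((List.range 4096).all fun v => Nat.blt (qC v 32) 2048 && Nat.blt (qC v 64) 2048) =
    true := by
  decide +kernel

theorem sq_bound : ((List.range 16).all fun p => candW.all fun v => Nat.blt (qC v (p * 128)) 2048) =
    true := by
  decide +kernel

theorem small_multiples : (Nat.beq (wV 16) smallRoot && Nat.beq (wV 32) (smC 2 smallRoot)) = true := by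
  decide +kernel

theorem pe_flag : ((List.range 16).all fun p => Nat.beq (peC p) (2 * base (peC p)) &&
    Nat.blt 0 (peC p)) = true := by
  decide +kernel

theorem pe_one : Nat.beq (base (peC 0)) oneC = true := by decide +kernel

theorem lineG_len : Nat.beq lineG.length 27 = true := by decide +kernel

end CfsgLib.Spor.LargeFi
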