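import Cfsg.Agent.Lib.Spor.LargeFi.SixPlane
import Cfsg.Agent.Lib.Spor.LargeFi.SixPullChk
import Cfsg.Agent.Lib.Spor.LargeFi.Outer

/-!
Every involution commuting with the image of the central involution in `C(E)/E` is conjugate into the
plane subgroup: its image in `U₄(2)` goes to the Sylow list, then into the distinguished group, and the
part in the extraspecial group is moved by one of the twenty-seven lines.
-/

set_option autoImplicit false
set_option maxRecDepth 100000

namespace CfsgLib.Spor.LargeFi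

open CfsgLib.Spor.U62 CfsgLib.ThreeTransp
open CfsgLib.Spor.LargeFi.SixPt (lineG)
open Matrix
open scoped Pointwise

variable {G : Type*} [Group G] [Finite G] {z : G}

namespace Model.ABase

variable {Q : Subgroup (Subgroup.centralizer ({z} : Set G))} [Q.Normal]
  {D : Model Q (zH z)} (B : D.ABase)

set_option quotPrecheck false in
local notation "H" => ↥(Subgroup.centralizer ({z} : Set G))

/-! ### The centraliser of the four-group inside the centraliser of the involution -/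

theorem mem_sC_iff {h : H} : (h : G) ∈ B.sC ↔
    h * B.el 32 = B.el 32 * h ∧ h * B.el 64 = B.el 64 * h := by
  constructor
  · intro hh
    exact ⟨Subtype.ext (Subgroup.mem_centralizer_iff.1 hh _ ⟨32, by simp [eL], rfl⟩).symm,
      Subtype.ext (Subgroup.mem_centralizer_iff.1 hh _ ⟨64, by simp [eL], rfl⟩).symm⟩
  · rintro ⟨h1, h2⟩
    have c1 : Commute (h : G) (B.elG 32) := congrArg Subtype.val h1
    have c2 : Commute (h : G) (B.elG 64) := congrArg Subtype.val h2
    refine Subgroup.mem_centralizer_iff.2 ?_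
    rintro _ ⟨k, hk, rfl⟩
    simp only [eL, List.mem_cons, List.not_mem_nil, or_false] at hk
    rcases hk with rfl | rfl | rfl | rfl
    · rw [B.elG_zero, one_mul, mul_one]
    · exact c1.eq.symm
    · exact c2.eq.symm
    · rw [show B.elG 96 = B.elG 32 * B.elG 64 from B.elG_xor 32 64]
      exact (c1.mul_right c2).eq.symm

theorem el_sC (n : ℕ) : ((B.el n : H) : G) ∈ B.sC := B.A0_le_sC (B.elG_mem n)

theorem vec_el32 : ∃ h32 : B.el 32 ∈ Q, D.vec ⟨B.el 32, h32⟩ = smallV := by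
  obtain ⟨-, h, e⟩ := B.cpart (c := 16) (by norm_num)
  refine ⟨h, e.trans (vc_injective ?_)⟩
  have hs := small_multiples
  simp only [Bool.and_eq_true, Nat.beq_eq] at hs
  rw [hs.1, vc_vOf (by decide), vc_smallV]

theorem vec_el64 : ∃ h64 : B.el 64 ∈ Q, D.vec ⟨B.el 64, h64⟩ = om • smallV := by
  obtain ⟨-, h, e⟩ := B.cpart (c := 32) (by norm_num)
  refine ⟨h, e.trans (vc_injective ?_)⟩
  have hs := small_multiples
  simp only [Bool.and_eq_true, Nat.beq_eq] at hs
  rw [vc_om_smul, vc_smallV, ← hs.2, vc_vOf (by decide)]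

/-- elements centralising the four-group act linearly, fixing the small vector -/
theorem exists_KV (hF : Cfsg.IsOfLargeFischerTypeAt z Q) {h : H} (hh : (h : G) ∈ B.sC) :
    ∃ k ∈ KV smallV, ∀ v, D.act h v = mat k *ᵥ v := by
  obtain ⟨h1, h2⟩ := B.mem_sC_iff.1 hh
  have fixed : ∀ {n : ℕ} {u : V6}, (∃ hn : B.el n ∈ Q, D.vec ⟨B.el n, hn⟩ = u) →
      h * B.el n = B.el n * h → D.act h u = u := by
    rintro n u ⟨hn, rfl⟩ hc
    have e : h * B.el n * h⁻¹ = B.el n := mul_inv_eq_iff_eq_mul.2 hc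
    rw [← D.vec_conj' h ⟨B.el n, hn⟩ (by rw [e]; exact hn)]
    exact congrArg D.vec (Subtype.ext e)
  have hs := fixed B.vec_el32 h1
  have hs2 := fixed B.vec_el64 h2
  have hM : h ∈ D.M := by
    by_contra hM
    obtain ⟨o, ho, p, -, hp, hact⟩ := hasOuter_of_type hF D
    have hmo : h * o⁻¹ ∈ D.M := by
      rw [Subgroup.mul_mem_iff_of_index_two D.M_index]
      exact iff_of_false hM fun e => ho (by simpa using D.M.inv_mem e)
    obtain ⟨g, -, hg⟩ := D.M_lin _ hmo
    have hsemi : ∀ v, D.act h (om • v) = (om ^ 2) • D.act h v := by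
      intro v
      have e : ∀ w, D.act h w = mat g *ᵥ sAct p w := fun w => by
        rw [← hact, ← hg, ← D.act_mul_apply, inv_mul_cancel_right]
      have hgal : gal (om • v) = (om ^ 2) • gal v := funext fun i => mul_pow om (v i) 2
      rw [e, e, sAct, sAct, if_pos hp, if_pos hp, hgal, Matrix.mulVec_smul, Matrix.mulVec_smul]
    have h3 := hsemi smallV
    rw [hs2, hs] at h3
    have h4 : om = om ^ 2 := smul_left_injective K4 small_smallV.isotropic.2 h3
    revert h4
    decide +kernel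
  obtain ⟨k, hk, hk'⟩ := D.M_lin h hM
  exact ⟨k, mem_KV.2 ⟨hk, by rw [← hk', hs]⟩, hk'⟩

/-- each element of the stabiliser lifts to the centraliser of the four-group -/
theorem lift_KV {k : U6} (hk : k ∈ KV smallV) :
    ∃ h : H, (h : G) ∈ B.sC ∧ ∀ v, D.act h v = mat k *ᵥ v := by
  obtain ⟨hk0, hfix⟩ := mem_KV.1 hk
  obtain ⟨m, -, hm⟩ := D.KS_lift k hk0
  have key : ∀ {n : ℕ}, n < 2048 → ∀ {u : V6}, (∃ hn : B.el n ∈ Q, D.vec ⟨B.el n, hn⟩ = u) →
      mat k *ᵥ u = u → ∃ a < 2, m * B.el n * m⁻¹ = B.el (Nat.xor n a) := by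
    rintro n - u ⟨hn, rfl⟩ hu
    have hc : m * B.el n * m⁻¹ ∈ Q := (inferInstance : Q.Normal).conj_mem _ hn m
    have e : D.vec (⟨_, hc⟩ * ⟨B.el n, hn⟩) = 0 := by
      rw [D.vec_mul, D.vec_conj' m ⟨B.el n, hn⟩ hc, hm, hu]
      funext i
      exact CharTwo.add_self_eq_zero _
    have hsq : B.el n * B.el n = 1 := bigA_sq (B.el_mem n)
    rcases (D.vec_eq_zero _).1 e with h1 | h1
    · refine ⟨0, by norm_num, ?_⟩
      rw [show Nat.xor n 0 = n from Nat.xor_zero n]
      calc m * B.el n * m⁻¹ = m * B.el n * m⁻¹ * (B.el n * B.el n) := by rw [hsq, mul_one]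
        _ = _ := by rw [← mul_assoc, show m * B.el n * m⁻¹ * B.el n = 1 from h1, one_mul]
    · refine ⟨1, by norm_num, ?_⟩
      rw [B.el_xor, B.el_one]
      calc m * B.el n * m⁻¹ = m * B.el n * m⁻¹ * (B.el n * B.el n) := by rw [hsq, mul_one]
        _ = zH z * B.el n := by rw [← mul_assoc, show m * B.el n * m⁻¹ * B.el n = zH z from h1]
        _ = _ := (zH_comm (B.el n)).symm
  obtain ⟨a, ha, e32⟩ := key (n := 32) (by norm_num) B.vec_el32 hfix
  obtain ⟨b, hb, e64⟩ := key (n := 64) (by norm_num) B.vec_el64 (by rw [Matrix.mulVec_smul, hfix])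
  have hv := List.all_eq_true.1 (List.all_eq_true.1 sign_cover a (List.mem_range.2 ha)) b (List.mem_range.2 hb)
  simp only [List.any_eq_true, List.mem_range, Bool.and_eq_true, Nat.beq_eq] at hv
  obtain ⟨v, hv, h32, h64⟩ := hv
  obtain ⟨q, hq⟩ := exists_q (D := D) hv
  refine ⟨(q : H)⁻¹ * m, B.mem_sC_iff.2 ⟨?_, ?_⟩, fun w => ?_⟩
  · have e := B.q_conj (q := q) (show (32 : ℕ) < 2048 by norm_num)
    rw [hq, h32, ← e32] at e
    apply mul_inv_eq_iff_eq_mul.1
    calc (q : H)⁻¹ * m * B.el 32 * ((q : H)⁻¹ * m)⁻¹ = (q : H)⁻¹ * (m * B.el 32 * m⁻¹) * q := by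
          simp [mul_assoc]
      _ = B.el 32 := by rw [← e]; simp [mul_assoc]
  · have e := B.q_conj (q := q) (show (64 : ℕ) < 2048 by norm_num)
    rw [hq, h64, ← e64] at e
    apply mul_inv_eq_iff_eq_mul.1
    calc (q : H)⁻¹ * m * B.el 64 * ((q : H)⁻¹ * m)⁻¹ = (q : H)⁻¹ * (m * B.el 64 * m⁻¹) * q := by
          simp [mul_assoc]
      _ = B.el 64 := by rw [← e]; simp [mul_assoc]
  · rw [D.act_mul_apply, hm, (D.ker_act _).2 (Q.inv_mem q.2)]
    rfl

/-! ### The part in the extraspecial group -/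

theorem cand_iff (q : Q) : ((q : H) : G) ∈ B.sC ↔ vc (D.vec q) ∈ candW := by
  have hb := List.all_eq_true.1 sign_bound (vc (D.vec q)) (List.mem_range.2 (vc_lt _))
  simp only [Bool.and_eq_true, Nat.blt_eq] at hb
  have key : ∀ {n : ℕ}, n < 2048 → qC (vc (D.vec q)) n < 2048 →
      ((q : H) * B.el n = B.el n * (q : H) ↔ qC (vc (D.vec q)) n = n) := by
    intro n hn hn'
    rw [← mul_inv_eq_iff_eq_mul, B.q_conj hn]
    exact ⟨B.el_injOn hn' hn, fun e => by rw [e]⟩
  rw [B.mem_sC_iff, key (by norm_num) hb.1, key (by norm_num) hb.2]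
  simp only [candW, List.mem_filter, List.mem_range, Bool.and_eq_true, Nat.beq_eq]
  exact ⟨fun h => ⟨vc_lt _, h⟩, fun h => h.2⟩

theorem sq_iff (q : Q) (hq : ((q : H) : G) ∈ B.sC) {p : ℕ} (hp : p < 16) :
    (((q : H) * B.el (p * 128) : H) : G) * (((q : H) * B.el (p * 128) : H) : G) ∈ B.sE ↔
      sqB p (vc (D.vec q)) = true := by
  have hc := (B.cand_iff q).1 hq
  set v := vc (D.vec q)
  have hb := List.all_eq_true.1 (List.all_eq_true.1 sq_bound p (List.mem_range.2 hp)) v hc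
  rw [Nat.blt_eq] at hb
  have hqq : (q : H) * (q : H) = B.el (if Nat.beq (nfC v) 0 then 0 else 1) := by
    by_cases h0 : Nat.beq (nfC v) 0 = true
    · rw [if_pos h0, B.el_zero, D.vec_sq, nf_eq_zero_iff]
      exact Nat.eq_of_beq_eq_true h0
    · rw [if_neg h0, B.el_one]
      have e : D.vec (q * q) = 0 := by
        rw [D.vec_mul]; funext i; exact CharTwo.add_self_eq_zero _
      rcases (D.vec_eq_zero _).1 e with h1 | h1
      · refine absurd ?_ h0
        rw [Nat.beq_eq, ← nf_eq_zero_iff, ← D.vec_sq]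
        exact h1
      · exact h1
  set c := if Nat.beq (nfC v) 0 then 0 else 1 with hcdef
  have hc2 : c < 2048 := by rw [hcdef]; split <;> norm_num
  have hw : Nat.xor (Nat.xor (qC v (p * 128)) (p * 128)) c < 2048 := xor_lt' (xor_lt' hb (by omega)) hc2
  have e : ((q : H) * B.el (p * 128)) * ((q : H) * B.el (p * 128)) =
      B.el (Nat.xor (Nat.xor (qC v (p * 128)) (p * 128)) c) := by
    calc _ = ((q : H) * B.el (p * 128) * (q : H)⁻¹) * ((q : H) * (q : H)) * B.el (p * 128) := by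
          simp [mul_assoc]
      _ = _ := by
          rw [B.q_conj (by omega), hqq, ← B.el_xor, ← B.el_xor]
          congr 1
          show (qC v (p * 128) ^^^ c) ^^^ (p * 128) = (qC v (p * 128) ^^^ (p * 128)) ^^^ c
          rw [Nat.xor_assoc, Nat.xor_comm c, ← Nat.xor_assoc]
  rw [← Subgroup.coe_mul, e, sqB, ← hcdef, memV_iff]
  constructor
  · rintro ⟨k, hk, h⟩
    rwa [← B.elG_injOn (eL_lt hk) hw h]
  · exact fun h => ⟨_, h, rfl⟩

theorem mem_bigA_of_fix (q : Q) (h : vc (D.vec q) ∈ fixL) : (q : H) ∈ D.bigA :=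
  fixU_le_bigA (fixU_of_vec q.2 h)

/-- the action of the distinguished elements -/
theorem act_pe {p : ℕ} (hp : p < 16) (v : V6) :
    D.act (B.el (p * 128)) v = ofCode (base (peC p)) *ᵥ v := by
  have h := List.all_eq_true.1 pe_flag p (List.mem_range.2 hp)
  simp only [Bool.and_eq_true, Nat.beq_eq] at h
  rw [(B.ppart hp).2, h.1, sAct_two_mul, ← h.1]

theorem line_KV {m : ℕ} (hm : m < 27) : In (KV smallV) (lineG.getD m oneC) := by
  have hb : ∀ c ∈ SixPt.kBase, In (KV smallV) c := fun c hc =>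
    in_KV (by rw [vc_smallV]; exact List.all_eq_true.1 SixPt.kBase_ok c hc)
  have ht := List.all_eq_true.1 SixPt.targets_in (lineG.getD m oneC) (by
    rw [List.getD_eq_getElem _ _ (by rw [Nat.eq_of_beq_eq_true lineG_len]; exact hm)]
    exact List.mem_append_left _ (List.mem_append_right _ (List.getElem_mem _)))
  rw [memB_iff] at ht
  rcases List.mem_cons.1 ht with e | e
  · rw [e]; exact ⟨1, one_mem _, cd_one⟩
  · exact mem_of_slpB _ _ SixPt.kProg_ok hb _ (List.mem_append.1 e)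

/-- a square root of the four-group over a distinguished element is conjugate into `A` -/
theorem pull_over {p : ℕ} (hp : p < 16) {g : H} (hg : (g : G) ∈ B.sC) (hsq : (g : G) * g ∈ B.sE)
    (hact : ∀ v, D.act g v = ofCode (base (peC p)) *ᵥ v) :
    ∃ t : H, (t : G) ∈ B.sC ∧ t * g * t⁻¹ ∈ D.bigA := by
  set n := p * 128 with hn
  have hgQ : g * (B.el n)⁻¹ ∈ Q := by
    refine (D.ker_act _).1 (DFunLike.ext _ _ fun v => ?_)
    rw [D.act_mul_apply, hact, ← B.act_pe hp, ← D.act_mul_apply, mul_inv_cancel, map_one]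
  set q : Q := ⟨_, hgQ⟩ with hqdef
  have hgq : g = (q : H) * B.el n := by simp [hqdef]
  have hqC : ((q : H) : G) ∈ B.sC := by
    show ((g * (B.el n)⁻¹ : H) : G) ∈ B.sC
    exact B.sC.mul_mem hg (B.sC.inv_mem (B.el_sC n))
  rw [hgq] at hsq
  have hS := (B.sq_iff q hqC hp).1 hsq
  have hcand := (B.cand_iff q).1 hqC
  have hcov := List.all_eq_true.1 (List.all_eq_true.1 pull_cover p (List.mem_range.2 hp)) _ hcand
  simp only [hS, Bool.not_true, Bool.false_or, Bool.or_eq_true, memV_iff, List.any_eq_true] at hcov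
  rcases hcov with hfix | ⟨⟨m, p'⟩, he, hmv⟩
  · refine ⟨1, one_mem _, ?_⟩
    simp only [one_mul, inv_one, mul_one, hgq]
    exact mul_mem (mem_bigA_of_fix q hfix) (B.el_mem n)
  · have htab := List.all_eq_true.1 (List.all_eq_true.1 pull_tab p (List.mem_range.2 hp)) _ he
    simp only [Bool.and_eq_true, Nat.blt_eq, Nat.beq_eq, List.all_eq_true] at htab
    obtain ⟨⟨⟨hm, hp'⟩, hcomm⟩, hclose⟩ := htab
    obtain ⟨l, hl, hlc⟩ := line_KV hm
    obtain ⟨t, ht, hta⟩ := B.lift_KV hl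
    set gC := lineG.getD m oneC
    have hta' : ∀ v, D.act t v = ofCode gC *ᵥ v := fun v => by rw [hta, mat_eq, hlc]
    have hvc : ∀ u : Q, ∀ hc : t * (u : H) * t⁻¹ ∈ Q,
        vc (D.vec ⟨_, hc⟩) = mvC gC (vc (D.vec u)) := fun u hc => by
      rw [D.vec_conj' t u hc, hta', vc_mulVec]
    have hmove : ∀ u : Q, mvC gC (vc (D.vec u)) ∈ fixL → t * (u : H) * t⁻¹ ∈ D.bigA := fun u hu => by
      have hc : t * (u : H) * t⁻¹ ∈ Q := (inferInstance : Q.Normal).conj_mem _ u.2 t
      exact mem_bigA_of_fix ⟨_, hc⟩ (by rw [hvc u hc]; exact hu)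
    set n' := p' * 128 with hn'
    have hrQ : t⁻¹ * B.el n' * t * (B.el n)⁻¹ ∈ Q := by
      refine (D.ker_act _).1 (DFunLike.ext _ _ fun v => ?_)
      rw [D.act_mul_apply, D.act_mul_apply, D.act_mul_apply, B.act_pe hp', hta', Matrix.mulVec_mulVec,
        ← ofCode_mulC, ← hcomm, ofCode_mulC, ← Matrix.mulVec_mulVec, ← hta', ← B.act_pe hp,
        D.act_inv_apply, ← D.act_mul_apply, mul_inv_cancel, map_one]
    set r : Q := ⟨_, hrQ⟩ with hrdef
    have hrC : ((r : H) : G) ∈ B.sC := by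
      show ((t⁻¹ * B.el n' * t * (B.el n)⁻¹ : H) : G) ∈ B.sC
      exact B.sC.mul_mem (B.sC.mul_mem (B.sC.mul_mem (B.sC.inv_mem ht) (B.el_sC n')) ht)
        (B.sC.inv_mem (B.el_sC n))
    have hrel : t * ((r : H) * B.el n) * t⁻¹ = B.el n' := by simp [hrdef, mul_assoc]
    have hsq_of : ∀ u : Q, ((u : H) : G) ∈ B.sC → t * ((u : H) * B.el n) * t⁻¹ ∈ D.bigA →
        sqB p (vc (D.vec u)) = true := by
      intro u hu hA
      refine (B.sq_iff u hu hp).1 ?_
      have h1 : ((u : H) * B.el n) * ((u : H) * B.el n) = 1 := by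
        have := bigA_sq hA
        have e : t * ((u : H) * B.el n) * t⁻¹ * (t * ((u : H) * B.el n) * t⁻¹) =
            t * (((u : H) * B.el n) * ((u : H) * B.el n)) * t⁻¹ := by simp [mul_assoc]
        rw [e] at this
        exact conj_eq_one_iff.1 this
      rw [← Subgroup.coe_mul, ← hn, h1]
      exact B.sE.one_mem
    have ho := hsq_of r hrC (by rw [hrel]; exact B.el_mem n')
    have hofix : mvC gC (vc (D.vec r)) ∈ fixL := by
      have h := hclose _ ((B.cand_iff r).1 hrC)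
      simp only [ho, Bool.not_true, Bool.false_or, Bool.or_eq_true, memV_iff, List.any_eq_true,
        Bool.not_eq_true'] at h
      refine h.resolve_right ?_
      rintro ⟨w, hw, hws⟩
      simp only [lineW, List.mem_filter, memV_iff] at hw
      have hwl : w < 4096 := List.mem_range.1 (List.mem_filter.1 hw.1).1
      obtain ⟨u, hu⟩ := exists_q (D := D) hwl
      have huC : ((u : H) : G) ∈ B.sC := (B.cand_iff u).2 (hu ▸ hw.1)
      have hA : t * (((u * r : Q) : H) * B.el n) * t⁻¹ ∈ D.bigA := by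
        rw [Subgroup.coe_mul, show t * ((u : H) * (r : H) * B.el n) * t⁻¹ =
          (t * (u : H) * t⁻¹) * (t * ((r : H) * B.el n) * t⁻¹) by simp [mul_assoc], hrel]
        exact mul_mem (hmove u (by rw [hu]; exact hw.2)) (B.el_mem n')
      have := hsq_of (u * r) (by
        show (((u * r : Q) : H) : G) ∈ B.sC
        exact B.sC.mul_mem huC hrC) hA
      rw [D.vec_mul, vc_add, hu, hws] at this
      exact Bool.noConfusion this
    refine ⟨t, ht, ?_⟩
    have hel : t * B.el n * t⁻¹ ∈ D.bigA := by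
      have e : t * B.el n * t⁻¹ = (t * (r : H) * t⁻¹)⁻¹ * (t * ((r : H) * B.el n) * t⁻¹) := by
        simp [mul_assoc]
      rw [e, hrel]
      exact mul_mem (inv_mem (hmove r hofix)) (B.el_mem n')
    rw [hgq, show t * ((q : H) * B.el n) * t⁻¹ = (t * (q : H) * t⁻¹) * (t * B.el n * t⁻¹) by
      simp [mul_assoc]]
    exact mul_mem (hmove q hmv) hel

/-- an element of the stabiliser of order at most two is conjugate into the Sylow list -/
theorem exists_syl_list (D' : Model Q (zH z)) {k : U6} (hk : k ∈ KV smallV) (hk2 : k * k = 1) :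
    ∃ y ∈ KV smallV, cd (y * k * y⁻¹) ∈ smallSylL := by
  classical
  letI := D'.fld
  letI := D'.fin
  haveI : Fact (Nat.Prime 2) := ⟨Nat.prime_two⟩
  have hchk := small_chk
  simp only [Bool.and_eq_true, Nat.beq_eq] at hchk
  obtain ⟨hsyl, hlen⟩ := hchk
  simp only [sylChk, Bool.and_eq_true, List.all_eq_true, Nat.beq_eq] at hsyl
  obtain ⟨⟨⟨⟨hinc, hgs⟩, -⟩, hclo⟩, -⟩ := hsyl
  have hgsKV : ∀ c ∈ smallSylGens, In (KV smallV) c := fun c hc => in_KV (by
    rw [Bool.and_eq_true, Nat.beq_eq, vc_smallV]; exact hgs c hc)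
  have hgsP : ∀ c ∈ smallSylGens, In (span smallSylGens) c := fun c hc =>
    In.span (by obtain ⟨g, -, e⟩ := hgsKV c hc; exact ⟨g, Subgroup.mem_top _, e⟩) hc
  have hLin : ∀ c ∈ smallSylL, In (span smallSylGens) c := fun c hc =>
    spanTree_in hgsP 8 [oneC] (fun c hc => by
      rw [List.mem_singleton] at hc; subst hc; exact ⟨1, Subgroup.one_mem _, cd_one⟩) c
      (memB_iff.1 (List.all_eq_true.1 small_full c hc))
  have hclo' : (memB smallSylL oneC && smallSylL.all fun x =>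
      smallSylGens.all fun g => memB smallSylL (mulC x g)) = true := by
    simp only [Bool.and_eq_true, List.all_eq_true]; exact hclo
  have hPmem : ∀ g ∈ span smallSylGens, cd g ∈ smallSylL := fun g hg => inList_of_gens hclo' hg
  have hPle : span smallSylGens ≤ KV smallV := span_le hgsKV
  have hPcard : Nat.card (span smallSylGens) = 64 := by
    rw [← hlen]
    exact card_eq_length cd_injective
      ((List.isChain_iff_pairwise.1 (incrB_spec hinc)).imp fun hh => Nat.ne_of_lt hh) hPmem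
      fun x hx => by obtain ⟨g, hg, e⟩ := hLin x hx; exact ⟨g, hg, e⟩
  have hcard := card_KV_small D'.card_F9
  let S0 : Sylow 2 (KV smallV) := Sylow.ofCard ((span smallSylGens).subgroupOf (KV smallV)) (by
    rw [Nat.card_congr (Subgroup.subgroupOfEquivOfLe hPle).toEquiv, hPcard, hcard,
      show (25920 : ℕ) = 2 ^ 6 * 405 by norm_num, Nat.factorization_mul (by norm_num) (by norm_num),
      Finsupp.add_apply, Nat.factorization_eq_zero_of_not_dvd (show ¬ 2 ∣ 405 by norm_num),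
      Nat.Prime.factorization_pow Nat.prime_two]
    simp)
  have hP : IsPGroup 2 (Subgroup.zpowers (⟨k, hk⟩ : KV smallV)) := by
    have hd : orderOf (⟨k, hk⟩ : KV smallV) ∣ 2 ^ 1 := by
      rw [pow_one]
      exact orderOf_dvd_of_pow_eq_one (by rw [pow_two]; exact Subtype.ext hk2)
    obtain ⟨i, -, hi⟩ := (Nat.dvd_prime_pow Nat.prime_two).1 hd
    exact IsPGroup.of_card (n := i) (by rw [Nat.card_zpowers, hi])
  obtain ⟨S1, hS1⟩ := hP.exists_le_sylow
  obtain ⟨y, hy⟩ := MulAction.exists_smul_eq (KV smallV) S1 S0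
  refine ⟨y, y.2, hPmem _ ?_⟩
  have h2 := Subgroup.smul_mem_pointwise_smul _ (MulAut.conj y) _ (hS1 (Subgroup.mem_zpowers _))
  have e : MulAut.conj y • (S1 : Subgroup (KV smallV)) = (S0 : Subgroup (KV smallV)) := by rw [← hy]; rfl
  rw [e, MulAut.smul_def, MulAut.conj_apply] at h2
  exact h2

/-- the involutions commuting with the image of the central involution go into the plane subgroup -/
theorem sA_pull (hF : Cfsg.IsOfLargeFischerTypeAt z Q) (hN : B.Normed) :
    ∀ x : B.SX, Commute x B.zS → x * x = 1 → ∃ g, Commute g B.zS ∧ g * x * g⁻¹ ∈ B.sA := by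
  intro x hxz hx2
  obtain ⟨g, rfl⟩ := B.sπ_surj x
  have hgz : (g : G) * z = z * g := by
    have h : B.sπ (g * ⟨z, B.z_mem_sC⟩ * g⁻¹) = B.sπ ⟨z, B.z_mem_sC⟩ := by
      rw [map_mul, map_mul, map_inv]
      exact mul_inv_eq_iff_eq_mul.2 hxz.eq
    obtain ⟨e, he, h'⟩ := B.sπ_eq_iff.1 h
    change z = (g : G) * z * (g : G)⁻¹ * e at h'
    have he1 := B.conj_unique' hF hN g.2 he (by rw [← h'])
    rw [he1, mul_one] at h'
    exact mul_inv_eq_iff_eq_mul.1 h'.symm
  set gh : H := ⟨g, Subgroup.mem_centralizer_singleton_iff.2 hgz⟩ with hghdef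
  have hgC : (gh : G) ∈ B.sC := g.2
  have hsq : (gh : G) * gh ∈ B.sE := by
    rw [← map_mul] at hx2
    exact Subgroup.mem_subgroupOf.1 ((QuotientGroup.eq_one_iff (g * g)).1 hx2)
  have hghQ : gh * gh ∈ Q := by
    obtain ⟨q, hq, e⟩ := B.sE_le_qG hsq
    rwa [show gh * gh = q from Subtype.ext e.symm]
  obtain ⟨k, hk, hka⟩ := B.exists_KV hF hgC
  have hk2 : k * k = 1 := mat_injective (Matrix.ext_of_mulVec_single fun i => by
    rw [map_mul, ← Matrix.mulVec_mulVec, ← hka, ← hka, ← D.act_mul_apply, (D.ker_act _).2 hghQ, map_one,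
      Matrix.one_mulVec]
    rfl)
  obtain ⟨y, hy, hyL⟩ := exists_syl_list D hk hk2
  set k' := y * k * y⁻¹ with hk'def
  have hk'2 : k' * k' = 1 := by
    calc k' * k' = y * (k * k) * y⁻¹ := by simp [hk'def, mul_assoc]
      _ = 1 := by rw [hk2, mul_one, mul_inv_cancel]
  have hex : ∃ l ∈ KV smallV, ∃ p < 16, mat (l * k' * l⁻¹) = ofCode (base (peC p)) := by
    have h := List.all_eq_true.1 SixPt.invol_class (cd k') hyL
    simp only [Bool.or_eq_true, Bool.not_eq_true', ← Bool.not_eq_true, Nat.beq_eq, List.any_eq_true,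
      List.mem_range] at h
    rcases h with (h | h) | ⟨m, hm, p, hp, e⟩
    · exact absurd (by rw [← cd_mul, hk'2, cd_one]) h
    · refine ⟨1, one_mem _, 0, by norm_num, ?_⟩
      rw [Nat.eq_of_beq_eq_true pe_one, one_mul, inv_one, mul_one, mat_eq, h]
    · obtain ⟨l, hl, hlc⟩ := line_KV hm
      refine ⟨l, hl, p, hp, ?_⟩
      have e' := congrArg ofCode e
      rw [ofCode_mulC, ofCode_mulC, ← hlc, ← mat_eq, ← mat_eq, ← map_mul] at e'
      rw [map_mul (mat) (l * k'), e', mul_assoc, ← map_mul, mul_inv_cancel, map_one, mul_one]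
  obtain ⟨l, hl, p, hp, hmat⟩ := hex
  obtain ⟨t, ht, hta⟩ := B.lift_KV ((KV smallV).mul_mem hl hy)
  have hinv : ∀ v, D.act t⁻¹ v = mat (l * y)⁻¹ *ᵥ v := fun v => D.act_injective t (by
    rw [← D.act_mul_apply, mul_inv_cancel, map_one, hta, Matrix.mulVec_mulVec, ← map_mul, mul_inv_cancel,
      map_one, Matrix.one_mulVec]
    rfl)
  have hact : ∀ v, D.act (t * gh * t⁻¹) v = ofCode (base (peC p)) *ᵥ v := by
    intro v
    rw [D.act_mul_apply, D.act_mul_apply, hinv, hka, hta, Matrix.mulVec_mulVec, Matrix.mulVec_mulVec,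
      ← map_mul, ← map_mul, ← hmat]
    have e : l * y * k * (l * y)⁻¹ = l * k' * l⁻¹ := by rw [hk'def]; simp [mul_assoc]
    rw [e]
  have hgC' : ((t * gh * t⁻¹ : H) : G) ∈ B.sC := B.sC.mul_mem (B.sC.mul_mem ht hgC) (B.sC.inv_mem ht)
  have hsq' : ((t * gh * t⁻¹ : H) : G) * ((t * gh * t⁻¹ : H) : G) ∈ B.sE := by
    have e : ((t * gh * t⁻¹ : H) : G) * ((t * gh * t⁻¹ : H) : G) =
        (t : G) * ((gh : G) * gh) * (t : G)⁻¹ := by simp [mul_assoc]
    rw [e, ← Subgroup.mem_centralizer_iff.1 ht _ hsq, mul_inv_cancel_right]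
    exact hsq
  obtain ⟨u, hu, huA⟩ := B.pull_over hp hgC' hsq' hact
  refine ⟨B.sπ ⟨((u * t : H) : G), B.sC.mul_mem hu ht⟩, ?_, ?_⟩
  · show _ * _ = _ * _
    rw [zS, ← map_mul, ← map_mul]
    exact congrArg B.sπ (Subtype.ext (Subgroup.mem_centralizer_singleton_iff.1 (u * t).2))
  · rw [← map_inv, ← map_mul, ← map_mul]
    refine ⟨_, Subgroup.mem_subgroupOf.2 ?_, rfl⟩
    refine ⟨u * (t * gh * t⁻¹) * u⁻¹, huA, ?_⟩
    simp [hghdef, mul_assoc]

end Model.ABase

end CfsgLib.Spor.LargeFi
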