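import Cfsg.Agent.Lib.Spor.LargeFi.SixPlane
import Cfsg.Agent.Lib.Spor.LargeFi.SixFinal

/-!
The statement about the four-group from the identification of the quotient of its centraliser.
-/

set_option autoImplicit false

namespace CfsgLib.Spor.LargeFi

open Cfsg CfsgLib.KnownB.TypeUSix
open scoped commutatorElement

/-- A four-group with centraliser a cover of PSU(6,2), once the quotient is identified. -/
theorem exists_four_of_iso {G : Type*} [Group G] [Finite G] {z : G}
    {Q : Subgroup (Subgroup.centralizer ({z} : Set G))} [Q.Normal] (hF : Cfsg.IsOfLargeFischerTypeAt z Q)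
    (hX : ∀ (D : Model Q (zH z)) (B : D.ABase), B.Normed →
      ∃ (F : Type) (_ : Field F) (_ : Fintype F), Fintype.card F = 4 ∧ Nonempty (B.SX ≃* Cfsg.PSU 6 F 2)) :
    ∃ E : Subgroup G, E ≤ (Q.map (Subgroup.centralizer ({z} : Set G)).subtype) ∧ Cfsg.IsElementaryAbelian 2 E ∧
      Nat.card E = 4 ∧ z ∉ E ∧ (∃ t ∈ E, orderOf t = 2 ∧ ¬ IsConj z t) ∧
      Cfsg.IsQuasisimple ↥(Subgroup.centralizer (E : Set G)) ∧
      ∃ (_ : (E.subgroupOf (Subgroup.centralizer (E : Set G))).Normal) (K : Type) (_ : Field K) (_ : Fintype K),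
        Fintype.card K = 4 ∧ Nonempty (↥(Subgroup.centralizer (E : Set G)) ⧸
          E.subgroupOf (Subgroup.centralizer (E : Set G)) ≃* Cfsg.PSU 6 K 2) := by
  obtain ⟨D⟩ := model_of_type hF
  obtain ⟨B, hN⟩ := Model.ABase.exists_normed hF D
  refine exists_four_of_quot B hF hN ?_ (hX D B hN)
  intro x hx
  have h := B.sE_le_commutator hF hN (Subgroup.mem_subgroupOf.1 hx)
  rw [commutator_def]
  rw [show ⁅B.sC, B.sC⁆ = Subgroup.map B.sC.subtype ⁅(⊤ : Subgroup ↥B.sC), (⊤ : Subgroup ↥B.sC)⁆ by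
    rw [Subgroup.map_commutator, ← MonoidHom.range_eq_map, Subgroup.range_subtype]] at h
  obtain ⟨y, hy, e⟩ := h
  exact (Subtype.ext e : y = x) ▸ hy

end CfsgLib.Spor.LargeFi
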