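import Cfsg.Agent.Lib.Spor.LargeFi.SixData
import Cfsg.Agent.Lib.Spor.LargeFi.SixLocal
import Cfsg.Agent.Lib.Spor.LargeFi.SixCent
import Cfsg.Agent.Lib.Spor.LargeFi.SixPull
import Cfsg.Agent.Lib.Spor.LargeFi.SixShape
import Cfsg.Agent.Lib.KnownB.TypeUSix.OfData

/-!
The centraliser of the four-group of the base: quasisimple with quotient PSU(6,2).
-/

set_option autoImplicit false

namespace CfsgLib.Spor.LargeFi

open Cfsg CfsgLib.KnownB.TypeUSix
open scoped commutatorElement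

namespace Model.ABase

variable {G : Type*} [Group G] [Finite G] {z : G} {Q : Subgroup (Subgroup.centralizer ({z} : Set G))} [Q.Normal]
  {D : Model Q (zH z)} (B : D.ABase)

/-- The quotient is PSU(6,2). -/
theorem sX_iso (hF : Cfsg.IsOfLargeFischerTypeAt z Q) (hN : B.Normed) :
    ∃ (F : Type) (_ : Field F) (_ : Fintype F), Fintype.card F = 4 ∧ Nonempty (B.SX ≃* Cfsg.PSU 6 F 2) :=
  exists_iso_of_data (B.sData_of hF hN (B.sX_local hF hN (B.sA_pull hF hN)) (B.sX_cent hF hN) (B.sA_pull hF hN))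

/-- The centraliser is quasisimple. -/
theorem sC_quasisimple (hF : Cfsg.IsOfLargeFischerTypeAt z Q) (hN : B.Normed) :
    Cfsg.IsQuasisimple ↥B.sC := by
  obtain ⟨F, _, _, hF4, ⟨e⟩⟩ := B.sX_iso hF hN
  refine isQuasisimple_of_psu (C := ↥B.sC) (B.sE.subgroupOf B.sC) (fun x hx =>
    Subgroup.mem_center_iff.2 fun y => Subtype.ext ((Subgroup.mem_centralizer_iff.1 y.2 _ hx).symm)) ?_ hF4 e
  intro x hx
  have h := B.sE_le_commutator hF hN (Subgroup.mem_subgroupOf.1 hx)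
  rw [commutator_def]
  rw [show ⁅B.sC, B.sC⁆ = Subgroup.map B.sC.subtype ⁅(⊤ : Subgroup ↥B.sC), (⊤ : Subgroup ↥B.sC)⁆ by
    rw [Subgroup.map_commutator, ← MonoidHom.range_eq_map, Subgroup.range_subtype]] at h
  obtain ⟨y, hy, he⟩ := h
  exact (Subtype.ext he : y = x) ▸ hy

end Model.ABase

end CfsgLib.Spor.LargeFi
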