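import Cfsg.Agent.Lib.Spor.LargeFi.AActs

/-!
The four-group `E` of three duads on a common triple inside a tetrad of the central involution, and
the quotient `C(E)/E` with its class and plane subgroup.
-/

set_option autoImplicit false
set_option maxRecDepth 100000

namespace CfsgLib.Spor.LargeFi

open CfsgLib.Spor.U62 CfsgLib.ThreeTransp

/-- the codes of the four-group -/
def eL : List ℕ := [0, 32, 64, 96]

theorem eL_check : (eL.all fun m => eL.all fun n => memV eL (Nat.xor m n)) = true := by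
  decide +kernel

theorem eL_small : ([32, 64, 96].all fun n => memV (dL 0 1) n && Nat.blt n 128 &&
    !memV eL (Nat.xor n 1) && Nat.beq (xC n) ([64, 96, 32].getD (n / 32 - 1) 0)) = true := by
  decide +kernel

variable {G : Type*} [Group G] [Finite G] {z : G}

namespace Model.ABase

variable {Q : Subgroup (Subgroup.centralizer ({z} : Set G))} [Q.Normal]
  {D : Model Q (zH z)} (B : D.ABase)

/-- the four-group of three duads -/
noncomputable def sE : Subgroup G where
  carrier := {g | ∃ n ∈ eL, B.elG n = g}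
  one_mem' := ⟨0, by simp [eL], B.elG_zero⟩
  mul_mem' := by
    rintro _ _ ⟨m, hm, rfl⟩ ⟨n, hn, rfl⟩
    refine ⟨Nat.xor m n, ?_, B.elG_xor m n⟩
    have h := List.all_eq_true.1 (List.all_eq_true.1 eL_check m hm) n hn
    exact memV_iff.1 h
  inv_mem' := by
    rintro _ ⟨m, hm, rfl⟩
    refine ⟨m, hm, eq_inv_of_mul_eq_one_left ?_⟩
    rw [← B.elG_xor, show Nat.xor m m = 0 from Nat.xor_self m, B.elG_zero]

theorem mem_sE {g : G} : g ∈ B.sE ↔ ∃ n ∈ eL, B.elG n = g := Iff.rfl

/-- the centraliser of the four-group -/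
noncomputable def sC : Subgroup G := Subgroup.centralizer (B.sE : Set G)

instance : (B.sE.subgroupOf B.sC).Normal :=
  ⟨fun e he c => by
    rw [Subgroup.mem_subgroupOf] at he ⊢
    have h : (e : G) * (c : G) = (c : G) * e := Subgroup.mem_centralizer_iff.1 c.2 _ he
    show (c : G) * (e : G) * (c : G)⁻¹ ∈ B.sE
    rw [← h, mul_inv_cancel_right]
    exact he⟩

/-- the quotient of the centraliser by the four-group -/
abbrev SX := ↥B.sC ⧸ B.sE.subgroupOf B.sC

/-- the projection -/
noncomputable def sπ : ↥B.sC →* B.SX := QuotientGroup.mk' _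

theorem sπ_surj : Function.Surjective B.sπ := QuotientGroup.mk'_surjective _

theorem sπ_eq_iff {u v : ↥B.sC} : B.sπ u = B.sπ v ↔ ∃ e ∈ B.sE, (v : G) = (u : G) * e := by
  rw [sπ, QuotientGroup.mk'_eq_mk']
  constructor
  · rintro ⟨e, he, rfl⟩
    exact ⟨e, he, rfl⟩
  · rintro ⟨e, he, hv⟩
    have hec : e ∈ B.sC := by
      have : e = (u : G)⁻¹ * v := by rw [hv, inv_mul_cancel_left]
      rw [this]
      exact mul_mem (inv_mem u.2) v.2
    exact ⟨⟨e, hec⟩, he, Subtype.ext hv.symm⟩

theorem A0_le_sC : B.A0 ≤ B.sC := fun a ha => Subgroup.mem_centralizer_iff.2 fun e he => by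
  obtain ⟨n, -, rfl⟩ := he
  exact congrArg Subtype.val
    (mul_comm (⟨_, B.elG_mem n⟩ : ↥B.A0) ⟨a, ha⟩)

theorem z_mem_sC : z ∈ B.sC := B.A0_le_sC (by
  have := B.elG_mem 1
  rwa [B.elG_one] at this)

theorem x_mem_normalizer {g : G} (hg : g ∈ B.sE) : (B.x : G) * g * (B.x : G)⁻¹ ∈ B.sE := by
  obtain ⟨n, hn, rfl⟩ := hg
  have h := eL_small
  simp only [List.all_eq_true, Bool.and_eq_true, Nat.beq_eq] at h
  simp only [eL, List.mem_cons, List.not_mem_nil, or_false] at hn
  rcases hn with rfl | rfl | rfl | rfl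
  · exact ⟨0, by simp [eL], by rw [B.elG_zero]; simp⟩
  all_goals
    rw [← B.elG_xC (by norm_num)]
    exact ⟨_, by rw [(h _ (by simp)).2]; simp [eL], rfl⟩

/-- the image of the central involution -/
noncomputable def zS : B.SX := B.sπ ⟨z, B.z_mem_sC⟩

/-- the image of the elementary subgroup -/
noncomputable def sA : Subgroup B.SX := (B.A0.subgroupOf B.sC).map B.sπ

/-- the class -/
def sD : Set B.SX := conjugatesOf B.zS

theorem sE_le_A0 : B.sE ≤ B.A0 := by
  rintro _ ⟨n, -, rfl⟩
  exact B.elG_mem n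

theorem card_sE : Nat.card B.sE = 4 := by
  classical
  have e : (B.sE : Set G) = B.elG '' ((eL.toFinset : Finset ℕ) : Set ℕ) := by
    ext g
    simp only [SetLike.mem_coe, mem_sE, Set.mem_image, Finset.mem_coe, List.mem_toFinset]
  show Nat.card (B.sE : Set G) = 4
  rw [Nat.card_coe_set_eq, e, Set.InjOn.ncard_image, Set.ncard_coe_finset]
  · decide
  · intro a ha b hb h
    simp only [Finset.mem_coe, List.mem_toFinset, eL, List.mem_cons, List.not_mem_nil, or_false] at ha hb
    exact B.elG_injOn (by omega) (by omega) h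

theorem sE_elementary : Cfsg.IsElementaryAbelian 2 B.sE := by
  refine ⟨⟨⟨fun a b => Subtype.ext ?_⟩⟩, fun a ha => ?_⟩
  · exact congrArg (fun t : ↥B.A0 => (t : G))
      (mul_comm (⟨_, B.sE_le_A0 a.2⟩ : ↥B.A0) ⟨_, B.sE_le_A0 b.2⟩)
  · obtain ⟨n, -, rfl⟩ := ha
    rw [pow_two, ← B.elG_xor, show Nat.xor n n = 0 from Nat.xor_self n, B.elG_zero]

theorem sE_le_qG : B.sE ≤ Q.map (Subgroup.centralizer ({z} : Set G)).subtype := by
  rintro _ ⟨n, hn, rfl⟩
  simp only [eL, List.mem_cons, List.not_mem_nil, or_false] at hn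
  exact ⟨B.el n, (B.mem_Q_iff (by omega)).2 (by simp only [pI]; omega), rfl⟩

theorem z_not_mem_sE : z ∉ B.sE := by
  rintro ⟨n, hn, e⟩
  simp only [eL, List.mem_cons, List.not_mem_nil, or_false] at hn
  have := B.elG_injOn (show n < 2048 by omega) (by norm_num) (e.trans B.elG_one.symm)
  omega

theorem sE_not_conj (hF : Cfsg.IsOfLargeFischerTypeAt z Q) (hN : B.Normed) {g : G} (hg : g ∈ B.sE) :
    ¬ IsConj z g := by
  obtain ⟨n, hn, rfl⟩ := hg
  simp only [eL, List.mem_cons, List.not_mem_nil, or_false] at hn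
  rcases hn with rfl | hn
  · intro h
    rw [B.elG_zero] at h
    exact D.xc.ne_one (Subtype.ext (isConj_one_left.1 h))
  · have h := eL_small
    simp only [List.all_eq_true, Bool.and_eq_true, memV_iff] at h
    have hm : n ∈ dL 0 1 := (h n (by simp; tauto)).1.1.1
    have : n ∈ B.dSet := by rw [B.signs hF hN, List.mem_toFinset]; exact hm
    exact (B.mem_dSet.1 this).2.2

theorem zmul_not_mem {g : G} (hg : g ∈ B.sE) : z * g ∉ B.sE := fun h =>
  B.z_not_mem_sE (by simpa using B.sE.mul_mem h (B.sE.inv_mem hg))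

end Model.ABase

end CfsgLib.Spor.LargeFi
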