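import Cfsg.Agent.Lib.Spor.LargeFi.SixTopQ
import Cfsg.Agent.Lib.Spor.Fi22Out.Main
import Cfsg.Agent.Lib.Spor.FischerTypes.M22
import Cfsg.Agent.Lib.ThreeTransp.ProductUnique
import Cfsg.Agent.Lib.Components.FStar

/-!
An outer involution over a group of large Fischer type centralising the derived group of the centraliser
of a small involution of the extraspecial subgroup, and a conjugate of that involution inside it.
-/

set_option autoImplicit false

namespace CfsgLib.Spor.LargeFi.SixTop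

open Cfsg CfsgLib.ThreeTransp
open scoped commutatorElement Pointwise

universe u

section Inner

variable {G : Type u} [Group G] [Finite G]

/-- the derived group of a centraliser -/
def DK (t : G) : Subgroup G :=
  ⁅Subgroup.centralizer ({t} : Set G), Subgroup.centralizer ({t} : Set G)⁆

omit [Finite G] in
theorem DK_le (t : G) : DK t ≤ Subgroup.centralizer ({t} : Set G) := Subgroup.commutator_le_self _

omit [Finite G] in
theorem DK_map (α : G ≃* G) (t : G) : (DK t).map α.toMonoidHom = DK (α t) := by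
  have h1 : (Subgroup.centralizer ({t} : Set G)).map α.toMonoidHom = Subgroup.centralizer ({α t} : Set G) := by
    ext x
    obtain ⟨y, rfl⟩ := α.surjective x
    rw [← MulEquiv.coe_toMonoidHom, Subgroup.mem_map_iff_mem (f := α.toMonoidHom) α.injective,
      Subgroup.mem_centralizer_singleton_iff, Subgroup.mem_centralizer_singleton_iff, MulEquiv.coe_toMonoidHom,
      ← map_mul, ← map_mul, α.injective.eq_iff]
  rw [DK, Subgroup.map_commutator, h1]; rfl

/-- what is known of the centraliser of a small involution -/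
structure Cent22 (t : G) : Prop where
  mem : t ∈ DK t
  qs : Cfsg.IsQuasisimple ↥(DK t)
  perf : ⁅DK t, DK t⁆ = DK t
  prod : ∀ a ∈ Subgroup.centralizer ({t} : Set G), ∀ b ∈ Subgroup.centralizer ({t} : Set G),
    a ∉ DK t → b ∉ DK t → a * b ∈ DK t
  map : ∃ φ : ↥(Subgroup.centralizer ({t} : Set G)) →* MulAut Cfsg.Spor.Fi22, Function.Surjective φ ∧
    (∀ c, φ c = 1 ↔ (c : G) = 1 ∨ (c : G) = t) ∧ ∀ c, φ c ∈ (MulAut.conj (G := Cfsg.Spor.Fi22)).range ↔ (c : G) ∈ DK t

theorem mem_zpowers_of_order_two {H : Type*} [Group H] {t x : H} (ht : t * t = 1) :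
    x ∈ Subgroup.zpowers t ↔ x = 1 ∨ x = t := by
  refine ⟨fun hx => ?_, fun hx => hx.elim (fun r => r ▸ one_mem _) fun r => r ▸ Subgroup.mem_zpowers t⟩
  obtain ⟨k, rfl⟩ := Subgroup.mem_zpowers_iff.1 hx
  have h2 : t ^ (2 : ℤ) = 1 := by rw [zpow_two, ht]
  rcases Int.even_or_odd k with ⟨j, rfl⟩ | ⟨j, rfl⟩
  · left; rw [← two_mul, zpow_mul, h2, one_zpow]
  · right; rw [zpow_add, zpow_mul, h2, one_zpow, one_mul, zpow_one]

theorem cent22_of {t : G} (ht2 : orderOf t = 2) (K : Subgroup ↥(Subgroup.centralizer ({t} : Set G)))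
    [((Subgroup.zpowers t).subgroupOf (Subgroup.centralizer ({t} : Set G))).Normal]
    (hq : Cfsg.IsQuasisimple ↥K) (hK2 : K.index = 2)
    (htK : ∃ htc : t ∈ Subgroup.centralizer ({t} : Set G), (⟨t, htc⟩ : ↥(Subgroup.centralizer ({t} : Set G))) ∈ K)
    (e : Nonempty (↥(Subgroup.centralizer ({t} : Set G)) ⧸
      (Subgroup.zpowers t).subgroupOf (Subgroup.centralizer ({t} : Set G)) ≃* MulAut Cfsg.Spor.Fi22)) :
    Cent22 t := by
  obtain ⟨htc, htK⟩ := htK
  obtain ⟨e⟩ := e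
  haveI : K.Normal := Subgroup.normal_of_index_eq_two hK2
  have hperfK : ⁅K, K⁆ = K := by
    have h0 : commutator ↥K = ⊤ := Group.isPerfect_def.1 hq.1
    have h1 := congrArg (Subgroup.map K.subtype) h0
    rwa [commutator_def, Subgroup.map_commutator, ← MonoidHom.range_eq_map, Subgroup.range_subtype] at h1
  have hcomm : commutator ↥(Subgroup.centralizer ({t} : Set G)) = K := by
    refine le_antisymm ?_ (hperfK ▸ Subgroup.commutator_mono le_top le_top)
    rw [commutator_def, Subgroup.commutator_le]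
    intro a _ b _
    rw [commutatorElement_def]
    by_cases ha : a ∈ K
    · rw [show a * b * a⁻¹ * b⁻¹ = a * (b * a⁻¹ * b⁻¹) by group]
      exact mul_mem ha ((inferInstance : K.Normal).conj_mem _ (inv_mem ha) b)
    by_cases hb : b ∈ K
    · exact mul_mem ((inferInstance : K.Normal).conj_mem _ hb a) (inv_mem hb)
    · have ha' : a⁻¹ ∉ K := fun r => ha (inv_mem_iff.1 r)
      have hb' : b⁻¹ ∉ K := fun r => hb (inv_mem_iff.1 r)
      rw [show a * b * a⁻¹ * b⁻¹ = (a * b) * (a⁻¹ * b⁻¹) by group]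
      exact mul_mem ((Subgroup.mul_mem_iff_of_index_two hK2).2 (iff_of_false ha hb))
        ((Subgroup.mul_mem_iff_of_index_two hK2).2 (iff_of_false ha' hb'))
  have hDK : K.map (Subgroup.centralizer ({t} : Set G)).subtype = DK t := by
    rw [← hcomm, commutator_def, Subgroup.map_commutator, ← MonoidHom.range_eq_map, Subgroup.range_subtype]; rfl
  have hmem : ∀ c : ↥(Subgroup.centralizer ({t} : Set G)), (c : G) ∈ DK t ↔ c ∈ K := fun c => by
    rw [← hDK, ← Subgroup.coe_subtype,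
      Subgroup.mem_map_iff_mem (f := (Subgroup.centralizer ({t} : Set G)).subtype) Subtype.val_injective]
  have heq : K ≃* ↥(DK t) :=
    (K.equivMapOfInjective _ Subtype.val_injective).trans (MulEquiv.subgroupCongr hDK)
  obtain ⟨φ, hφ⟩ : ∃ φ : ↥(Subgroup.centralizer ({t} : Set G)) →* MulAut Cfsg.Spor.Fi22,
      φ = e.toMonoidHom.comp (QuotientGroup.mk' _) := ⟨_, rfl⟩
  have hsurj : Function.Surjective φ := hφ ▸ e.surjective.comp (QuotientGroup.mk'_surjective _)
  have htt : t * t = 1 := by rw [← pow_two, ← ht2]; exact pow_orderOf_eq_one t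
  have hker : ∀ c, φ c = 1 ↔ (c : G) = 1 ∨ (c : G) = t := fun c => by
    rw [hφ, MonoidHom.comp_apply, MulEquiv.coe_toMonoidHom, map_eq_one_iff e e.injective, QuotientGroup.mk'_apply,
      QuotientGroup.eq_one_iff, Subgroup.mem_subgroupOf, mem_zpowers_of_order_two htt]
  haveI : Finite Cfsg.Spor.Fi22 := CfsgLib.Spor.Fi22.finite
  have hInn : (MulAut.conj (G := Cfsg.Spor.Fi22)).range.index = 2 :=
    CfsgLib.SporOut.Fi22.card_out CfsgLib.Spor.Fi22.isFi22.2
  haveI hInnN : (MulAut.conj (G := Cfsg.Spor.Fi22)).range.Normal := Subgroup.normal_of_index_eq_two hInn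
  have hcom : K ≤ (MulAut.conj (G := Cfsg.Spor.Fi22)).range.comap φ := by
    rw [← hperfK, Subgroup.commutator_le]
    intro a _ b _
    rw [Subgroup.mem_comap, map_commutatorElement, commutatorElement_def]
    by_cases ha : φ a ∈ (MulAut.conj (G := Cfsg.Spor.Fi22)).range
    · rw [show φ a * φ b * (φ a)⁻¹ * (φ b)⁻¹ = φ a * (φ b * (φ a)⁻¹ * (φ b)⁻¹) by group]
      exact mul_mem ha (hInnN.conj_mem _ (inv_mem ha) _)
    by_cases hb : φ b ∈ (MulAut.conj (G := Cfsg.Spor.Fi22)).range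
    · exact mul_mem (hInnN.conj_mem _ hb _) (inv_mem hb)
    · rw [show φ a * φ b * (φ a)⁻¹ * (φ b)⁻¹ = (φ a * φ b) * ((φ a)⁻¹ * (φ b)⁻¹) by group]
      exact mul_mem ((Subgroup.mul_mem_iff_of_index_two hInn).2 (iff_of_false ha hb))
        ((Subgroup.mul_mem_iff_of_index_two hInn).2
          (iff_of_false (fun r => ha (inv_mem_iff.1 r)) (fun r => hb (inv_mem_iff.1 r))))
  have hK' : K = (MulAut.conj (G := Cfsg.Spor.Fi22)).range.comap φ := by
    refine Subgroup.eq_of_le_of_card_ge hcom (le_of_eq ?_)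
    have h1 := Subgroup.card_mul_index K
    have h2 := Subgroup.card_mul_index ((MulAut.conj (G := Cfsg.Spor.Fi22)).range.comap φ)
    rw [Subgroup.index_comap_of_surjective _ hsurj, hInn] at h2
    rw [hK2] at h1
    omega
  refine ⟨(hmem ⟨t, htc⟩).2 htK, (CfsgLib.Components.isQuasisimple_congr heq).1 hq, ?_, fun a ha b hb ha' hb' => ?_, φ, hsurj, hker,
    fun c => ?_⟩
  · rw [← hDK, ← Subgroup.map_commutator, hperfK]
  · exact (hmem (⟨a, ha⟩ * ⟨b, hb⟩)).2 ((Subgroup.mul_mem_iff_of_index_two hK2).2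
      (iff_of_false (fun r => ha' ((hmem ⟨a, ha⟩).2 r)) fun r => hb' ((hmem ⟨b, hb⟩).2 r)))
  · rw [hmem c]
    conv_rhs => rw [hK', Subgroup.mem_comap]

theorem inner_centralizer {f : MulAut Cfsg.Spor.Fi22}
    (hf : ∀ g, f * MulAut.conj g * f⁻¹ = MulAut.conj g) : f = 1 := by
  haveI : Finite Cfsg.Spor.Fi22 := CfsgLib.Spor.Fi22.finite
  ext g
  have h1 : MulAut.conj (f g) = MulAut.conj g := by
    rw [← hf g]; ext y; simp
  refine mul_inv_eq_one.1 (Subgroup.mem_bot.1 (CfsgLib.Spor.FischerTypes.typeM22.1.1 ▸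
    Subgroup.mem_center_iff.2 fun y => ?_ : f g * g⁻¹ ∈ (⊥ : Subgroup Cfsg.Spor.Fi22)))
  have h2 := DFunLike.congr_fun h1 (g⁻¹ * y * g)
  simp only [MulAut.conj_apply] at h2
  calc y * (f g * g⁻¹) = g * (g⁻¹ * y * g) * g⁻¹ * (f g * g⁻¹) := by group
    _ = f g * g⁻¹ * y := by rw [← h2]; group

omit [Finite G] in
/-- An element of the centraliser centralising the derived group is in the kernel. -/
theorem Cent22.eq_of_centralizes {t : G} (C : Cent22 t) {m : G} (hm : Commute m t)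
    (h : ∀ k ∈ DK t, Commute m k) : m = 1 ∨ m = t := by
  obtain ⟨φ, hs, hk, hi⟩ := C.map
  have hm' : m ∈ Subgroup.centralizer ({t} : Set G) := Subgroup.mem_centralizer_singleton_iff.2 hm.eq
  refine (hk ⟨m, hm'⟩).1 (inner_centralizer fun g => ?_)
  obtain ⟨c, hc⟩ := hs (MulAut.conj g)
  have hcm : Commute (⟨m, hm'⟩ : Subgroup.centralizer ({t} : Set G)) c :=
    Subtype.ext (h c ((hi c).1 (hc ▸ ⟨g, rfl⟩))).eq
  rw [← hc, (hcm.map φ).eq, mul_inv_cancel_right]

end Inner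

/-- The standing hypotheses over a group of large Fischer type. -/
structure Sit {X : Type u} [Group X] (G₀ : Subgroup X) (z : ↥G₀)
    (Q : Subgroup (Subgroup.centralizer ({z} : Set ↥G₀))) [Q.Normal] (E : Subgroup ↥G₀) : Prop where
  hidx : G₀.index = 2
  hF : Cfsg.IsOfLargeFischerTypeAt z Q
  hcentral : ∃ P : Sylow 2 ↥G₀, z ∈ (P : Subgroup ↥G₀) ∧ ∀ x ∈ (P : Subgroup ↥G₀), Commute x z
  hFX : (Cfsg.generalizedFittingSubgroup ↥(Subgroup.centralizer ({(z : X)} : Set X))).map (Subgroup.subtype _) =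
    ((Q.map (Subgroup.subtype _)).map G₀.subtype)
  eQ : E ≤ qG Q
  eEl : Cfsg.IsElementaryAbelian 2 E
  eCard : Nat.card E = 4
  eZ : z ∉ E
  eConj : ∀ e ∈ E, ¬ IsConj z e
  eQS : Cfsg.IsQuasisimple ↥(Subgroup.centralizer (E : Set ↥G₀))
  ePSU : ∃ (_ : (E.subgroupOf (Subgroup.centralizer (E : Set ↥G₀))).Normal) (K : Type) (_ : Field K) (_ : Fintype K),
    Fintype.card K = 4 ∧ Nonempty (↥(Subgroup.centralizer (E : Set ↥G₀)) ⧸
      E.subgroupOf (Subgroup.centralizer (E : Set ↥G₀)) ≃* Cfsg.PSU 6 K 2)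
  cent : ∀ t : ↥G₀, t ∈ qG Q → orderOf t = 2 → ¬ IsConj z t → Cent22 t

variable {X : Type u} [Group X] [Finite X] {G₀ : Subgroup X} {z : ↥G₀}
  {Q : Subgroup (Subgroup.centralizer ({z} : Set ↥G₀))} [Q.Normal] {E : Subgroup ↥G₀}

/-- an outer mate of a small involution -/
structure Mate (z t : ↥G₀) (d : X) : Prop where
  out : d ∉ G₀
  cz : Commute d (z : X)
  ct : Commute d (t : X)
  ck : ∀ k ∈ DK t, Commute d (k : X)

omit [Finite X] [Q.Normal] in
theorem Sit.normal [Q.Normal] (S : Sit G₀ z Q E) : G₀.Normal := Subgroup.normal_of_index_eq_two S.hidx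

omit [Finite X] in
theorem commute_coe {a b : ↥G₀} : Commute (a : X) (b : X) ↔ Commute a b :=
  ⟨fun h => Subtype.ext h.eq, fun h => congrArg Subtype.val h.eq⟩

omit [Finite X] in
theorem Sit.e_order (S : Sit G₀ z Q E) {e : ↥G₀} (he : e ∈ E) (h1 : e ≠ 1) :
    orderOf e = 2 ∧ e * e = 1 := by
  have h2 : e ^ 2 = 1 := S.eEl.2 e he
  haveI := Fact.mk Nat.prime_two
  exact ⟨orderOf_eq_prime h2 h1, by rw [← pow_two]; exact h2⟩

omit [Finite X] in
theorem Sit.e_sq (S : Sit G₀ z Q E) {e : ↥G₀} (he : e ∈ E) : e * e = 1 := by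
  rw [← pow_two]; exact S.eEl.2 e he

omit [Finite X] in
theorem Sit.e_comm (S : Sit G₀ z Q E) {a b : ↥G₀} (ha : a ∈ E) (hb : b ∈ E) : Commute a b :=
  congrArg Subtype.val (S.eEl.1.is_comm.comm ⟨a, ha⟩ ⟨b, hb⟩)

theorem Sit.cent_of (S : Sit G₀ z Q E) {e : ↥G₀} (he : e ∈ E) (h1 : e ≠ 1) : Cent22 e :=
  S.cent e (S.eQ he) (S.e_order he h1).1 (S.eConj e he)

omit [Finite X] in
theorem Sit.cE_le (S : Sit G₀ z Q E) {e : ↥G₀} (he : e ∈ E) :
    Subgroup.centralizer (E : Set ↥G₀) ≤ DK e := by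
  have h0 : commutator ↥(Subgroup.centralizer (E : Set ↥G₀)) = ⊤ := Group.isPerfect_def.1 S.eQS.1
  have h1 := congrArg (Subgroup.map (Subgroup.centralizer (E : Set ↥G₀)).subtype) h0
  rw [commutator_def, Subgroup.map_commutator, ← MonoidHom.range_eq_map, Subgroup.range_subtype] at h1
  have hle : Subgroup.centralizer (E : Set ↥G₀) ≤ Subgroup.centralizer ({e} : Set ↥G₀) :=
    Subgroup.centralizer_le (Set.singleton_subset_iff.2 he)
  rw [← h1]
  exact Subgroup.commutator_mono hle hle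

theorem Sit.ext (S : Sit G₀ z Q E) : Ext (qG Q) z := ext_of_type S.hF

theorem Sit.z_mem_cE (S : Sit G₀ z Q E) : z ∈ Subgroup.centralizer (E : Set ↥G₀) :=
  Subgroup.mem_centralizer_iff.2 fun e he => (S.ext.central e (S.eQ he)).eq

/-- Conjugates of the central involution in the overgroup are conjugates below. -/
theorem Sit.zconj (S : Sit G₀ z Q E) (x : X) :
    haveI := S.normal
    IsConj z (MulAut.conjNormal x z) := by
  haveI := S.normal
  obtain ⟨P, hzP, hP⟩ := S.hcentral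
  obtain ⟨α, hα⟩ : ∃ α : MulAut ↥G₀, α = MulAut.conjNormal x := ⟨_, rfl⟩
  rw [← hα]
  obtain ⟨g, hg⟩ := MulAction.exists_smul_eq ↥G₀ (P.mapSurjective (f := α.toMonoidHom) α.surjective) P
  obtain ⟨w, hw⟩ : ∃ w, w = g * α z * g⁻¹ := ⟨_, rfl⟩
  have hmem : ∀ a, a ∈ (P : Subgroup ↥G₀) ↔ ∃ b ∈ (P : Subgroup ↥G₀), g * α b * g⁻¹ = a := fun a => by
    conv_lhs => rw [← hg, Sylow.coe_subgroup_smul, Subgroup.mem_pointwise_smul_iff_inv_smul_mem]
    change (MulAut.conj g)⁻¹ • a ∈ Subgroup.map α.toMonoidHom (P : Subgroup ↥G₀) ↔ _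
    rw [Subgroup.mem_map]
    refine exists_congr fun b => and_congr_right fun _ => ?_
    rw [MulEquiv.coe_toMonoidHom, MulAut.smul_def, ← map_inv, MulAut.conj_apply, inv_inv]
    exact ⟨fun h => by rw [h]; group, fun h => by rw [← h]; group⟩
  have hwc : ∀ a ∈ (P : Subgroup ↥G₀), Commute w a := fun a ha => by
    obtain ⟨b, hb, rfl⟩ := (hmem a).1 ha
    rw [hw]
    exact (commute_conj_iff g).2 ((hP b hb).symm.map α)
  have hle : qG Q ≤ (P : Subgroup ↥G₀) := by
    obtain ⟨-, hE, -, -⟩ := S.hF.1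
    have hQ2 : IsPGroup 2 ↥Q := IsPGroup.of_card (n := 13) (by
      obtain ⟨-, -, -, hc, -⟩ := S.hF.1
      exact hc)
    have hn : (P : Subgroup ↥G₀) ≤ Subgroup.normalizer (qG Q : Set ↥G₀) := fun c hc => by
      rw [Subgroup.mem_normalizer_iff]
      intro a
      refine ⟨fun ha => S.ext.norm c (hP c hc) a ha, fun ha => ?_⟩
      have := S.ext.norm c⁻¹ (hP c hc).inv_left _ ha
      rwa [show c⁻¹ * (c * a * c⁻¹) * c⁻¹⁻¹ = a by group] at this
    have hsup := IsPGroup.to_sup_of_normal_right' P.isPGroup'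
      (hQ2.map (Subgroup.centralizer ({z} : Set ↥G₀)).subtype) hn
    exact le_sup_right.trans (P.is_maximal' hsup le_sup_left).le
  have hz1 : z ≠ 1 := fun r => by
    have h := S.hF.1.1
    rw [r, orderOf_one] at h
    omega
  rcases S.ext.cent w (hwc z hzP) fun a ha => hwc a (hle ha) with r | r
  · exact absurd (map_eq_one_iff α α.injective |>.1 (conj_eq_one_iff.1 (hw ▸ r))) hz1
  · exact isConj_iff.2 ⟨g⁻¹, (congrArg (fun u => g⁻¹ * u * g⁻¹⁻¹) (r.symm.trans hw)).trans (by group)⟩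

theorem Sit.mem_of_centralizes (S : Sit G₀ z Q E) {x : X} (hx : Commute x (z : X))
    (h : ∀ a ∈ qG Q, Commute x (a : X)) : x ∈ G₀ := by
  obtain ⟨C, hC⟩ : ∃ C, C = Subgroup.centralizer ({(z : X)} : Set X) := ⟨_, rfl⟩
  have hxC : x ∈ Subgroup.centralizer ({(z : X)} : Set X) := Subgroup.mem_centralizer_singleton_iff.2 hx.eq
  have h1 : (⟨x, hxC⟩ : ↥(Subgroup.centralizer ({(z : X)} : Set X))) ∈ Cfsg.generalizedFittingSubgroup _ :=
    CfsgLib.Components.centralizer_fstar_le (Subgroup.mem_centralizer_iff.2 fun f hf => Subtype.ext (by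
      have h2 : (f : X) ∈ (qG Q).map G₀.subtype := S.hFX ▸ Subgroup.mem_map_of_mem _ hf
      obtain ⟨a, ha, hae⟩ := h2
      show (f : X) * x = x * f
      rw [← hae]
      exact (h a ha).symm.eq))
  have h2 : x ∈ (qG Q).map G₀.subtype := S.hFX ▸ Subgroup.mem_map_of_mem _ h1
  obtain ⟨a, -, rfl⟩ := h2
  exact a.2

theorem Sit.conj_mem (S : Sit G₀ z Q E) {x : X} (hx : Commute x (z : X)) {a : ↥G₀} (ha : a ∈ qG Q) :
    haveI := S.normal
    MulAut.conjNormal x a ∈ qG Q := by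
  haveI := S.normal
  have hxC : x ∈ Subgroup.centralizer ({(z : X)} : Set X) := Subgroup.mem_centralizer_singleton_iff.2 hx.eq
  haveI : (Cfsg.generalizedFittingSubgroup ↥(Subgroup.centralizer ({(z : X)} : Set X))).Normal := inferInstance
  have h1 : (a : X) ∈ (qG Q).map G₀.subtype := Subgroup.mem_map_of_mem _ ha
  rw [show (qG Q).map G₀.subtype = _ from S.hFX.symm] at h1
  obtain ⟨f, hf, hfe⟩ := h1
  have h2 : x * (f : X) * x⁻¹ ∈ (qG Q).map G₀.subtype := S.hFX ▸
    Subgroup.mem_map_of_mem _ (Subgroup.Normal.conj_mem inferInstance f hf ⟨x, hxC⟩)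
  obtain ⟨b, hb, hbe⟩ := h2
  rw [show MulAut.conjNormal x a = b from Subtype.ext ?_]
  · exact hb
  · rw [MulAut.conjNormal_apply]
    exact ((congrArg (fun y => x * y * x⁻¹) hfe.symm).trans hbe.symm)

/-- Something outside fixes the pair of involutions. -/
theorem Sit.exists_fix (S : Sit G₀ z Q E) {t : ↥G₀} (htE : t ∈ E) (ht1 : t ≠ 1) :
    ∃ x : X, x ∉ G₀ ∧ Commute x (z : X) ∧ Commute x (t : X) := by
  haveI := S.normal
  obtain ⟨x₀, hx₀⟩ : ∃ x : X, x ∉ G₀ := by
    by_contra hno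
    push Not at hno
    have := S.hidx
    rw [show G₀ = ⊤ from eq_top_iff.2 fun x _ => hno x, Subgroup.index_top] at this
    omega
  obtain ⟨g, hg⟩ := isConj_iff.1 (S.zconj x₀)
  obtain ⟨x₁, hx₁⟩ : ∃ x₁, x₁ = (g : X)⁻¹ * x₀ := ⟨_, rfl⟩
  have hx1z : Commute x₁ (z : X) := mul_inv_eq_iff_eq_mul.1 (by
    have h1 := congrArg (fun y : ↥G₀ => (y : X)) hg
    simp only [Subgroup.coe_mul, InvMemClass.coe_inv, MulAut.conjNormal_apply] at h1
    rw [hx₁, show (g : X)⁻¹ * x₀ * z * ((g : X)⁻¹ * x₀)⁻¹ = (g : X)⁻¹ * (x₀ * z * x₀⁻¹) * g by group, ← h1]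
    group)
  have hfz : MulAut.conjNormal x₁ z = z := Subtype.ext (by
    rw [MulAut.conjNormal_apply, hx1z.eq, mul_inv_cancel_right])
  obtain ⟨hord, -⟩ := S.e_order htE ht1
  obtain ⟨h, hhz, hht⟩ := conj_small S.hF (S.eQ htE) (S.conj_mem hx1z (S.eQ htE)) hord
    (by rw [MulEquiv.orderOf_eq]; exact hord) (S.eConj t htE) fun hc => by
      obtain ⟨g', hg'⟩ := isConj_iff.1 hc
      refine S.eConj t htE (isConj_iff.2 ⟨(MulAut.conjNormal x₁).symm g', ?_⟩)
      refine (MulAut.conjNormal x₁).injective ?_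
      rw [map_mul, map_mul, map_inv, MulEquiv.apply_symm_apply, hfz, hg']
  refine ⟨(h : X)⁻¹ * x₁, fun r => hx₀ ?_, (commute_coe.2 hhz).inv_left.mul_left hx1z, mul_inv_eq_iff_eq_mul.1 ?_⟩
  · have h1 : (g : X) * ((h : X) * ((h : X)⁻¹ * x₁)) ∈ G₀ := mul_mem g.2 (mul_mem h.2 r)
    rwa [mul_inv_cancel_left, hx₁, mul_inv_cancel_left] at h1
  · have h1 := congrArg (fun y : ↥G₀ => (y : X)) hht
    simp only [Subgroup.coe_mul, InvMemClass.coe_inv, MulAut.conjNormal_apply] at h1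
    rw [show (h : X)⁻¹ * x₁ * t * ((h : X)⁻¹ * x₁)⁻¹ = (h : X)⁻¹ * (x₁ * t * x₁⁻¹) * h by group, ← h1]
    group

/-- A mate exists. -/
theorem Sit.exists_mate (S : Sit G₀ z Q E) {t : ↥G₀} (htE : t ∈ E) (ht1 : t ≠ 1) : ∃ d, Mate z t d := by
  haveI := S.normal
  haveI : Finite Cfsg.Spor.Fi22 := CfsgLib.Spor.Fi22.finite
  obtain ⟨x, hx, hxz, hxt⟩ := S.exists_fix htE ht1
  have C := S.cent_of htE ht1
  obtain ⟨φ, hφs, hφk, hφi⟩ := C.map
  obtain ⟨α, hα⟩ : ∃ α : MulAut ↥G₀, α = MulAut.conjNormal x := ⟨_, rfl⟩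
  have hαt : α t = t := Subtype.ext (by rw [hα, MulAut.conjNormal_apply, hxt.eq, mul_inv_cancel_right])
  have hαK : ∀ k ∈ DK t, α k ∈ DK t := fun k hk => by
    have h1 := Subgroup.mem_map_of_mem α.toMonoidHom hk
    rwa [DK_map, hαt] at h1
  have hinj : Function.Injective (MulAut.conj (G := Cfsg.Spor.Fi22)) := by
    rw [← MonoidHom.ker_eq_bot_iff, eq_bot_iff, ← CfsgLib.Spor.FischerTypes.typeM22.1.1]
    intro a ha
    refine Subgroup.mem_center_iff.2 fun y => ?_
    have h1 := DFunLike.congr_fun (MonoidHom.mem_ker.1 ha) y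
    rw [MulAut.conj_apply, MulAut.one_apply, mul_inv_eq_iff_eq_mul] at h1
    exact h1.symm
  obtain ⟨ψ, hψ⟩ : ∃ ψ : ↥(DK t) →* Cfsg.Spor.Fi22,
      ∀ k, MulAut.conj (ψ k) = φ ⟨k.1, DK_le t k.2⟩ := by
    refine ⟨(MonoidHom.ofInjective hinj).symm.toMonoidHom.comp
      ((φ.comp (Subgroup.inclusion (DK_le t))).codRestrict _ fun k => (hφi _).2 k.2), fun k => ?_⟩
    exact congrArg Subtype.val ((MonoidHom.ofInjective hinj).apply_symm_apply ⟨_, (hφi _).2 k.2⟩)
  have hψs : Function.Surjective ψ := fun a => by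
    obtain ⟨c, hc⟩ := hφs (MulAut.conj a)
    exact ⟨⟨c.1, (hφi c).1 (hc ▸ ⟨a, rfl⟩)⟩, hinj (by rw [hψ]; exact hc)⟩
  obtain ⟨σ, hσ⟩ : ∃ σ : ↥(DK t) →* ↥(DK t), ∀ k, (σ k : ↥G₀) = α k :=
    ⟨(α.toMonoidHom.comp (DK t).subtype).codRestrict _ fun k => hαK k k.2, fun _ => rfl⟩
  have hker : ψ.ker ≤ (ψ.comp σ).ker := fun k hk => by
    rw [MonoidHom.mem_ker] at hk ⊢
    refine hinj ?_
    rw [MonoidHom.comp_apply, hψ, map_one, hφk]
    have h1 := (hφk ⟨k.1, DK_le t k.2⟩).1 (by rw [← hψ, hk, map_one])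
    exact h1.imp (fun r => by show (σ k : ↥G₀) = 1; rw [hσ, show (k : ↥G₀) = 1 from r, map_one])
      fun r => by show (σ k : ↥G₀) = t; rw [hσ, show (k : ↥G₀) = t from r, hαt]
  obtain ⟨χ, hχ⟩ : ∃ χ : Cfsg.Spor.Fi22 →* Cfsg.Spor.Fi22, ∀ k, χ (ψ k) = ψ (σ k) :=
    ⟨ψ.liftOfSurjective hψs ⟨ψ.comp σ, hker⟩, fun k => MonoidHom.liftOfRightInverse_comp_apply _ _ _ _ k⟩
  have hσs : Function.Surjective σ := Finite.injective_iff_surjective.1 fun a b he =>
    Subtype.ext (α.injective (by rw [← hσ, ← hσ, he]))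
  have hχs : Function.Surjective χ := fun a => by
    obtain ⟨k, rfl⟩ := hψs a
    obtain ⟨j, rfl⟩ := hσs k
    exact ⟨ψ j, hχ j⟩
  obtain ⟨c, hc⟩ := hφs (MulEquiv.ofBijective χ ⟨Finite.injective_iff_surjective.2 hχs, hχs⟩)
  have htz : ∀ k ∈ DK t, Commute k t := fun k hk => Subgroup.mem_centralizer_singleton_iff.1 (DK_le t hk)
  have hck : ∀ k ∈ DK t, ∃ s, (s = 1 ∨ s = t) ∧ c.1 * k * c.1⁻¹ = α k * s := by
    intro k hk
    refine ⟨(α k)⁻¹ * (c.1 * k * c.1⁻¹), ?_, by group⟩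
    obtain ⟨a, ha⟩ : ∃ a : ↥(DK t), a = ⟨k, hk⟩ := ⟨_, rfl⟩
    have key : φ (⟨(σ a).1, DK_le t (σ a).2⟩⁻¹ * (c * ⟨a.1, DK_le t a.2⟩ * c⁻¹)) = 1 := by
      rw [map_mul, map_mul, map_mul, map_inv, map_inv, hc, ← hψ, ← hψ, inv_mul_eq_one, ← hχ]
      ext y
      simp only [MulAut.conj_apply, MulAut.mul_apply, MulAut.inv_apply, map_mul, map_inv, MulEquiv.apply_symm_apply]
      rfl
    have h1 := (hφk _).1 key
    simp only [Subgroup.coe_mul, InvMemClass.coe_inv, hσ, ha] at h1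
    exact h1
  obtain ⟨d, hd⟩ : ∃ d, d = (c.1 : X)⁻¹ * x := ⟨_, rfl⟩
  have hdk : ∀ k ∈ DK t, ∃ s, (s = 1 ∨ s = t) ∧ d * (k : X) * d⁻¹ = ((k * s : ↥G₀) : X) := by
    intro k hk
    obtain ⟨s, hs, he⟩ := hck k hk
    refine ⟨s, hs, ?_⟩
    have h1 : MulAut.conjNormal x k = c.1 * k * c.1⁻¹ * s⁻¹ := by rw [he, hα]; group
    have h2 : x * (k : X) * x⁻¹ = (c.1 : X) * k * (c.1 : X)⁻¹ * (s : X)⁻¹ := by
      have := congrArg (fun y : ↥G₀ => (y : X)) h1
      simpa using this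
    have hsc : Commute (s : X) (c.1 : X) := by
      rcases hs with rfl | rfl
      · exact Commute.one_left _
      · exact commute_coe.2 (Subgroup.mem_centralizer_singleton_iff.1 c.2).symm
    have hss : (s : X)⁻¹ = s := by
      rcases hs with rfl | rfl
      · simp
      · rw [← InvMemClass.coe_inv, inv_eq_of_mul_eq_one_right (S.e_order htE ht1).2]
    rw [hd, show (c.1 : X)⁻¹ * x * k * ((c.1 : X)⁻¹ * x)⁻¹ = (c.1 : X)⁻¹ * (x * k * x⁻¹) * c.1 by group, h2, hss,
      show (c.1 : X)⁻¹ * ((c.1 : X) * k * (c.1 : X)⁻¹ * s) * c.1 = k * ((c.1 : X)⁻¹ * (s * c.1)) by group, hsc.eq,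
      inv_mul_cancel_left]
    rfl
  have hct : Commute d (t : X) := by
    rw [hd]
    exact (commute_coe.2 (Subgroup.mem_centralizer_singleton_iff.1 c.2)).inv_left.mul_left hxt
  have hall : ∀ k ∈ DK t, Commute d (k : X) := by
    have hle : ⁅DK t, DK t⁆ ≤ (Subgroup.centralizer ({d} : Set X)).subgroupOf G₀ := by
      rw [Subgroup.commutator_le]
      intro a ha b hb
      rw [Subgroup.mem_subgroupOf, Subgroup.mem_centralizer_singleton_iff]
      refine (mul_inv_eq_iff_eq_mul.1 ?_).symm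
      obtain ⟨s, hs, hsa⟩ := hdk a ha
      obtain ⟨r, hr, hrb⟩ := hdk b hb
      have hcen : ∀ {s : ↥G₀}, s = 1 ∨ s = t → ∀ k ∈ DK t, Commute s k := fun hs k hk => by
        rcases hs with rfl | rfl
        exacts [Commute.one_left k, (htz k hk).symm]
      have hst : ∀ {s : ↥G₀}, s = 1 ∨ s = t → Commute r s := fun hs => by
        rcases hs with rfl | rfl
        · exact Commute.one_right r
        · rcases hr with rfl | rfl
          exacts [Commute.one_left _, Commute.refl _]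
      have he : ⁅a * s, b * r⁆ = ⁅a, b⁆ := by
        have e1 : ∀ {u v w : ↥G₀}, Commute w u → Commute w v → ⁅u * w, v⁆ = ⁅u, v⁆ := fun {u v w} _ h2 => by
          rw [commutatorElement_def, commutatorElement_def, _root_.mul_inv_rev,
            show u * w * v * (w⁻¹ * u⁻¹) * v⁻¹ = u * (w * v * w⁻¹) * u⁻¹ * v⁻¹ by group, h2.eq, mul_inv_cancel_right]
        rw [e1 (hcen hs a ha) ((hcen hs b hb).mul_right (hst hs).symm), ← commutatorElement_inv (b * r) a,
          e1 (hcen hr b hb) (hcen hr a ha), commutatorElement_inv]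
      calc d * (⁅a, b⁆ : ↥G₀) * d⁻¹ = ⁅d * (a : X) * d⁻¹, d * (b : X) * d⁻¹⁆ := by
            simp only [commutatorElement_def, Subgroup.coe_mul, InvMemClass.coe_inv]; group
        _ = ((⁅a * s, b * r⁆ : ↥G₀) : X) := by
            rw [hsa, hrb]; simp only [commutatorElement_def, Subgroup.coe_mul, InvMemClass.coe_inv]
        _ = _ := by rw [he]
    intro k hk
    have h1 := hle (C.perf.symm ▸ hk)
    rw [Subgroup.mem_subgroupOf, Subgroup.mem_centralizer_singleton_iff] at h1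
    exact h1.symm
  exact ⟨d, fun r => hx (by
      have := mul_mem c.1.2 r
      rwa [hd, mul_inv_cancel_left] at this),
    hall z (S.cE_le htE S.z_mem_cE), hct, hall⟩

/-- A mate is an involution moving something of the extraspecial subgroup. -/
theorem Sit.mate_props (S : Sit G₀ z Q E) {t : ↥G₀} (htE : t ∈ E) (ht1 : t ≠ 1) {d : X} (M : Mate z t d) :
    d * d = 1 ∧ ∃ r ∈ qG Q, Commute t r ∧ ¬ Commute d (r : X) := by
  haveI := S.normal
  have Xe := S.ext
  have htR := S.eQ htE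
  have htz : t ≠ z := fun r => S.eZ (r ▸ htE)
  obtain ⟨α, hα⟩ : ∃ α : MulAut ↥G₀, α = MulAut.conjNormal d := ⟨_, rfl⟩
  have hαc : ∀ {a : ↥G₀}, Commute d (a : X) → α a = a := fun {a} h =>
    Subtype.ext (by rw [hα, MulAut.conjNormal_apply, h.eq, mul_inv_cancel_right])
  have hcα : ∀ {a : ↥G₀}, α a = a → Commute d (a : X) := fun {a} h => by
    have h1 := congrArg (fun y : ↥G₀ => (y : X)) h
    simp only [hα, MulAut.conjNormal_apply] at h1
    exact mul_inv_eq_iff_eq_mul.1 h1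
  have hfix : ∀ a ∈ qG Q, (∀ e ∈ E, Commute e a) → α a = a := fun a _ h =>
    hαc (M.ck a (S.cE_le htE (Subgroup.mem_centralizer_iff.2 fun e he => (h e he).eq)))
  have hαz : α z = z := hαc M.cz
  have hαQ : ∀ y ∈ qG Q, α y ∈ qG Q := fun y hy => hα ▸ S.conj_mem M.cz hy
  have hw : ∀ y ∈ qG Q, α (α y) = y ∧ ∃ e ∈ E, y⁻¹ * α y = e ∨ y⁻¹ * α y = z * e := by
    intro y hy
    obtain ⟨w, hwd⟩ : ∃ w, w = y⁻¹ * α y := ⟨_, rfl⟩
    have hwR : w ∈ qG Q := hwd ▸ mul_mem (inv_mem hy) (hαQ y hy)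
    obtain ⟨e, he, hwe⟩ := Xe.double S.eQ S.eCard (fun a ha => S.e_sq ha) S.eZ hwR (by
      intro a ha hEa
      have ha' : y * a * y⁻¹ = a ∨ y * a * y⁻¹ = z * a := (Xe.comm y hy a ha).imp
        (fun r => by rw [r.eq, mul_inv_cancel_right]) fun r => by rw [r]; group
      have hfx : α (y * a * y⁻¹) = y * a * y⁻¹ := by
        rcases ha' with r | r <;> rw [r]
        · exact hfix a ha hEa
        · rw [map_mul, hαz, hfix a ha hEa]
      refine mul_inv_eq_iff_eq_mul.1 ?_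
      rw [map_mul, map_mul, map_inv, hfix a ha hEa] at hfx
      rw [hwd, show y⁻¹ * α y * a * (y⁻¹ * α y)⁻¹ = y⁻¹ * (α y * a * (α y)⁻¹) * y by group, hfx]
      group)
    have hw2 : w * w = 1 ∧ α w = w := by
      have hez : Commute e z := Xe.central e (S.eQ he)
      have hae : α e = e := hfix e (S.eQ he) fun e' he' => S.e_comm he' he
      rcases hwe with rfl | rfl
      · exact ⟨S.e_sq he, hae⟩
      · exact ⟨by rw [← hez.eq, show e * z * (e * z) = e * (z * e) * z by group, ← hez.eq,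
          show e * (e * z) * z = (e * e) * (z * z) by group, S.e_sq he, Xe.zz, one_mul],
          by rw [map_mul, hαz, hae]⟩
    refine ⟨?_, e, he, hwd ▸ hwe⟩
    have h1 : α y = y * w := by rw [hwd, mul_inv_cancel_left]
    rw [h1, map_mul, hw2.2, h1, mul_assoc, hw2.1, mul_one]
  refine ⟨?_, ?_⟩
  · obtain ⟨m, hm⟩ : ∃ m : ↥G₀, (m : X) = d * d :=
      ⟨⟨d * d, (Subgroup.mul_mem_iff_of_index_two S.hidx).2 Iff.rfl⟩, rfl⟩
    have hmc : ∀ {a : ↥G₀}, Commute d (a : X) → Commute m a := fun {a} h =>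
      commute_coe.1 (hm ▸ h.mul_left h)
    rcases (S.cent_of htE ht1).eq_of_centralizes (hmc M.ct) (fun k hk => hmc (M.ck k hk)) with r | r
    · rw [← hm, r]; rfl
    · exfalso
      rcases Xe.cent m (hmc M.cz) (fun y hy => commute_coe.1 (mul_inv_eq_iff_eq_mul.1 (by
          have h1 := congrArg (fun w : ↥G₀ => (w : X)) (hw y hy).1
          simp only [hα, MulAut.conjNormal_apply] at h1
          rw [hm]
          rw [show d * d * y * (d * d)⁻¹ = d * (d * y * d⁻¹) * d⁻¹ by group, h1]))) with r' | r'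
      · exact ht1 (r.symm.trans r')
      · exact htz (r.symm.trans r')
  · by_contra hno
    push Not at hno
    have hfix2 : ∀ a ∈ qG Q, Commute t a → α a = a := fun a ha hta => hαc (hno a ha hta)
    obtain ⟨y, hy, hty⟩ := Xe.exists_move htR ht1 htz
    obtain ⟨w, hwd⟩ : ∃ w, w = y⁻¹ * α y := ⟨_, rfl⟩
    have hwR : w ∈ qG Q := hwd ▸ mul_mem (inv_mem hy) (hαQ y hy)
    have hay : α y = y * w := by rw [hwd, mul_inv_cancel_left]
    have hcases := Xe.single htR ht1 htz (S.e_sq htE) hwR (fun a ha hta => by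
      have h2 : y * a * y⁻¹ = a ∨ y * a * y⁻¹ = z * a := (Xe.comm y hy a ha).imp
        (fun r => by rw [r.eq, mul_inv_cancel_right]) fun r => by rw [r]; group
      have hfx : α (y * a * y⁻¹) = y * a * y⁻¹ := by
        rcases h2 with r | r <;> rw [r]
        · exact hfix2 a ha hta
        · rw [map_mul, hαz, hfix2 a ha hta]
      refine mul_inv_eq_iff_eq_mul.1 ?_
      rw [map_mul, map_mul, map_inv, hfix2 a ha hta] at hfx
      rw [hwd, show y⁻¹ * α y * a * (y⁻¹ * α y)⁻¹ = y⁻¹ * (α y * a * (α y)⁻¹) * y by group, hfx]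
      group)
    have hall : ∀ β : MulAut ↥G₀, (∀ a ∈ qG Q, Commute t a → β a = a) → β y = y → ∀ a ∈ qG Q, β a = a := by
      intro β h1 h2 a ha
      by_cases hta : Commute t a
      · exact h1 a ha hta
      · have h3 := h1 _ (mul_mem ha hy) (Xe.mul_not' ha hy htR hta hty)
        rw [map_mul, h2] at h3
        exact mul_right_cancel h3
    have hsq : α (y * y) = y * y := by
      rcases Xe.sq y hy with r | r <;> rw [r]
      exacts [map_one α, hαz]
    have hzy : Commute z y := (Xe.central y hy).symm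
    have hbad : ∀ u : ↥G₀, w = u → ¬ Commute u y → u ∈ qG Q → u * u = 1 → False := by
      intro u hwu huy hu huu
      have h1 := (Xe.comm u hu y hy).resolve_left huy
      rw [map_mul, hay, hwu] at hsq
      refine huy ?_
      have h2 : y * z * (y * (u * u)) = y * y := by
        rw [← hsq, show y * u * (y * u) = y * (u * y) * u by group, h1]; group
      rw [huu, mul_one, mul_assoc] at h2
      have h3 : z = 1 := mul_eq_right.1 (mul_left_cancel h2)
      show u * y = y * u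
      rw [h1, h3, one_mul]
    rcases hcases with r | r | r | r
    · rw [r, mul_one] at hay
      exact M.out (S.mem_of_centralizes M.cz fun a ha => hcα (hall α hfix2 hay a ha))
    · refine M.out ((mul_mem_cancel_right t.2).1 (S.mem_of_centralizes (x := d * (t : X))
        (M.cz.mul_left (commute_coe.2 (Xe.central t htR))) fun a ha => ?_))
      refine mul_inv_eq_iff_eq_mul.1 ?_
      have h1 := congrArg (fun u : ↥G₀ => (u : X)) (hall ((MulAut.conj t).trans α) (fun b hb htb => by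
          show α (MulAut.conj t b) = b
          rw [MulAut.conj_apply, htb.eq, mul_inv_cancel_right, hfix2 b hb htb]) (by
          show α (MulAut.conj t y) = y
          rw [MulAut.conj_apply, (Xe.comm t htR y hy).resolve_left hty,
            show z * (y * t) * t⁻¹ = z * y by group, map_mul, hαz, hay, r, ← mul_assoc, hzy.eq, mul_assoc, Xe.zz,
            mul_one]) a ha)
      simp only [MulEquiv.trans_apply, MulAut.conj_apply, hα, MulAut.conjNormal_apply, Subgroup.coe_mul,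
        InvMemClass.coe_inv] at h1
      refine Eq.trans ?_ h1
      group
    · exact hbad t r hty htR (S.e_sq htE)
    · refine hbad (z * t) r (fun hc => hty ?_) (mul_mem Xe.mem htR) ?_
      · simpa [← mul_assoc, Xe.zz] using hzy.mul_left hc
      · rw [(Xe.central t htR).symm.eq]
        rw [show t * z * (t * z) = t * (z * t) * z by group, (Xe.central t htR).symm.eq,
          show t * (t * z) * z = (t * t) * (z * z) by group, S.e_sq htE, Xe.zz, one_mul]

end CfsgLib.Spor.LargeFi.SixTop
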