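import Cfsg.Agent.Lib.Spor.LargeFi.SixTop
import Cfsg.Agent.Lib.KnownB.TypeCentral.Main23
import Cfsg.Agent.Lib.KnownB.TypeM22.Invol

/-!
The centraliser of a suitable outer involution is of type M(23).
-/

set_option autoImplicit false
set_option maxRecDepth 20000

namespace CfsgLib.Spor.LargeFi.SixTop

open Cfsg CfsgLib.ThreeTransp CfsgLib.KnownB

universe u

/-- the property of an involution asked below -/
def HasSixInvol (A : Type u) [Group A] : Prop :=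
  ∃ d : A, orderOf d = 2 ∧ Cfsg.IsQuasisimple ↥(Subgroup.centralizer ({d} : Set A)) ∧
    (∃ (K : Type) (_ : Field K) (_ : Fintype K), Fintype.card K = 4 ∧
      ∃ _ : ((Subgroup.zpowers d).subgroupOf (Subgroup.centralizer ({d} : Set A))).Normal,
        Nonempty (↥(Subgroup.centralizer ({d} : Set A)) ⧸ (Subgroup.zpowers d).subgroupOf (Subgroup.centralizer ({d} : Set A))
          ≃* Cfsg.PSU 6 K 2)) ∧
    ∃ g, g * d * g⁻¹ ∈ Subgroup.centralizer ({d} : Set A) ∧ g * d * g⁻¹ ≠ d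

theorem hasSixInvol_congr {A : Type u} {B : Type} [Group A] [Group B] (e : B ≃* A) (h : HasSixInvol B) :
    HasSixInvol A := by
  obtain ⟨d, hd, hq, ⟨K, _, _, hK, hn, ⟨q⟩⟩, g, hg1, hg2⟩ := h
  haveI := hn
  have hmap : (Subgroup.centralizer ({d} : Set B)).map e.toMonoidHom = Subgroup.centralizer ({e d} : Set A) := by
    ext x
    obtain ⟨y, rfl⟩ := e.surjective x
    rw [← MulEquiv.coe_toMonoidHom, Subgroup.mem_map_iff_mem (f := e.toMonoidHom) e.injective,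
      Subgroup.mem_centralizer_singleton_iff, Subgroup.mem_centralizer_singleton_iff, MulEquiv.coe_toMonoidHom,
      ← map_mul, ← map_mul, e.injective.eq_iff]
  obtain ⟨f, hf⟩ : ∃ f : ↥(Subgroup.centralizer ({d} : Set B)) ≃* ↥(Subgroup.centralizer ({e d} : Set A)),
      ∀ x, (f x : A) = e x :=
    ⟨((Subgroup.centralizer ({d} : Set B)).equivMapOfInjective e.toMonoidHom e.injective).trans
      (MulEquiv.subgroupCongr hmap), fun _ => rfl⟩
  have hz : ((Subgroup.zpowers d).subgroupOf (Subgroup.centralizer ({d} : Set B))).map f.toMonoidHom =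
      (Subgroup.zpowers (e d)).subgroupOf (Subgroup.centralizer ({e d} : Set A)) := by
    ext x
    obtain ⟨y, rfl⟩ := f.surjective x
    rw [Subgroup.mem_map_equiv, f.symm_apply_apply, Subgroup.mem_subgroupOf, Subgroup.mem_subgroupOf, hf,
      ← Subgroup.mem_map_iff_mem (f := e.toMonoidHom) e.injective, MonoidHom.map_zpowers]
    rfl
  haveI hn' : ((Subgroup.zpowers (e d)).subgroupOf (Subgroup.centralizer ({e d} : Set A))).Normal :=
    hz ▸ Subgroup.Normal.map hn _ f.surjective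
  refine ⟨e d, by rw [MulEquiv.orderOf_eq]; exact hd, (CfsgLib.Components.isQuasisimple_congr f).1 hq,
    ⟨K, inferInstance, inferInstance, hK, hn', ⟨(QuotientGroup.congr _ _ f hz).symm.trans q⟩⟩, e g, ?_, ?_⟩
  · rw [← map_inv, ← map_mul, ← map_mul, ← hmap]; exact Subgroup.mem_map_of_mem _ hg1
  · rw [← map_inv, ← map_mul, ← map_mul]; exact fun r => hg2 (e.injective r)

theorem hasSixInvol_fi22 : HasSixInvol Cfsg.Spor.Fi22 := by
  haveI := CfsgLib.Spor.Fi22.finite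
  have h3 := CfsgLib.Spor.Fi22.Transp.isThreeTranspositionClass
  have hG : Cfsg.IsThreeTranspositionGroup (conjugatesOf CfsgLib.Spor.Fi22.Transp.ga) := by
    refine ⟨h3.1, fun g x hx => ?_, h3.2.2⟩
    exact (show IsConj _ x from hx).trans (isConj_iff.2 ⟨g, rfl⟩)
  have S := TypeM22.setting_of hG CfsgLib.Spor.FischerTypes.typeM22.2 CfsgLib.Spor.FischerTypes.typeM22.1
  obtain ⟨F, _, _, σ, hF, h, hP⟩ := S.exists_pmap
  obtain ⟨d, hd, hq, ⟨hn, K, iK, iT, hK, hiso⟩, hg⟩ := S.exists_invol hP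
  exact ⟨d, hd, hq, ⟨K, iK, iT, hK, hn, hiso⟩, hg⟩

section

variable {X : Type u} [Group X] [Finite X] {G₀ : Subgroup X} {z : ↥G₀}
  {Q : Subgroup (Subgroup.centralizer ({z} : Set ↥G₀))} [Q.Normal] {E : Subgroup ↥G₀}

omit [Finite X] [Q.Normal] in
theorem Mate.mul_self_mem {t : ↥G₀} {d : X} (M : Mate z t d) (ht : ∀ k ∈ DK t, Commute t k)
    (htz : Commute t z) : Mate z t (d * (t : X)) :=
  ⟨fun r => M.out ((mul_mem_cancel_right t.2).1 r), M.cz.mul_left (commute_coe.2 htz),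
    M.ct.mul_left (Commute.refl _), fun k hk => (M.ck k hk).mul_left (commute_coe.2 (ht k hk))⟩

omit [Q.Normal] in
theorem Mate.conj [Q.Normal] (S : Sit G₀ z Q E) {t : ↥G₀} {d : X} (M : Mate z t d) {h : ↥G₀}
    (hh : Commute h z) : Mate z (h * t * h⁻¹) ((h : X) * d * (h : X)⁻¹) := by
  haveI := S.normal
  refine ⟨fun r => M.out ?_, ?_, ?_, fun k hk => ?_⟩
  · have := mul_mem (mul_mem (inv_mem h.2) r) h.2
    rwa [show (h : X)⁻¹ * ((h : X) * d * (h : X)⁻¹) * h = d by group] at this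
  · have h1 := (commute_conj_iff (h : X)).2 M.cz
    rwa [(commute_coe.2 hh).eq, mul_inv_cancel_right] at h1
  · simpa using (commute_conj_iff (h : X)).2 M.ct
  · rw [← show (DK t).map (MulAut.conj h).toMonoidHom = DK (h * t * h⁻¹) from DK_map (MulAut.conj h) t] at hk
    obtain ⟨k', hk', rfl⟩ := hk
    simpa using (commute_conj_iff (h : X)).2 (M.ck k' hk')

theorem Sit.mem_E (S : Sit G₀ z Q E) {m : ↥G₀}
    (hc : ∀ c ∈ Subgroup.centralizer (E : Set ↥G₀), Commute m c) : m ∈ E := by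
  have hEle : E ≤ Subgroup.centralizer (E : Set ↥G₀) := fun a ha =>
    Subgroup.mem_centralizer_iff.2 fun b hb => (S.e_comm hb ha).eq
  have hm : m ∈ Subgroup.centralizer (E : Set ↥G₀) :=
    Subgroup.mem_centralizer_iff.2 fun e he => (hc e (hEle he)).eq.symm
  obtain ⟨hn, K, _, _, hK, ⟨q⟩⟩ := S.ePSU
  haveI := hn
  obtain ⟨hs, hna, -⟩ := CfsgLib.ThreeTransp.psu_six_simple hK
  haveI := hs
  have hcen : Subgroup.center (Cfsg.PSU 6 K 2) = ⊥ :=
    ((inferInstance : (Subgroup.center (Cfsg.PSU 6 K 2)).Normal).eq_bot_or_eq_top).resolve_right fun r =>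
      hna ⟨⟨fun a b => (Subgroup.mem_center_iff.1 (r ▸ Subgroup.mem_top b) a)⟩⟩
  have h1 : q (QuotientGroup.mk ⟨m, hm⟩) ∈ Subgroup.center (Cfsg.PSU 6 K 2) := Subgroup.mem_center_iff.2 fun y => by
    obtain ⟨w, rfl⟩ := q.surjective y
    obtain ⟨c, rfl⟩ := QuotientGroup.mk_surjective w
    rw [← map_mul, ← map_mul, ← QuotientGroup.mk_mul, ← QuotientGroup.mk_mul,
      show c * (⟨m, hm⟩ : ↥(Subgroup.centralizer (E : Set ↥G₀))) = ⟨m, hm⟩ * c from Subtype.ext (hc c c.2).eq.symm]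
  rw [hcen, Subgroup.mem_bot, map_eq_one_iff q q.injective, QuotientGroup.eq_one_iff, Subgroup.mem_subgroupOf] at h1
  exact h1

/-- The outer involution with everything needed. -/
theorem Sit.exists_outer (S : Sit G₀ z Q E) : ∃ (d : X) (t g : ↥G₀), d * d = 1 ∧ d ∉ G₀ ∧ Commute d (z : X) ∧
    orderOf t = 2 ∧ Cent22 t ∧ (∀ c : ↥G₀, Commute c t → (Commute d (c : X) ↔ c ∈ DK t)) ∧ Commute d (t : X) ∧
    Commute d (g : X) ∧ g * t * g⁻¹ ∈ DK t ∧ g * t * g⁻¹ ≠ t := by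
  haveI := S.normal
  haveI : Finite E := Nat.finite_of_card_ne_zero (by rw [S.eCard]; norm_num)
  obtain ⟨t, htE, ht1⟩ : ∃ t ∈ E, t ≠ 1 := by
    haveI : Nontrivial E := Finite.one_lt_card_iff_nontrivial.1 (by rw [S.eCard]; norm_num)
    obtain ⟨t, ht⟩ := exists_ne (1 : E)
    exact ⟨t, t.2, fun r => ht (Subtype.ext r)⟩
  obtain ⟨e, heE, he⟩ : ∃ e ∈ (E : Set ↥G₀), e ∉ ({1, t} : Set ↥G₀) := by
    refine Set.exists_mem_notMem_of_ncard_lt_ncard ?_ (Set.toFinite _)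
    refine lt_of_le_of_lt ((Set.ncard_insert_le _ _).trans (Nat.add_le_add_right (Set.ncard_singleton t).le 1)) ?_
    have h1 : (E : Set ↥G₀).ncard = 4 := by rw [← Nat.card_coe_set_eq]; exact S.eCard
    omega
  simp only [Set.mem_insert_iff, Set.mem_singleton_iff, not_or] at he
  obtain ⟨d₁, M₁⟩ := S.exists_mate htE ht1
  obtain ⟨d₂, M₂⟩ := S.exists_mate heE he.1
  have hEsq := fun a (ha : a ∈ E) => S.e_sq ha
  have hEx : ∀ a ∈ E, (a : X) * a = 1 := fun a ha => by rw [← Subgroup.coe_mul, hEsq a ha]; rfl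
  have hcK : ∀ a ∈ E, ∀ k ∈ DK a, Commute a k := fun a _ k hk =>
    (Subgroup.mem_centralizer_singleton_iff.1 (DK_le a hk) : Commute k a).symm
  have hEz : ∀ a ∈ E, Commute a z := fun a ha => S.ext.central a (S.eQ ha)
  have hd1 := (S.mate_props htE ht1 M₁).1
  have hd2 := (S.mate_props heE he.1 M₂).1
  -- a common mate
  obtain ⟨a, Ma, Ma'⟩ : ∃ a, Mate z t a ∧ Mate z e a := by
    obtain ⟨m, hm⟩ : ∃ m : ↥G₀, (m : X) = d₁ * d₂ :=
      ⟨⟨d₁ * d₂, (Subgroup.mul_mem_iff_of_index_two S.hidx).2 (iff_of_false M₁.out M₂.out)⟩, rfl⟩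
    have hmE : m ∈ E := S.mem_E fun c hc => commute_coe.1
      (hm ▸ (M₁.ck c (S.cE_le htE hc)).mul_left (M₂.ck c (S.cE_le heE hc)))
    have hd₂ : d₂ = d₁ * (m : X) := by rw [hm, ← mul_assoc, hd1, one_mul]
    have hfour : m = 1 ∨ m = t ∨ m = e ∨ m = t * e := by
      by_contra hno
      simp only [not_or] at hno
      have h1 : ({1, t, e, t * e, m} : Set ↥G₀) ⊆ (E : Set ↥G₀) := by
        intro x hx
        rcases hx with rfl | rfl | rfl | rfl | rfl
        exacts [one_mem E, htE, heE, mul_mem htE heE, hmE]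
      have h2 := Set.ncard_le_ncard h1 (Set.toFinite _)
      have hne1 : t * e ≠ 1 := fun r => he.2 (by
        rw [← inv_eq_of_mul_eq_one_right r]; exact inv_eq_of_mul_eq_one_right (hEsq t htE))
      rw [← Nat.card_coe_set_eq (E : Set ↥G₀), Set.ncard_insert_of_notMem, Set.ncard_insert_of_notMem,
        Set.ncard_insert_of_notMem, Set.ncard_insert_of_notMem, Set.ncard_singleton] at h2
      · simp only [SetLike.coe_sort_coe, S.eCard] at h2
        omega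
      · simpa using Ne.symm hno.2.2.2
      · simp only [Set.mem_insert_iff, Set.mem_singleton_iff, not_or]
        exact ⟨fun r => ht1 (mul_eq_right.1 r.symm), Ne.symm hno.2.2.1⟩
      · simp only [Set.mem_insert_iff, Set.mem_singleton_iff, not_or]
        exact ⟨Ne.symm he.2, fun r => he.1 (mul_eq_left.1 r.symm), Ne.symm hno.2.1⟩
      · simp only [Set.mem_insert_iff, Set.mem_singleton_iff, not_or]
        exact ⟨Ne.symm ht1, Ne.symm he.1, Ne.symm hne1, Ne.symm hno.1⟩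
    have Mt := M₁.mul_self_mem (hcK t htE) (hEz t htE)
    have Me := M₂.mul_self_mem (hcK e heE) (hEz e heE)
    rcases hfour with r | r | r | r <;> rw [r] at hd₂
    · exact ⟨d₁, M₁, by simpa [hd₂] using M₂⟩
    · exact ⟨_, Mt, hd₂ ▸ M₂⟩
    · refine ⟨d₁, M₁, ?_⟩
      rwa [hd₂, mul_assoc, hEx e heE, mul_one] at Me
    · refine ⟨_, Mt, ?_⟩
      rwa [hd₂, Subgroup.coe_mul, mul_assoc, mul_assoc, hEx e heE, mul_one] at Me
  have Pa := S.mate_props htE ht1 Ma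
  have Pa' := S.mate_props heE he.1 Ma'
  have huniq : ∀ {d d' : X}, Mate z e d → Mate z e d' → d' = d ∨ d' = d * (e : X) := by
    intro d d' M M'
    obtain ⟨m, hm⟩ : ∃ m : ↥G₀, (m : X) = d * d' :=
      ⟨⟨d * d', (Subgroup.mul_mem_iff_of_index_two S.hidx).2 (iff_of_false M.out M'.out)⟩, rfl⟩
    have hd : d' = d * (m : X) := by rw [hm, ← mul_assoc, (S.mate_props heE he.1 M).1, one_mul]
    rcases (S.cent_of heE he.1).eq_of_centralizes (commute_coe.1 (hm ▸ M.ct.mul_left M'.ct))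
      (fun k hk => commute_coe.1 (hm ▸ (M.ck k hk).mul_left (M'.ck k hk))) with r | r <;> rw [r] at hd
    · left; simpa using hd
    · exact Or.inr hd
  obtain ⟨ht2, -⟩ := S.e_order htE ht1
  obtain ⟨he2, -⟩ := S.e_order heE he.1
  obtain ⟨h, hhz, hht⟩ := conj_small S.hF (S.eQ htE) (S.eQ heE) ht2 he2 (S.eConj t htE) (S.eConj e heE)
  obtain ⟨g, hge, hga⟩ : ∃ g : ↥G₀, g * t * g⁻¹ = e ∧ Commute a (g : X) := by
    have Mh : Mate z e ((h : X) * a * (h : X)⁻¹) := hht ▸ Ma.conj S hhz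
    rcases huniq Ma' Mh with r | r
    · exact ⟨h, hht, (mul_inv_eq_iff_eq_mul.1 r).symm⟩
    · obtain ⟨s, hs, hse, hsa⟩ := Pa'.2
      have hsz := S.ext.central s hs
      have hsfix : s * e * s⁻¹ = e := by rw [hse.symm.eq, mul_inv_cancel_right]
      have Ms : Mate z e ((s : X) * a * (s : X)⁻¹) := hsfix ▸ Ma'.conj S hsz
      rcases huniq Ma' Ms with r' | r'
      · exact absurd (mul_inv_eq_iff_eq_mul.1 r').symm hsa
      · refine ⟨s * h, ?_, (mul_inv_eq_iff_eq_mul.1 ?_).symm⟩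
        · rw [show s * h * t * (s * h)⁻¹ = s * (h * t * h⁻¹) * s⁻¹ by group, hht, hsfix]
        · rw [Subgroup.coe_mul, show (s : X) * h * a * ((s : X) * h)⁻¹ = s * ((h : X) * a * (h : X)⁻¹) * (s : X)⁻¹ by group,
            r, show (s : X) * (a * e) * (s : X)⁻¹ = (s : X) * a * (s : X)⁻¹ * ((s : X) * e * (s : X)⁻¹) by group, r',
            show (s : X) * e * (s : X)⁻¹ = e by
              rw [(commute_coe.2 hse).symm.eq, mul_inv_cancel_right],
            mul_assoc, hEx e heE, mul_one]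
  have C := S.cent_of htE ht1
  refine ⟨a, t, g, Pa.1, Ma.out, Ma.cz, ht2, C, fun c hc => ⟨fun hac => ?_, fun hc' => Ma.ck c hc'⟩, Ma.ct, hga,
    hge ▸ S.cE_le htE (Subgroup.mem_centralizer_iff.2 fun b hb => (S.e_comm hb heE).eq), hge ▸ he.2⟩
  by_contra hcn
  obtain ⟨r, hr, htr, har⟩ := Pa.2
  have hrn : r ∉ DK t := fun hr' => har (Ma.ck r hr')
  have h1 := Ma.ck _ (C.prod c (Subgroup.mem_centralizer_singleton_iff.2 hc.eq) r
    (Subgroup.mem_centralizer_singleton_iff.2 htr.symm.eq) hcn hrn)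
  exact har (by simpa using hac.inv_right.mul_right h1)

/-- The centraliser of the outer involution is of type M(23). -/
theorem Sit.main (S : Sit G₀ z Q E) : ∃ d : X, orderOf d = 2 ∧ d ∉ G₀ ∧ Commute d (z : X) ∧ ∃ t : ↥(G₀ ⊓ Subgroup.centralizer ({d} : Set X)), orderOf t = 2 ∧ Cfsg.IsQuasisimple ↥(Subgroup.centralizer ({t} : Set ↥(G₀ ⊓ Subgroup.centralizer ({d} : Set X)))) ∧ (∃ (_ : ((Subgroup.zpowers t).subgroupOf (Subgroup.centralizer ({t} : Set ↥(G₀ ⊓ Subgroup.centralizer ({d} : Set X))))).Normal), (∃ E : Set (↥(Subgroup.centralizer ({t} : Set ↥(G₀ ⊓ Subgroup.centralizer ({d} : Set X)))) ⧸ (Subgroup.zpowers t).subgroupOf (Subgroup.centralizer ({t} : Set ↥(G₀ ⊓ Subgroup.centralizer ({d} : Set X))))), Cfsg.IsThreeTranspositionClass E ∧ Cfsg.IsOfTypeM22 _ E) ∧ ∃ d' : ↥(Subgroup.centralizer ({t} : Set ↥(G₀ ⊓ Subgroup.centralizer ({d} : Set X)))) ⧸ (Subgroup.zpowers t).subgroupOf (Subgroup.centralizer ({t}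 : Set ↥(G₀ ⊓ Subgroup.centralizer ({d} : Set X)))), orderOf d' = 2 ∧ Cfsg.IsQuasisimple ↥(Subgroup.centralizer ({d'} : Set _)) ∧ (∃ (K : Type) (_ : Field K) (_ : Fintype K), Fintype.card K = 4 ∧ ∃ _ : ((Subgroup.zpowers d').subgroupOf (Subgroup.centralizer ({d'} : Set _))).Normal, Nonempty (↥(Subgroup.centralizer ({d'} : Set _)) ⧸ (Subgroup.zpowers d').subgroupOf (Subgroup.centralizer ({d'} : Set _)) ≃* Cfsg.PSU 6 K 2)) ∧ ∃ g, g * d' * g⁻¹ ∈ Subgroup.centralizer ({d'} : Set _) ∧ g * d' * g⁻¹ ≠ d') ∧ (∃ g : ↥(G₀ ⊓ Subgroup.centralizer ({d} : Set X)), g * t * g⁻¹ ∈ Subgroup.centralizer ({t} : Set ↥(G₀ ⊓ Subgroup.centralizer ({d} : Set X))) ∧ g * t * g⁻¹ ≠ t) ∧ Cfsg.IsThreeTranspositionClass (conjugatesOf t) ∧ Cfsg.IsOfTypeM23 ↥(G₀ ⊓ Subgroup.centralizer ({d} : Set X)) (conjugatesOf t) := by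
  obtain ⟨d, t, g, hd2, hdo, hdz, ht2, C, hiff, hdt, hdg, hgK, hgt⟩ := S.exists_outer
  haveI : Finite Cfsg.Spor.Fi22 := CfsgLib.Spor.Fi22.finite
  have hd : orderOf d = 2 := by
    haveI := Fact.mk Nat.prime_two
    exact orderOf_eq_prime (by rw [pow_two]; exact hd2) fun r => hdo (r ▸ one_mem G₀)
  refine ⟨d, hd, hdo, hdz, ?_⟩
  obtain ⟨Y, hY⟩ : ∃ Y, Y = G₀ ⊓ Subgroup.centralizer ({d} : Set X) := ⟨_, rfl⟩
  have hYm : ∀ {c : ↥G₀}, (c : X) ∈ G₀ ⊓ Subgroup.centralizer ({d} : Set X) ↔ Commute d (c : X) := fun {c} => by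
    rw [Subgroup.mem_inf, Subgroup.mem_centralizer_singleton_iff]
    exact ⟨fun h => h.2.symm, fun h => ⟨c.2, h.eq.symm⟩⟩
  obtain ⟨tY, htY⟩ : ∃ tY : ↥(G₀ ⊓ Subgroup.centralizer ({d} : Set X)), (tY : X) = (t : X) := ⟨⟨t, hYm.2 hdt⟩, rfl⟩
  have htY2 : orderOf tY = 2 := by rw [← Subgroup.orderOf_coe, htY, Subgroup.orderOf_coe]; exact ht2
  obtain ⟨ι, hι⟩ : ∃ ι : ↥(DK t) ≃* ↥(Subgroup.centralizer ({tY} : Set ↥(G₀ ⊓ Subgroup.centralizer ({d} : Set X)))),
      ∀ k, (((ι k : ↥(Subgroup.centralizer ({tY} : Set ↥(G₀ ⊓ Subgroup.centralizer ({d} : Set X))))) :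
        ↥(G₀ ⊓ Subgroup.centralizer ({d} : Set X))) : X) = ((k : ↥G₀) : X) := by
    have hc : ∀ k : ↥(DK t), Commute (k : ↥G₀) t := fun k => Subgroup.mem_centralizer_singleton_iff.1 (DK_le t k.2)
    obtain ⟨f, hf⟩ : ∃ f : ↥(DK t) →* ↥(Subgroup.centralizer ({tY} : Set ↥(G₀ ⊓ Subgroup.centralizer ({d} : Set X)))),
        ∀ k, (((f k : ↥(Subgroup.centralizer ({tY} : Set ↥(G₀ ⊓ Subgroup.centralizer ({d} : Set X))))) :
          ↥(G₀ ⊓ Subgroup.centralizer ({d} : Set X))) : X) = ((k : ↥G₀) : X) :=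
      ⟨((G₀.subtype.comp (DK t).subtype).codRestrict _ fun k => hYm.2 ((hiff k (hc k)).2 k.2)).codRestrict _
        fun k => Subgroup.mem_centralizer_singleton_iff.2 (Subtype.ext (by
          show ((k : ↥G₀) : X) * (tY : X) = (tY : X) * ((k : ↥G₀) : X)
          rw [htY]; exact congrArg Subtype.val (hc k).eq)), fun _ => rfl⟩
    refine ⟨MulEquiv.ofBijective f ⟨fun a b hab => Subtype.ext (Subtype.ext (by rw [← hf, ← hf, hab])), fun c => ?_⟩,
      fun k => hf k⟩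
    obtain ⟨c0, hc0⟩ : ∃ c0 : ↥G₀, (c0 : X) = ((c : ↥(G₀ ⊓ Subgroup.centralizer ({d} : Set X))) : X) :=
      ⟨⟨_, (Subgroup.mem_inf.1 c.1.2).1⟩, rfl⟩
    have h1 : Commute c0 t := by
      have h := congrArg Subtype.val (Subgroup.mem_centralizer_singleton_iff.1 c.2)
      simp only [Subgroup.coe_mul, htY, ← hc0] at h
      exact commute_coe.1 h
    have h2 : Commute d (c0 : X) := by
      rw [hc0]; exact (Subgroup.mem_centralizer_singleton_iff.1 (Subgroup.mem_inf.1 c.1.2).2).symm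
    exact ⟨⟨c0, (hiff c0 h1).1 h2⟩, Subtype.ext (Subtype.ext (by rw [hf]; exact hc0))⟩
  have hq : Cfsg.IsQuasisimple ↥(Subgroup.centralizer ({tY} : Set ↥(G₀ ⊓ Subgroup.centralizer ({d} : Set X)))) :=
    (CfsgLib.Components.isQuasisimple_congr ι).1 C.qs
  obtain ⟨φ, hφs, hφk, hφi⟩ := C.map
  have hinj : Function.Injective (MulAut.conj (G := Cfsg.Spor.Fi22)) := by
    rw [← MonoidHom.ker_eq_bot_iff, eq_bot_iff, ← CfsgLib.Spor.FischerTypes.typeM22.1.1]
    intro a ha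
    refine Subgroup.mem_center_iff.2 fun y => ?_
    have h1 := DFunLike.congr_fun (MonoidHom.mem_ker.1 ha) y
    rw [MulAut.conj_apply, MulAut.one_apply, mul_inv_eq_iff_eq_mul] at h1
    exact h1.symm
  obtain ⟨ψ, hψ⟩ : ∃ ψ : ↥(Subgroup.centralizer ({tY} : Set ↥(G₀ ⊓ Subgroup.centralizer ({d} : Set X)))) →* Cfsg.Spor.Fi22,
      ∀ c, MulAut.conj (ψ c) = φ ⟨(ι.symm c).1, DK_le t (ι.symm c).2⟩ := by
    refine ⟨((MonoidHom.ofInjective hinj).symm.toMonoidHom.comp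
      ((φ.comp (Subgroup.inclusion (DK_le t))).codRestrict _ fun k => (hφi _).2 k.2)).comp ι.symm.toMonoidHom,
      fun c => ?_⟩
    exact congrArg Subtype.val ((MonoidHom.ofInjective hinj).apply_symm_apply ⟨_, (hφi _).2 (ι.symm c).2⟩)
  have hψs : Function.Surjective ψ := fun a => by
    obtain ⟨c, hc⟩ := hφs (MulAut.conj a)
    refine ⟨ι ⟨c.1, (hφi c).1 (hc ▸ ⟨a, rfl⟩)⟩, hinj ?_⟩
    rw [hψ]
    simpa using hc
  have hψk : ψ.ker = (Subgroup.zpowers tY).subgroupOf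
      (Subgroup.centralizer ({tY} : Set ↥(G₀ ⊓ Subgroup.centralizer ({d} : Set X)))) := by
    ext c
    rw [MonoidHom.mem_ker, Subgroup.mem_subgroupOf, mem_zpowers_of_order_two (by
      rw [← pow_two, ← htY2]; exact pow_orderOf_eq_one tY)]
    obtain ⟨k, rfl⟩ := ι.surjective c
    rw [← hinj.eq_iff, map_one, hψ, hφk, ι.symm_apply_apply]
    refine or_congr ⟨fun r => Subtype.ext ?_, fun r => Subtype.ext ?_⟩
      ⟨fun r => Subtype.ext ?_, fun r => Subtype.ext ?_⟩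
    · rw [hι, show (k : ↥G₀) = 1 from r]; rfl
    · rw [← hι, r]; rfl
    · rw [hι, show (k : ↥G₀) = t from r, htY]
    · rw [← hι, r, htY]
  haveI hn : ((Subgroup.zpowers tY).subgroupOf
      (Subgroup.centralizer ({tY} : Set ↥(G₀ ⊓ Subgroup.centralizer ({d} : Set X))))).Normal := hψk ▸ inferInstance
  have hsix := hasSixInvol_congr ((QuotientGroup.quotientMulEquivOfEq hψk.symm).trans
    (QuotientGroup.quotientKerEquivOfSurjective ψ hψs)).symm hasSixInvol_fi22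
  obtain ⟨d', hd', hq', ⟨K, _, _, hK, hn', ⟨eP⟩⟩, hwc'⟩ := id hsix
  haveI := hn'
  obtain ⟨h3, hM, -⟩ := TypeCentral.main22 d' hd' hq' K hK eP hwc'
  obtain ⟨gY, hgY⟩ : ∃ gY : ↥(G₀ ⊓ Subgroup.centralizer ({d} : Set X)), (gY : X) = (g : X) := ⟨⟨g, hYm.2 hdg⟩, rfl⟩
  have hnwc : ∃ g : ↥(G₀ ⊓ Subgroup.centralizer ({d} : Set X)),
      g * tY * g⁻¹ ∈ Subgroup.centralizer ({tY} : Set ↥(G₀ ⊓ Subgroup.centralizer ({d} : Set X))) ∧ g * tY * g⁻¹ ≠ tY := by
    have hval : ((gY * tY * gY⁻¹ : ↥(G₀ ⊓ Subgroup.centralizer ({d} : Set X))) : X) = ((g * t * g⁻¹ : ↥G₀) : X) := by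
      rw [Subgroup.coe_mul, Subgroup.coe_mul, InvMemClass.coe_inv, hgY, htY]; rfl
    refine ⟨gY, Subgroup.mem_centralizer_singleton_iff.2 (Subtype.ext ?_), fun r => hgt (Subtype.ext ?_)⟩
    · show ((gY * tY * gY⁻¹ : ↥(G₀ ⊓ Subgroup.centralizer ({d} : Set X))) : X) * (tY : X) = (tY : X) * _
      rw [hval, htY]
      exact congrArg Subtype.val (Subgroup.mem_centralizer_singleton_iff.1 (DK_le t hgK))
    · rw [← hval, r, htY]
  obtain ⟨h23, h23', -⟩ := TypeCentral.main23 tY htY2 hq hsix hnwc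
  exact ⟨tY, htY2, hq, ⟨hn, ⟨_, h3, hM⟩, hsix⟩, hnwc, h23, h23'⟩

end

end CfsgLib.Spor.LargeFi.SixTop
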