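import Cfsg.Agent.Lib.Spor.LargeFi.Setup
import Cfsg.Agent.Lib.Spor.LargeFi.Core
import Cfsg.Agent.Lib.Spor.LargeFi.TwoOrbits

/-!
Double centralisers inside the extraspecial subgroup, and the two kinds of involutions in it.
-/

set_option autoImplicit false

namespace CfsgLib.Spor.LargeFi.SixTop

open Cfsg CfsgLib.ThreeTransp

variable {G : Type*} [Group G]

/-- what is used of the extraspecial subgroup -/
structure Ext (R : Subgroup G) (z : G) : Prop where
  mem : z ∈ R
  zz : z * z = 1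
  central : ∀ a ∈ R, Commute a z
  sq : ∀ a ∈ R, a * a = 1 ∨ a * a = z
  comm : ∀ a ∈ R, ∀ b ∈ R, Commute a b ∨ a * b = z * (b * a)
  cent : ∀ h : G, Commute h z → (∀ a ∈ R, Commute h a) → h = 1 ∨ h = z
  norm : ∀ h : G, Commute h z → ∀ a ∈ R, h * a * h⁻¹ ∈ R

variable {R : Subgroup G} {z : G}

theorem Ext.mul_not (X : Ext R z) {a b y : G} (ha : a ∈ R) (hb : b ∈ R) (hy : y ∈ R)
    (h1 : ¬ Commute a y) (h2 : ¬ Commute b y) : Commute (a * b) y := by
  have e1 := (X.comm a ha y hy).resolve_left h1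
  have e2 := (X.comm b hb y hy).resolve_left h2
  show a * b * y = y * (a * b)
  calc a * b * y = a * (b * y) := mul_assoc _ _ _
    _ = a * z * (y * b) := by rw [e2]; group
    _ = z * (a * y) * b := by rw [(X.central a ha).eq]; group
    _ = (z * z) * (y * a) * b := by rw [e1]; group
    _ = y * (a * b) := by rw [X.zz, one_mul, mul_assoc]

theorem Ext.mul_not' (X : Ext R z) {a b y : G} (ha : a ∈ R) (hb : b ∈ R) (hy : y ∈ R)
    (h1 : ¬ Commute y a) (h2 : ¬ Commute y b) : Commute y (a * b) :=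
  (X.mul_not ha hb hy (fun h => h1 h.symm) (fun h => h2 h.symm)).symm

theorem Ext.exists_move (X : Ext R z) {t : G} (ht : t ∈ R) (h1 : t ≠ 1) (hz : t ≠ z) :
    ∃ y ∈ R, ¬ Commute t y := by
  by_contra h
  push Not at h
  rcases X.cent t (X.central t ht) h with r | r
  exacts [h1 r, hz r]

/-- Two independent elements are separated. -/
theorem Ext.exists_sep (X : Ext R z) {t e : G} (ht : t ∈ R) (he : e ∈ R) (he1 : e ≠ 1) (hez : e ≠ z)
    (hte1 : t * e ≠ 1) (htez : t * e ≠ z) : ∃ y ∈ R, Commute t y ∧ ¬ Commute e y := by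
  by_contra h
  push Not at h
  obtain ⟨y, hy, hey⟩ := X.exists_move he he1 hez
  obtain ⟨w, hw, htew⟩ := X.exists_move (mul_mem ht he) hte1 htez
  have hty : ¬ Commute t y := fun r => hey (h y hy r)
  have htw : ¬ Commute t w := fun r => htew (r.mul_left (h w hw r))
  have hew : Commute e w := by_contra fun r => htew (X.mul_not ht he hw htw r)
  exact hey (by simpa using (h _ (mul_mem hy hw) (X.mul_not' hy hw ht hty htw)).mul_right hew.inv_right)

/-- The centraliser of the centraliser of one element. -/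
theorem Ext.single (X : Ext R z) {t q : G} (ht : t ∈ R) (ht1 : t ≠ 1) (htz : t ≠ z) (htt : t * t = 1)
    (hq : q ∈ R) (h : ∀ a ∈ R, Commute t a → Commute q a) : q = 1 ∨ q = z ∨ q = t ∨ q = z * t := by
  obtain ⟨y, hy, hty⟩ := X.exists_move ht ht1 htz
  obtain ⟨q', hq', hqq, hq'y, hag⟩ : ∃ q' ∈ R, (q = q' ∨ q = q' * t) ∧ Commute q' y ∧
      (∀ a ∈ R, Commute t a → Commute q' a) := by
    by_cases hc : Commute q y
    · exact ⟨q, hq, Or.inl rfl, hc, h⟩
    · exact ⟨q * t, mul_mem hq ht, Or.inr (by rw [mul_assoc, htt, mul_one]), X.mul_not hq ht hy hc hty,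
        fun a ha hta => (h a ha hta).mul_left hta⟩
  have hall : ∀ a ∈ R, Commute q' a := fun a ha => by
    by_cases hc : Commute t a
    · exact hag a ha hc
    · simpa using (hag _ (mul_mem ha hy) (X.mul_not' ha hy ht hc hty)).mul_right hq'y.inv_right
  rcases X.cent q' (X.central q' hq') hall with r | r <;> rcases hqq with s | s <;> rw [r] at s
  · exact Or.inl s
  · exact Or.inr (Or.inr (Or.inl (by rw [s, one_mul])))
  · exact Or.inr (Or.inl s)
  · exact Or.inr (Or.inr (Or.inr s))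

/-- The centraliser of the centraliser of a four-group. -/
theorem Ext.double (X : Ext R z) {E : Subgroup G} (hER : E ≤ R) (hcard : Nat.card E = 4)
    (hE : ∀ a ∈ E, a * a = 1) (hzE : z ∉ E) {q : G} (hq : q ∈ R)
    (h : ∀ a ∈ R, (∀ e ∈ E, Commute e a) → Commute q a) : ∃ e ∈ E, q = e ∨ q = z * e := by
  haveI : Finite E := Nat.finite_of_card_ne_zero (by omega)
  have hinv : ∀ a ∈ E, a⁻¹ = a := fun a ha => inv_eq_of_mul_eq_one_right (hE a ha)
  obtain ⟨⟨t, htE⟩, ht⟩ : ∃ t : E, t ≠ 1 := by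
    haveI : Nontrivial E := Finite.one_lt_card_iff_nontrivial.1 (by omega)
    exact exists_ne 1
  obtain ⟨e, heE, he⟩ : ∃ e ∈ E, e ∉ ({1, t} : Set G) := by
    refine Set.exists_mem_notMem_of_ncard_lt_ncard (s := ({1, t} : Set G)) (t := (E : Set G)) ?_ (Set.toFinite _)
    refine lt_of_le_of_lt ((Set.ncard_insert_le _ _).trans (Nat.add_le_add_right (Set.ncard_singleton t).le 1)) ?_
    have h1 : (E : Set G).ncard = 4 := by rw [← Nat.card_coe_set_eq]; exact hcard
    omega
  simp only [Set.mem_insert_iff, Set.mem_singleton_iff, not_or] at he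
  have ht1 : t ≠ 1 := fun r => ht (Subtype.ext r)
  have hne : ∀ a ∈ E, a ≠ z := fun a ha r => hzE (r ▸ ha)
  have hte : t * e ≠ 1 := fun r => he.2 (by rw [← hinv t htE]; exact (inv_eq_of_mul_eq_one_right r).symm)
  have het : e * t ≠ 1 := fun r => he.2 (by rw [← hinv t htE]; exact (inv_eq_of_mul_eq_one_left r).symm)
  obtain ⟨y2, hy2, ht2, he2⟩ := X.exists_sep (hER htE) (hER heE) he.1 (hne _ heE) hte (hne _ (mul_mem htE heE))
  obtain ⟨y1, hy1, he1, ht1'⟩ := X.exists_sep (hER heE) (hER htE) ht1 (hne _ htE) het (hne _ (mul_mem heE htE))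
  have hall : ∀ a ∈ E, a = 1 ∨ a = t ∨ a = e ∨ a = t * e := by
    intro a ha
    by_contra hno
    simp only [not_or] at hno
    obtain ⟨a1, a2, a3, a4⟩ := hno
    have h1 : ({1, t, e, t * e, a} : Set G) ⊆ (E : Set G) := by
      intro x hx
      rcases hx with rfl | rfl | rfl | rfl | rfl
      exacts [one_mem E, htE, heE, mul_mem htE heE, ha]
    have h2 := Set.ncard_le_ncard h1 (Set.toFinite _)
    rw [← Nat.card_coe_set_eq (E : Set G), Set.ncard_insert_of_notMem, Set.ncard_insert_of_notMem,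
      Set.ncard_insert_of_notMem, Set.ncard_insert_of_notMem, Set.ncard_singleton] at h2
    · simp only [SetLike.coe_sort_coe, hcard] at h2
      omega
    · simpa using Ne.symm a4
    · simp only [Set.mem_insert_iff, Set.mem_singleton_iff, not_or]
      exact ⟨fun r => ht1 (mul_eq_right.1 r.symm), Ne.symm a3⟩
    · simp only [Set.mem_insert_iff, Set.mem_singleton_iff, not_or]
      exact ⟨Ne.symm he.2, fun r => he.1 (mul_eq_left.1 r.symm), Ne.symm a2⟩
    · simp only [Set.mem_insert_iff, Set.mem_singleton_iff, not_or]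
      exact ⟨Ne.symm ht1, Ne.symm he.1, Ne.symm hte, Ne.symm a1⟩
  obtain ⟨p, hpE, hp1, hp2⟩ : ∃ p ∈ E, Commute (q * p) y1 ∧ Commute (q * p) y2 := by
    by_cases h1 : Commute q y1 <;> by_cases h2 : Commute q y2
    · exact ⟨1, one_mem E, by simpa using h1, by simpa using h2⟩
    · exact ⟨e, heE, h1.mul_left he1, X.mul_not hq (hER heE) hy2 h2 he2⟩
    · exact ⟨t, htE, X.mul_not hq (hER htE) hy1 h1 ht1', h2.mul_left ht2⟩
    · refine ⟨t * e, mul_mem htE heE, ?_, ?_⟩
      · rw [← mul_assoc]; exact (X.mul_not hq (hER htE) hy1 h1 ht1').mul_left he1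
      · exact X.mul_not hq (hER (mul_mem htE heE)) hy2 h2 fun r => he2 (by simpa using ht2.inv_left.mul_left r)
  have hcp : ∀ a ∈ R, Commute t a → Commute e a → Commute (q * p) a := by
    intro a ha hta hea
    have hE' : ∀ x ∈ E, Commute x a := fun x hx => by
      rcases hall x hx with rfl | rfl | rfl | rfl
      exacts [Commute.one_left a, hta, hea, hta.mul_left hea]
    exact (h a ha hE').mul_left (hE' p hpE)
  have hone : ∀ a ∈ R, Commute t a → Commute (q * p) a := by
    intro a ha hta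
    by_cases hc : Commute e a
    · exact hcp a ha hta hc
    · simpa using (hcp _ (mul_mem ha hy2) (hta.mul_right ht2) (X.mul_not' ha hy2 (hER heE) hc he2)).mul_right
        hp2.inv_right
  have hfin : ∀ a ∈ R, Commute (q * p) a := by
    intro a ha
    by_cases hc : Commute t a
    · exact hone a ha hc
    · simpa using (hone _ (mul_mem ha hy1) (X.mul_not' ha hy1 (hER htE) hc ht1')).mul_right hp1.inv_right
  refine ⟨p, hpE, ?_⟩
  rcases X.cent _ (X.central _ (mul_mem hq (hER hpE))) hfin with r | r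
  · left
    rw [← hinv p hpE]; exact eq_inv_of_mul_eq_one_left r
  · right
    rw [← r, mul_assoc, hE p hpE, mul_one]

section OfType

variable [Finite G] {Q : Subgroup (Subgroup.centralizer ({z} : Set G))} [Q.Normal]

/-- the subgroup in the whole group -/
def qG (Q : Subgroup (Subgroup.centralizer ({z} : Set G))) : Subgroup G :=
  Q.map (Subgroup.centralizer ({z} : Set G)).subtype

theorem ext_of_type (hF : IsOfLargeFischerTypeAt z Q) : Ext (qG Q) z := by
  have hX := xcent_of_type hF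
  refine ⟨⟨_, hX.mem, rfl⟩, congrArg Subtype.val hX.inv, ?_, ?_, ?_, ?_, ?_⟩
  · rintro _ ⟨a, -, rfl⟩
    exact Subgroup.mem_centralizer_singleton_iff.1 a.2
  · rintro _ ⟨a, ha, rfl⟩
    exact (hX.sq a ha).imp (fun r => congrArg Subtype.val r) fun r => congrArg Subtype.val r
  · rintro _ ⟨a, ha, rfl⟩ _ ⟨b, hb, rfl⟩
    refine (hX.commEl a ha b hb).imp (fun r => ?_) fun r => ?_
    · exact mul_inv_eq_iff_eq_mul.1 (congrArg Subtype.val r)
    · have h1 := mul_inv_eq_iff_eq_mul.1 (congrArg Subtype.val r)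
      exact h1.trans (mul_assoc _ _ _)
  · intro h hhz hall
    have hh : h ∈ Subgroup.centralizer ({z} : Set G) := Subgroup.mem_centralizer_singleton_iff.2 hhz.eq
    have hm : (⟨h, hh⟩ : Subgroup.centralizer ({z} : Set G)) ∈ Q :=
      hX.cent (Subgroup.mem_centralizer_iff.2 fun q hq => Subtype.ext (hall _ ⟨q, hq, rfl⟩).eq.symm)
    exact (hX.center _ hm fun q hq => Subtype.ext (hall _ ⟨q, hq, rfl⟩).eq.symm).imp
      (fun r => congrArg Subtype.val r) fun r => congrArg Subtype.val r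
  · rintro h hh _ ⟨a, ha, rfl⟩
    exact ⟨⟨h, Subgroup.mem_centralizer_singleton_iff.2 hh.eq⟩ * a *
      ⟨h, Subgroup.mem_centralizer_singleton_iff.2 hh.eq⟩⁻¹, (inferInstance : Q.Normal).conj_mem a ha _, rfl⟩

/-- Involutions that are no conjugates are conjugate under the centraliser. -/
theorem conj_small (hF : IsOfLargeFischerTypeAt z Q) {t e : G} (ht : t ∈ qG Q) (he : e ∈ qG Q)
    (ht2 : orderOf t = 2) (he2 : orderOf e = 2) (htz : ¬ IsConj z t) (hez : ¬ IsConj z e) :
    ∃ h : G, Commute h z ∧ h * t * h⁻¹ = e := by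
  obtain ⟨D⟩ := model_of_type hF
  have hsmall : ∀ {a : Q}, orderOf ((a : Subgroup.centralizer ({z} : Set G)) : G) = 2 →
      ¬ IsConj z ((a : Subgroup.centralizer ({z} : Set G)) : G) → Small (D.vec a) := by
    intro a h2 hc
    rw [Subgroup.orderOf_coe] at h2
    have h1 : (a : Subgroup.centralizer ({z} : Set G)) * a = 1 := by
      rw [← pow_two, ← h2]; exact pow_orderOf_eq_one _
    rcases D.invol_vec (a := a) h1 (fun r => by rw [r, orderOf_one] at h2; omega)
      (fun r => hc (by rw [r]; exact IsConj.refl z)) with r | r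
    · exact r
    · obtain ⟨⟨-, -, -, -, g, ⟨hq, hmem⟩, hne⟩, -⟩ := id hF
      obtain ⟨k, hk⟩ := D.conj_of_big (a := ⟨_, hmem⟩) (b := a) (big_of_conj D (a := ⟨_, hmem⟩) rfl hne) r
      refine absurd ?_ hc
      rw [← congrArg Subtype.val hk]
      exact (isConj_iff.2 ⟨g, rfl⟩).trans (isConj_iff.2 ⟨(k : G), rfl⟩)
  obtain ⟨t', ht', rfl⟩ := ht
  obtain ⟨e', he', rfl⟩ := he
  obtain ⟨k, hk⟩ := D.conj_of_small (a := ⟨t', ht'⟩) (b := ⟨e', he'⟩) (hsmall ht2 htz) (hsmall he2 hez)
  exact ⟨k, Subgroup.mem_centralizer_singleton_iff.1 k.2, congrArg Subtype.val hk⟩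

end OfType

end CfsgLib.Spor.LargeFi.SixTop
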