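import Cfsg.Agent.Lib.Spor.LargeFi.SixUpAut
import Cfsg.Agent.Lib.Spor.LargeFi.SixPlane
import Cfsg.Agent.Lib.Spor.LargeFi.Outer

/-!
From the four-group to the centraliser of a non-central involution: modulo the involution it is the
automorphism group of Fi22.
-/

set_option autoImplicit false
set_option maxRecDepth 100000

namespace CfsgLib.Spor.LargeFi

open Cfsg CfsgLib.Spor.U62 CfsgLib.ThreeTransp
open scoped symmDiff Pointwise

namespace SixUp

/-- a permutation in `M24` with prescribed values on four points -/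
theorem exists_four {a b c d a' b' c' d' : GolayPt}
    (h : ([a, b, c, d] : List GolayPt).Nodup) (h' : ([a', b', c', d'] : List GolayPt).Nodup) :
    ∃ σ : M24, (σ : Equiv.Perm GolayPt) a = a' ∧ (σ : Equiv.Perm GolayPt) b = b' ∧
      (σ : Equiv.Perm GolayPt) c = c' ∧ (σ : Equiv.Perm GolayPt) d = d' := by
  haveI := isMultiplyPretransitive_le_five (k := 4) (by norm_num)
  have hinj : ∀ {p q r s : GolayPt}, ([p, q, r, s] : List GolayPt).Nodup →
      Function.Injective ![p, q, r, s] := by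
    intro p q r s hn
    simp only [List.nodup_cons, List.mem_cons, List.not_mem_nil, or_false, not_or, List.nodup_nil,
      and_true] at hn
    intro i j
    fin_cases i <;> fin_cases j <;> simp <;> tauto
  obtain ⟨σ, hσ⟩ := MulAction.exists_smul_eq M24
    (⟨![a, b, c, d], hinj h⟩ : Fin 4 ↪ GolayPt) ⟨![a', b', c', d'], hinj h'⟩
  have e : ∀ i : Fin 4, (σ : Equiv.Perm GolayPt) (![a, b, c, d] i) = ![a', b', c', d'] i :=
    fun i => congrArg (fun f : Fin 4 ↪ GolayPt => f i) hσ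
  exact ⟨σ, e 0, e 1, e 2, e 3⟩

theorem smul_pair (σ : Equiv.Perm GolayPt) (a b : GolayPt) :
    σ • ({a, b} : Finset GolayPt) = {σ a, σ b} := by
  simp [Finset.smul_finset_insert, Equiv.Perm.smul_def]

theorem exists_other (a b c d : GolayPt) : ∃ f : GolayPt, f ≠ a ∧ f ≠ b ∧ f ≠ c ∧ f ≠ d := by
  classical
  obtain ⟨f, -, hf⟩ := Finset.exists_mem_notMem_of_card_lt_card
    (s := ({a, b, c, d} : Finset GolayPt)) (t := Finset.univ) (by
      refine lt_of_le_of_lt (Finset.card_le_four) ?_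
      simp [Fintype.card_option])
  simp only [Finset.mem_insert, Finset.mem_singleton, not_or] at hf
  exact ⟨f, hf⟩

variable {G : Type*} [Group G] [Finite G] {z : G}
  {Q : Subgroup (Subgroup.centralizer ({z} : Set G))} [Q.Normal] {D : Model Q (zH z)}

/-- the three elements read off the base of the elementary subgroup -/
theorem exists_duo (B : D.ABase) : ∃ T : Duo D, el T.t = B.elG 32 ∧ el T.r = B.elG 64 := by
  have hw := wV_check
  simp only [Bool.and_eq_true, Nat.beq_eq] at hw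
  obtain ⟨-, h32, v32⟩ := B.cpart (c := 16) (by norm_num)
  obtain ⟨-, h64, v64⟩ := B.cpart (c := 32) (by norm_num)
  have hk := uV_check
  simp only [Bool.and_eq_true, Nat.blt_eq] at hk
  obtain ⟨u, hu⟩ := exists_lift_code D (c := uV) (by norm_num [uV])
  have hlt : smallRoot < 4096 ∧ smC 2 smallRoot < 4096 := by decide +kernel
  exact ⟨⟨⟨_, h32⟩, ⟨_, h64⟩, u, by rw [v32, hw.1, vc_vOf hlt.1],
    by rw [v64, hw.2, vc_vOf hlt.2], hu⟩, rfl, rfl⟩

namespace Duo

variable (T : Duo D)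

/-- With the normaliser of the elementary subgroup: a swap outside and a mover inside the subgroup of
index two. -/
theorem exists_movers (hF : Cfsg.IsOfLargeFischerTypeAt z Q) (B : D.ABase) (hN : B.Normed)
    (ht : el T.t = B.elG 32) (hr : el T.r = B.elG 64) (hperf : commutator ↥T.CE = ⊤) :
    ∃ σ m : ↥T.C, (σ : G) * el T.r * (σ : G)⁻¹ = el T.t * el T.r ∧
      T.V σ = Multiplicative.ofAdd 1 ∧
      (m : G) * el T.r * (m : G)⁻¹ = z * (el T.t * el T.r) ∧ T.V m = 1 := by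
  classical
  obtain ⟨C, hC⟩ := B.exists_coord hF hN
  have hd : ∀ {n}, n < 2048 → n ≠ 0 → (B.toV n ∈ C.duads ↔ n ∈ dL 0 1) := by
    intro n hn h0
    rw [hC]
    show B.toV n ≠ 0 ∧ ¬ IsConj z (B.elG n) ↔ _
    rw [B.conj_code hF hN hn]
    constructor
    · rintro ⟨-, hc⟩
      by_contra hd
      exact hc ⟨h0, hd⟩
    · exact fun hd => ⟨fun e => h0 (B.toV_injOn hn (by norm_num) (e.trans B.toV_zero.symm)),
        fun h => h.2 hd⟩
  have hE : ∀ k ∈ [32, 64, 96], k < 2048 ∧ k ≠ 0 ∧ k ∈ dL 0 1 := by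
    intro k hk
    have h := List.all_eq_true.1 eL_small k hk
    simp only [Bool.and_eq_true, memV_iff] at h
    simp only [List.mem_cons, List.not_mem_nil, or_false] at hk
    exact ⟨by omega, by omega, h.1.1.1⟩
  obtain ⟨h32a, h32b, h32c⟩ := hE 32 (by simp)
  obtain ⟨h64a, h64b, h64c⟩ := hE 64 (by simp)
  obtain ⟨h96a, h96b, h96c⟩ := hE 96 (by simp)
  obtain ⟨P, hP, hPe⟩ := C.mem_duads_iff.1 ((hd h32a h32b).2 h32c)
  obtain ⟨R, hR, hRe⟩ := C.mem_duads_iff.1 ((hd h64a h64b).2 h64c)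
  have hPR : (P ∩ R).card = 1 := C.inter_of_duads hP hR (by
    rw [← hPe, ← hRe, ← B.toV_xor]; exact (hd h96a h96b).2 h96c)
  obtain ⟨p1, p2, p3, p4, p5, -⟩ := pL_spec (p := 1) (by simp [pL])
  obtain ⟨W, hW, hW4, hWe⟩ : ∃ W : Finset GolayPt, P ∪ R ⊆ W ∧ W.card = 4 ∧ B.toV 1 = C.S W := by
    refine C.tetrad_through (fun e => p2 (B.toV_injOn p1 (by norm_num) (e.trans B.toV_zero.symm)))
      (fun e => p3 ((hd p1 p2).1 e)) hP hR hPR ?_ ?_
    · rw [← hPe, ← B.toV_xor]; exact (hd (by decide) (by decide)).2 p4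
    · rw [← hRe, ← B.toV_xor]; exact (hd (by decide) (by decide)).2 p5
  -- names
  obtain ⟨b, hb⟩ := Finset.card_eq_one.1 hPR
  have hbP : b ∈ P ∧ b ∈ R := Finset.mem_inter.1 (hb ▸ Finset.mem_singleton_self b)
  obtain ⟨a, ha⟩ := Finset.card_eq_one.1 (show (P.erase b).card = 1 by
    rw [Finset.card_erase_of_mem hbP.1, hP])
  obtain ⟨c, hc⟩ := Finset.card_eq_one.1 (show (R.erase b).card = 1 by
    rw [Finset.card_erase_of_mem hbP.2, hR])
  have ha' : a ≠ b ∧ a ∈ P := Finset.mem_erase.1 (ha ▸ Finset.mem_singleton_self a)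
  have hc' : c ≠ b ∧ c ∈ R := Finset.mem_erase.1 (hc ▸ Finset.mem_singleton_self c)
  have hPab : P = {a, b} := by
    rw [← Finset.insert_erase hbP.1, ha]; exact Finset.pair_comm b a
  have hRbc : R = {b, c} := by rw [← Finset.insert_erase hbP.2, hc]
  have hac : a ≠ c := fun e => ha'.1 (Finset.mem_singleton.1 (hb ▸ Finset.mem_inter.2 ⟨ha'.2, e ▸ hc'.2⟩))
  have hU : ({a, b, c} : Finset GolayPt) ⊆ W := by
    intro x hx
    refine hW ?_
    simp only [Finset.mem_insert, Finset.mem_singleton] at hx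
    rcases hx with rfl | rfl | rfl
    exacts [Finset.mem_union_left _ ha'.2, Finset.mem_union_left _ hbP.1, Finset.mem_union_right _ hc'.2]
  have hU3 : ({a, b, c} : Finset GolayPt).card = 3 :=
    Finset.card_eq_three.2 ⟨a, b, c, ha'.1, hac, hc'.1.symm, rfl⟩
  obtain ⟨d, hdd⟩ := Finset.card_eq_one.1 (show (W \ {a, b, c}).card = 1 by
    rw [Finset.card_sdiff, Finset.inter_eq_left.2 hU, hW4, hU3])
  have hd' : d ∈ W ∧ d ∉ ({a, b, c} : Finset GolayPt) :=
    Finset.mem_sdiff.1 (hdd ▸ Finset.mem_singleton_self d)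
  simp only [Finset.mem_insert, Finset.mem_singleton, not_or] at hd'
  have hWabcd : W = {a, b, c, d} := by
    rw [← Finset.union_sdiff_of_subset hU, hdd]
    ext x
    simp
  obtain ⟨f, hfa, hfb, hfc, hfd⟩ := exists_other a b c d
  obtain ⟨hda, hdb, hdc⟩ := hd'.2
  -- the values
  let val : Finset GolayPt → G := fun s => ((Additive.toMul (C.S s) : ↥B.A0) : G)
  have vmul : ∀ s s', val (s ∆ s') = val s * val s' := fun s s' => by
    show ((Additive.toMul (C.S (s ∆ s')) : ↥B.A0) : G) = _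
    rw [C.S_symmDiff]
    rfl
  have vval : ∀ n s, B.toV n = C.S s → val s = B.elG n := fun n s e => by
    show ((Additive.toMul (C.S s) : ↥B.A0) : G) = _
    rw [← e]; rfl
  have vt : val {a, b} = el T.t := by rw [ht, ← hPab]; exact vval _ _ hPe
  have vr : val {b, c} = el T.r := by rw [hr, ← hRbc]; exact vval _ _ hRe
  have vac : val {a, c} = el T.t * el T.r := by
    rw [← vt, ← vr, ← vmul]
    congr 1
    ext x
    simp only [Finset.mem_symmDiff, Finset.mem_insert, Finset.mem_singleton]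
    constructor
    · rintro (rfl | rfl)
      · exact Or.inl ⟨Or.inl rfl, by rintro (h | h); exacts [ha'.1 h, hac h]⟩
      · exact Or.inr ⟨Or.inr rfl, by rintro (h | h); exacts [hac h.symm, hc'.1 h]⟩
    · rintro (⟨h1, h2⟩ | ⟨h1, h2⟩) <;> rcases h1 with rfl | rfl <;> tauto
  have vbd : val {b, d} = z * (el T.t * el T.r) := by
    rw [← vac, show z = val W from ((vval 1 W hWe).trans B.elG_one).symm, ← vmul, hWabcd]
    congr 1
    ext x
    simp only [Finset.mem_symmDiff, Finset.mem_insert, Finset.mem_singleton]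
    constructor
    · rintro (rfl | rfl)
      · exact Or.inl ⟨Or.inr (Or.inl rfl), by
          rintro (h | h); exacts [ha'.1 h.symm, hc'.1 h.symm]⟩
      · exact Or.inl ⟨Or.inr (Or.inr (Or.inr rfl)), by rintro (h | h); exacts [hda h, hdc h]⟩
    · rintro (⟨h1, h2⟩ | ⟨h1, h2⟩)
      · rcases h1 with rfl | rfl | rfl | rfl <;> tauto
      · rcases h1 with rfl | rfl <;> tauto
  -- the lifts
  obtain ⟨τσ, s1, s2, s3, -⟩ := exists_four (a := a) (b := b) (c := c) (d := d) (a' := b) (b' := a)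
    (c' := c) (d' := d) (by simp; tauto) (by simp; tauto)
  obtain ⟨τk, k1, k2, k3, -⟩ := exists_four (a := a) (b := b) (c := c) (d := d) (a' := a) (b' := b)
    (c' := f) (d' := d) (by simp; tauto) (by simp; tauto)
  obtain ⟨τm, m1, m2, m3, m4⟩ := exists_four (a := a) (b := b) (c := f) (d := c) (a' := a) (b' := b)
    (c' := f) (d' := d) (by simp; tauto) (by simp; tauto)
  obtain ⟨gσ, -, eσ⟩ := B.exists_lift hF hN C hC τσ
  obtain ⟨gk, -, ek⟩ := B.exists_lift hF hN C hC τk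
  obtain ⟨gm, -, em⟩ := B.exists_lift hF hN C hC τm
  have conjv : ∀ {g : G} {τ : M24}, (∀ s : Finset GolayPt, Even s.card →
      g * ((Additive.toMul (C.S s) : ↥B.A0) : G) * g⁻¹ =
        ((Additive.toMul (C.S ((τ : Equiv.Perm GolayPt) • s)) : ↥B.A0) : G)) →
      ∀ {x y x' y' : GolayPt}, x ≠ y → (τ : Equiv.Perm GolayPt) x = x' →
        (τ : Equiv.Perm GolayPt) y = y' → g * val {x, y} * g⁻¹ = val {x', y'} := by
    intro g τ hg x y x' y' hxy hx hy
    show g * ((Additive.toMul (C.S {x, y}) : ↥B.A0) : G) * g⁻¹ = _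
    rw [hg {x, y} (by rw [Finset.card_pair hxy]; decide), smul_pair, hx, hy]
  have inC : ∀ {g : G}, g * el T.t * g⁻¹ = el T.t → g ∈ T.C := fun h =>
    Subgroup.mem_centralizer_singleton_iff.2 (mul_inv_eq_iff_eq_mul.1 h)
  have tσ : gσ * el T.t * gσ⁻¹ = el T.t := by
    rw [← vt, conjv eσ ha'.1 s1 s2, Finset.pair_comm]
  have rσ : gσ * el T.r * gσ⁻¹ = el T.t * el T.r := by
    rw [← vac, ← vr, conjv eσ hc'.1.symm s2 s3]
  have tk : gk * el T.t * gk⁻¹ = el T.t := by rw [← vt, conjv ek ha'.1 k1 k2]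
  have rk : gk * el T.r * gk⁻¹ = val {b, f} := by rw [← vr, conjv ek hc'.1.symm k2 k3]
  have tm : gm * el T.t * gm⁻¹ = el T.t := by rw [← vt, conjv em ha'.1 m1 m2]
  have rm : gm * el T.r * gm⁻¹ = z * (el T.t * el T.r) := by
    rw [← vbd, ← vr, conjv em hc'.1.symm m2 m4]
  have fm : gm * val {b, f} * gm⁻¹ = val {b, f} := conjv em hfb.symm m2 m3
  let σ : ↥T.C := ⟨gσ, inC tσ⟩
  let k : ↥T.C := ⟨gk, inC tk⟩
  let m : ↥T.C := ⟨gm, inC tm⟩
  -- `m` centralises a conjugate of the four-group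
  have hmV : T.V m = 1 := by
    have hc0 : ((k⁻¹ * m * k : ↥T.C) : G) ∈ T.CE := by
      refine T.mem_CE.2 ⟨T.comm_t _, mul_inv_eq_iff_eq_mul.1 ?_⟩
      show gk⁻¹ * gm * gk * el T.r * (gk⁻¹ * gm * gk)⁻¹ = el T.r
      calc gk⁻¹ * gm * gk * el T.r * (gk⁻¹ * gm * gk)⁻¹
          = gk⁻¹ * (gm * (gk * el T.r * gk⁻¹) * gm⁻¹) * gk := by group
        _ = gk⁻¹ * (gk * el T.r * gk⁻¹) * gk := by rw [rk, fm]
        _ = el T.r := by group
    have h1 := T.V_CE hperf hc0
    rw [map_mul, map_mul, map_inv, mul_right_comm, inv_mul_cancel, one_mul] at h1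
    exact h1
  have hσV : T.V σ = Multiplicative.ofAdd 1 := by
    have hc0 : ((m⁻¹ * (T.uC * σ) : ↥T.C) : G) ∈ T.CE := by
      refine T.mem_CE.2 ⟨T.comm_t _, mul_inv_eq_iff_eq_mul.1 ?_⟩
      show gm⁻¹ * (el T.u * gσ) * el T.r * (gm⁻¹ * (el T.u * gσ))⁻¹ = el T.r
      have hut : el T.u * el T.t * (el T.u)⁻¹ = el T.t :=
        mul_inv_eq_iff_eq_mul.2 T.u_facts.2.1.eq
      calc gm⁻¹ * (el T.u * gσ) * el T.r * (gm⁻¹ * (el T.u * gσ))⁻¹
          = gm⁻¹ * (el T.u * (gσ * el T.r * gσ⁻¹) * (el T.u)⁻¹) * gm := by group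
        _ = gm⁻¹ * ((el T.u * el T.t * (el T.u)⁻¹) * (el T.u * el T.r * (el T.u)⁻¹)) * gm := by
            rw [rσ]; group
        _ = gm⁻¹ * (el T.t * (z * el T.r)) * gm := by rw [hut, T.u_r]
        _ = gm⁻¹ * (z * (el T.t * el T.r)) * gm := by
            rw [← mul_assoc (el T.t), ← T.zt_facts.2.2.eq, mul_assoc z]
        _ = gm⁻¹ * (gm * el T.r * gm⁻¹) * gm := by rw [rm]
        _ = el T.r := by group
    have h1 := T.V_CE hperf hc0
    rw [map_mul, map_inv, hmV, inv_one, one_mul, map_mul, T.V_u] at h1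
    rcases z2_cases (T.V σ) with e | e
    · rw [e, mul_one] at h1
      exact absurd h1 (by decide)
    · exact e
  exact ⟨σ, m, rσ, hσV, rm, hmV⟩

theorem CE_eq_sC (B : D.ABase) (ht : el T.t = B.elG 32) (hr : el T.r = B.elG 64) : T.CE = B.sC := by
  have h96 : B.elG 96 = B.elG 32 * B.elG 64 := B.elG_xor 32 64
  ext x
  rw [T.mem_CE, Model.ABase.sC, Subgroup.mem_centralizer_iff, ht, hr]
  constructor
  · rintro ⟨h1, h2⟩ e he
    obtain ⟨n, hn, rfl⟩ := B.mem_sE.1 he
    simp only [eL, List.mem_cons, List.not_mem_nil, or_false] at hn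
    rcases hn with rfl | rfl | rfl | rfl
    · rw [B.elG_zero, one_mul, mul_one]
    · exact h1.eq.symm
    · exact h2.eq.symm
    · rw [h96]; exact (h1.mul_right h2).eq.symm
  · intro h
    exact ⟨(h _ ⟨32, by simp [eL], rfl⟩).symm, (h _ ⟨64, by simp [eL], rfl⟩).symm⟩

theorem exists_quot (B : D.ABase) (ht : el T.t = B.elG 32) (hr : el T.r = B.elG 64) {K : Type}
    [Field K] [Fintype K] (e : B.SX ≃* Cfsg.PSU 6 K 2) :
    ∃ f : ↥T.CE →* Cfsg.PSU 6 K 2, Function.Surjective f ∧ ∀ x, f x = 1 ↔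
      (x : G) = 1 ∨ (x : G) = el T.t ∨ (x : G) = el T.r ∨ (x : G) = el T.t * el T.r := by
  have hc := T.CE_eq_sC B ht hr
  refine ⟨e.toMonoidHom.comp (B.sπ.comp (MulEquiv.subgroupCongr hc).toMonoidHom),
    e.surjective.comp (B.sπ_surj.comp (MulEquiv.subgroupCongr hc).surjective), fun x => ?_⟩
  have h96 : B.elG 96 = B.elG 32 * B.elG 64 := B.elG_xor 32 64
  show e (B.sπ (MulEquiv.subgroupCongr hc x)) = 1 ↔ _
  rw [map_eq_one_iff e e.injective, Model.ABase.sπ, QuotientGroup.mk'_apply, QuotientGroup.eq_one_iff,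
    Subgroup.mem_subgroupOf, B.mem_sE, ht, hr, ← h96]
  simp only [eL, List.mem_cons, List.not_mem_nil, or_false]
  show (∃ n, (n = 0 ∨ n = 32 ∨ n = 64 ∨ n = 96) ∧ B.elG n = (x : G)) ↔ _
  constructor
  · rintro ⟨n, rfl | rfl | rfl | rfl, hn⟩
    · exact Or.inl (hn.symm.trans B.elG_zero)
    all_goals simp [hn]
  · rintro (h | h | h | h)
    · exact ⟨0, Or.inl rfl, B.elG_zero.trans h.symm⟩
    · exact ⟨32, by simp, h.symm⟩
    · exact ⟨64, by simp, h.symm⟩
    · exact ⟨96, by simp, h.symm⟩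

end Duo

/-- The conclusion about one involution. -/
def UpConcl (t : G) : Prop :=
  ∀ (K : Subgroup ↥(Subgroup.centralizer ({t} : Set G))),
    K = Cfsg.generalizedFittingSubgroup ↥(Subgroup.centralizer ({t} : Set G)) →
    ∀ [((Subgroup.zpowers t).subgroupOf (Subgroup.centralizer ({t} : Set G))).Normal],
    Cfsg.IsQuasisimple ↥K ∧ K.index = 2 ∧
      (∃ htc : t ∈ Subgroup.centralizer ({t} : Set G),
        (⟨t, htc⟩ : ↥(Subgroup.centralizer ({t} : Set G))) ∈ K) ∧
      Nonempty (↥(Subgroup.centralizer ({t} : Set G)) ⧸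
        (Subgroup.zpowers t).subgroupOf (Subgroup.centralizer ({t} : Set G)) ≃* MulAut Cfsg.Spor.Fi22)

/-- The conclusion moves along conjugation. -/
theorem upConcl_conj {t : G} (h : UpConcl t) (g : G) : UpConcl (g * t * g⁻¹) := by
  intro K hK hn
  have hmap : (Subgroup.centralizer ({t} : Set G)).map (MulAut.conj g).toMonoidHom =
      Subgroup.centralizer ({g * t * g⁻¹} : Set G) := by
    ext x
    rw [Subgroup.mem_map_equiv, MulAut.conj_symm_apply, Subgroup.mem_centralizer_singleton_iff,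
      Subgroup.mem_centralizer_singleton_iff]
    constructor
    · intro e
      calc x * (g * t * g⁻¹) = g * ((g⁻¹ * x * g) * t) * g⁻¹ := by group
        _ = g * (t * (g⁻¹ * x * g)) * g⁻¹ := by rw [e]
        _ = g * t * g⁻¹ * x := by group
    · intro e
      calc g⁻¹ * x * g * t = g⁻¹ * (x * (g * t * g⁻¹)) * g := by group
        _ = g⁻¹ * ((g * t * g⁻¹) * x) * g := by rw [e]
        _ = t * (g⁻¹ * x * g) := by group
  let ε : ↥(Subgroup.centralizer ({t} : Set G)) ≃* ↥(Subgroup.centralizer ({g * t * g⁻¹} : Set G)) :=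
    ((MulAut.conj g).subgroupMap _).trans (MulEquiv.subgroupCongr hmap)
  have hε : ∀ x, ((ε x : G)) = g * (x : G) * g⁻¹ := fun _ => rfl
  haveI hn0 : ((Subgroup.zpowers t).subgroupOf (Subgroup.centralizer ({t} : Set G))).Normal :=
    ⟨fun n hn' c => by
      rw [Subgroup.mem_subgroupOf] at hn' ⊢
      obtain ⟨k, hk⟩ := Subgroup.mem_zpowers_iff.1 hn'
      have hc : Commute (c : G) t := Subgroup.mem_centralizer_singleton_iff.1 c.2
      rw [Subgroup.coe_mul, Subgroup.coe_mul, Subgroup.coe_inv, ← hk, (hc.zpow_right k).eq,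
        mul_inv_cancel_right]
      exact Subgroup.zpow_mem _ (Subgroup.mem_zpowers _) k⟩
  obtain ⟨h1, h2, ⟨htc, h3⟩, ⟨e4⟩⟩ := h _ rfl
  have hK' : (Cfsg.generalizedFittingSubgroup ↥(Subgroup.centralizer ({t} : Set G))).map ε.toMonoidHom = K := by
    rw [hK]; exact Components.fstar_map_equiv ε
  have hN : ((Subgroup.zpowers t).subgroupOf (Subgroup.centralizer ({t} : Set G))).map ε.toMonoidHom =
      (Subgroup.zpowers (g * t * g⁻¹)).subgroupOf (Subgroup.centralizer ({g * t * g⁻¹} : Set G)) := by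
    ext x
    obtain ⟨y, rfl⟩ := ε.surjective x
    rw [show ε y = ε.toMonoidHom y from rfl, Subgroup.mem_map_iff_mem (f := ε.toMonoidHom) ε.injective,
      Subgroup.mem_subgroupOf, Subgroup.mem_subgroupOf, Subgroup.mem_zpowers_iff, Subgroup.mem_zpowers_iff]
    refine exists_congr fun k => ?_
    rw [conj_zpow, MulEquiv.coe_toMonoidHom, hε]
    exact ⟨fun e => by rw [e], fun e => mul_left_cancel (mul_right_cancel e)⟩
  refine ⟨?_, ?_, ⟨Subgroup.mem_centralizer_singleton_iff.2 rfl, ?_⟩, ⟨?_⟩⟩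
  · rw [← hK']
    exact Components.isQuasisimple_of_mulEquiv (ε.subgroupMap _) h1
  · rw [← hK']
    exact (Subgroup.index_map_of_bijective (f := ε.toMonoidHom) ε.bijective _).trans h2
  · rw [← hK']
    exact ⟨⟨t, htc⟩, h3, Subtype.ext (hε _)⟩
  · exact (QuotientGroup.congr _ _ ε hN).symm.trans e4

/-- The centraliser of every involution of `Q` not conjugate to the central one, assuming the
structure of the centraliser of the four-group in the base. -/
theorem aut_fi22_of_six (hF : Cfsg.IsOfLargeFischerTypeAt z Q) (B : D.ABase) (hN : B.Normed)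
    (hq : Cfsg.IsQuasisimple ↥B.sC)
    (hS : ∃ (K : Type) (_ : Field K) (_ : Fintype K), Fintype.card K = 4 ∧
      Nonempty (B.SX ≃* Cfsg.PSU 6 K 2))
    {t : G} (htQ : ∃ htc : t ∈ Subgroup.centralizer ({z} : Set G),
      (⟨t, htc⟩ : Subgroup.centralizer ({z} : Set G)) ∈ Q)
    (ht2 : orderOf t = 2) (ht : ¬ IsConj z t) : UpConcl t := by
  obtain ⟨T, hTt, hTr⟩ := exists_duo B
  obtain ⟨F, iF, iF', hF4, ⟨eX⟩⟩ := hS
  obtain ⟨f, hf, hker⟩ := T.exists_quot B hTt hTr eX
  have hq' : Cfsg.IsQuasisimple ↥T.CE :=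
    Components.isQuasisimple_of_mulEquiv (MulEquiv.subgroupCongr (T.CE_eq_sC B hTt hTr).symm) hq
  obtain ⟨σ, m, hσ, hσV, hm, hmV⟩ :=
    T.exists_movers hF B hN hTt hTr (Group.isPerfect_def.1 hq'.1 :)
  have hbase : UpConcl (el T.t) := by
    intro K hK hn
    exact T.aut_fi22 hq' F hF4 f hf hker σ hσ hσV m hm hmV K hK
  obtain ⟨htc, htq⟩ := htQ
  let a : Q := ⟨⟨t, htc⟩, htq⟩
  have htt : t * t = 1 := by rw [← pow_two, ← ht2, pow_orderOf_eq_one]
  have hne1 : t ≠ 1 := fun e => by rw [e, orderOf_one] at ht2; norm_num at ht2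
  have hsmall : Small (D.vec a) := by
    refine (D.invol_vec (a := a) (Subtype.ext htt) (fun e => hne1 (congrArg Subtype.val e))
      (fun e => ht (by rw [show t = z from congrArg Subtype.val e]))).resolve_right fun hb => ht ?_
    obtain ⟨g, c, hg, hne⟩ := exists_conj_in hF
    obtain ⟨k, hk⟩ := D.conj_of_big (a := c) (b := a) (big_of_conj D hg hne) hb
    exact (isConj_iff.2 ⟨g, hg⟩).trans (isConj_iff.2 ⟨(k : G), congrArg Subtype.val hk⟩)
  obtain ⟨k, hk⟩ := D.conj_of_small (a := T.t) (b := a) T.small_t hsmall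
  have e : t = (k : G) * el T.t * (k : G)⁻¹ := (congrArg Subtype.val hk).symm
  rw [e]
  exact upConcl_conj hbase (k : G)

end SixUp

end CfsgLib.Spor.LargeFi
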