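import Cfsg.Agent.Lib.Spor.LargeFi.SixUpHom
import Cfsg.Agent.Lib.KnownB.TypeCentral.Main22
import Cfsg.Agent.Lib.KnownB.TypeUSix.Quasi
import Cfsg.Agent.Lib.Spor.Fi22Out.Main
import Cfsg.Agent.Lib.Spor.Fi22.Simple
import Cfsg.Agent.Lib.Components.FStar

/-!
The centraliser of the non-central involution `t` modulo `t` is the automorphism group of Fi22, given
that the centraliser of the four-group of `t` and `r` is quasisimple with quotient PSU(6,2).
-/

set_option autoImplicit false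
set_option maxRecDepth 100000

namespace CfsgLib.Spor.LargeFi.SixUp

open Cfsg CfsgLib.ThreeTransp CfsgLib.Spor.LargeFi

/-- A hom on a perfect group into a commutative group is trivial. -/
theorem hom_eq_one {A B : Type*} [Group A] [CommGroup B] (hA : commutator A = ⊤) (f : A →* B) (a : A) :
    f a = 1 :=
  MonoidHom.mem_ker.1 (Abelianization.commutator_subset_ker f (hA ▸ Subgroup.mem_top a))

/-- An element commuting with a perfect normal subgroup modulo a central subgroup commutes with it. -/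
theorem commute_of_mod {A : Type*} [Group A] {Y : Subgroup A} (hY : commutator ↥Y = ⊤) {N : Subgroup A}
    (hN : N ≤ Subgroup.center A) {c : A} (hc : ∀ y ∈ Y, c * y * c⁻¹ * y⁻¹ ∈ N) {y : A} (hy : y ∈ Y) :
    c * y = y * c := by
  haveI : IsMulCommutative ↥N := ⟨⟨fun a b => Subtype.ext (Subgroup.mem_center_iff.1 (hN b.2) a)⟩⟩
  let f : ↥Y →* ↥N := MonoidHom.mk' (fun y => ⟨c * y * c⁻¹ * (y : A)⁻¹, hc _ y.2⟩) fun a b => by
    refine Subtype.ext ?_
    show c * ((a : A) * b) * c⁻¹ * ((a : A) * b)⁻¹ = c * a * c⁻¹ * (a : A)⁻¹ * (c * b * c⁻¹ * (b : A)⁻¹)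
    have hb := Subgroup.mem_center_iff.1 (hN (hc _ b.2)) (a : A)⁻¹
    calc c * ((a : A) * b) * c⁻¹ * ((a : A) * b)⁻¹
        = c * a * c⁻¹ * ((c * b * c⁻¹ * (b : A)⁻¹) * (a : A)⁻¹) := by group
      _ = c * a * c⁻¹ * ((a : A)⁻¹ * (c * b * c⁻¹ * (b : A)⁻¹)) := by rw [hb]
      _ = _ := by group
  letI : CommGroup ↥N := { (inferInstance : Group ↥N) with mul_comm := fun a b => mul_comm' a b }
  have h : f ⟨y, hy⟩ = 1 := hom_eq_one hY f ⟨y, hy⟩
  have h' : c * y * c⁻¹ * y⁻¹ = 1 := congrArg Subtype.val h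
  rwa [mul_inv_eq_one, mul_inv_eq_iff_eq_mul] at h'

variable {G : Type*} [Group G] [Finite G] {z : G}
  {Q : Subgroup (Subgroup.centralizer ({z} : Set G))} [Q.Normal] {D : Model Q (zH z)}

namespace Duo

variable (T : Duo D)

/-- the centraliser of the four-group -/
abbrev CE : Subgroup G := Subgroup.centralizer ({el T.t, el T.r} : Set G)

/-- the involution as an element of its centraliser -/
def tC : ↥T.C := ⟨el T.t, Subgroup.mem_centralizer_singleton_iff.2 rfl⟩

omit [Finite G] in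
theorem mem_CE {x : G} : x ∈ T.CE ↔ Commute x (el T.t) ∧ Commute x (el T.r) := by
  rw [Subgroup.mem_centralizer_iff]
  exact ⟨fun h => ⟨(h _ (by simp)).symm, (h _ (by simp)).symm⟩, fun h => by
    rintro g (rfl | rfl)
    exacts [h.1.symm, h.2.symm]⟩

omit [Finite G] in
theorem r_ne : el T.r ≠ 1 ∧ el T.r ≠ el T.t ∧ el T.r ≠ z * el T.t := by
  have h : smC 2 smallRoot ≠ 0 ∧ smC 2 smallRoot ≠ smallRoot := by decide +kernel
  refine ⟨fun e => h.1 ?_, fun e => h.2 ?_, fun e => h.2 ?_⟩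
  · rw [← T.vr, (D.vec_eq_zero T.r).2 (Or.inl (Subtype.ext e)), vc_zero']
  · rw [← T.vr, show T.r = T.t from Subtype.ext (Subtype.ext e), T.vt]
  · rw [← T.vr, show T.r = ⟨zH z, D.xc.mem⟩ * T.t from Subtype.ext (Subtype.ext e), D.vec_mul,
      (D.vec_eq_zero ⟨zH z, D.xc.mem⟩).2 (Or.inr rfl), zero_add, T.vt]

omit [Finite G] in
theorem z_ne_t : z ≠ el T.t := fun e =>
  T.small_t.isotropic.2 ((D.vec_eq_zero T.t).2 (Or.inr (Subtype.ext e.symm)))

theorem V_CE (hperf : commutator ↥T.CE = ⊤) {c : ↥T.C} (hc : (c : G) ∈ T.CE) : T.V c = 1 :=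
  hom_eq_one hperf (T.V.comp (Subgroup.inclusion
    (fun _ hx => Subgroup.mem_centralizer_singleton_iff.2 (T.mem_CE.1 hx).1))) ⟨c, hc⟩

omit [Finite G] in
theorem tC_central (c : ↥T.C) : c * T.tC = T.tC * c := Subtype.ext (T.comm_t c).eq

/-- The centraliser of `t`, given the centraliser of the four-group, a swap and an element moving
`r` to `z t r` inside the index-two subgroup. -/
theorem aut_fi22 (hq : Cfsg.IsQuasisimple ↥T.CE) (K : Type) [Field K] [Fintype K]
    (hK : Fintype.card K = 4) (f : ↥T.CE →* Cfsg.PSU 6 K 2) (hf : Function.Surjective f)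
    (hker : ∀ x, f x = 1 ↔
      (x : G) = 1 ∨ (x : G) = el T.t ∨ (x : G) = el T.r ∨ (x : G) = el T.t * el T.r)
    (σ : ↥T.C) (hσ : (σ : G) * el T.r * (σ : G)⁻¹ = el T.t * el T.r)
    (hσV : T.V σ = Multiplicative.ofAdd 1)
    (m : ↥T.C) (hm : (m : G) * el T.r * (m : G)⁻¹ = z * (el T.t * el T.r)) (hmV : T.V m = 1)
    (Kg : Subgroup ↥T.C) (hKg : Kg = Cfsg.generalizedFittingSubgroup ↥T.C)
    [hn : ((Subgroup.zpowers (el T.t)).subgroupOf T.C).Normal] :
    Cfsg.IsQuasisimple ↥Kg ∧ Kg.index = 2 ∧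
      (∃ htc : el T.t ∈ T.C, (⟨el T.t, htc⟩ : ↥T.C) ∈ Kg) ∧
      Nonempty (↥T.C ⧸ (Subgroup.zpowers (el T.t)).subgroupOf T.C ≃* MulAut Cfsg.Spor.Fi22) := by
  classical
  obtain ⟨hrt, ht2, hr2⟩ := T.r_facts
  obtain ⟨hz1, ht1, hzt⟩ := T.zt_facts
  have hperf : commutator ↥T.CE = ⊤ := (Group.isPerfect_def.1 hq.1 :)
  haveI hYn : T.Y.Normal := T.Y_normal
  have hrC : el T.r ∈ T.C := Subgroup.mem_centralizer_singleton_iff.2 hrt
  have htCE : el T.t ∈ T.CE := T.mem_CE.2 ⟨Commute.refl _, hrt.symm⟩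
  have hrCE : el T.r ∈ T.CE := T.mem_CE.2 ⟨hrt, Commute.refl _⟩
  have htY : T.tC ∈ T.Y := MonoidHom.mem_ker.2 (T.V_CE hperf (c := T.tC) htCE)
  let rY : ↥T.Y := ⟨⟨el T.r, hrC⟩, MonoidHom.mem_ker.2 (T.V_CE hperf (c := ⟨el T.r, hrC⟩) hrCE)⟩
  -- the elements of `Y` fixing `r` up to `t`
  have hstab : ∀ c : ↥T.C, c ∈ T.Y →
      ((c : G) * el T.r * (c : G)⁻¹ = el T.r ∨ (c : G) * el T.r * (c : G)⁻¹ = el T.t * el T.r) →
      (c : G) * el T.r * (c : G)⁻¹ = el T.r := by
    intro c hc h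
    refine h.resolve_right fun e => ?_
    have hfix : ((σ⁻¹ * c : ↥T.C) : G) ∈ T.CE := by
      refine T.mem_CE.2 ⟨T.comm_t _, mul_inv_eq_iff_eq_mul.1 ?_⟩
      show (σ : G)⁻¹ * (c : G) * el T.r * ((σ : G)⁻¹ * (c : G))⁻¹ = el T.r
      calc (σ : G)⁻¹ * (c : G) * el T.r * ((σ : G)⁻¹ * (c : G))⁻¹
          = (σ : G)⁻¹ * ((c : G) * el T.r * (c : G)⁻¹) * σ := by group
        _ = (σ : G)⁻¹ * ((σ : G) * el T.r * (σ : G)⁻¹) * σ := by rw [e, hσ]
        _ = el T.r := by group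
    have h1 := T.V_CE hperf hfix
    rw [map_mul, map_inv, MonoidHom.mem_ker.1 hc, mul_one, hσV] at h1
    exact absurd h1 (by decide)
  -- the quotient by the involution
  let tN : Subgroup ↥T.Y := Subgroup.zpowers ⟨T.tC, htY⟩
  have htNc : tN ≤ Subgroup.center ↥T.Y :=
    Subgroup.zpowers_le.2 (Subgroup.mem_center_iff.2 fun y => Subtype.ext (T.tC_central _))
  haveI htNn : tN.Normal := ⟨fun n hn g => by
    rw [Subgroup.mem_center_iff.1 (htNc hn) g, mul_inv_cancel_right]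
    exact hn⟩
  have hmem : ∀ y : ↥T.Y, y ∈ tN ↔ ((y : ↥T.C) : G) = 1 ∨ ((y : ↥T.C) : G) = el T.t := by
    intro y
    have h2 : (⟨T.tC, htY⟩ : ↥T.Y) * ⟨T.tC, htY⟩ = 1 := Subtype.ext (Subtype.ext ht2)
    rw [Subgroup.mem_zpowers_iff]
    constructor
    · rintro ⟨k, rfl⟩
      rw [← zpow_mod_orderOf, orderOf_eq_prime (p := 2) (by rw [pow_two]; exact h2)
        (fun e => ht1 (congrArg (fun x : ↥T.Y => ((x : ↥T.C) : G)) e))]
      rcases Int.emod_two_eq k with a | a <;> simp [a, tC]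
    · rintro (e | e)
      · exact ⟨0, Subtype.ext (Subtype.ext (by simp [e]))⟩
      · exact ⟨1, Subtype.ext (Subtype.ext (by simp [e, tC]))⟩
  have hmk : ∀ a b : ↥T.Y, (QuotientGroup.mk' tN a = QuotientGroup.mk' tN b) ↔
      (((a : ↥T.C) : G) = ((b : ↥T.C) : G) ∨ ((a : ↥T.C) : G) = el T.t * ((b : ↥T.C) : G)) := by
    intro a b
    rw [← mul_inv_eq_one, ← map_inv, ← map_mul, QuotientGroup.mk'_apply, QuotientGroup.eq_one_iff, hmem]
    show ((a : ↥T.C) : G) * ((b : ↥T.C) : G)⁻¹ = 1 ∨ _ ↔ _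
    rw [mul_inv_eq_one]
    exact or_congr Iff.rfl mul_inv_eq_iff_eq_mul
  let eb : ↥T.Y ⧸ tN := QuotientGroup.mk' tN rY
  have heb : eb ≠ 1 := fun e => by
    rcases (hmk rY 1).1 (e.trans (map_one _).symm) with h | h
    · exact T.r_ne.1 h
    · exact T.r_ne.2.1 (h.trans (mul_one _))
  have hord : orderOf eb = 2 := orderOf_eq_prime (by
    rw [pow_two, ← map_mul, show rY * rY = 1 from Subtype.ext (Subtype.ext hr2), map_one]) heb
  -- the centraliser of the image of `r`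
  let ι : ↥T.CE →* ↥T.Y :=
    (Subgroup.inclusion (fun _ hx => Subgroup.mem_centralizer_singleton_iff.2 (T.mem_CE.1 hx).1) :
      ↥T.CE →* ↥T.C).codRestrict T.Y fun x => MonoidHom.mem_ker.2 (T.V_CE hperf x.2)
  have hι : ∀ x : ↥T.CE, (((ι x : ↥T.Y) : ↥T.C) : G) = (x : G) := fun _ => rfl
  let π : ↥T.CE →* ↥(Subgroup.centralizer ({eb} : Set (↥T.Y ⧸ tN))) :=
    ((QuotientGroup.mk' tN).comp ι).codRestrict _ fun x => by
      refine Subgroup.mem_centralizer_singleton_iff.2 ?_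
      show QuotientGroup.mk' tN (ι x) * QuotientGroup.mk' tN rY =
        QuotientGroup.mk' tN rY * QuotientGroup.mk' tN (ι x)
      rw [← map_mul, ← map_mul]
      exact (hmk _ _).2 (Or.inl (T.mem_CE.1 x.2).2.eq)
  have hπs : Function.Surjective π := by
    rintro ⟨q, hq'⟩
    obtain ⟨y, rfl⟩ := QuotientGroup.mk'_surjective tN q
    have h := Subgroup.mem_centralizer_singleton_iff.1 hq'
    rw [← map_mul, ← map_mul, hmk] at h
    have hy : (y : G) * el T.r * ((y : ↥T.C) : G)⁻¹ = el T.r := by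
      refine hstab y y.2 (h.imp (fun e => mul_inv_eq_iff_eq_mul.2 e) fun e => ?_)
      rw [mul_inv_eq_iff_eq_mul, mul_assoc]
      exact e
    exact ⟨⟨((y : ↥T.C) : G), T.mem_CE.2 ⟨T.comm_t _, mul_inv_eq_iff_eq_mul.1 hy⟩⟩,
      Subtype.ext ((hmk _ _).2 (Or.inl rfl))⟩
  haveI : Nontrivial ↥(Subgroup.centralizer ({eb} : Set (↥T.Y ⧸ tN))) :=
    ⟨⟨⟨eb, Subgroup.mem_centralizer_singleton_iff.2 rfl⟩, 1, fun e => heb (congrArg Subtype.val e)⟩⟩
  have hqb : Cfsg.IsQuasisimple ↥(Subgroup.centralizer ({eb} : Set (↥T.Y ⧸ tN))) :=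
    Components.isQuasisimple_of_surjective hq π hπs
  haveI hzn : ((Subgroup.zpowers eb).subgroupOf (Subgroup.centralizer ({eb} : Set (↥T.Y ⧸ tN)))).Normal :=
    ⟨fun n hn g => by
      rw [Subgroup.mem_subgroupOf] at hn ⊢
      obtain ⟨k, hk⟩ := Subgroup.mem_zpowers_iff.1 hn
      have hc : Commute (g : ↥T.Y ⧸ tN) eb := Subgroup.mem_centralizer_singleton_iff.1 g.2
      rw [Subgroup.coe_mul, Subgroup.coe_mul, Subgroup.coe_inv, ← hk, (hc.zpow_right k).eq,
        mul_inv_cancel_right]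
      exact Subgroup.zpow_mem _ (Subgroup.mem_zpowers _) k⟩
  let g' : ↥T.CE →* ↥(Subgroup.centralizer ({eb} : Set (↥T.Y ⧸ tN))) ⧸
      (Subgroup.zpowers eb).subgroupOf (Subgroup.centralizer ({eb} : Set (↥T.Y ⧸ tN))) :=
    (QuotientGroup.mk' _).comp π
  have hg's : Function.Surjective g' := (QuotientGroup.mk'_surjective _).comp hπs
  have hkk : f.ker = g'.ker := by
    ext x
    rw [MonoidHom.mem_ker, hker, MonoidHom.mem_ker]
    show _ ↔ QuotientGroup.mk' _ (π x) = 1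
    rw [QuotientGroup.mk'_apply, QuotientGroup.eq_one_iff, Subgroup.mem_subgroupOf,
      Subgroup.mem_zpowers_iff]
    have h1 : ((π x : ↥T.Y ⧸ tN) = 1) ↔ ((x : G) = 1 ∨ (x : G) = el T.t) := by
      rw [← (map_one (QuotientGroup.mk' tN))]
      refine (hmk _ _).trans (or_congr Iff.rfl ?_)
      show (x : G) = el T.t * 1 ↔ _
      rw [mul_one]
    have h2 : ((π x : ↥T.Y ⧸ tN) = eb) ↔ ((x : G) = el T.r ∨ (x : G) = el T.t * el T.r) := hmk _ _
    constructor
    · rintro (e | e | e | e)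
      · exact ⟨0, by rw [zpow_zero]; exact (h1.2 (Or.inl e)).symm⟩
      · exact ⟨0, by rw [zpow_zero]; exact (h1.2 (Or.inr e)).symm⟩
      · exact ⟨1, by rw [zpow_one]; exact (h2.2 (Or.inl e)).symm⟩
      · exact ⟨1, by rw [zpow_one]; exact (h2.2 (Or.inr e)).symm⟩
    · rintro ⟨k, hk⟩
      rw [← zpow_mod_orderOf, hord] at hk
      rcases Int.emod_two_eq k with a | a <;> rw [show ((2 : ℕ) : ℤ) = 2 from rfl, a] at hk
      · rw [zpow_zero] at hk
        exact (h1.1 hk.symm).imp_right Or.inl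
      · rw [zpow_one] at hk
        exact Or.inr (Or.inr (h2.1 hk.symm))
  let eP := ((QuotientGroup.quotientKerEquivOfSurjective g' hg's).symm.trans
    ((QuotientGroup.quotientMulEquivOfEq hkk.symm).trans (QuotientGroup.quotientKerEquivOfSurjective f hf)))
  have hnwc : ∃ g : ↥T.Y ⧸ tN, g * eb * g⁻¹ ∈ Subgroup.centralizer ({eb} : Set (↥T.Y ⧸ tN)) ∧
      g * eb * g⁻¹ ≠ eb := by
    refine ⟨QuotientGroup.mk' tN ⟨m, MonoidHom.mem_ker.2 hmV⟩, ?_⟩
    rw [← map_inv, ← map_mul, ← map_mul]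
    refine ⟨Subgroup.mem_centralizer_singleton_iff.2 ?_, fun e => ?_⟩
    · rw [← map_mul, ← map_mul]
      refine (hmk _ _).2 (Or.inl ?_)
      show (m : G) * el T.r * (m : G)⁻¹ * el T.r = el T.r * ((m : G) * el T.r * (m : G)⁻¹)
      rw [hm]
      exact (((el_comm_z T.r).symm).mul_left (hrt.symm.mul_left (Commute.refl _))).eq
    · rcases (hmk _ _).1 e with h | h <;>
        change (m : G) * el T.r * (m : G)⁻¹ = _ at h <;> rw [hm, ← mul_assoc] at h
      · have h' := mul_eq_right.1 h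
        exact T.z_ne_t ((mul_eq_one_iff_eq_inv.1 h').trans (inv_eq_of_mul_eq_one_right ht2))
      · exact hz1 (mul_eq_right.1 (mul_right_cancel h))
  obtain ⟨-, -, ⟨e⟩⟩ := KnownB.TypeCentral.main22 eb hord hqb K hK eP hnwc
  -- simplicity
  haveI : IsSimpleGroup Cfsg.Spor.Fi22 := CfsgLib.Spor.Fi22.isFi22.1
  haveI : Finite Cfsg.Spor.Fi22 := CfsgLib.Spor.Fi22.finite
  haveI : IsSimpleGroup (↥T.Y ⧸ tN) := MulEquiv.isSimpleGroup e
  have hnc : ¬ IsMulCommutative (↥T.Y ⧸ tN) := fun hc => by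
    have : ∀ a b : ↥(Subgroup.centralizer ({eb} : Set (↥T.Y ⧸ tN))), a * b = b * a := fun a b =>
      Subtype.ext (hc.is_comm.comm _ _)
    exact Components.quasisimple_not_isMulCommutative hqb ⟨⟨this⟩⟩
  have hcenQ : Subgroup.center (↥T.Y ⧸ tN) = ⊥ := by
    refine (Subgroup.Normal.eq_bot_or_eq_top inferInstance).resolve_right fun h => hnc ⟨⟨fun a b => ?_⟩⟩
    exact (Subgroup.mem_center_iff.1 (h ▸ Subgroup.mem_top b) a)
  have hperfQ : commutator (↥T.Y ⧸ tN) = ⊤ := by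
    refine (Subgroup.Normal.eq_bot_or_eq_top inferInstance).resolve_left fun h => hnc ⟨⟨fun a b => ?_⟩⟩
    rw [commutator_def, Subgroup.commutator_eq_bot_iff_le_centralizer] at h
    exact Subgroup.mem_centralizer_iff.1 (h (Subgroup.mem_top b)) a (Subgroup.mem_top a)
  have htc : tN ≤ commutator ↥T.Y := by
    refine Subgroup.zpowers_le.2 ?_
    have h : (⟨el T.t, htCE⟩ : ↥T.CE) ∈ commutator ↥T.CE := hperf ▸ Subgroup.mem_top _
    have h' := Subgroup.mem_map_of_mem ι h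
    rw [commutator_def, Subgroup.map_commutator] at h'
    exact Subgroup.commutator_mono le_top le_top h'
  have hqY : Cfsg.IsQuasisimple ↥T.Y :=
    KnownB.TypeUSix.isQuasisimple_of_quot tN htNc htc inferInstance hperfQ
  have hperfY : commutator ↥T.Y = ⊤ := (Group.isPerfect_def.1 hqY.1 :)
  -- the centraliser of `Y`
  set N0 : Subgroup ↥T.C := (Subgroup.zpowers (el T.t)).subgroupOf T.C with hN0
  have hN0mem : ∀ c : ↥T.C, c ∈ N0 ↔ (c : G) = 1 ∨ (c : G) = el T.t := by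
    intro c
    rw [hN0, Subgroup.mem_subgroupOf, Subgroup.mem_zpowers_iff]
    constructor
    · rintro ⟨k, hk⟩
      rw [← zpow_mod_orderOf, orderOf_eq_prime (p := 2) (by rw [pow_two]; exact ht2) ht1] at hk
      rcases Int.emod_two_eq k with a | a <;> rw [show ((2 : ℕ) : ℤ) = 2 from rfl, a] at hk
      · exact Or.inl (by rw [← hk, zpow_zero])
      · exact Or.inr (by rw [← hk, zpow_one])
    · rintro (e' | e')
      · exact ⟨0, by rw [e', zpow_zero]⟩
      · exact ⟨1, by rw [e', zpow_one]⟩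
  have hN0c : N0 ≤ Subgroup.center ↥T.C := fun c hc => Subgroup.mem_center_iff.2 fun a => Subtype.ext (by
    rcases (hN0mem c).1 hc with e' | e' <;> rw [Subgroup.coe_mul, Subgroup.coe_mul, e']
    · rw [mul_one, one_mul]
    · exact (T.comm_t a).eq)
  have hcent : ∀ c : ↥T.C, (∀ y ∈ T.Y, c * y = y * c) → c ∈ N0 := by
    intro c hc
    have hcE : (c : G) ∈ T.CE := T.mem_CE.2 ⟨T.comm_t c, congrArg Subtype.val (hc _ rY.2)⟩
    have hcY : c ∈ T.Y := MonoidHom.mem_ker.2 (T.V_CE hperf hcE)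
    have hbar : QuotientGroup.mk' tN ⟨c, hcY⟩ ∈ Subgroup.center (↥T.Y ⧸ tN) := by
      refine Subgroup.mem_center_iff.2 fun a => ?_
      obtain ⟨y, rfl⟩ := QuotientGroup.mk'_surjective tN a
      rw [← map_mul, ← map_mul]
      congr 1
      exact Subtype.ext (hc y y.2).symm
    rw [hcenQ, Subgroup.mem_bot, QuotientGroup.mk'_apply, QuotientGroup.eq_one_iff, hmem] at hbar
    exact (hN0mem c).2 hbar
  have hN0Y : N0 ≤ T.Y := fun c hc => by
    rcases (hN0mem c).1 hc with e' | e'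
    · rw [show c = 1 from Subtype.ext e']; exact one_mem _
    · rw [show c = T.tC from Subtype.ext e']; exact htY
  -- the generalized Fitting subgroup
  have hKY : Kg = T.Y := by
    rw [hKg]
    have hYs : T.Y.IsSubnormal := Subgroup.Normal.isSubnormal inferInstance
    refine le_antisymm (Components.fstar_le_of_fitting_le hYs ?_ ?_)
      (le_trans (Components.component_le_layer ⟨hYs, hqY⟩) le_sup_left)
    · intro x hx
      haveI := CfsgLib.Base.fittingSubgroup_normal' ↥T.C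
      refine hN0Y (hcent x fun y hy => commute_of_mod hperfY hN0c (fun y hy => ?_) hy)
      -- the commutator lies in the fitting subgroup and in `Y`
      have hF : x * y * x⁻¹ * y⁻¹ ∈ fittingSubgroup ↥T.C := by
        rw [show x * y * x⁻¹ * y⁻¹ = x * (y * x⁻¹ * y⁻¹) by group]
        exact mul_mem hx ((inferInstance : (fittingSubgroup ↥T.C).Normal).conj_mem _ (inv_mem hx) y)
      have hY' : x * y * x⁻¹ * y⁻¹ ∈ T.Y := mul_mem (hYn.conj_mem y hy x) (inv_mem hy)
      let FY : Subgroup ↥T.Y := (fittingSubgroup ↥T.C).subgroupOf T.Y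
      rcases Components.quasisimple_normal_eq_top_or_le_center hqY FY with h | h
      · exfalso
        refine Components.quasisimple_not_isNilpotent hqY ?_
        have hle : T.Y ≤ fittingSubgroup ↥T.C := Subgroup.subgroupOf_eq_top.1 h
        exact CfsgLib.Base.isNilpotent_of_le hle (CfsgLib.Base.isNilpotent_fittingSubgroup ↥T.C)
      · have hz' := h (show (⟨_, hY'⟩ : ↥T.Y) ∈ FY from hF)
        have hbar : QuotientGroup.mk' tN (⟨_, hY'⟩ : ↥T.Y) ∈ Subgroup.center (↥T.Y ⧸ tN) := by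
          refine Subgroup.mem_center_iff.2 fun a => ?_
          obtain ⟨b, rfl⟩ := QuotientGroup.mk'_surjective tN a
          rw [← map_mul, ← map_mul, Subgroup.mem_center_iff.1 hz' b]
        rw [hcenQ, Subgroup.mem_bot, QuotientGroup.mk'_apply, QuotientGroup.eq_one_iff, hmem] at hbar
        exact (hN0mem _).2 hbar
    · intro c hc
      exact hN0Y (hcent c fun y hy => (Subgroup.mem_centralizer_iff.1 hc y hy).symm)
  -- the automorphisms
  have hmap : ∀ c : ↥T.C, tN ≤ tN.comap (MulAut.conjNormal (H := T.Y) c).toMonoidHom := by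
    intro c x hx
    have h0 : ((x : ↥T.Y) : ↥T.C) * c = c * x :=
      (Subgroup.mem_center_iff.1 (hN0c ((hN0mem _).2 ((hmem x).1 hx))) c).symm
    have : (MulAut.conjNormal (H := T.Y) c) x = x := Subtype.ext (by
      rw [MulAut.conjNormal_apply, ← h0, mul_inv_cancel_right])
    rw [Subgroup.mem_comap, MulEquiv.coe_toMonoidHom, this]
    exact hx
  let qc : ↥T.C → (↥T.Y ⧸ tN →* ↥T.Y ⧸ tN) := fun c => QuotientGroup.map tN tN _ (hmap c)
  have hqc : ∀ c y, qc c (QuotientGroup.mk' tN y) = QuotientGroup.mk' tN (MulAut.conjNormal c y) :=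
    fun _ _ => rfl
  have hqm : ∀ c d a, qc (c * d) a = qc c (qc d a) := by
    intro c d a
    obtain ⟨y, rfl⟩ := QuotientGroup.mk'_surjective tN a
    rw [hqc, hqc, hqc, map_mul, MulAut.mul_apply]
  have hq1 : ∀ a, qc 1 a = a := by
    intro a
    obtain ⟨y, rfl⟩ := QuotientGroup.mk'_surjective tN a
    rw [hqc, map_one]
    rfl
  let α : ↥T.C →* MulAut (↥T.Y ⧸ tN) := MonoidHom.mk' (fun c =>
    { toFun := qc c
      invFun := qc c⁻¹
      left_inv := fun a => by rw [← hqm, inv_mul_cancel, hq1]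
      right_inv := fun a => by rw [← hqm, mul_inv_cancel, hq1]
      map_mul' := fun a b => map_mul (qc c) a b }) fun c d => MulEquiv.ext fun a => hqm c d a
  have hαker : α.ker = N0 := by
    ext c
    constructor
    · intro hc
      refine hcent c fun y hy => commute_of_mod hperfY hN0c (fun y hy => ?_) hy
      have h : qc c (QuotientGroup.mk' tN ⟨y, hy⟩) = QuotientGroup.mk' tN ⟨y, hy⟩ :=
        DFunLike.congr_fun (MonoidHom.mem_ker.1 hc) (QuotientGroup.mk' tN ⟨y, hy⟩)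
      rw [hqc, hmk] at h
      rw [hN0mem, Subgroup.coe_mul, Subgroup.coe_inv]
      rw [MulAut.conjNormal_apply] at h
      exact h.imp mul_inv_eq_one.2 fun e' => by rw [e', mul_inv_cancel_right]
    · intro hc
      refine MonoidHom.mem_ker.2 (MulEquiv.ext fun a => ?_)
      obtain ⟨y, rfl⟩ := QuotientGroup.mk'_surjective tN a
      show qc c (QuotientGroup.mk' tN y) = QuotientGroup.mk' tN y
      rw [hqc]
      congr 1
      refine Subtype.ext ?_
      rw [MulAut.conjNormal_apply, ← Subgroup.mem_center_iff.1 (hN0c hc) (y : ↥T.C), mul_inv_cancel_right]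
  haveI : N0.Normal := hn
  let β : ↥T.C ⧸ N0 →* MulAut Cfsg.Spor.Fi22 :=
    (MulAut.congr e).toMonoidHom.comp (QuotientGroup.lift N0 α hαker.ge)
  have hβi : Function.Injective β := by
    refine (MulAut.congr e).injective.comp ?_
    rw [injective_iff_map_eq_one]
    intro a ha
    obtain ⟨c, rfl⟩ := QuotientGroup.mk_surjective a
    exact (QuotientGroup.eq_one_iff c).2 (hαker ▸ MonoidHom.mem_ker.2 ha)
  haveI : Finite (MulAut Cfsg.Spor.Fi22) :=
    Finite.of_injective (fun a : MulAut Cfsg.Spor.Fi22 => (a : Cfsg.Spor.Fi22 → Cfsg.Spor.Fi22)) DFunLike.coe_injective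
  have hcard : Nat.card (↥T.C ⧸ N0) = Nat.card (MulAut Cfsg.Spor.Fi22) := by
    have hN2 : Nat.card N0 = Nat.card tN := Nat.card_congr
      { toFun := fun c => ⟨⟨c.1, hN0Y c.2⟩, (hmem _).2 ((hN0mem _).1 c.2)⟩
        invFun := fun y => ⟨y.1.1, (hN0mem _).2 ((hmem _).1 y.2)⟩
        left_inv := fun _ => rfl
        right_inv := fun _ => rfl }
    have h1 := Subgroup.card_eq_card_quotient_mul_card_subgroup N0
    have h2 := Subgroup.card_eq_card_quotient_mul_card_subgroup tN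
    have h3 := T.Y.card_mul_index
    rw [T.Y_index, h1, h2, hN2, Nat.card_congr e.toEquiv] at h3
    have hA := Subgroup.card_eq_card_quotient_mul_card_subgroup (Inn Cfsg.Spor.Fi22)
    have hO : Nat.card (MulAut Cfsg.Spor.Fi22 ⧸ Inn Cfsg.Spor.Fi22) = 2 :=
      CfsgLib.SporOut.Fi22.card_out CfsgLib.Spor.Fi22.isFi22.2
    have hI : Nat.card (Inn Cfsg.Spor.Fi22) = Nat.card Cfsg.Spor.Fi22 := by
      refine (Nat.card_congr (Equiv.ofBijective (MulAut.conj : Cfsg.Spor.Fi22 →* _).rangeRestrict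
        ⟨fun a b hab => ?_, MonoidHom.rangeRestrict_surjective _⟩)).symm
      have h : e.symm (a * b⁻¹) ∈ Subgroup.center (↥T.Y ⧸ tN) := Subgroup.mem_center_iff.2 fun q => by
        apply e.injective
        rw [map_mul e, map_mul e, e.apply_symm_apply]
        have h' : MulAut.conj (a * b⁻¹) (e q) = e q := by
          rw [map_mul, map_inv, show MulAut.conj a = MulAut.conj b from congrArg Subtype.val hab,
            mul_inv_cancel, MulAut.one_apply]
        rw [MulAut.conj_apply, mul_inv_eq_iff_eq_mul] at h'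
        exact h'.symm
      rw [hcenQ, Subgroup.mem_bot, map_eq_one_iff _ e.symm.injective, mul_inv_eq_one] at h
      exact h
    rw [hA, hO, hI]
    refine Nat.eq_of_mul_eq_mul_right (Nat.card_pos (α := tN)) ?_
    linarith
  refine ⟨hKY ▸ hqY, hKY ▸ T.Y_index, ⟨_, hKY ▸ htY⟩, ⟨MulEquiv.ofBijective β ?_⟩⟩
  exact (Nat.bijective_iff_injective_and_card β).2 ⟨hβi, hcard⟩

end Duo

end CfsgLib.Spor.LargeFi.SixUp
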