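import Cfsg.Agent.Lib.Spor.LargeFi.SixUpChk
import Cfsg.Agent.Lib.Spor.LargeFi.BigPair
import Cfsg.Agent.Lib.Spor.LargeFi.Core
import Cfsg.Agent.Lib.Spor.LargeFi.AFacts

/-!
An involution `t` of `Q` with small vector, `r` above its multiple by the scalar and `u` moving `r`:
what the elements commuting with the common centraliser of `t` and `u` in `Q` are.
-/

set_option autoImplicit false
set_option maxRecDepth 100000

namespace CfsgLib.Spor.LargeFi.SixUp

open CfsgLib.Spor.U62 CfsgLib.ThreeTransp CfsgLib.Spor.LargeFi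

variable {G : Type*} [Group G] [Finite G] {z : G}
  {Q : Subgroup (Subgroup.centralizer ({z} : Set G))} [Q.Normal]

/-- the three elements -/
structure Duo (D : Model Q (zH z)) where
  /-- the involution -/
  t : Q
  /-- its partner -/
  r : Q
  /-- the element moving the partner -/
  u : Q
  vt : vc (D.vec t) = smallRoot
  vr : vc (D.vec r) = smC 2 smallRoot
  vu : vc (D.vec u) = uV

/-- an element of `Q` as an element of the group -/
abbrev el (q : Q) : G := ((q : Subgroup.centralizer ({z} : Set G)) : G)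

variable {D : Model Q (zH z)}

omit [Finite G] in
theorem commute_iff (a b : Q) : Commute (el a) (el b) ↔ bC (vc (D.vec a)) (vc (D.vec b)) = 0 := by
  rw [← herm_im_zero, ← D.vec_comm]
  exact ⟨fun h => Subtype.ext h.eq, fun h => congrArg Subtype.val h⟩

omit [Finite G] in
theorem sq_iff (a : Q) : el a * el a = 1 ↔ nfC (vc (D.vec a)) = 0 := by
  rw [← nf_eq_zero_iff, ← D.vec_sq]
  exact ⟨fun h => Subtype.ext h, fun h => congrArg Subtype.val h⟩

omit [Finite G] in
theorem exists_lift_code (D : Model Q (zH z)) {c : ℕ} (hc : c < 4096) :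
    ∃ a : Q, vc (D.vec a) = c := by
  obtain ⟨a, ha⟩ := D.vec_surj (vOf c)
  exact ⟨a, by rw [ha, vc_vOf hc]⟩

omit [Finite G] in
theorem act_vec_of_commute {h : Subgroup.centralizer ({z} : Set G)} {b : Q}
    (hc : (h : G) * el b = el b * (h : G)) : D.act h (D.vec b) = D.vec b := by
  have hm : h * (b : Subgroup.centralizer ({z} : Set G)) * h⁻¹ ∈ Q :=
    (inferInstance : Q.Normal).conj_mem _ b.2 h
  rw [← D.vec_conj' h b hm]
  congr 1
  exact Subtype.ext (mul_inv_eq_iff_eq_mul.2 (Subtype.ext hc))

omit [Finite G] in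
/-- an element fixing the vectors orthogonal to the representative and `uV` lies in `Q` -/
theorem mem_Q_of_fix {h : Subgroup.centralizer ({z} : Set G)}
    (hW : ∀ v, inW (vc v) = true → D.act h v = v) : h ∈ Q := by
  rcases D.act_semi h with hlin | hsemi
  · refine (D.ker_act h).1 (AddMonoidHom.ext fun v => ?_)
    show D.act h v = v
    have key : ∀ n < 2 ^ 12, D.act h (vOf n) = vOf n := by
      intro n hn
      refine bits_induction (P := fun n => D.act h (vOf n) = vOf n) ?_ ?_ ?_ n hn
      · rw [show vOf 0 = 0 by decide +kernel, map_zero]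
      · intro j hj
        have h1 := List.all_eq_true.1 pair_check j (List.mem_range.2 hj)
        simp only [Bool.and_eq_true, Nat.beq_eq] at h1
        obtain ⟨⟨ha, hb⟩, e⟩ := h1
        have hlt : ∀ {c}, inW c = true → c < 4096 := fun hc => by
          simp only [inW, Bool.and_eq_true, Nat.blt_eq] at hc
          exact hc.1.1
        have e1 : vOf (smC 2 (pairL.getD j (0, 0)).2) = om • vOf (pairL.getD j (0, 0)).2 := by
          rw [← vOf_vc (om • _), vc_om_smul, vc_vOf (hlt hb)]
        rw [← e, vOf_xor, map_add, e1, hlin, hW _ (by rw [vc_vOf (hlt ha)]; exact ha),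
          hW _ (by rw [vc_vOf (hlt hb)]; exact hb)]
      · intro a b _ _ ea eb
        rw [vOf_xor, map_add, ea, eb]
    rw [← vOf_vc v]
    exact key _ (vc_lt v)
  · exfalso
    have h4 := semi_check
    rw [Bool.and_eq_true] at h4
    have hv4 : vc (vOf 4) = 4 := vc_vOf (by norm_num)
    have e := hsemi (vOf 4)
    rw [hW _ (by rw [vc_om_smul, hv4]; exact h4.2), hW _ (by rw [hv4]; exact h4.1)] at e
    have hne : vc (om • vOf 4) ≠ vc ((om ^ 2) • vOf 4) := by decide +kernel
    exact hne (congrArg vc e)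

omit [Finite G] in
theorem cases_of_comm {a : Q}
    (h : ∀ b : Q, inW (vc (D.vec b)) = true → Commute (el a) (el b)) :
    vc (D.vec a) = 0 ∨ vc (D.vec a) = smallRoot ∨ vc (D.vec a) = uV ∨
      vc (D.vec a) = Nat.xor smallRoot uV := by
  have hc := List.all_eq_true.1 span_check _ (List.mem_range.2 (vc_lt (D.vec a)))
  have hw : (wL.all fun w => Nat.beq (bC (vc (D.vec a)) w) 0) = true := by
    refine List.all_eq_true.2 fun w hw => ?_
    have hin := List.all_eq_true.1 wL_check w hw
    obtain ⟨b, hb⟩ := exists_lift_code D (c := w) (by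
      simp only [inW, Bool.and_eq_true, Nat.blt_eq] at hin
      exact hin.1.1)
    rw [Nat.beq_eq, ← hb]
    exact (commute_iff a b).1 (h b (by rw [hb]; exact hin))
  rw [hw] at hc
  simp only [Bool.not_true, Bool.false_or, Bool.or_eq_true, Nat.beq_eq] at hc
  tauto

/-- An element of `Q` with small vector is not conjugate to the central involution. -/
theorem small_not_conj {a : Q} (ha : Small (D.vec a)) : ¬ IsConj z (el a) := by
  intro hc
  have hne : el a ≠ z := fun e =>
    ha.isotropic.2 ((D.vec_eq_zero a).2 (Or.inr (Subtype.ext e)))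
  obtain ⟨g, hg⟩ := isConj_iff.1 hc
  exact not_small_big ha (big_of_conj D hg hne)

/-- The extraspecial subgroup of a conjugate `a` of the central involution containing `t ∈ Q`:
`t` commutes with a lift of the multiple of the vector of `a`. -/
theorem line_orth (t a : Q) {g : G} (hg : g * z * g⁻¹ = el a) (hne : el a ≠ z)
    (hgt : g * el t * g⁻¹ = el t) : bC (vc (D.vec t)) (smC 2 (vc (D.vec a))) = 0 := by
  obtain ⟨h, b, hb, hvb, hgb, hneb⟩ := exists_at_bigV D hg hne
  have P : Model.Pair (Q := Q) (z := z) ((h : G) * g) b := ⟨hgb, hneb⟩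
  obtain ⟨c, hc⟩ := D.vec_surj (om • bigV)
  have hcl : (c : Subgroup.centralizer ({z} : Set G)) ∈ D.lineP :=
    ⟨c.2, by
      rw [show (⟨(c : Subgroup.centralizer ({z} : Set G)), c.2⟩ : Q) = c from rfl, hc, vc_om_smul,
        vc_bigV]
      exact lineL_closed.2.2.1⟩
  have hcp := (P.lineP_le D hvb hcl).1
  have htp : ((h : G) * el t * (h : G)⁻¹) ∈ (qG Q).map (MulAut.conj ((h : G) * g)).toMonoidHom := by
    refine ⟨el t, mem_qG.2 t.2, ?_⟩
    show (h : G) * g * el t * ((h : G) * g)⁻¹ = _
    calc (h : G) * g * el t * ((h : G) * g)⁻¹ = (h : G) * (g * el t * g⁻¹) * (h : G)⁻¹ := by group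
      _ = _ := by rw [hgt]
  have htq : ((h : G) * el t * (h : G)⁻¹) ∈ qG Q :=
    (mem_qG (h := h * (t : Subgroup.centralizer ({z} : Set G)) * h⁻¹)).2
      ((inferInstance : Q.Normal).conj_mem _ t.2 h)
  have hel := (twoPair D hgb hneb).elementary
  have hcomm : (h : G) * el t * (h : G)⁻¹ * el c = el c * ((h : G) * el t * (h : G)⁻¹) :=
    congrArg Subtype.val (hel.1.is_comm.comm ⟨_, htq, htp⟩ ⟨el c, mem_qG.2 c.2, hcp⟩)
  -- back
  let c' : Q := ⟨h⁻¹ * c * h, by
    simpa using (inferInstance : Q.Normal).conj_mem _ c.2 h⁻¹⟩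
  have h1 : Commute (el t) (el c') := by
    show el t * ((h : G)⁻¹ * el c * (h : G)) = (h : G)⁻¹ * el c * (h : G) * el t
    calc el t * ((h : G)⁻¹ * el c * (h : G))
        = (h : G)⁻¹ * ((h : G) * el t * (h : G)⁻¹ * el c) * (h : G) := by group
      _ = (h : G)⁻¹ * (el c * ((h : G) * el t * (h : G)⁻¹)) * (h : G) := by rw [hcomm]
      _ = _ := by group
  have h2 : Commute (el t) (el a) := by
    have hz : Commute (el t) z :=
      (Subgroup.mem_centralizer_singleton_iff.1 (t : Subgroup.centralizer ({z} : Set G)).2)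
    show el t * el a = el a * el t
    calc el t * el a = g * (el t * z) * g⁻¹ := by rw [← hg]; nth_rewrite 1 [← hgt]; group
      _ = g * (z * el t) * g⁻¹ := by rw [hz.eq]
      _ = el a * el t := by rw [← hg]; nth_rewrite 2 [← hgt]; group
  have hva : D.act h⁻¹ bigV = D.vec a := by
    have e : D.vec b = D.act h (D.vec a) := by
      have hm : h * (a : Subgroup.centralizer ({z} : Set G)) * h⁻¹ ∈ Q := hb ▸ b.2
      rw [← D.vec_conj' h a hm]
      congr 1
      exact Subtype.ext hb
    rw [← hvb, e, D.act_inv_apply]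
  have hvc : D.vec c' = D.act h⁻¹ (om • bigV) := by
    rw [← hc, ← D.vec_conj' h⁻¹ c (by rw [inv_inv]; exact c'.2)]
    congr 1
    exact Subtype.ext (by simp [c'])
  have hcase : D.vec c' = om • D.vec a ∨ D.vec (a * c') = om • D.vec a := by
    rcases D.act_semi h⁻¹ with e | e <;> rw [e bigV, hva] at hvc
    · exact Or.inl hvc
    · refine Or.inr ?_
      rw [D.vec_mul, hvc, show om ^ 2 = (1 : K4) + om by decide +kernel, add_smul, one_smul,
        ← add_assoc, v6_two, zero_add]
  rw [← vc_om_smul]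
  rcases hcase with e | e
  · rw [← e]; exact (commute_iff t c').1 h1
  · rw [← e]; exact (commute_iff t (a * c')).1 (h2.mul_right h1)

namespace Duo

variable (T : Duo D)

omit [Finite G] in
theorem u_facts : el T.u * el T.u = 1 ∧ Commute (el T.u) (el T.t) ∧ ¬ Commute (el T.u) (el T.r) := by
  have h := uV_check
  simp only [Bool.and_eq_true, Nat.beq_eq, Nat.blt_eq] at h
  refine ⟨(sq_iff (D := D) T.u).2 ?_, (commute_iff (D := D) T.u T.t).2 ?_, fun hc => ?_⟩
  · rw [T.vu]; exact h.1.1.1.1.2
  · rw [T.vu, T.vt]; exact h.1.1.1.2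
  · have := (commute_iff (D := D) T.u T.r).1 hc
    rw [T.vu, T.vr, h.1.1.2] at this
    exact one_ne_zero this

omit [Finite G] in
theorem small_t : Small (D.vec T.t) := by
  have e : D.vec T.t = smallV := by rw [← vOf_vc (D.vec T.t), T.vt]; rfl
  rw [e]; exact small_smallV

/-- A conjugate of the central involution by an element commuting with `t` and commuting with
everything in `Q` that commutes with `t` and `u` is the central involution. -/
theorem eq_z {g : G} (hgt : g * el T.t * g⁻¹ = el T.t)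
    (hw : ∀ q : Q, Commute (el q) (el T.t) → Commute (el q) (el T.u) →
      Commute (g * z * g⁻¹) (el q)) : g * z * g⁻¹ = z := by
  have hzQ := D.xc.mem
  have hwz : Commute (g * z * g⁻¹) z := hw ⟨zH z, hzQ⟩
    (Subgroup.mem_centralizer_singleton_iff.1 (T.t : Subgroup.centralizer ({z} : Set G)).2).symm
    (Subgroup.mem_centralizer_singleton_iff.1 (T.u : Subgroup.centralizer ({z} : Set G)).2).symm
  obtain ⟨wH, hwH⟩ : ∃ wH : Subgroup.centralizer ({z} : Set G), (wH : G) = g * z * g⁻¹ :=
    ⟨⟨_, Subgroup.mem_centralizer_singleton_iff.2 hwz⟩, rfl⟩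
  have hb : ∀ b : Q, inW (vc (D.vec b)) = true → Commute (wH : G) (el b) := fun b hb => by
    simp only [inW, Bool.and_eq_true, Nat.beq_eq] at hb
    rw [hwH]
    exact hw b ((commute_iff (D := D) b T.t).2 (by rw [T.vt]; exact hb.1.2))
      ((commute_iff (D := D) b T.u).2 (by rw [T.vu]; exact hb.2))
  have hwQ : wH ∈ Q := by
    refine mem_Q_of_fix (D := D) fun v hv => ?_
    obtain ⟨b, rfl⟩ := D.vec_surj v
    exact act_vec_of_commute (hb b hv)
  obtain ⟨w, hwdef⟩ : ∃ w : Q, el w = g * z * g⁻¹ := ⟨⟨wH, hwQ⟩, hwH⟩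
  rw [← hwdef]
  by_contra hne
  have hconj : IsConj z (el w) := isConj_iff.2 ⟨g, hwdef.symm⟩
  have hk := uV_check
  simp only [Bool.and_eq_true, Nat.beq_eq, Nat.blt_eq] at hk
  have hline := line_orth (D := D) T.t w hwdef.symm hne hgt
  rw [T.vt] at hline
  rcases cases_of_comm (D := D) (a := w) (fun b hb' => by
      have := hb b hb'; rw [hwH, ← hwdef] at this; exact this) with e | e | e | e
  · rcases (D.vec_eq_zero w).1 (vc_injective (e.trans vc_zero'.symm)) with e' | e'
    · refine D.xc.ne_one (Subtype.ext ?_)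
      have : el w = 1 := congrArg Subtype.val e'
      rw [hwdef, conj_eq_one_iff] at this
      exact this
    · exact hne (congrArg Subtype.val e')
  · exact small_not_conj (D := D) (a := w) (by
      rw [← vOf_vc (D.vec w), e]; exact small_smallV) hconj
  · rw [e, hk.1.2] at hline; exact one_ne_zero hline
  · rw [e, hk.2] at hline; exact one_ne_zero hline

omit [Finite G] in
/-- The centraliser in `H` of `C_Q(t)`. -/
theorem cent_cases {h : Subgroup.centralizer ({z} : Set G)}
    (hc : ∀ q : Q, Commute (el q) (el T.t) → Commute (h : G) (el q)) :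
    (h : G) = 1 ∨ (h : G) = z ∨ (h : G) = el T.t ∨ (h : G) = z * el T.t := by
  have hb : ∀ b : Q, inW (vc (D.vec b)) = true → Commute (h : G) (el b) := fun b hb => by
    simp only [inW, Bool.and_eq_true, Nat.beq_eq] at hb
    exact hc b ((commute_iff (D := D) b T.t).2 (by rw [T.vt]; exact hb.1.2))
  have hQ : h ∈ Q := by
    refine mem_Q_of_fix (D := D) fun v hv => ?_
    obtain ⟨b, rfl⟩ := D.vec_surj v
    exact act_vec_of_commute (hb b hv)
  have h2 := second_check
  simp only [Bool.and_eq_true, Nat.beq_eq] at h2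
  obtain ⟨q, hq⟩ := exists_lift_code D (c := 2) (by norm_num)
  have hqt : Commute (el q) (el T.t) :=
    (commute_iff (D := D) q T.t).2 (by rw [hq, T.vt]; exact h2.1.1)
  have hhq := (commute_iff (D := D) q ⟨h, hQ⟩).1 (hc q hqt).symm
  rw [hq] at hhq
  rcases cases_of_comm (D := D) (a := ⟨h, hQ⟩) hb with e | e | e | e
  · exact ((D.vec_eq_zero _).1 (vc_injective (e.trans vc_zero'.symm))).imp (congrArg Subtype.val)
      fun e' => Or.inl (congrArg Subtype.val e')
  · right; right
    exact (D.vec_eq (vc_injective (T.vt.trans e.symm))).imp (congrArg Subtype.val)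
      (congrArg Subtype.val)
  · rw [e, h2.1.2] at hhq; exact absurd hhq one_ne_zero
  · rw [e, h2.2] at hhq; exact absurd hhq one_ne_zero

omit [Finite G] in
theorem r_facts : Commute (el T.r) (el T.t) ∧ el T.t * el T.t = 1 ∧ el T.r * el T.r = 1 := by
  have h : bC (smC 2 smallRoot) smallRoot = 0 ∧ nfC smallRoot = 0 ∧ nfC (smC 2 smallRoot) = 0 := by
    decide +kernel
  exact ⟨(commute_iff (D := D) _ _).2 (by rw [T.vr, T.vt]; exact h.1),
    (sq_iff (D := D) _).2 (by rw [T.vt]; exact h.2.1), (sq_iff (D := D) _).2 (by rw [T.vr]; exact h.2.2)⟩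

omit [Finite G] in
/-- An element of `H` commuting with `t` moves `r` only by `t` and `z`. -/
theorem conj_r {h : Subgroup.centralizer ({z} : Set G)} (ht : Commute (h : G) (el T.t)) :
    (h : G) * el T.r * (h : G)⁻¹ = el T.r ∨ (h : G) * el T.r * (h : G)⁻¹ = z * el T.r ∨
    (h : G) * el T.r * (h : G)⁻¹ = el T.t * el T.r ∨
    (h : G) * el T.r * (h : G)⁻¹ = z * (el T.t * el T.r) := by
  have hm : h * (T.r : Subgroup.centralizer ({z} : Set G)) * h⁻¹ ∈ Q :=
    (inferInstance : Q.Normal).conj_mem _ T.r.2 h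
  have hv : D.vec ⟨_, hm⟩ = D.act h (D.vec T.r) := D.vec_conj' h T.r hm
  have hS : D.act h (D.vec T.t) = D.vec T.t := act_vec_of_commute ht.eq
  have hr : D.vec T.r = om • D.vec T.t :=
    vc_injective (by rw [vc_om_smul, T.vt, T.vr])
  rcases D.act_semi h with e | e <;> rw [hr, e, hS] at hv
  · rw [← hr] at hv
    rcases D.vec_eq hv.symm with e' | e'
    · exact Or.inl (congrArg Subtype.val e')
    · exact Or.inr (Or.inl (congrArg Subtype.val e'))
  · have h2 : D.vec (T.t * T.r) = D.vec ⟨_, hm⟩ := by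
      rw [hv, D.vec_mul, hr, show om ^ 2 = (1 : K4) + om by decide +kernel, add_smul, one_smul]
    rcases D.vec_eq h2 with e' | e'
    · exact Or.inr (Or.inr (Or.inl (congrArg Subtype.val e')))
    · exact Or.inr (Or.inr (Or.inr (congrArg Subtype.val e')))

omit [Finite G] in
theorem u_r : el T.u * el T.r * (el T.u)⁻¹ = z * el T.r := by
  rcases D.xc.commEl _ T.u.2 _ T.r.2 with e | e
  · exact absurd (mul_inv_eq_iff_eq_mul.1 (congrArg Subtype.val e)) T.u_facts.2.2
  · exact congrArg Subtype.val e

end Duo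

end CfsgLib.Spor.LargeFi.SixUp
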