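import Cfsg.Agent.Lib.Spor.LargeFi.ACoord

/-!
Checks for the transfer in the centraliser of a non-central involution: a singular vector `uV`
orthogonal to the small representative but not to its multiple, and generators of the hyperplane
orthogonal to both.
-/

set_option autoImplicit false
set_option maxRecDepth 100000

namespace CfsgLib.Spor.LargeFi.SixUp

open CfsgLib.Spor.U62 CfsgLib.Spor.LargeFi

/-- the code of the singular vector -/
def uV : ℕ := 257

/-- generators of the subgroup orthogonal to the representative and the vector -/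
def wL : List ℕ := [1, 4, 8, 16, 32, 64, 128, 256, 1024, 2562]

/-- for each bit a pair in the orthogonal subgroup -/
def pairL : List (ℕ × ℕ) := [(1, 0), (0, 1), (4, 0), (8, 0), (16, 0), (32, 0), (64, 0), (128, 0),
  (256, 0), (0, 256), (1024, 0), (2562, 257)]

/-- orthogonality to the representative and the vector -/
def inW (v : ℕ) : Bool := Nat.blt v 4096 && Nat.beq (bC v smallRoot) 0 && Nat.beq (bC v uV) 0

theorem uV_check : (Nat.blt uV 4096 && Nat.beq (nfC uV) 0 && Nat.beq (bC uV smallRoot) 0 &&
    Nat.beq (bC uV (smC 2 smallRoot)) 1 && Nat.beq (bC smallRoot (smC 2 uV)) 1 &&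
    Nat.beq (bC smallRoot (smC 2 (Nat.xor smallRoot uV))) 1) = true := by decide +kernel

theorem semi_check : (inW 4 && inW (smC 2 4)) = true := by decide +kernel

theorem pair_check : ((List.range 12).all fun j => inW (pairL.getD j (0, 0)).1 &&
    inW (pairL.getD j (0, 0)).2 &&
    Nat.beq (Nat.xor (pairL.getD j (0, 0)).1 (smC 2 (pairL.getD j (0, 0)).2)) (2 ^ j)) = true := by
  decide +kernel

theorem wL_check : (wL.all fun w => inW w) = true := by decide +kernel

theorem span_check : ((List.range 4096).all fun c => !(wL.all fun w => Nat.beq (bC c w) 0) ||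
    Nat.beq c 0 || Nat.beq c smallRoot || Nat.beq c uV || Nat.beq c (Nat.xor smallRoot uV)) = true := by
  decide +kernel

theorem second_check : (Nat.beq (bC 2 smallRoot) 0 && Nat.beq (bC 2 uV) 1 &&
    Nat.beq (bC 2 (Nat.xor smallRoot uV)) 1) = true := by decide +kernel

theorem wV_check : (Nat.beq (wV 16) smallRoot && Nat.beq (wV 32) (smC 2 smallRoot)) = true := by
  decide +kernel

theorem line_check : Nat.beq (Nat.xor (smC 2 smallRoot) smallRoot) (smC 2 (smC 2 smallRoot)) = true := by
  decide +kernel

end CfsgLib.Spor.LargeFi.SixUp
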