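import Cfsg.Agent.Lib.Transfer.TransferFixed

/-!
Transfer to a group of order two at an involution, evaluated on the points fixed by a 2-group.
-/

set_option autoImplicit false

namespace CfsgLib.Spor.LargeFi.SixUp

open CfsgLib.Transfer MulAction

variable {G : Type*} [Group G] [Finite G] {Hs : Subgroup G} (ϕ : Hs →* Multiplicative (ZMod 2))

theorem z2_cases (a : Multiplicative (ZMod 2)) : a = 1 ∨ a = Multiplicative.ofAdd 1 := by
  revert a; decide

theorem z2_sq (a : Multiplicative (ZMod 2)) : a ^ 2 = 1 := by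
  revert a; decide

/-- If at every point fixed by a 2-group commuting with an involution `x` the value is the
non-trivial one, then so is the transfer at `x`. -/
theorem transfer_eq_of_fixed [Hs.FiniteIndex] (hodd : Odd Hs.index) {x : G} (hx : x * x = 1) (P : Subgroup G)
    (hP : IsPGroup 2 P) (hxP : x ∈ P) (hc : ∀ p ∈ P, p * x = x * p)
    (hfix : ∀ g : G, (∀ p ∈ P, g⁻¹ * p * g ∈ Hs) →
      ∀ h : g⁻¹ * x * g ∈ Hs, ϕ ⟨_, h⟩ = Multiplicative.ofAdd 1) :
    MonoidHom.transfer ϕ x = Multiplicative.ofAdd 1 := by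
  classical
  haveI : Fact (Nat.Prime 2) := ⟨Nat.prime_two⟩
  haveI : Fintype (G ⧸ Hs) := Fintype.ofFinite _
  have hord : orderOf x ∣ 2 := orderOf_dvd_of_pow_eq_one (by rw [pow_two, hx])
  rw [transfer_eq_prod_fixedVal ϕ x (fun k hk hdvd g h => ?_)]
  swap
  · have h2 := Nat.le_of_dvd (by norm_num) (hdvd.trans hord)
    obtain rfl : k = 2 := by omega
    have e : (⟨_, h⟩ : Hs) = 1 := Subtype.ext (by
      show g⁻¹ * x ^ 2 * g = 1
      rw [pow_two, hx, mul_one, inv_mul_cancel])
    rw [e, map_one]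
  set c : Multiplicative (ZMod 2) := Multiplicative.ofAdd 1 with hcdef
  have hinv : ∀ (p : P) (q : G ⧸ Hs), fixedVal ϕ x (p • q) = fixedVal ϕ x q := by
    intro p q
    obtain ⟨g, rfl⟩ := QuotientGroup.mk_surjective q
    have e : ((p : G) * g)⁻¹ * x * ((p : G) * g) = g⁻¹ * x * g := by
      rw [mul_inv_rev, show g⁻¹ * (p : G)⁻¹ * x * ((p : G) * g) = g⁻¹ * ((p : G)⁻¹ * (x * p)) * g by
        group, ← hc p p.2, inv_mul_cancel_left]
    show fixedVal ϕ x (((p : G) * g : G) : G ⧸ Hs) = _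
    by_cases hm : g⁻¹ * x * g ∈ Hs
    · rw [fixedVal_of_mem ϕ x hm, fixedVal_of_mem ϕ x (g := (p : G) * g) (by rw [e]; exact hm)]
      exact congrArg ϕ (Subtype.ext e)
    · rw [fixedVal_of_ne ϕ x (fun h => hm ((mem_iff_smul_eq x g).2 h)),
        fixedVal_of_ne ϕ x (fun h => hm (by rw [← e]; exact (mem_iff_smul_eq x _).2 h))]
  let S : SubMulAction P (G ⧸ Hs) :=
    { carrier := {q | fixedVal ϕ x q = c}
      smul_mem' := fun p q hq => by
        show fixedVal ϕ x (p • q) = c
        rw [hinv]; exact hq }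
  have hprod : ∏ q : G ⧸ Hs, fixedVal ϕ x q = c ^ Nat.card S := by
    have hS : Nat.card S = (Finset.univ.filter fun q : G ⧸ Hs => fixedVal ϕ x q = c).card := by
      show Nat.card {q : G ⧸ Hs // fixedVal ϕ x q = c} = _
      rw [Nat.card_eq_fintype_card, Fintype.card_subtype]
    rw [hS, ← Finset.prod_filter_mul_prod_filter_not Finset.univ (fun q => fixedVal ϕ x q = c),
      Finset.prod_eq_pow_card (fun q hq => (Finset.mem_filter.1 hq).2),
      Finset.prod_eq_one (fun q hq => (z2_cases _).resolve_right (Finset.mem_filter.1 hq).2), mul_one]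
  have hall : ∀ q ∈ fixedPoints P (G ⧸ Hs), fixedVal ϕ x q = c := by
    intro q hq
    obtain ⟨g, rfl⟩ := QuotientGroup.mk_surjective q
    have hg : ∀ p ∈ P, g⁻¹ * p * g ∈ Hs := fun p hp => (mem_iff_smul_eq p g).2 (hq ⟨p, hp⟩)
    rw [fixedVal_of_mem ϕ x (hg x hxP)]
    exact hfix g hg _
  have hcard : Nat.card (fixedPoints P S) = Nat.card (fixedPoints P (G ⧸ Hs)) := Nat.card_congr
    { toFun := fun a => ⟨(a.1 : G ⧸ Hs), fun p => congrArg Subtype.val (a.2 p)⟩
      invFun := fun a => ⟨⟨a.1, hall a.1 a.2⟩, fun p => Subtype.ext (a.2 p)⟩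
      left_inv := fun _ => rfl
      right_inv := fun _ => rfl }
  have h1 := hP.card_modEq_card_fixedPoints S
  have h2 := hP.card_modEq_card_fixedPoints (G ⧸ Hs)
  have hmod : Nat.card S % 2 = 1 := by
    rw [Subgroup.index] at hodd
    have := h1.trans ((hcard ▸ h2).symm)
    rw [Nat.ModEq] at this
    rw [this]
    exact Nat.odd_iff.1 hodd
  rw [hprod, pow_eq_pow_mod _ (z2_sq c), hmod, pow_one]

end CfsgLib.Spor.LargeFi.SixUp
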