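import Cfsg.Agent.Lib.Spor.LargeFi.SixUpCent
import Cfsg.Agent.Lib.Spor.LargeFi.SixUpTransfer
import Mathlib.GroupTheory.Nilpotent

/-!
The centraliser of the non-central involution `t` has a subgroup of index two missing `u`: transfer
from the centraliser of `t` and `z`, whose index is odd.
-/

set_option autoImplicit false
set_option maxRecDepth 100000

namespace CfsgLib.Spor.LargeFi.SixUp

open CfsgLib.ThreeTransp CfsgLib.Spor.LargeFi

variable {G : Type*} [Group G] [Finite G] {z : G}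
  {Q : Subgroup (Subgroup.centralizer ({z} : Set G))} [Q.Normal] {D : Model Q (zH z)}

omit [Finite G] in
theorem el_comm_z (q : Q) : Commute (el q) z :=
  Subgroup.mem_centralizer_singleton_iff.1 (q : Subgroup.centralizer ({z} : Set G)).2

namespace Duo

variable (T : Duo D)

/-- the centraliser of the involution -/
abbrev C : Subgroup G := Subgroup.centralizer ({el T.t} : Set G)

/-- its part centralising `z` -/
def Hs : Subgroup ↥T.C := (Subgroup.centralizer ({z} : Set G)).subgroupOf T.C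

omit [Finite G] in
theorem zt_facts : z ≠ 1 ∧ el T.t ≠ 1 ∧ Commute z (el T.t) := by
  refine ⟨fun e => D.xc.ne_one (Subtype.ext e), fun e => ?_, (el_comm_z T.t).symm⟩
  exact T.small_t.isotropic.2 ((D.vec_eq_zero T.t).2 (Or.inl (Subtype.ext e)))

/-- the value of the homomorphism -/
noncomputable def val (h : G) : Multiplicative (ZMod 2) := by
  classical exact
    if h * el T.r * h⁻¹ = el T.r ∨ h * el T.r * h⁻¹ = z * el T.t * el T.r then 1
    else Multiplicative.ofAdd 1

omit [Finite G] in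
theorem val_of {h : G} {i j : ℕ} (e : h * el T.r * h⁻¹ = z ^ i * el T.t ^ j * el T.r) :
    T.val h = Multiplicative.ofAdd ((i + j : ℕ) : ZMod 2) := by
  obtain ⟨hz1, ht1, hzt⟩ := T.zt_facts
  have hz2 : z ^ 2 = 1 := by rw [pow_two]; exact congrArg Subtype.val D.xc.inv
  have ht2 : el T.t ^ 2 = 1 := by rw [pow_two]; exact T.r_facts.2.1
  rw [pow_eq_pow_mod i hz2, pow_eq_pow_mod j ht2] at e
  have hc : ((i + j : ℕ) : ZMod 2) = ((i % 2 + j % 2 : ℕ) : ZMod 2) := by
    rw [Nat.cast_add, Nat.cast_add, ZMod.natCast_mod, ZMod.natCast_mod]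
  rw [hc, val]
  rcases Nat.mod_two_eq_zero_or_one i with a | a <;> rcases Nat.mod_two_eq_zero_or_one j with b | b <;>
    rw [a, b] at e ⊢ <;> simp only [pow_zero, pow_one, one_mul, mul_one] at e
  · rw [if_pos (Or.inl e)]; decide
  · rw [if_neg ?_]
    · decide
    rw [e]
    rintro (e' | e')
    · exact ht1 (mul_eq_right.1 e')
    · exact hz1 (mul_eq_right.1 (mul_right_cancel e').symm)
  · rw [if_neg ?_]
    · decide
    rw [e]
    rintro (e' | e')
    · exact hz1 (mul_eq_right.1 e')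
    · exact ht1 (mul_eq_left.1 (mul_right_cancel e').symm)
  · rw [if_pos (Or.inr e)]; decide

omit [Finite G] in
theorem exists_form {h : G} (hz : Commute h z) (ht : Commute h (el T.t)) :
    ∃ i j : ℕ, h * el T.r * h⁻¹ = z ^ i * el T.t ^ j * el T.r := by
  rcases T.conj_r (h := ⟨h, Subgroup.mem_centralizer_singleton_iff.2 hz⟩) ht with e | e | e | e
  · exact ⟨0, 0, by simpa using e⟩
  · exact ⟨1, 0, by simpa using e⟩
  · exact ⟨0, 1, by simpa using e⟩
  · exact ⟨1, 1, by simpa [mul_assoc] using e⟩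

omit [Finite G] in
theorem val_mul {h k : G} (hz : Commute h z) (ht : Commute h (el T.t)) (kz : Commute k z)
    (kt : Commute k (el T.t)) : T.val (h * k) = T.val h * T.val k := by
  obtain ⟨i, j, e⟩ := T.exists_form hz ht
  obtain ⟨i', j', e'⟩ := T.exists_form kz kt
  have hcz : Commute h (z ^ i' * el T.t ^ j') := (hz.pow_right _).mul_right (ht.pow_right _)
  have key : h * k * el T.r * (h * k)⁻¹ = z ^ (i' + i) * el T.t ^ (j' + j) * el T.r :=
    calc h * k * el T.r * (h * k)⁻¹ = h * (k * el T.r * k⁻¹) * h⁻¹ := by group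
      _ = h * (z ^ i' * el T.t ^ j') * el T.r * h⁻¹ := by rw [e']; group
      _ = z ^ i' * el T.t ^ j' * (h * el T.r * h⁻¹) := by rw [hcz.eq]; group
      _ = z ^ i' * el T.t ^ j' * (z ^ i * el T.t ^ j * el T.r) := by rw [e]
      _ = z ^ i' * (el T.t ^ j' * z ^ i) * el T.t ^ j * el T.r := by group
      _ = _ := by rw [(T.zt_facts.2.2.symm.pow_pow j' i).eq, pow_add, pow_add]; group
  rw [T.val_of key, T.val_of e, T.val_of e', ← ofAdd_add, ← Nat.cast_add]
  congr 2
  omega

omit [Finite G] in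
theorem mem_Hs {x : ↥T.C} : x ∈ T.Hs ↔ Commute (x : G) z :=
  Subgroup.mem_subgroupOf.trans Subgroup.mem_centralizer_singleton_iff

omit [Finite G] in
theorem comm_t (x : ↥T.C) : Commute (x : G) (el T.t) := Subgroup.mem_centralizer_singleton_iff.1 x.2

/-- the homomorphism on the part centralising `z` -/
noncomputable def psi : ↥T.Hs →* Multiplicative (ZMod 2) :=
  MonoidHom.mk' (fun x => T.val ((x : ↥T.C) : G)) fun x y =>
    T.val_mul (T.mem_Hs.1 x.2) (T.comm_t x) (T.mem_Hs.1 y.2) (T.comm_t y)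

theorem odd_index : Odd T.Hs.index := by
  haveI : Fact (Nat.Prime 2) := ⟨Nat.prime_two⟩
  let N : Subgroup ↥T.Hs := ((qG Q).subgroupOf T.C).subgroupOf T.Hs
  have hmemN : ∀ x : ↥T.Hs, x ∈ N ↔ ((x : ↥T.C) : G) ∈ qG Q := fun x => Iff.rfl
  haveI hNn : N.Normal := ⟨fun x hx g => by
    rw [hmemN] at hx ⊢
    exact (xcent_qG D.xc).norm _ (T.mem_Hs.1 g.2).eq _ hx⟩
  have hN2 : IsPGroup 2 N := by
    refine IsPGroup.comap_subtype (IsPGroup.comap_subtype ?_)
    refine IsPGroup.of_card (n := 13) ?_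
    rw [qG, Subgroup.card_map_of_injective (Subgroup.subtype_injective _), D.card_Q]
  obtain ⟨T0⟩ := (inferInstance : Nonempty (Sylow 2 ↥T.Hs))
  have hNT : N ≤ T0 := by
    have h := T0.is_maximal' (T0.isPGroup'.to_sup_of_normal_right hN2) le_sup_left
    exact h ▸ le_sup_right
  obtain ⟨P1, hP1⟩ := (T0.isPGroup'.map T.Hs.subtype).exists_le_sylow
  have hback : ∀ n : ↥T.Hs, (n : ↥T.C) ∈ (P1 : Subgroup ↥T.C) → n ∈ (T0 : Subgroup ↥T.Hs) := by
    intro n hn
    have h := T0.is_maximal' (P1.isPGroup'.comap_subtype (K := T.Hs))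
      (fun x hx => hP1 ⟨x, hx, rfl⟩)
    exact h ▸ (show n ∈ (P1 : Subgroup ↥T.C).comap T.Hs.subtype from hn)
  have hle : (P1 : Subgroup ↥T.C) ≤ (T0 : Subgroup ↥T.Hs).map T.Hs.subtype := by
    have hnc : NormalizerCondition ↥(P1 : Subgroup ↥T.C) :=
      Group.normalizerCondition_of_isNilpotent (h := P1.isPGroup'.isNilpotent)
    let S0 : Subgroup ↥(P1 : Subgroup ↥T.C) :=
      ((T0 : Subgroup ↥T.Hs).map T.Hs.subtype).subgroupOf (P1 : Subgroup ↥T.C)
    by_contra hnot
    have hlt : S0 < ⊤ := lt_top_iff_ne_top.2 fun e => hnot (Subgroup.subgroupOf_eq_top.1 e)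
    obtain ⟨n, hn, hnS⟩ := SetLike.exists_of_lt (hnc S0 hlt)
    refine hnS ?_
    rw [Subgroup.mem_normalizer_iff'] at hn
    have hgH : (((n : ↥T.C) : G) * z * ((n : ↥T.C) : G)⁻¹) = z := by
      -- the conjugate centralises `C_Q(t)`
      set g : G := ((n : ↥T.C) : G) with hgdef
      have hgt : Commute g (el T.t) := T.comm_t n
      have hall : ∀ q : Q, Commute (el q) (el T.t) → Commute (g * z * g⁻¹) (el q) := by
        intro q hq
        let qC : ↥T.C := ⟨el q, Subgroup.mem_centralizer_singleton_iff.2 hq⟩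
        have hqH : qC ∈ T.Hs := T.mem_Hs.2 (el_comm_z q)
        have hqT : qC ∈ (T0 : Subgroup ↥T.Hs).map T.Hs.subtype :=
          ⟨⟨qC, hqH⟩, hNT ((hmemN _).2 (mem_qG.2 q.2)), rfl⟩
        have h1 : n⁻¹ * (⟨qC, hP1 hqT⟩ : ↥(P1 : Subgroup ↥T.C)) * n ∈ S0 := by
          refine (hn _).2 ?_
          rw [mul_inv_cancel_left]
          simpa [S0, Subgroup.mem_subgroupOf] using hqT
        obtain ⟨y, -, hy⟩ := Subgroup.mem_subgroupOf.1 h1
        have h2 : Commute (g⁻¹ * el q * g) z := by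
          have := T.mem_Hs.1 y.2
          rw [show (y : ↥T.C) = _ from hy] at this
          exact this
        show g * z * g⁻¹ * el q = el q * (g * z * g⁻¹)
        calc g * z * g⁻¹ * el q = g * (z * (g⁻¹ * el q * g)) * g⁻¹ := by group
          _ = g * ((g⁻¹ * el q * g) * z) * g⁻¹ := by rw [h2.eq]
          _ = _ := by group
      have hwz : Commute (g * z * g⁻¹) z := hall ⟨zH z, D.xc.mem⟩ (el_comm_z T.t).symm
      have hconj : IsConj z (g * z * g⁻¹) := isConj_iff.2 ⟨g, rfl⟩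
      rcases T.cent_cases (h := ⟨_, Subgroup.mem_centralizer_singleton_iff.2 hwz⟩) hall with e | e | e | e
        <;> simp only at e
      · exact absurd (conj_eq_one_iff.1 e) T.zt_facts.1
      · exact e
      · exact absurd (e ▸ hconj) (small_not_conj T.small_t)
      · have hconj' : IsConj z (el (⟨zH z, D.xc.mem⟩ * T.t)) := by
          rw [e] at hconj; exact hconj
        refine absurd hconj' (small_not_conj (D := D) (a := ⟨zH z, D.xc.mem⟩ * T.t) ?_)
        rw [D.vec_mul, (D.vec_eq_zero ⟨zH z, D.xc.mem⟩).2 (Or.inr rfl), zero_add]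
        exact T.small_t
    have hnH : (n : ↥T.C) ∈ T.Hs := T.mem_Hs.2 (mul_inv_eq_iff_eq_mul.1 hgH)
    exact Subgroup.mem_subgroupOf.2 ⟨⟨_, hnH⟩, hback ⟨_, hnH⟩ n.2, rfl⟩
  have hdvd : T.Hs.index ∣ (P1 : Subgroup ↥T.C).index :=
    Subgroup.index_dvd_of_le (hle.trans (Subgroup.map_subtype_le _))
  rw [Nat.odd_iff, ← Nat.not_even_iff, even_iff_two_dvd]
  exact fun h => P1.not_dvd_index (h.trans hdvd)

/-- the transfer -/
noncomputable def V : ↥T.C →* Multiplicative (ZMod 2) := MonoidHom.transfer T.psi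

/-- `u` as an element of the centraliser of `t` -/
def uC : ↥T.C := ⟨el T.u, Subgroup.mem_centralizer_singleton_iff.2 T.u_facts.2.1⟩

theorem V_u : T.V T.uC = Multiplicative.ofAdd 1 := by
  haveI : Fact (Nat.Prime 2) := ⟨Nat.prime_two⟩
  let P : Subgroup ↥T.C := (qG Q ⊓ Subgroup.centralizer ({el T.u} : Set G)).subgroupOf T.C
  have hmemP : ∀ x : ↥T.C, x ∈ P ↔ (x : G) ∈ qG Q ∧ Commute (x : G) (el T.u) := fun x =>
    Subgroup.mem_subgroupOf.trans (Subgroup.mem_inf.trans (and_congr Iff.rfl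
      Subgroup.mem_centralizer_singleton_iff))
  have hP : IsPGroup 2 P := by
    refine IsPGroup.comap_subtype (IsPGroup.to_le ?_ (inf_le_left : qG Q ⊓ _ ≤ qG Q))
    refine IsPGroup.of_card (n := 13) ?_
    rw [qG, Subgroup.card_map_of_injective (Subgroup.subtype_injective _), D.card_Q]
  refine transfer_eq_of_fixed T.psi T.odd_index (x := T.uC) (Subtype.ext T.u_facts.1) P hP
    ((hmemP _).2 ⟨mem_qG.2 T.u.2, Commute.refl _⟩) (fun p hp => Subtype.ext ((hmemP p).1 hp).2.eq) ?_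
  intro g hg hmem
  have hgt : Commute (g : G) (el T.t) := T.comm_t g
  have hz : (g : G) * z * (g : G)⁻¹ = z := T.eq_z (g := (g : G))
    (mul_inv_eq_iff_eq_mul.2 hgt.eq) fun q hqt hqu => by
      have hq' : Commute ((g : G)⁻¹ * el q * (g : G)) z :=
        T.mem_Hs.1 (hg ⟨el q, Subgroup.mem_centralizer_singleton_iff.2 hqt⟩
          ((hmemP _).2 ⟨mem_qG.2 q.2, hqu⟩))
      show (g : G) * z * (g : G)⁻¹ * el q = el q * ((g : G) * z * (g : G)⁻¹)
      calc (g : G) * z * (g : G)⁻¹ * el q = g * (z * ((g : G)⁻¹ * el q * g)) * (g : G)⁻¹ := by group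
        _ = g * (((g : G)⁻¹ * el q * g) * z) * (g : G)⁻¹ := by rw [hq'.eq]
        _ = _ := by group
  have hgH : g ∈ T.Hs := T.mem_Hs.2 (mul_inv_eq_iff_eq_mul.1 hz)
  have huH : T.uC ∈ T.Hs := T.mem_Hs.2 (el_comm_z T.u)
  have e : (⟨g⁻¹ * T.uC * g, hmem⟩ : ↥T.Hs) = ⟨g, hgH⟩⁻¹ * ⟨T.uC, huH⟩ * ⟨g, hgH⟩ := rfl
  rw [e, map_mul, map_mul, map_inv, mul_right_comm, inv_mul_cancel, one_mul]
  show T.val (el T.u) = _
  rw [T.val_of (i := 1) (j := 0) (by rw [pow_one, pow_zero, mul_one]; exact T.u_r)]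
  rfl

/-- the index-two subgroup -/
noncomputable def Y : Subgroup ↥T.C := T.V.ker

theorem Y_index : T.Y.index = 2 := by
  rw [Y, Subgroup.index_ker]
  have : T.V.range = ⊤ := by
    rw [eq_top_iff]
    intro a _
    rcases z2_cases a with rfl | rfl
    · exact one_mem _
    · exact ⟨T.uC, T.V_u⟩
  rw [this, Subgroup.card_top, Nat.card_eq_fintype_card]
  rfl

theorem Y_normal : T.Y.Normal := MonoidHom.normal_ker _

theorem uC_not_mem : T.uC ∉ T.Y := fun h => by
  have e : T.V T.uC = 1 := h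
  rw [T.V_u] at e
  exact absurd e (by decide)

end Duo

end CfsgLib.Spor.LargeFi.SixUp
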