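import Cfsg.Agent.Lib.Spor.LargeFi.Base
import Cfsg.Agent.Lib.Spor.LargeFi.SmallStabData
import Cfsg.Agent.Lib.Spor.HSUnitary.Chain

/-!
Checks for the stabiliser of a small vector.
-/

set_option autoImplicit false
set_option maxRecDepth 100000

namespace CfsgLib.Spor.LargeFi.SmallStab

open CfsgLib.Spor.U62 CfsgLib.Spor.HSUnitary
open Matrix

/-- the first permutation -/
def perm1 : Equiv.Perm (Fin 45) where
  toFun i := Fin.ofNat 45 (permL1.getD i 0)
  invFun i := Fin.ofNat 45 (permI1.getD i 0)
  left_inv := by decide +kernel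
  right_inv := by decide +kernel

/-- the second permutation -/
def perm2 : Equiv.Perm (Fin 45) where
  toFun i := Fin.ofNat 45 (permL2.getD i 0)
  invFun i := Fin.ofNat 45 (permI2.getD i 0)
  left_inv := by decide +kernel
  right_inv := by decide +kernel

theorem perm_repL : (∀ i : Fin 45, permL1.getD i 0 = (perm1 i : ℕ)) ∧
    ∀ i : Fin 45, permL2.getD i 0 = (perm2 i : ℕ) := by decide +kernel

theorem perm_slp : slpL 45 permProg [permL2, permL1] = true := by decide +kernel

theorem perm_chain : chainL 45 permChain = true := by decide +kernel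

theorem perm_targets : (permChain.all fun l => l.2.all fun t =>
    (List.range 45 :: permL2 :: permL1 :: permProg.map Prod.fst).any fun a => decide (t = a)) = true := by
  decide +kernel

theorem perm_prod : (permChain.map fun l => l.2.length).prod = 51840 := by decide +kernel

/-- the index set of the coordinates -/
abbrev I2 : Type := (Fin 2 ⊕ Fin 2) ⊕ Fin 2

/-- the binary space -/
abbrev W6 : Type := I2 → ZMod 2

/-- the position of a coordinate -/
def posI : I2 → ℕ
  | .inl (.inl i) => i.val
  | .inl (.inr i) => 2 + i.val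
  | .inr i => 4 + i.val

/-- the vector of a code -/
def wOf (x : ℕ) : W6 := fun i => (((x / 2 ^ posI i) % 2 : ℕ) : ZMod 2)

/-- a matrix from its columns -/
def wMat (k : ℕ) : Matrix I2 I2 (ZMod 2) := fun i j => wOf ((colL.getD k []).getD (posI j) 0) i

theorem wMat_inv : (wMat 0 * wMat 1 = 1 ∧ wMat 1 * wMat 0 = 1) ∧
    wMat 2 * wMat 3 = 1 ∧ wMat 3 * wMat 2 = 1 := by decide +kernel

theorem wMat_isometry : ∀ v : W6,
    Cfsg.quadFormMinus 2 (ZMod 2) 1 1 (wMat 0 *ᵥ v) = Cfsg.quadFormMinus 2 (ZMod 2) 1 1 v ∧
    Cfsg.quadFormMinus 2 (ZMod 2) 1 1 (wMat 2 *ᵥ v) = Cfsg.quadFormMinus 2 (ZMod 2) 1 1 v := by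
  decide +kernel

/-- a singular line -/
def lineSet (i : Fin 45) : Finset W6 := ((lineL.getD i []).map wOf).toFinset

theorem lineSet_injective : ∀ i j : Fin 45, lineSet i = lineSet j → i = j := by decide +kernel

theorem lineSet_map : ∀ i : Fin 45,
    (lineSet i).image (fun v => wMat 0 *ᵥ v) = lineSet (perm1 i) ∧
    (lineSet i).image (fun v => wMat 2 *ᵥ v) = lineSet (perm2 i) := by decide +kernel

theorem pointL_ok : ((List.range 45).all fun i =>
    !(pointL.getD i []).isEmpty && ((pointL.getD i []).all fun u => Nat.blt u 4096) &&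
      (List.range 45).all fun j => Nat.beq i j || !memV (pointL.getD j []) ((pointL.getD i []).getD 0 0)) =
    true := by
  decide +kernel

/-- a semilinear code maps each class as the permutation does -/
def mapsB (q : ℕ) (p : List ℕ) : Bool := Nat.beq (sActC q smallRoot) smallRoot && (List.range 45).all fun i =>
  ((pointL.getD i []).all fun u => memV (pointL.getD (p.getD i 0) []) (sActC q u)) &&
    (fun l => (pointL.getD (p.getD i 0) []).all fun u => memV l u) ((pointL.getD i []).map (sActC q))

/-- the outer code of the first generator -/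
def genCode1 : ℕ := 2 * mulC stabC1 (base outerCode) + 1

theorem maps_check : (mapsB genCode1 permL1 && mapsB (2 * stabC2) permL2) = true := by decide +kernel

theorem sylL_check : ((sylL.all fun p => !flag p ||
    memV (linCodes.map fun c => 2 * mulC c (base outerCode) + 1) p) && flag outerCode) = true := by
  decide +kernel

theorem codeProg_ok : progB codeProg (gens 0) (stabC1 :: stabC2 :: linCodes) = true := by decide +kernel

end CfsgLib.Spor.LargeFi.SmallStab
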