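import Cfsg.Agent.Lib.Spor.LargeFi.SmallStab
import Cfsg.Agent.Lib.Spor.LargeFi.Setup

/-!
In a group of large Fischer type the stabiliser of an involution of `Q` not conjugate to the
central one induces the isometry group of the elliptic form.
-/

set_option autoImplicit false

namespace CfsgLib.Spor.LargeFi.SmallStab

open CfsgLib.Spor.U62

variable {G : Type*} [Group G] [Finite G] {z : G}

theorem stab_equiv_of_type {Q : Subgroup (Subgroup.centralizer ({z} : Set G))} [Q.Normal]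
    (hF : Cfsg.IsOfLargeFischerTypeAt z Q) (hout : ∀ D : Model Q (zH z), D.HasOuter)
    (hbig : ∀ (D : Model Q (zH z)) (s : Q), IsConj z ((s : Subgroup.centralizer ({z} : Set G)) : G) →
      ((s : Subgroup.centralizer ({z} : Set G)) : G) ≠ z → Big (D.vec s))
    (t : Subgroup.centralizer ({z} : Set G)) (htQ : t ∈ Q) (ht2 : orderOf t = 2) (ht : ¬ IsConj z (t : G))
    (S : Subgroup (Subgroup.centralizer ({z} : Set G)))
    (hS : ∀ h : Subgroup.centralizer ({z} : Set G), h ∈ S ↔ (h * t * h⁻¹ = t ∨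
      ((h * t * h⁻¹ : Subgroup.centralizer ({z} : Set G)) : G) = t * z)) :
    Nonempty (↥(S.map (QuotientGroup.mk' Q)) ≃*
      Cfsg.isometryGroup (ZMod 2) (Cfsg.quadFormMinus 2 (ZMod 2) 1 1)) := by
  obtain ⟨D⟩ := model_of_type hF
  have htt : t * t = 1 := by rw [← pow_two, ← ht2, pow_orderOf_eq_one]
  have hne1 : t ≠ 1 := fun e => by rw [e, orderOf_one] at ht2; norm_num at ht2
  have hnez : t ≠ zH z := fun e => ht (by rw [e]; exact IsConj.refl _)
  have hsmall : Small (D.vec ⟨t, htQ⟩) := by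
    refine (D.invol_vec (a := ⟨t, htQ⟩) htt hne1 hnez).resolve_right fun hb => ht ?_
    obtain ⟨g, ⟨hq, hgQ⟩, hgne⟩ := hF.1.2.2.2.2
    have hc : IsConj z (g * z * g⁻¹) := isConj_iff.2 ⟨g, rfl⟩
    obtain ⟨k, hk⟩ := D.conj_of_big (a := ⟨⟨g * z * g⁻¹, hq⟩, hgQ⟩) (b := ⟨t, htQ⟩) (hbig D _ hc hgne) hb
    refine hc.trans (isConj_iff.2 ⟨(k : G), ?_⟩)
    exact congrArg Subtype.val hk
  have hmem : S = D.vstab (D.vec ⟨t, htQ⟩) := by
    ext h
    have hm : h * t * h⁻¹ ∈ Q := (inferInstance : Q.Normal).conj_mem _ htQ h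
    have hv : D.vec ⟨h * t * h⁻¹, hm⟩ = D.act h (D.vec ⟨t, htQ⟩) := D.vec_conj' h ⟨t, htQ⟩ hm
    rw [hS, Model.mem_vstab]
    constructor
    · rintro (e | e)
      · rw [← hv]
        congr 1
        exact Subtype.ext e
      · have e' : h * t * h⁻¹ = t * zH z := Subtype.ext e
        have hzQ : zH z ∈ Q := by
          have := Q.mul_mem (Q.inv_mem htQ) hm
          rwa [e', inv_mul_cancel_left] at this
        have e2 : (⟨h * t * h⁻¹, hm⟩ : Q) = ⟨t, htQ⟩ * ⟨zH z, hzQ⟩ := Subtype.ext e'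
        rw [← hv, e2, D.vec_mul, (D.vec_eq_zero ⟨zH z, hzQ⟩).2 (Or.inr rfl), add_zero]
    · intro e
      rcases D.vec_eq (a := ⟨t, htQ⟩) (b := ⟨h * t * h⁻¹, hm⟩) (e.symm.trans hv.symm) with e' | e'
      · exact Or.inl e'
      · refine Or.inr ?_
        rw [congrArg Subtype.val e', Subgroup.coe_mul]
        exact (Subgroup.mem_centralizer_singleton_iff.1 t.2).symm
  rw [hmem]
  exact vstab_quotient_equiv D (hout D) hsmall

end CfsgLib.Spor.LargeFi.SmallStab
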