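import Cfsg.Agent.Lib.KnownB.TypeM23.Invol
import Cfsg.Agent.Lib.KnownB.TypeCentral.Dihedral

/-!
The members of the class of an outer involution whose centraliser is Fi23: the partners of a member are its
products with the transpositions of that Fi23.
-/

set_option autoImplicit false

namespace CfsgLib.Spor.LargeFi.Top

open Cfsg CfsgLib.ThreeTransp CfsgLib.KnownB
open scoped commutatorElement

universe u

variable {X : Type u} [Group X]

/-- the centraliser in the subgroup of index two -/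
def Yg (G₀ : Subgroup X) (d : X) : Subgroup X := G₀ ⊓ Subgroup.centralizer ({d} : Set X)

theorem mem_Yg {G₀ : Subgroup X} {d x : X} : x ∈ Yg G₀ d ↔ x ∈ G₀ ∧ Commute x d := by
  rw [Yg, Subgroup.mem_inf, Subgroup.mem_centralizer_singleton_iff]; exact Iff.rfl

/-- the transpositions of the centraliser -/
def Tset (G₀ : Subgroup X) (d t : X) : Set X := {s | ∃ y ∈ Yg G₀ d, y * t * y⁻¹ = s}

/-- The standing facts at one member. -/
structure Base24 (G₀ : Subgroup X) (d t e z : X) : Prop where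
  idx : G₀.index = 2
  dsq : d * d = 1
  dout : d ∉ G₀
  tY : t ∈ Yg G₀ d
  dt_mem : IsConj d (d * t)
  stab : ∀ h, Commute h t → h * d * h⁻¹ = d ∨ h * d * h⁻¹ = d * t
  set23 : ∀ (h : t ∈ Yg G₀ d), TypeM23.Setting23 (conjugatesOf (⟨t, h⟩ : ↥(Yg G₀ d)))
  perf : ⁅Yg G₀ d ⊓ Subgroup.centralizer ({t} : Set X), Yg G₀ d ⊓ Subgroup.centralizer ({t} : Set X)⁆ =
    Yg G₀ d ⊓ Subgroup.centralizer ({t} : Set X)
  eT : e ∈ Tset G₀ d t
  te_comm : Commute t e
  te_ne : e ≠ t
  te_small : IsConj t (t * e)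
  four : ∀ p ∈ G₀, (∀ c ∈ G₀, Commute c t → Commute c e → Commute p c) → p = 1 ∨ p = t ∨ p = e ∨ p = t * e
  four_perf : ⁅G₀ ⊓ Subgroup.centralizer ({t, e} : Set X), G₀ ⊓ Subgroup.centralizer ({t, e} : Set X)⁆ =
    G₀ ⊓ Subgroup.centralizer ({t, e} : Set X)
  four_d : ∀ c ∈ G₀, Commute c t → Commute c e → Commute c d
  zY : z ∈ Yg G₀ d
  zsq : z * z = 1
  zne : z ≠ 1
  znot : ¬ IsConj t z

variable {G₀ : Subgroup X} {d t e z : X}

theorem Base24.normal (B : Base24 G₀ d t e z) : G₀.Normal := Subgroup.normal_of_index_eq_two B.idx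

theorem mem_conj_out (B : Base24 G₀ d t e z) {x : X} (hx : IsConj d x) : x ∉ G₀ := fun h => by
  haveI := B.normal
  obtain ⟨g, rfl⟩ := isConj_iff.1 hx
  exact B.dout (by simpa [mul_assoc] using B.normal.conj_mem _ h g⁻¹)

theorem conj_sq (B : Base24 G₀ d t e z) {x : X} (hx : IsConj d x) : x * x = 1 := by
  obtain ⟨g, rfl⟩ := isConj_iff.1 hx
  rw [show g * d * g⁻¹ * (g * d * g⁻¹) = g * (d * d) * g⁻¹ by group, B.dsq]; group

/-- products of distinct commuting transpositions at the base -/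
structure IsTwo (G₀ : Subgroup X) (d t u p q : X) : Prop where
  hp : p ∈ Tset G₀ d t
  hq : q ∈ Tset G₀ d t
  ne : p ≠ q
  comm : Commute p q
  eq : u = p * q

/-- products of three -/
structure IsThree (G₀ : Subgroup X) (d t u p q r : X) : Prop where
  hp : p ∈ Tset G₀ d t
  hq : q ∈ Tset G₀ d t
  hr : r ∈ Tset G₀ d t
  n1 : p ≠ q
  n2 : p ≠ r
  n3 : q ≠ r
  c1 : Commute p q
  c2 : Commute p r
  c3 : Commute q r
  eq : u = p * q * r

theorem mem_T_iff {tY : t ∈ Yg G₀ d} {s : X} :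
    s ∈ Tset G₀ d t ↔ ∃ h : s ∈ Yg G₀ d, IsConj (⟨t, tY⟩ : ↥(Yg G₀ d)) ⟨s, h⟩ := by
  constructor
  · rintro ⟨y, hy, rfl⟩
    exact ⟨mul_mem (mul_mem hy tY) (inv_mem hy), isConj_iff.2 ⟨⟨y, hy⟩, rfl⟩⟩
  · rintro ⟨h, hc⟩
    obtain ⟨y, hy⟩ := isConj_iff.1 hc
    exact ⟨y, y.2, congrArg Subtype.val hy⟩

theorem Base24.T_mem (B : Base24 G₀ d t e z) {s : X} (hs : s ∈ Tset G₀ d t) : s ∈ Yg G₀ d :=
  (mem_T_iff.1 hs : ∃ _ : s ∈ Yg G₀ d, IsConj (⟨t, B.tY⟩ : ↥(Yg G₀ d)) _).1

theorem Base24.T_small (B : Base24 G₀ d t e z) {s : X} (hs : s ∈ Tset G₀ d t) : IsConj t s := by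
  obtain ⟨y, -, rfl⟩ := hs; exact isConj_iff.2 ⟨y, rfl⟩

theorem Base24.t_mem (B : Base24 G₀ d t e z) : t ∈ Tset G₀ d t := ⟨1, one_mem _, by simp⟩

theorem Base24.T_conj {B : Base24 G₀ d t e z} {y s : X} (hy : y ∈ Yg G₀ d) (hs : s ∈ Tset G₀ d t) :
    y * s * y⁻¹ ∈ Tset G₀ d t := by
  obtain ⟨w, hw, rfl⟩ := hs
  exact ⟨y * w, mul_mem hy hw, by group⟩

/-- A transposition times the member is a member. -/
theorem Base24.dT_mem (B : Base24 G₀ d t e z) {s : X} (hs : s ∈ Tset G₀ d t) : IsConj d (d * s) := by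
  obtain ⟨y, hy, rfl⟩ := hs
  refine B.dt_mem.trans (isConj_iff.2 ⟨y, ?_⟩)
  rw [show y * (d * t) * y⁻¹ = y * d * y⁻¹ * (y * t * y⁻¹) by group, (mem_Yg.1 hy).2.eq, mul_inv_cancel_right]

variable [Finite X]

/-- The kinds of involutions of the centraliser. -/
theorem Base24.kinds (B : Base24 G₀ d t e z) {y : X} (hy : y ∈ Yg G₀ d) (hy2 : y * y = 1) (hy1 : y ≠ 1) :
    y ∈ Tset G₀ d t ∨ (∃ p q, IsTwo G₀ d t y p q) ∨ ∃ p q r, IsThree G₀ d t y p q r := by
  obtain ⟨m, h1, h3, l, hnd, hlen, hlD, hlc, hlp⟩ := (B.set23 B.tY).invol_prod (x := ⟨y, hy⟩) (Subtype.ext hy2)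
    fun h => hy1 (congrArg Subtype.val h)
  have hT : ∀ a ∈ l, (a : X) ∈ Tset G₀ d t := fun a ha => mem_T_iff.2 ⟨a.2, hlD a ha⟩
  have hC : ∀ a ∈ l, ∀ b ∈ l, Commute (a : X) b := fun a ha b hb => congrArg Subtype.val (hlc a ha b hb).eq
  have hp := congrArg Subtype.val hlp
  rw [Subgroup.val_list_prod] at hp
  match l, hlen with
  | [a], _ => left; exact (show (a : X) = y by simpa using hp) ▸ hT a (by simp)
  | [a, b], _ =>
    right; left
    simp only [List.nodup_cons, List.mem_cons, List.not_mem_nil, or_false] at hnd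
    exact ⟨a, b, hT a (by simp), hT b (by simp), fun h => hnd.1 (Subtype.ext h), hC a (by simp) b (by simp),
      by simpa using hp.symm⟩
  | [a, b, c], _ =>
    right; right
    simp only [List.nodup_cons, List.mem_cons, List.not_mem_nil, or_false, not_or] at hnd
    exact ⟨a, b, c, hT a (by simp), hT b (by simp), hT c (by simp), fun h => hnd.1.1 (Subtype.ext h),
      fun h => hnd.1.2 (Subtype.ext h), fun h => hnd.2.1 (Subtype.ext h), hC a (by simp) b (by simp),
      hC a (by simp) c (by simp), hC b (by simp) c (by simp), by simpa [mul_assoc] using hp.symm⟩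
  | _ :: _ :: _ :: _ :: _, h => simp at h; omega
  | [], h => simp at h; omega

/-- Commuting pairs of transpositions are conjugate in the centraliser. -/
theorem Base24.pair_map (B : Base24 G₀ d t e z) {p q p' q' : X} (hp : p ∈ Tset G₀ d t) (hq : q ∈ Tset G₀ d t)
    (hne : p ≠ q) (hc : Commute p q) (hp' : p' ∈ Tset G₀ d t) (hq' : q' ∈ Tset G₀ d t) (hne' : p' ≠ q')
    (hc' : Commute p' q') : ∃ y ∈ Yg G₀ d, y * p * y⁻¹ = p' ∧ y * q * y⁻¹ = q' := by
  obtain ⟨h1, c1⟩ := mem_T_iff (tY := B.tY).1 hp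
  obtain ⟨h2, c2⟩ := mem_T_iff (tY := B.tY).1 hq
  obtain ⟨h3, c3⟩ := mem_T_iff (tY := B.tY).1 hp'
  obtain ⟨h4, c4⟩ := mem_T_iff (tY := B.tY).1 hq'
  obtain ⟨g, g1, g2⟩ := (B.set23 B.tY).pair_map (a := ⟨p, h1⟩) (b := ⟨q, h2⟩) c1
    ⟨c2, fun h => hne (congrArg Subtype.val h).symm, Subtype.ext hc.eq⟩ (a' := ⟨p', h3⟩) (b' := ⟨q', h4⟩) c3
    ⟨c4, fun h => hne' (congrArg Subtype.val h).symm, Subtype.ext hc'.eq⟩
  exact ⟨g, g.2, congrArg Subtype.val g1, congrArg Subtype.val g2⟩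

/-- No relation of at most five commuting transpositions. -/
theorem Base24.short (B : Base24 G₀ d t e z) {l : List X} (hl : ∀ a ∈ l, a ∈ Tset G₀ d t) (hnd : l.Nodup)
    (hc : ∀ a ∈ l, ∀ b ∈ l, Commute a b) (hlen : l.length ≤ 5) (hprod : l.prod = 1) : l = [] := by
  have hY : ∀ a ∈ l, a ∈ Yg G₀ d := fun a ha => B.T_mem (hl a ha)
  obtain ⟨L, hL⟩ : ∃ L : List ↥(Yg G₀ d), L = l.attach.map fun a => ⟨a.1, hY a.1 a.2⟩ := ⟨_, rfl⟩
  have hmem : ∀ a ∈ L, (a : X) ∈ l := fun a ha => by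
    rw [hL] at ha
    obtain ⟨b, -, rfl⟩ := List.mem_map.1 ha
    exact b.2
  have h0 := (B.set23 B.tY).short_rel (l := L) (fun a ha => (mem_T_iff.1 (hl _ (hmem a ha))).2)
    (hL ▸ (List.nodup_attach.2 hnd).map fun a b h => Subtype.ext (congrArg (fun w : ↥(Yg G₀ d) => (w : X)) h :))
    (fun a ha b hb => Subtype.ext (hc _ (hmem a ha) _ (hmem b hb)).eq) (by simpa [hL] using hlen)
    (Subtype.ext (by
      rw [Subgroup.val_list_prod, hL, List.map_map]
      exact (congrArg List.prod l.attach_map_subtype_val).trans hprod))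
  rw [hL, List.map_eq_nil_iff, List.attach_eq_nil_iff] at h0
  exact h0

theorem Base24.T_sq (B : Base24 G₀ d t e z) {s : X} (hs : s ∈ Tset G₀ d t) : s * s = 1 := by
  obtain ⟨h, hc⟩ := mem_T_iff (tY := B.tY).1 hs
  exact congrArg Subtype.val ((B.set23 B.tY).weak.sq _ hc)

theorem Base24.T_ne_one (B : Base24 G₀ d t e z) {s : X} (hs : s ∈ Tset G₀ d t) : s ≠ 1 := fun h => by
  have := B.short (l := [s]) (by simpa using hs) (by simp) (by simp) (by simp) (by simpa using h)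
  simp at this

/-- The pair of a product is unique. -/
theorem Base24.two_unique (B : Base24 G₀ d t e z) {u p q p' q' : X} (h : IsTwo G₀ d t u p q)
    (h' : IsTwo G₀ d t u p' q') : p' = p ∨ p' = q := by
  classical
  by_contra hno
  rw [not_or] at hno
  have hco : ∀ {a b : X}, a ∈ Tset G₀ d t → b ∈ Tset G₀ d t → Commute a u → (Commute a b ↔ Commute a (b * u)) :=
    fun {a b} _ _ hau => ⟨fun k => k.mul_right hau, fun k => by
      have := k.mul_right hau.inv_right; rwa [mul_inv_cancel_right] at this⟩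
  obtain ⟨h1, c1⟩ := mem_T_iff (tY := B.tY).1 h.hp
  obtain ⟨h2, c2⟩ := mem_T_iff (tY := B.tY).1 h.hq
  obtain ⟨h3, c3⟩ := mem_T_iff (tY := B.tY).1 h'.hp
  obtain ⟨h4, c4⟩ := mem_T_iff (tY := B.tY).1 h'.hq
  have hall := (B.set23 B.tY).weak.commute_all_of_short (x := ⟨p', h3⟩) c3 (l := [⟨p, h1⟩, ⟨q, h2⟩])
    (fun a ha => by
      simp only [List.mem_cons, List.not_mem_nil, or_false] at ha
      rcases ha with rfl | rfl <;> assumption)
    (by simp [h.ne]) (by
      intro a ha b hb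
      simp only [List.mem_cons, List.not_mem_nil, or_false] at ha hb
      rcases ha with rfl | rfl <;> rcases hb with rfl | rfl
      exacts [Commute.refl _, Subtype.ext h.comm.eq, Subtype.ext h.comm.symm.eq, Commute.refl _])
    (Subtype.ext (by
      simp only [List.prod_cons, List.prod_nil, mul_one, Subgroup.coe_mul]
      rw [← h.eq, h'.eq]
      exact ((Commute.refl p').mul_right h'.comm).eq))
    (by simp)
  have cp : Commute p' p := congrArg Subtype.val (hall ⟨p, h1⟩ (by simp)).eq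
  have cq : Commute p' q := congrArg Subtype.val (hall ⟨q, h2⟩ (by simp)).eq
  by_cases hq' : q' = p ∨ q' = q
  · have e1 := h.eq.symm.trans h'.eq
    rcases hq' with rfl | rfl
    · rw [h.comm.eq] at e1; exact hno.2 (mul_right_cancel e1).symm
    · exact hno.1 (mul_right_cancel e1).symm
  rw [not_or] at hq'
  have cqp : Commute q' p := by
    have := (cp.symm.mul_right (h'.eq ▸ h.eq ▸ (Commute.refl p).mul_right h.comm : Commute p (p' * q'))).symm
    rwa [← mul_assoc, B.T_sq h'.hp, one_mul] at this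
  have cqq : Commute q' q := by
    have := (cq.symm.mul_right (h'.eq ▸ h.eq ▸ h.comm.symm.mul_right (Commute.refl q) : Commute q (p' * q'))).symm
    rwa [← mul_assoc, B.T_sq h'.hp, one_mul] at this
  have h0 := B.short (l := [p, q, p', q']) (by simp [h.hp, h.hq, h'.hp, h'.hq])
    (by simp [h.ne, h'.ne, Ne.symm hno.1, Ne.symm hno.2, Ne.symm hq'.1, Ne.symm hq'.2])
    (by
      intro a ha b hb
      simp only [List.mem_cons, List.not_mem_nil, or_false] at ha hb
      rcases ha with rfl | rfl | rfl | rfl <;> rcases hb with rfl | rfl | rfl | rfl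
      exacts [Commute.refl _, h.comm, cp.symm, cqp.symm, h.comm.symm, Commute.refl _, cq.symm, cqq.symm,
        cp, cq, Commute.refl _, h'.comm, cqp, cqq, h'.comm.symm, Commute.refl _])
    (by simp)
    (by
      simp only [List.prod_cons, List.prod_nil, mul_one]
      rw [← mul_assoc p q, ← h.eq, h'.eq, show p' * q' * (p' * q') = (p' * q') ^ 2 by rw [pow_two],
        h'.comm.mul_pow, pow_two, pow_two, B.T_sq h'.hp, B.T_sq h'.hq, one_mul])
  simp at h0

end CfsgLib.Spor.LargeFi.Top
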