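import Cfsg.Agent.Lib.Spor.LargeFi.TopTen
import Cfsg.Agent.Lib.KnownB.TypeM24Unique.Bridge

/-!
The bridge at the base member.
-/

set_option autoImplicit false
set_option maxRecDepth 100000

namespace CfsgLib.Spor.LargeFi.Top

open Cfsg CfsgLib.ThreeTransp CfsgLib.KnownB CfsgLib.KnownB.TypeM23
open CfsgLib.KnownB.TypeM22.Unique CfsgLib.KnownB.TypeM23.Unique
open CfsgLib.KnownB.TypeM24.Unique (exists_ten pattern_image pattern_cases conj_lift val_conj_eq edgeC_small edgeC_swap
  swap_words)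
open CfsgLib.KnownB.Fi22Mult (edgeB val val_nil val_cons val_append)
open CfsgLib.Spor.Fi23 (gen π π_gen π_word idx)
open CfsgLib.Spor.Fi23.Auto (gpt dq dq_gpt conj_dq comm_dq_iff dq_i₀ dq_injective eq_one_of_comm)

universe u

/-- the word of type E7 in letters -/
def altGens : List Cfsg.Spor.Fi23.Gen := wordAlt.map ofNum

theorem alt_facts : altGens.map num = wordAlt ∧ (∃ k, altGens.length = 2 * k + 1) ∧
    (([.a, .b, .c, .d, .e, .f, .g, .j, .h, .i] : List Cfsg.Spor.Fi23.Gen).all fun x =>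
      Nat.beq (CfsgLib.Spor.Fi23.Perm.data.app (altGens.map idx).reverse (gpt x).val) (gpt x).val) = true :=
  ⟨by decide +kernel, ⟨31, by decide +kernel⟩, by decide +kernel⟩

theorem alt_one : (altGens.map gen).prod = 1 :=
  eq_one_of_comm fun x => Fin.ext (by
    rw [π_word]
    exact Nat.eq_of_beq_eq_true (List.all_eq_true.1 alt_facts.2.2 x (by cases x <;> simp)))

theorem z_ten : (∀ i, i < 9 → CfsgLib.Spor.Fi23.z * gen (ofNum i) = gen (ofNum i) * CfsgLib.Spor.Fi23.z) ∧
    ¬ (gen .j * CfsgLib.Spor.Fi23.z = CfsgLib.Spor.Fi23.z * gen .j) := by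
  refine ⟨fun i hi => ?_, ?_⟩
  · exact (CfsgLib.Spor.Fi23.z_comm (ofNum i) (by interval_cases i <;> simp [ofNum, CfsgLib.Spor.Fi23.hGens])).symm
  · rw [← dq_i₀, comm_dq_iff, Fin.ext_iff, π_gen]
    decide +kernel

theorem gen_ne_z (i : ℕ) (hi : i < 9) : gen (ofNum i) ≠ CfsgLib.Spor.Fi23.z := by
  rw [← dq_gpt, ← dq_i₀]
  refine fun h => ?_
  have := congrArg Fin.val (dq_injective h)
  revert this
  interval_cases i <;> decide +kernel

theorem sq_pow {M : Type*} [Monoid M] {a : M} (h : a * a = 1) (k : ℕ) : a ^ (2 * k + 1) = a := by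
  rw [pow_succ, pow_mul, pow_two, h, one_pow, one_mul]

variable {X : Type u} [Group X] [Finite X] {G₀ : Subgroup X} {d t e z : X} {τ : Cfsg.Spor.Fi23 →* X}

/-- the second member -/
noncomputable def mid (d : X) (τ : Cfsg.Spor.Fi23 →* X) : X := d * τ CfsgLib.Spor.Fi23.z

omit [Finite X] in
theorem Frame.mid_edge (F : Frame d τ) : Edge d d (mid d τ) := by rw [mid, ← dq_i₀]; exact F.nb _

omit [Finite X] in
theorem Frame.mid_nine (F : Frame d τ) {i : ℕ} (hi : i < 9) : Edge d (mid d τ) (Wt d τ i) :=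
  ⟨F.mid_edge.hb, (F.ten_mem i).hb, fun h => gen_ne_z i hi (F.inj (mul_left_cancel h)).symm,
    (F.comm_iff _ _).2 (z_ten.1 i hi)⟩

omit [Finite X] in
theorem Frame.mid_last (F : Frame d τ) : ¬ Commute (mid d τ) (Wt d τ 9) := fun h =>
  z_ten.2 ((F.comm_iff _ _).1 h).symm

theorem Base24.alt_eq (B : Base24 G₀ d t e z) (F : Frame d τ) : val (Wt d τ) wordAlt = d := by
  obtain ⟨h1, ⟨k, hk⟩, -⟩ := alt_facts
  rw [← h1, F.val_num, alt_one, map_one, mul_one, hk, sq_pow B.dsq]

/-- A word in the products with a member. -/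
theorem Base24.pr_word (B : Base24 G₀ d t e z) {a : X} {A : ℕ → X} :
    ∀ {v : List ℕ}, (∀ i ∈ v, Edge d a (A i)) →
      ((val (fun i => pr G₀ a (A i)) v : ↥(Yg G₀ a)) : X) = a ^ v.length * val A v
  | [], _ => by simp [val_nil]
  | i :: v, h => by
    have hv := fun j hj => h j (List.mem_cons_of_mem _ hj)
    rw [val_cons, val_cons, Subgroup.coe_mul, B.pr_word hv, B.pr_val' (h i (by simp)), List.length_cons, pow_succ',
      mul_assoc a (A i), ← mul_assoc (A i), (((h i (by simp)).comm.symm).pow_right v.length).eq]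
    group

/-- The member joined to the base and to the first of the ten. -/
theorem Base24.exists_bridge (B : Base24 G₀ d t e z) (F : Frame d τ) :
    ∃ k, Edge d (mid d τ) k ∧ ¬ Commute k d ∧ ¬ Commute k (Wt d τ 0) ∧
      ∀ i, 1 ≤ i → i < 9 → Commute k (Wt d τ i) := by
  obtain ⟨m, hm0⟩ : ∃ m, m = mid d τ := ⟨_, rfl⟩
  rw [← hm0]
  have Em : Edge d m d := hm0 ▸ F.mid_edge.symm
  have hm := Em.ha
  have Sm := B.loc hm
  have hql := B.pr_mem Em
  have En : ∀ i, i < 9 → Edge d m (Wt d τ i) := fun i hi => hm0 ▸ F.mid_nine hi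
  have hA : ∀ i, i < 9 → pr G₀ m (Wt d τ i) ∈ nb (Ta G₀ d m) (pr G₀ m d) := fun i hi =>
    ⟨B.pr_mem (En i hi), fun h => (F.ten_mem i).ne (B.pr_inj (En i hi) Em h).symm,
      (B.pr_comm Em (En i hi)).2 (F.ten_mem i).comm⟩
  obtain ⟨W', T'⟩ := exists_ten Sm hql
  have P := pattern_image Sm hql (A := fun i => pr G₀ m (Wt d τ i)) hA fun i j hi hj => by
    rw [B.pr_comm (En i hi) (En j hj), F.ten_adj i j (by omega) (by omega), edgeC_small i hi j hj]
  have P' := pattern_image Sm hql (A := W') T'.nine fun i j hi hj => by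
    rw [T'.adj i j (by omega) (by omega), edgeC_small i hi j hj]
  have hs : ∀ i, i < 9 → swap i < 9 := fun i hi => by unfold swap; split <;> omega
  have hlet : ∀ i ∈ wordAlt, i < 9 := fun i hi => by
    have := letters_spec swap_words.2 i hi
    simp only [List.mem_cons, List.not_mem_nil, or_false] at this
    omega
  have halt : val (fun i => pr G₀ m (Wt d τ i)) wordAlt = pr G₀ m d := by
    refine Subtype.ext ?_
    obtain ⟨h1, ⟨k, hk⟩, -⟩ := alt_facts
    rw [B.pr_word fun i hi => En i (hlet i hi), B.alt_eq F, B.pr_val' Em,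
      show wordAlt.length = 2 * k + 1 by rw [← h1, List.length_map, hk], sq_pow (conj_sq B hm)]
  rcases pattern_cases (Sm.quot hql) P P' with ⟨h, he⟩ | ⟨h, he⟩ | ⟨h, he⟩
  · exfalso
    obtain ⟨g, -, hg⟩ := conj_lift Sm hql hA T'.nine he
    have := val_conj_eq g _ _ wordAlt fun i hi => hg i (hlet i hi)
    rw [halt, T'.alt, mul_one, mul_inv_cancel] at this
    exact Sm.cls.not_mem_center hql (this ▸ one_mem _)
  · exfalso
    obtain ⟨g, -, hg⟩ := conj_lift Sm hql (A := fun i => W' (swap i)) (fun i hi => T'.nine _ (hs i hi)) T'.nine he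
    have := val_conj_eq g _ _ wordAlt fun i hi => hg i (hlet i hi)
    rw [val_map_swap, T'.alt, mul_one, mul_inv_cancel] at this
    exact T'.swap_ne_one Sm this
  · obtain ⟨g, hgl, hg⟩ := conj_lift Sm hql hA (B := fun i => W' (swap i)) (fun i hi => T'.nine _ (hs i hi)) he
    obtain ⟨Ek, ek⟩ := B.pr_exists hm (Sm.cls.conj g _ (T'.mem 9 (by norm_num)))
    refine ⟨_, Ek, fun c => T'.last ?_, fun c => ?_, fun i h1 hi => ?_⟩
    · have := (B.pr_comm Ek Em).2 c
      rw [ek] at this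
      refine ((commute_conj_iff g).1 ?_).symm
      rw [show g * pr G₀ m d * g⁻¹ = pr G₀ m d by rw [hgl.eq, mul_inv_cancel_right]]
      exact this
    all_goals
      have hcomm : ∀ i, i < 9 → (Commute (m * ((g * W' 9 * g⁻¹ : ↥(Yg G₀ m)) : X)) (Wt d τ i) ↔ Nat.beq i 0 = false) :=
        fun i hi => by
          rw [← B.pr_comm Ek (En i hi), ek, hg i hi, commute_conj_iff,
            T'.adj 9 (swap i) (by norm_num) (by have := hs i hi; omega), edgeC_swap i hi]
    · exact Bool.noConfusion ((hcomm 0 (by norm_num)).1 c)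
    · refine (hcomm i hi).2 ?_
      rw [← Bool.not_eq_true, Nat.beq_eq]; omega

end CfsgLib.Spor.LargeFi.Top
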