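import Cfsg.Agent.Lib.Spor.LargeFi.TopPairs
import Cfsg.Agent.Lib.Involutions.ZStar.Main

/-!
The commuting graph of the members: the kernel of the action on its components, and the stabiliser of a
component as the product of an odd normal part and the kernel.
-/

set_option autoImplicit false

namespace CfsgLib.Spor.LargeFi.Top

open Cfsg CfsgLib.ThreeTransp CfsgLib.KnownB
open scoped commutatorElement

universe u

variable {X : Type u} [Group X]

/-- lying in one component -/
def Conn (d : X) : X → X → Prop := Relation.ReflTransGen (Edge d)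

variable [Finite X] {G₀ : Subgroup X} {d t e z : X}

omit [Finite X] in
theorem Conn.symm {a b : X} (h : Conn d a b) : Conn d b a := by
  induction h with
  | refl => exact Relation.ReflTransGen.refl
  | tail _ hs ih => exact Relation.ReflTransGen.head hs.symm ih

omit [Finite X] in
theorem Conn.trans {a b c : X} (h : Conn d a b) (h' : Conn d b c) : Conn d a c := Relation.ReflTransGen.trans h h'

omit [Finite X] in
theorem Conn.mem {a b : X} (h : Conn d a b) (ha : IsConj d a) : IsConj d b := by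
  induction h with
  | refl => exact ha
  | tail _ hs _ => exact hs.hb

omit [Finite X] in
theorem Conn.conj {a b : X} (h : Conn d a b) (g : X) : Conn d (g * a * g⁻¹) (g * b * g⁻¹) := by
  induction h with
  | refl => exact Relation.ReflTransGen.refl
  | tail _ hs ih => exact ih.tail (hs.conj g)

omit [Finite X] in
theorem conn_of_commute {a b : X} (ha : IsConj d a) (hb : IsConj d b) (hc : Commute a b) : Conn d a b := by
  rcases eq_or_ne a b with rfl | h
  · exact Relation.ReflTransGen.refl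
  · exact Relation.ReflTransGen.single ⟨ha, hb, h, hc⟩

/-- the stabiliser of the component of a member -/
def cstab (d x : X) : Subgroup X where
  carrier := {g | Conn d x (g * x * g⁻¹)}
  one_mem' := by simp only [Set.mem_setOf_eq, one_mul, inv_one, mul_one]; exact Relation.ReflTransGen.refl
  mul_mem' := fun {g h} hg hh => by
    show Conn d x (g * h * x * (g * h)⁻¹)
    rw [show g * h * x * (g * h)⁻¹ = g * (h * x * h⁻¹) * g⁻¹ by group]
    exact Conn.trans hg (hh.conj g)
  inv_mem' := fun {g} hg => by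
    show Conn d x (g⁻¹ * x * g⁻¹⁻¹)
    have h1 := (Conn.symm hg).conj g⁻¹
    rwa [show g⁻¹ * (g * x * g⁻¹) * g⁻¹⁻¹ = x by group] at h1

omit [Finite X] in
theorem cstab_eq {x y : X} (h : Conn d x y) : cstab d x = cstab d y := by
  ext g
  exact ⟨fun hg => h.symm.trans ((hg : Conn d x (g * x * g⁻¹)).trans (h.conj g)),
    fun hg => h.trans ((hg : Conn d y (g * y * g⁻¹)).trans (h.symm.conj g))⟩

theorem Base24.small_mem (B : Base24 G₀ d t e z) {u : X} (hu : IsConj t u) : u ∈ G₀ := by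
  haveI := B.normal
  obtain ⟨g, rfl⟩ := isConj_iff.1 hu
  exact mem_conj_of (mem_Yg.1 B.tY).1

/-- A small involution fixes every component. -/
theorem Base24.small_fix (B : Base24 G₀ d t e z) {u : X} (hu : IsConj t u) {x : X} (hx : IsConj d x) :
    u ∈ cstab d x := by
  obtain ⟨a, b, E, rfl⟩ := B.small_edge hu
  have hab2 : a * b * (a * b) = 1 := by
    rw [← pow_two, E.comm.mul_pow, pow_two, pow_two, conj_sq B E.ha, conj_sq B E.hb, one_mul]
  have hfix : a * b * a * (a * b)⁻¹ = a := by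
    rw [((Commute.refl a).mul_right E.comm).symm.eq, mul_inv_cancel_right]
  by_cases hr : Conn d a x
  · rw [← cstab_eq hr]
    show Conn d a (a * b * a * (a * b)⁻¹)
    rw [hfix]; exact Relation.ReflTransGen.refl
  rcases TypeCentral.dihedral hab2 (conj_sq B hx) with ⟨c, -, hc⟩ | ⟨w, hw1, hw2, hwt, hwx, -, hcon⟩
  · exact absurd (hc ▸ B.small_mem hu : c * x * c⁻¹ ∈ G₀)
      (mem_conj_out B (hx.trans (isConj_iff.2 ⟨c, rfl⟩)))
  rcases hcon with ⟨h1, -⟩ | ⟨-, h1⟩
  · have hE : Edge d x (w * x) := ⟨hx, hx.trans h1, fun r => hw1 (right_eq_mul.1 r), hwx.symm.mul_right (Commute.refl x)⟩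
    have hp : x * (w * x) = w := by rw [hwx.eq, ← mul_assoc, conj_sq B hx, one_mul]
    show Conn d x (a * b * x * (a * b)⁻¹)
    rcases B.edge_unique hE (hE.conj (a * b)) (by
      rw [show a * b * x * (a * b)⁻¹ * (a * b * (w * x) * (a * b)⁻¹) = a * b * (x * (w * x)) * (a * b)⁻¹ by group, hp,
        hwt.symm.eq, mul_inv_cancel_right]) with r | r <;> rw [r]
    · exact Relation.ReflTransGen.refl
    · exact Relation.ReflTransGen.single hE
  · exfalso
    have hf : IsConj d (w * (a * b)) := hx.trans h1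
    obtain ⟨f, hfd⟩ : ∃ f, f = w * (a * b) := ⟨_, rfl⟩
    rw [← hfd] at hf
    have hfu : Commute f (a * b) := hfd ▸ hwt.mul_left (Commute.refl _)
    have hwe : w = f * a * b := by rw [hfd, mul_assoc, mul_assoc w, hab2, mul_one]
    have hfa : Commute f a := B.cs E hf hfu
    have hfb : Commute f b := B.cs E.symm hf (E.comm.eq ▸ hfu)
    have haf : Conn d a f := conn_of_commute E.ha hf hfa.symm
    by_cases e1 : f = a
    · refine hr ((Relation.ReflTransGen.single E).trans (conn_of_commute E.hb hx ?_))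
      rw [hwe, e1, conj_sq B E.ha, one_mul] at hwx
      exact hwx
    by_cases e2 : f = b
    · refine hr (conn_of_commute E.ha hx ?_)
      rw [hwe, e2, E.comm.symm.eq, mul_assoc, conj_sq B E.hb, mul_one] at hwx
      exact hwx
    rcases B.triple_far (a := f) (b := a) (c := b) ⟨hf, E.ha, e1, hfa⟩ ⟨hf, E.hb, e2, hfb⟩ E hx (hwe ▸ hwx.symm) with
      k | ⟨g, hg, hgf, hxg⟩
    · exact hr (haf.trans (conn_of_commute hf hx k.symm))
    · exact hr (haf.trans ((conn_of_commute hf hg hgf.symm).trans (conn_of_commute hg hx hxg.symm)))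

/-- The product of two non-commuting members has odd order. -/
theorem Base24.odd_order (B : Base24 G₀ d t e z) {x a : X} (hx : IsConj d x) (ha : IsConj d a)
    (hn : ¬ Commute x a) : Odd (orderOf (x * a)) := by
  by_contra hodd
  rw [Nat.not_odd_iff_even] at hodd
  obtain ⟨j, hj⟩ := hodd
  obtain ⟨r, hr⟩ : ∃ r, r = x * a := ⟨_, rfl⟩
  rw [← hr] at hj
  have hx2 := conj_sq B hx
  have ha2 := conj_sq B ha
  have hxr : x * r * x = r⁻¹ := by
    rw [hr, mul_inv_rev, inv_eq_of_mul_eq_one_right hx2, inv_eq_of_mul_eq_one_right ha2, ← mul_assoc, hx2, one_mul]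
  have sx : ∀ n : ℕ, x * r ^ n = (r ^ n)⁻¹ * x := fun n => by
    have h0 : SemiconjBy x r r⁻¹ := by
      show x * r = r⁻¹ * x
      rw [← hxr, mul_assoc _ x x, hx2, mul_one]
    have := h0.pow_right n
    rwa [inv_pow] at this
  have hw2 : r ^ j * r ^ j = 1 := by rw [← pow_add, ← hj, pow_orderOf_eq_one]
  have hwi : (r ^ j)⁻¹ = r ^ j := inv_eq_of_mul_eq_one_right hw2
  have hwx : Commute (r ^ j) x := ((sx j).trans (by rw [hwi])).symm
  have hw1 : r ^ j ≠ 1 := fun h => by
    have := Nat.le_of_dvd (by have := orderOf_pos r; omega) (orderOf_dvd_of_pow_eq_one h)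
    have := orderOf_pos r
    omega
  have hwa : Commute (r ^ j) a := by
    have h1 : Commute (r ^ j) r := (Commute.refl r).pow_left j
    have h2 := hwx.mul_right h1
    rwa [show x * r = a by rw [hr, ← mul_assoc, hx2, one_mul]] at h2
  have hconj : IsConj d (r ^ j * x) := by
    obtain ⟨i, rfl | rfl⟩ := Nat.even_or_odd' j
    · refine hx.trans (isConj_iff.2 ⟨r ^ i, ?_⟩)
      rw [mul_assoc (r ^ i), show x * (r ^ i)⁻¹ = r ^ i * x by
        rw [mul_inv_eq_iff_eq_mul, mul_assoc, sx i, mul_inv_cancel_left], ← mul_assoc, ← pow_add, two_mul]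
    · refine (ha.trans (isConj_iff.2 ⟨r ^ i * x, ?_⟩) : IsConj d (r ^ (2 * i + 1) * x))
      rw [show r ^ i * x * a * (r ^ i * x)⁻¹ = r ^ i * (x * a) * x⁻¹ * (r ^ i)⁻¹ by group, ← hr,
        inv_eq_of_mul_eq_one_right hx2, ← pow_succ, mul_assoc, show x * (r ^ i)⁻¹ = r ^ i * x by
        rw [mul_inv_eq_iff_eq_mul, mul_assoc, sx i, mul_inv_cancel_left], ← mul_assoc, ← pow_add]
      congr 2; omega
  have E : Edge d x (r ^ j * x) := ⟨hx, hconj, fun e0 => hw1 (right_eq_mul.1 e0), hwx.symm.mul_right (Commute.refl x)⟩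
  exact hn (B.cs E ha (by rw [show x * (r ^ j * x) = r ^ j by rw [hwx.eq, ← mul_assoc, hx2, one_mul]]; exact hwa.symm)).symm

/-- A member stabilising a component lies in it. -/
theorem Base24.self (B : Base24 G₀ d t e z) {x a : X} (hx : IsConj d x) (ha : IsConj d a)
    (h : a ∈ cstab d x) : Conn d x a := by
  by_cases hc : Commute x a
  · exact conn_of_commute hx ha hc
  obtain ⟨i, hi⟩ := B.odd_order hx ha hc
  have hxs : x ∈ cstab d x := by
    show Conn d x (x * x * x⁻¹)
    rw [mul_inv_cancel_right]; exact Relation.ReflTransGen.refl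
  have hg : (x * a) ^ i ∈ cstab d x := Subgroup.pow_mem _ (mul_mem hxs h) i
  have e1 : (x * a) ^ i * x * ((x * a) ^ i)⁻¹ = a := by
    have hxi : x⁻¹ = x := inv_eq_of_mul_eq_one_right (conj_sq B hx)
    have hai : a⁻¹ = a := inv_eq_of_mul_eq_one_right (conj_sq B ha)
    have h1 : x * ((x * a) ^ i)⁻¹ = (x * a) ^ i * x := by
      rw [mul_inv_eq_iff_eq_mul, mul_assoc]
      have h0 : SemiconjBy x (x * a) (x * a)⁻¹ := by
        show x * (x * a) = (x * a)⁻¹ * x
        rw [mul_inv_rev, hxi, hai, mul_assoc a, conj_sq B hx, mul_one, ← mul_assoc, conj_sq B hx, one_mul]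
      have := h0.pow_right i
      rw [inv_pow] at this
      rw [this.eq, mul_inv_cancel_left]
    have h2 : (x * a) ^ (i + i) = a * x := by
      have h3 : (x * a) ^ (i + i) * (x * a) = 1 := by
        rw [← pow_succ, show i + i + 1 = orderOf (x * a) by omega, pow_orderOf_eq_one]
      rw [eq_inv_of_mul_eq_one_left h3, mul_inv_rev, hxi, hai]
    rw [mul_assoc, h1, ← mul_assoc, ← pow_add, h2, mul_assoc, conj_sq B hx, mul_one]
  have h5 : Conn d x ((x * a) ^ i * x * ((x * a) ^ i)⁻¹) := hg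
  rwa [e1] at h5

/-- the kernel of the action on the components -/
def kerComp (G₀ : Subgroup X) (d : X) : Subgroup X where
  carrier := {g | g ∈ G₀ ∧ ∀ x, IsConj d x → g ∈ cstab d x}
  one_mem' := ⟨one_mem _, fun _ _ => one_mem _⟩
  mul_mem' := fun hg hh => ⟨mul_mem hg.1 hh.1, fun x hx => mul_mem (hg.2 x hx) (hh.2 x hx)⟩
  inv_mem' := fun hg => ⟨inv_mem hg.1, fun x hx => inv_mem (hg.2 x hx)⟩

theorem Base24.ker_normal (B : Base24 G₀ d t e z) : (kerComp G₀ d).Normal := by
  haveI := B.normal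
  refine ⟨fun g hg k => ⟨mem_conj_of hg.1, fun x hx => ?_⟩⟩
  show Conn d x (k * g * k⁻¹ * x * (k * g * k⁻¹)⁻¹)
  have h := ((hg.2 _ (hx.trans (isConj_iff.2 ⟨k⁻¹, rfl⟩))) : Conn d _ _).conj k
  rwa [show k * (k⁻¹ * x * k⁻¹⁻¹) * k⁻¹ = x by group,
    show k * (g * (k⁻¹ * x * k⁻¹⁻¹) * g⁻¹) * k⁻¹ = k * g * k⁻¹ * x * (k * g * k⁻¹)⁻¹ by group] at h

theorem Base24.small_ker (B : Base24 G₀ d t e z) {u : X} (hu : IsConj t u) : u ∈ kerComp G₀ d :=
  ⟨B.small_mem hu, fun _ hx => B.small_fix hu hx⟩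

/-- The centraliser of a member in the subgroup of index two is in the kernel. -/
theorem Base24.Y_ker (B : Base24 G₀ d t e z) : Yg G₀ d ≤ kerComp G₀ d := by
  intro y hy
  have hgen := (B.set23 B.tY).cls.gen
  have hle : (⊤ : Subgroup ↥(Yg G₀ d)) ≤ (kerComp G₀ d).subgroupOf (Yg G₀ d) := by
    rw [← hgen, Subgroup.closure_le]
    intro s hs
    exact B.small_ker (B.T_small (mem_T_iff.2 ⟨s.2, hs⟩))
  exact hle (Subgroup.mem_top (⟨y, hy⟩ : ↥(Yg G₀ d)))

/-- Members of one component agree modulo the kernel. -/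
theorem Base24.conn_ker (B : Base24 G₀ d t e z) {a b : X} (h : Conn d a b) (ha : IsConj d a) :
    a⁻¹ * b ∈ kerComp G₀ d := by
  induction h with
  | refl => simp [one_mem]
  | @tail c f _ hs ih =>
    rw [show a⁻¹ * f = a⁻¹ * c * (c⁻¹ * f) by group]
    refine mul_mem ih (B.small_ker ?_)
    rw [inv_eq_of_mul_eq_one_right (conj_sq B hs.ha)]
    exact B.edge_small hs

/-- The image of a member is isolated modulo the kernel. -/
theorem Base24.conn_of_commute_mod (B : Base24 G₀ d t e z) {b : X} (hb : IsConj d b)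
    (h : d * b * d⁻¹ * b⁻¹ ∈ kerComp G₀ d) : Conn d d b := by
  have hd2 := B.dsq
  have hdi : d⁻¹ = d := inv_eq_of_mul_eq_one_right hd2
  have hbi : b⁻¹ = b := inv_eq_of_mul_eq_one_right (conj_sq B hb)
  obtain ⟨y, hy⟩ : ∃ y, y = b * d * b := ⟨_, rfl⟩
  have hyD : IsConj d y := isConj_iff.2 ⟨b, by rw [hy, hbi]⟩
  have hm : (d * y) * d * (d * y)⁻¹ = d * (y * d * y⁻¹) * d⁻¹ := by group
  have h1 : d * y ∈ cstab d d := by
    have : d * y = d * b * d⁻¹ * b⁻¹ := by rw [hy, hdi, hbi, mul_assoc, mul_assoc, mul_assoc]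
    exact this ▸ h.2 d (IsConj.refl d)
  have h1' : Conn d d (d * (y * d * y⁻¹) * d⁻¹) := hm ▸ (h1 : Conn d d _)
  have h2 := h1'.conj d⁻¹
  rw [show d⁻¹ * d * d⁻¹⁻¹ = d by group, show d⁻¹ * (d * (y * d * y⁻¹) * d⁻¹) * d⁻¹⁻¹ = y * d * y⁻¹ by group] at h2
  have hys : y ∈ cstab d d := h2
  have h3 := B.self (IsConj.refl d) hyD hys
  have hbs : b ∈ cstab d d := by
    show Conn d d (b * d * b⁻¹)
    rw [hbi, ← hy]; exact h3
  exact B.self (IsConj.refl d) hb hbs

/-- The commuting graph is connected, once odd normal parts over the kernel stabilise the component. -/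
theorem Base24.connected_of (B : Base24 G₀ d t e z)
    (hR : ∀ R : Subgroup X, R.Normal → kerComp G₀ d ≤ R → R ≤ G₀ →
      Odd ((kerComp G₀ d).relIndex R) → R ≤ cstab d d) {x : X} (hx : IsConj d x) : Conn d d x := by
  haveI := B.normal
  haveI hN := B.ker_normal
  obtain ⟨q, hq⟩ : ∃ q : X →* X ⧸ kerComp G₀ d, q = QuotientGroup.mk' _ := ⟨_, rfl⟩
  have hqs : Function.Surjective q := hq ▸ QuotientGroup.mk'_surjective _
  have hker : ∀ {g}, q g = 1 ↔ g ∈ kerComp G₀ d := fun {g} => by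
    rw [hq, QuotientGroup.mk'_apply, QuotientGroup.eq_one_iff]
  have hiso : IsIsolatedInvolution (q d) := by
    haveI := Fact.mk Nat.prime_two
    refine ⟨orderOf_eq_prime (by rw [← map_pow, pow_two, B.dsq, map_one]) fun h => B.dout (hker.1 h).1, fun g hg => ?_⟩
    obtain ⟨g, rfl⟩ := hqs g
    rw [← map_inv, ← map_mul, ← map_mul] at hg ⊢
    have hb : IsConj d (g * d * g⁻¹) := isConj_iff.2 ⟨g, rfl⟩
    have hc := B.conn_of_commute_mod hb (hker.1 (by
      rw [map_mul, map_mul (q) (d * _), map_mul, map_inv, map_inv, hg.eq, mul_inv_cancel_right, mul_inv_cancel]))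
    have h1 := hker.2 (B.conn_ker hc (IsConj.refl d))
    rwa [map_mul, map_inv, inv_mul_eq_one, eq_comm] at h1
  obtain ⟨g, rfl⟩ := isConj_iff.1 hx
  obtain ⟨a, ha, c, hc, hgac⟩ := CfsgLib.Involutions.ZStar.exists_mul_centralizer hiso (q g)
  obtain ⟨c₀, rfl⟩ := hqs c
  obtain ⟨R, hRd⟩ : ∃ R, R = (oddCore (X ⧸ kerComp G₀ d)).comap q := ⟨_, rfl⟩
  have hcs : c₀ ∈ cstab d d := by
    have hb : IsConj d (c₀ * d * c₀⁻¹) := isConj_iff.2 ⟨c₀, rfl⟩
    refine B.conn_of_commute_mod hb (hker.1 ?_)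
    have he : q c₀ * q d * (q c₀)⁻¹ = q d := by
      rw [Subgroup.mem_centralizer_singleton_iff.1 hc, mul_inv_cancel_right]
    simp only [map_mul, map_inv, he]
    group
  have hodd : Odd (Nat.card (oddCore (X ⧸ kerComp G₀ d))) := CfsgLib.Base.odd_card_oddCore _
  have hRle : R ≤ G₀ := by
    intro r hr
    by_contra hr0
    have hpow : q r ^ Nat.card (oddCore (X ⧸ kerComp G₀ d)) = 1 := by
      have hq' : q r ∈ oddCore (X ⧸ kerComp G₀ d) := by rw [hRd] at hr; exact hr
      exact congrArg Subtype.val (pow_card_eq_one' (x := (⟨q r, hq'⟩ : oddCore (X ⧸ kerComp G₀ d))))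
    rw [← map_pow, hker] at hpow
    obtain ⟨m, hm⟩ := hodd
    have h2 := hpow.1
    rw [hm, pow_succ, pow_mul] at h2
    have h3 : (r ^ 2) ^ m ∈ G₀ := Subgroup.pow_mem _ (Subgroup.sq_mem_of_index_two B.idx r) m
    exact hr0 ((Subgroup.mul_mem_cancel_left _ h3).1 h2)
  have hRs : R ≤ cstab d d := by
    refine hR R (hRd ▸ inferInstance) (fun r hr => hRd ▸ (by rw [Subgroup.mem_comap, hker.2 hr]; exact one_mem _))
      hRle ?_
    have h1 : (kerComp G₀ d).relIndex R = Nat.card (oddCore (X ⧸ kerComp G₀ d)) := by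
      have hbase : ∀ K : Subgroup X, K = (⊥ : Subgroup (X ⧸ kerComp G₀ d)).comap q →
          K.relIndex R = Nat.card (oddCore (X ⧸ kerComp G₀ d)) := fun K hK => by
        rw [hK, Subgroup.relIndex_comap, hRd, Subgroup.map_comap_eq_self_of_surjective hqs, Subgroup.relIndex_bot_left]
      have hk : kerComp G₀ d = (⊥ : Subgroup (X ⧸ kerComp G₀ d)).comap q := by
        ext w
        rw [Subgroup.mem_comap, Subgroup.mem_bot, hker]
      exact hbase _ hk
    rw [h1]; exact hodd
  obtain ⟨a₀, rfl⟩ := hqs a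
  have hgR : g * c₀⁻¹ ∈ R := by
    rw [hRd, Subgroup.mem_comap, map_mul, map_inv, hgac, mul_inv_cancel_right]; exact ha
  have := mul_mem (hRs hgR) hcs
  rwa [inv_mul_cancel_right] at this

end CfsgLib.Spor.LargeFi.Top
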