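import Cfsg.Agent.Lib.KnownB.TypeM24Unique.Seed

/-!
An even product of the nine letters is the product of two commuting transpositions, one of them the seed member.
-/

set_option autoImplicit false
set_option maxRecDepth 100000

namespace CfsgLib.Spor.LargeFi.Top

open Cfsg
open CfsgLib.Spor.Fi23 (gen π π_word π_gen idx)
open CfsgLib.Spor.Fi23.Auto (gpt dq dq_gpt conj_dq comm_dq_iff eq_one_of_comm)
open CfsgLib.KnownB.TypeM24.Unique (seedGens)

/-- an even word in the nine letters -/
def evenGens : List Cfsg.Spor.Fi23.Gen := [.c, .d, .c, .h, .d, .e, .j, .f, .d, .h, .d, .b, .e, .d, .c, .f, .g, .e, .j, .f, .d, .h, .d, .b, .e, .d, .c, .f, .g, .e, .j, .f, .d, .h, .d, .b, .e, .d, .c, .f, .g, .e, .j, .f, .d, .h, .d, .b, .e, .d, .c, .f, .g, .e, .j, .f, .d, .h, .d, .b, .e, .d, .c, .f, .g, .d, .h, .c, .d, .c]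

/-- the letters leading to the mate of the seed member -/
def mateGens : List Cfsg.Spor.Fi23.Gen := [.a, .b, .c, .d, .h, .i, .e, .d, .h, .f, .g, .e, .f, .c, .d, .e, .b, .c, .d, .h, .i, .h, .e, .f, .d, .e, .b, .c, .d, .h, .j, .g, .f, .e, .d, .c, .b]

theorem even_facts : evenGens.length = 70 ∧ ∀ x ∈ evenGens, x ≠ Cfsg.Spor.Fi23.Gen.a := by decide +kernel

theorem conj_word (v : List Cfsg.Spor.Fi23.Gen) :
    dq (π (v.map gen).prod (gpt .a)) = ((v ++ [Cfsg.Spor.Fi23.Gen.a] ++ v.reverse).map gen).prod := by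
  rw [← conj_dq, dq_gpt]
  simp only [List.map_append, List.prod_append, List.map_cons, List.map_nil, List.prod_cons, List.prod_nil, mul_one]
  rw [← CfsgLib.PresCert.prod_reverse_of_invol gen CfsgLib.Spor.Fi23.gen_sq]

theorem check_pts :
    (([.a, .b, .c, .d, .e, .f, .g, .j, .h, .i] : List Cfsg.Spor.Fi23.Gen).all fun x =>
      Nat.beq (CfsgLib.Spor.Fi23.Perm.data.app (evenGens.map idx).reverse (gpt x).val)
        (CfsgLib.Spor.Fi23.Perm.data.app
          (((seedGens ++ [Cfsg.Spor.Fi23.Gen.a] ++ seedGens.reverse) ++ (mateGens ++ [Cfsg.Spor.Fi23.Gen.a] ++ mateGens.reverse)).map idx).reverse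
          (gpt x).val)) = true := by
  decide +kernel

theorem check_ne :
    Nat.beq (CfsgLib.Spor.Fi23.Perm.data.app (seedGens.map idx).reverse (gpt .a).val)
        (CfsgLib.Spor.Fi23.Perm.data.app (mateGens.map idx).reverse (gpt .a).val) = false := by
  decide +kernel

theorem check_comm :
    Nat.beq (CfsgLib.Spor.Fi23.Perm.data.app ((seedGens ++ [Cfsg.Spor.Fi23.Gen.a] ++ seedGens.reverse).map idx).reverse
        (CfsgLib.Spor.Fi23.Perm.data.app (mateGens.map idx).reverse (gpt .a).val))
      (CfsgLib.Spor.Fi23.Perm.data.app (mateGens.map idx).reverse (gpt .a).val) = true := by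
  decide +kernel

/-- The word is the product of the seed member and its mate. -/
theorem seed_mate : ∃ q, π (seedGens.map gen).prod (gpt .a) ≠ q ∧
    Commute (dq (π (seedGens.map gen).prod (gpt .a))) (dq q) ∧
    (evenGens.map gen).prod = dq (π (seedGens.map gen).prod (gpt .a)) * dq q := by
  refine ⟨π (mateGens.map gen).prod (gpt .a), fun e => ?_, ?_, ?_⟩
  · have h := congrArg Fin.val e
    rw [π_word, π_word] at h
    have := check_ne
    rw [h, Nat.beq_refl] at this
    exact Bool.noConfusion this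
  · show _ * _ = _ * _
    rw [comm_dq_iff, conj_word, Fin.ext_iff, π_word, π_word]
    exact Nat.eq_of_beq_eq_true check_comm
  · refine (inv_mul_eq_one.1 (eq_one_of_comm fun x => ?_)).symm
    rw [map_mul, map_inv, Equiv.Perm.mul_apply, Equiv.Perm.inv_eq_iff_eq, conj_word, conj_word, ← List.prod_append,
      ← List.map_append, Fin.ext_iff, π_word, π_word]
    refine Nat.eq_of_beq_eq_true (List.all_eq_true.1 check_pts x ?_)
    cases x <;> simp

end CfsgLib.Spor.LargeFi.Top
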