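import Cfsg.Agent.Lib.Spor.LargeFi.TopJoin
import Cfsg.Agent.Lib.Spor.LargeFi.TopSeedCert

/-!
The twelve members satisfy the relations of the closure.
-/

set_option autoImplicit false
set_option maxRecDepth 100000

namespace CfsgLib.Spor.LargeFi.Top

open Cfsg CfsgLib.ThreeTransp CfsgLib.BitPerm CfsgLib.KnownB CfsgLib.KnownB.TypeM23
open CfsgLib.KnownB.TypeM23.Unique (num num_lt edgeC)
open CfsgLib.KnownB.TypeM22.Unique (wordAlt)
open CfsgLib.KnownB.TypeM24.Unique (twelve twelve_ge toTen toTen_lt edge24 edge24_low edge24_symm edge24_ten lab24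
  certS relS_cases relSeven thetaW relCube zLetters relZP cubeGens zGens cubeNums zNums word_facts cube_pt z_pt
  val_twelve seedNums seedGens seedNums_eq)
open CfsgLib.KnownB.Fi22Mult (val val_nil val_cons val_append)
open CfsgLib.Spor.Fi23 (gen π π_gen π_word idx)
open CfsgLib.Spor.Fi23.Auto (gpt dq dq_gpt conj_dq comm_dq_iff)

universe u

variable {X : Type u} [Group X] [Finite X] {G₀ : Subgroup X} {d t e z : X} {τ : Cfsg.Spor.Fi23 →* X}

/-- The bridge with all its properties. -/
structure Full (d : X) (τ : Cfsg.Spor.Fi23 →* X) (k : X) : Prop where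
  hk : Edge d (mid d τ) k
  kl : ¬ Commute k d
  k0 : ¬ Commute k (Wt d τ 0)
  k9 : ∀ i, 1 ≤ i → i < 10 → Commute k (Wt d τ i)
  seed : Commute k (val (Wt d τ) seedNums * Wt d τ 0 * (val (Wt d τ) seedNums)⁻¹)

theorem Base24.exists_full (B : Base24 G₀ d t e z) (F : Frame d τ) : ∃ k, Full d τ k := by
  obtain ⟨k, hk, hkl, hk0, hk1⟩ := B.exists_bridge F
  have hk9 : ∀ i, 1 ≤ i → i < 10 → Commute k (Wt d τ i) := fun i h1 h2 => by
    rcases Nat.lt_or_ge i 9 with h | h
    · exact hk1 i h1 h
    · obtain rfl : i = 9 := by omega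
      exact B.bridge_last F hk hkl hk1
  refine ⟨k, hk, hkl, hk0, hk9, ?_⟩
  obtain ⟨q, hne, hcomm, hev⟩ := seed_mate
  rw [← seedNums_eq, show (0 : ℕ) = num .a from rfl, F.conj_word]
  have E : Edge d (d * τ (dq (π (seedGens.map gen).prod (gpt .a)))) (d * τ (dq q)) :=
    ⟨(F.nb _).hb, (F.nb _).hb, fun h => hne (CfsgLib.Spor.Fi23.Auto.dq_injective (F.inj (mul_left_cancel h))),
      (F.comm_iff _ _).2 hcomm.eq⟩
  refine B.cs E hk.hb ?_
  have e1 : d * τ (dq (π (seedGens.map gen).prod (gpt .a))) * (d * τ (dq q)) =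
      val (Wt d τ) (evenGens.map num) := by
    rw [F.val_num, even_facts.1, hev, show (70 : ℕ) = 2 * 35 from rfl, pow_mul, pow_two, B.dsq, one_pow, one_mul,
      map_mul, mul_assoc, ← mul_assoc (τ _) d, (F.comm _).eq, mul_assoc d _ (τ (dq q)), ← mul_assoc d, B.dsq, one_mul]
  rw [e1]
  refine Commute.list_prod_right _ _ fun y hy => ?_
  obtain ⟨j, hj, rfl⟩ := List.mem_map.1 hy
  obtain ⟨x, hx, rfl⟩ := List.mem_map.1 hj
  refine hk9 _ ?_ (num_lt x)
  have := even_facts.2 x hx
  cases x <;> first | contradiction | decide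

variable {k : X}

omit [Finite X] in
theorem Full.mem (F : Full d τ k) (Fr : Frame d τ) (n : ℕ) : IsConj d (twelve d k (Wt d τ) n) := by
  unfold twelve
  split_ifs
  exacts [IsConj.refl d, F.hk.hb, (Fr.ten_mem _).hb]

omit [Finite X] in
theorem Full.adj (F : Full d τ k) (Fr : Frame d τ) {x y : ℕ} (hx : x < 12) (hy : y < 12) :
    Commute (twelve d k (Wt d τ) x) (twelve d k (Wt d τ) y) ↔ edge24 x y = false := by
  have low : ∀ y, y < 12 → (Commute d (twelve d k (Wt d τ) y) ↔ edge24 0 y = false) ∧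
      (Commute k (twelve d k (Wt d τ) y) ↔ edge24 1 y = false) := fun y hy => by
    rw [(edge24_low y hy).1, (edge24_low y hy).2]
    by_cases h0 : y = 0
    · subst h0
      exact ⟨iff_of_true (Commute.refl _) rfl, iff_of_false F.kl (by simp)⟩
    by_cases h1 : y = 1
    · subst h1
      exact ⟨iff_of_false (fun h => F.kl h.symm) (by simp), iff_of_true (Commute.refl _) rfl⟩
    rw [twelve_ge d k _ (by omega : 2 ≤ y)]
    refine ⟨iff_of_true (Fr.ten_mem _).comm (by rw [← Bool.not_eq_true, Nat.beq_eq]; exact h1), ?_⟩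
    by_cases h2 : y = 2
    · subst h2
      exact iff_of_false F.k0 (by simp)
    · refine iff_of_true (F.k9 _ ?_ (toTen_lt y hy)) ?_
      · interval_cases y <;> first | contradiction | decide
      · rw [Bool.or_eq_false_iff, ← Bool.not_eq_true, ← Bool.not_eq_true, Nat.beq_eq, Nat.beq_eq]
        exact ⟨h0, h2⟩
  rcases (by omega : x = 0 ∨ x = 1 ∨ 2 ≤ x) with rfl | rfl | h2
  · exact (low y hy).1
  · exact (low y hy).2
  rcases (by omega : y = 0 ∨ y = 1 ∨ 2 ≤ y) with rfl | rfl | h2'
  · rw [edge24_symm x hx 0 hy, Commute.symm_iff]; exact (low x hx).1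
  · rw [edge24_symm x hx 1 hy, Commute.symm_iff]; exact (low x hx).2
  rw [twelve_ge d k _ h2, twelve_ge d k _ h2', Fr.ten_adj _ _ (toTen_lt x hx) (toTen_lt y hy),
    edge24_ten x hx h2 y hy h2']

/-- The braid relation among the twelve. -/
theorem Full.pow_three (F : Full d τ k) (B : Base24 G₀ d t e z) (Fr : Frame d τ) {x y : ℕ} (hx : x < 12) (hy : y < 12)
    (he : edge24 x y = true) : (twelve d k (Wt d τ) x * twelve d k (Wt d τ) y) ^ 3 = 1 := by
  have hn : ¬ Commute (twelve d k (Wt d τ) x) (twelve d k (Wt d τ) y) := fun h => by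
    have := (F.adj Fr hx hy).1 h
    rw [he] at this
    exact Bool.noConfusion this
  obtain ⟨c, hc1, hc2⟩ : ∃ c, Edge d c (twelve d k (Wt d τ) x) ∧ Edge d c (twelve d k (Wt d τ) y) := by
    have hm : ∀ n, (n = 0 ∨ n = 1 ∨ n = 2) → Edge d (mid d τ) (twelve d k (Wt d τ) n) := fun n hn => by
      rcases hn with rfl | rfl | rfl
      exacts [Fr.mid_edge.symm, F.hk, Fr.mid_nine (i := 0) (by norm_num)]
    by_cases h : 2 ≤ x ∧ 2 ≤ y
    · exact ⟨d, by rw [twelve_ge d k _ h.1]; exact Fr.ten_mem _, by rw [twelve_ge d k _ h.2]; exact Fr.ten_mem _⟩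
    · have key : ∀ x < 12, ∀ y < 12, edge24 x y = true → ¬ (2 ≤ x ∧ 2 ≤ y) →
          (x = 0 ∨ x = 1 ∨ x = 2) ∧ (y = 0 ∨ y = 1 ∨ y = 2) := by
        intro x hx y hy; interval_cases x <;> interval_cases y <;> first | omega | decide
      exact ⟨mid d τ, hm x (key x hx y hy he h).1, hm y (key x hx y hy he h).2⟩
  exact B.pow_three hc1 hc2 hn

theorem Base24.pow_three_word (B : Base24 G₀ d t e z) (Fr : Frame d τ) (p q : Fin CfsgLib.Spor.Fi23.Perm.data.n)
    (hn : π (dq p) q ≠ q) : (d * τ (dq p) * (d * τ (dq q))) ^ 3 = 1 :=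
  B.pow_three (Fr.nb p) (Fr.nb q) fun h => hn ((comm_dq_iff _ _).1 ((Fr.comm_iff _ _).1 h))

omit [Finite X] in
theorem val_inv (hd : ∀ i, Wt d τ i * Wt d τ i = 1) (v : List ℕ) : val (Wt d τ) v.reverse = (val (Wt d τ) v)⁻¹ := by
  induction v with
  | nil => simp [val_nil]
  | cons a v ih =>
    rw [List.reverse_cons, val_append, ih, val_cons, val_cons, val_nil, mul_one, mul_inv_rev,
      inv_eq_of_mul_eq_one_right (hd a)]

/-- The relations of the closure hold for the twelve members. -/
theorem Full.rels (F : Full d τ k) (B : Base24 G₀ d t e z) (Fr : Frame d τ) {r : List ℕ}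
    (hr : r ∈ certS.rels) : (r.map (twelve d k (Wt d τ))).prod = 1 := by
  have hsq : ∀ n, twelve d k (Wt d τ) n * twelve d k (Wt d τ) n = 1 := fun n => conj_sq B (F.mem Fr n)
  have hW : ∀ i, Wt d τ i * Wt d τ i = 1 := fun i => conj_sq B (Fr.ten_mem i).hb
  obtain ⟨w1, w2, w3, w4, w5⟩ := word_facts
  rcases relS_cases hr with rfl | rfl | rfl | rfl | ⟨x, hx, y, hy, rfl⟩
  · rfl
  · rw [show relSeven = (List.replicate 9 [2, 3, 4, 5, 6, 7, 10]).flatten ++ [0] from rfl, List.map_append,
      List.prod_append, val_twelve d k _ (by decide +kernel)]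
    have e0 : ((List.replicate 9 [2, 3, 4, 5, 6, 7, 10]).flatten).map toTen = wordAlt := by decide +kernel
    rw [e0, B.alt_eq Fr]
    simp [TypeM24.Unique.twelve, B.dsq]
  · have hth : (thetaW.map (twelve d k (Wt d τ))).prod =
        d * τ (dq (π (cubeGens.map gen).prod (gpt .b))) := by
      rw [val_twelve d k _ (fun n hn => Nat.le_of_ble_eq_true (List.all_eq_true.1 w4 n hn)), w1, val_append,
        val_append, val_inv hW, val_cons, val_nil, mul_one]
      exact Fr.conj_word cubeGens .b
    have h3 := B.pow_three_word Fr (gpt .i) (π (cubeGens.map gen).prod (gpt .b)) (by rw [dq_gpt]; exact cube_pt)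
    rw [dq_gpt, show d * τ (gen .i) = Wt d τ 8 from rfl] at h3
    rw [show relCube = (List.replicate 3 (11 :: thetaW)).flatten from rfl]
    simp only [List.replicate_succ, List.replicate_zero, List.flatten_cons, List.flatten_nil, List.append_nil,
      List.map_append, List.prod_append, List.map_cons, List.prod_cons, hth,
      show twelve d k (Wt d τ) 11 = Wt d τ 8 from rfl]
    rw [← h3, pow_succ, pow_two]
    simp only [mul_assoc]
  · have hz : (zLetters.map (twelve d k (Wt d τ))).prod = val (Wt d τ) zNums := by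
      rw [val_twelve d k _ (fun n hn => Nat.le_of_ble_eq_true (List.all_eq_true.1 w5 n hn)), w2]
    have hzr : (zLetters.reverse.map (twelve d k (Wt d τ))).prod = (val (Wt d τ) zNums)⁻¹ := by
      rw [val_twelve d k _ (fun n hn => Nat.le_of_ble_eq_true (List.all_eq_true.1 w5 n (List.mem_reverse.1 hn))),
        List.map_reverse, w2, val_inv hW]
    have he := Fr.conj_word zGens .i
    rw [z_pt, dq_gpt] at he
    rw [show relZP = zLetters ++ [11] ++ zLetters.reverse ++ [11] from rfl]
    simp only [List.map_append, List.prod_append, hz, hzr, List.map_cons, List.map_nil, List.prod_cons,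
      List.prod_nil, mul_one, show twelve d k (Wt d τ) 11 = Wt d τ 8 from rfl]
    rw [show val (Wt d τ) zNums * Wt d τ 8 * (val (Wt d τ) zNums)⁻¹ = Wt d τ 8 from he, hW]
  · have hadj := F.adj Fr hx hy
    unfold lab24
    rcases eq_or_ne x y with rfl | hne
    · simp [hsq]
    rw [show Nat.beq x y = false by rw [← Bool.not_eq_true, Nat.beq_eq]; exact hne, cond_false]
    cases he : edge24 x y
    · have hc := hadj.2 he
      simp only [cond_false, List.replicate_succ, List.replicate_zero, List.flatten_cons, List.flatten_nil,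
        List.append_nil, List.map_append, List.prod_append, List.map_cons, List.map_nil, List.prod_cons,
        List.prod_nil, mul_one]
      rw [mul_assoc, ← mul_assoc (twelve d k _ y), ← hc.eq, mul_assoc (twelve d k _ x), hsq y, mul_one, hsq x]
    · have h3 := F.pow_three B Fr hx hy he
      simp only [cond_true, List.replicate_succ, List.replicate_zero, List.flatten_cons, List.flatten_nil,
        List.append_nil, List.map_append, List.prod_append, List.map_cons, List.map_nil, List.prod_cons,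
        List.prod_nil, mul_one]
      simpa [mul_assoc, pow_succ, pow_two] using h3

end CfsgLib.Spor.LargeFi.Top
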