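import Cfsg.Agent.Lib.Spor.LargeFi.TopMap
import Cfsg.Agent.Lib.Spor.LargeFi.TopConn
import Cfsg.Agent.Lib.Spor.FischerTypes.M24

/-!
With a connected commuting graph the members form a class of 3-transpositions of type M(24).
-/

set_option autoImplicit false
set_option maxRecDepth 100000

namespace CfsgLib.Spor.LargeFi.Top

open Cfsg CfsgLib.ThreeTransp CfsgLib.KnownB
open scoped commutatorElement
open CfsgLib.Spor.Fi23.Auto (gpt dq dq_gpt conj_dq)
open CfsgLib.Spor.FischerTypes (quotCongr image_quotCongr image_nb typeM23_congr center_eq_bot_congr)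

universe u

theorem typeM24_congr {G : Type} {G' : Type u} [Group G] [Group G'] (e : G ≃* G') (D : Set G)
    (h : Cfsg.IsOfTypeM24 G D) : Cfsg.IsOfTypeM24 G' (e '' D) := by
  obtain ⟨hz, d, hd, c, hc, hdc, h23, N, hN, ⟨v⟩, ⟨w⟩⟩ := h
  have hH := (image_nb e D d).symm
  have hL : e '' ({y : G | y ∈ D ∧ y ≠ d ∧ Commute d y} ∩ {y : G | y ∈ D ∧ y ≠ c ∧ Commute c y}) =
      {y : G' | y ∈ e '' D ∧ y ≠ e d ∧ Commute (e d) y} ∩ {y : G' | y ∈ e '' D ∧ y ≠ e c ∧ Commute (e c) y} := by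
    rw [image_nb e D d, image_nb e D c, ← Set.image_inter e.injective]
  haveI := hN
  haveI hN' : (N.map (quotCongr e hL).toMonoidHom).Normal := hN.map _ (quotCongr e hL).surjective
  refine ⟨center_eq_bot_congr e hz, e d, ⟨d, hd, rfl⟩, e c, ⟨c, hc, rfl⟩,
    fun h => hdc (e.injective (by rw [map_mul, map_mul]; exact h)), ?_, N.map (quotCongr e hL).toMonoidHom, hN',
    ⟨((quotCongr e hL).subgroupMap N).symm.trans v⟩,
    ⟨(QuotientGroup.congr N (N.map (quotCongr e hL).toMonoidHom) (quotCongr e hL) rfl).symm.trans w⟩⟩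
  rw [← image_quotCongr e hH]
  exact typeM23_congr (quotCongr e hH) _ h23

theorem threeClass_congr {G : Type} {G' : Type u} [Group G] [Group G'] (e : G ≃* G') (a : G)
    (h : Cfsg.IsThreeTranspositionClass (conjugatesOf a)) :
    e '' conjugatesOf a = conjugatesOf (e a) ∧ Cfsg.IsThreeTranspositionClass (conjugatesOf (e a)) := by
  have himg : e '' conjugatesOf a = conjugatesOf (e a) := by
    ext x
    constructor
    · rintro ⟨y, hy, rfl⟩
      obtain ⟨g, rfl⟩ := isConj_iff.1 hy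
      exact isConj_iff.2 ⟨e g, by simp⟩
    · intro hx
      obtain ⟨g, rfl⟩ := isConj_iff.1 hx
      exact ⟨e.symm g * a * (e.symm g)⁻¹, isConj_iff.2 ⟨_, rfl⟩, by simp⟩
  obtain ⟨⟨h1, h2⟩, -, hg⟩ := h
  refine ⟨himg, ⟨?_, ?_⟩, ⟨_, mem_conjugatesOf_self, rfl⟩, ?_⟩
  · rw [← himg]
    rintro _ ⟨x, hx, rfl⟩
    rw [MulEquiv.orderOf_eq, h1 x hx]
  · rw [← himg]
    rintro _ ⟨x, hx, rfl⟩ _ ⟨y, hy, rfl⟩
    rcases h2 x hx y hy with r | r <;> [left; right] <;> rw [← map_mul, ← map_pow, r, map_one]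
  · have h0 := congrArg (Subgroup.map e.toMonoidHom) hg
    rw [MonoidHom.map_closure, Subgroup.map_top_of_surjective _ e.surjective] at h0
    rwa [show (e.toMonoidHom : G → G') '' conjugatesOf a = e '' conjugatesOf a from rfl, himg] at h0

variable {X : Type u} [Group X] [Finite X] {G₀ : Subgroup X} {d t e z : X}

theorem Base24.center_bot (B : Base24 G₀ d t e z) : Subgroup.center X = ⊥ := by
  rw [Subgroup.eq_bot_iff_forall]
  intro c hc
  have hcc := Subgroup.mem_center_iff.1 hc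
  have S := B.loc (IsConj.refl d)
  have key : ∀ y : X, y ∈ Yg G₀ d → (∀ w ∈ Yg G₀ d, w * y = y * w) → y = 1 := fun y hy hall => by
    have h0 : (⟨y, hy⟩ : ↥(Yg G₀ d)) ∈ Subgroup.center ↥(Yg G₀ d) :=
      Subgroup.mem_center_iff.2 fun w => Subtype.ext (hall w w.2)
    rw [S.center, Subgroup.mem_bot] at h0
    exact congrArg Subtype.val h0
  have hcd : Commute c d := (hcc d).symm
  by_cases hG : c ∈ G₀
  · exact key c (mem_Yg.2 ⟨hG, hcd⟩) fun w _ => hcc w
  exfalso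
  have h1 := key (d * c) (mem_Yg.2 ⟨(Subgroup.mul_mem_iff_of_index_two B.idx).2 (iff_of_false B.dout hG),
    (Commute.refl d).mul_left hcd⟩) fun w hw => by
    rw [← mul_assoc, (mem_Yg.1 hw).2.eq, mul_assoc, hcc w, mul_assoc]
  have hdc : c = d := (inv_eq_of_mul_eq_one_right h1).symm.trans (inv_eq_of_mul_eq_one_right B.dsq)
  obtain ⟨g, hg⟩ := isConj_iff.1 B.dt_mem
  rw [← hdc, hcc g, mul_inv_cancel_right, left_eq_mul] at hg
  exact B.T_ne_one B.t_mem hg

/-- The conclusion. -/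
theorem Base24.typeM24_of_connected (B : Base24 G₀ d t e z) (hcon : ∀ x, IsConj d x → Conn d d x) :
    Cfsg.IsThreeTranspositionClass (conjugatesOf d) ∧ Cfsg.IsOfTypeM24 X (conjugatesOf d) := by
  obtain ⟨τ, Fr⟩ := B.exists_frame
  obtain ⟨k, F⟩ := B.exists_full Fr
  have hZ := B.center_bot
  have hgen : ∀ H : Subgroup X, d ∈ H → (∀ i, i < 10 → Wt d τ i ∈ H) → k ∈ H → H = ⊤ := by
    intro H hd hW hk
    have hτ : ∀ u, τ u ∈ H := fun u => by
      induction (CfsgLib.Spor.Fi23.Auto.closure_gen ▸ Subgroup.mem_top u :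
          u ∈ Subgroup.closure (Set.range (CfsgLib.Spor.Fi23.gen))) using Subgroup.closure_induction with
      | mem y hy =>
        obtain ⟨x, rfl⟩ := hy
        have h := mul_mem hd (hW _ (TypeM23.Unique.num_lt x))
        rwa [Wt_num, ← mul_assoc, B.dsq, one_mul] at h
      | one => rw [map_one]; exact one_mem _
      | mul a b _ _ iha ihb => rw [map_mul]; exact mul_mem iha ihb
      | inv a _ iha => rw [map_inv]; exact inv_mem iha
    have hnb : ∀ y, Edge d d y → ∃ h ∈ H, h * d * h⁻¹ = y := fun y hy => by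
      obtain ⟨p, rfl⟩ := Fr.surj y hy
      obtain ⟨g₁, hg₁⟩ := CfsgLib.Spor.Fi23.transitive p
      obtain ⟨g₂, hg₂⟩ := CfsgLib.Spor.Fi23.transitive (gpt Cfsg.Spor.Fi23.Gen.a)
      obtain ⟨g, hg⟩ : ∃ g, CfsgLib.Spor.Fi23.π g (gpt Cfsg.Spor.Fi23.Gen.a) = p :=
        ⟨g₁ * g₂⁻¹, by rw [map_mul, map_inv, Equiv.Perm.mul_apply, ← hg₂, Equiv.Perm.coe_inv, Equiv.symm_apply_apply, hg₁]⟩
      refine ⟨τ g * (k * Wt d τ 0 * (d * k)),
        mul_mem (hτ g) (mul_mem (mul_mem hk (hW 0 (by norm_num))) (mul_mem hd hk)), ?_⟩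
      have e1 : d * k * d * (d * k)⁻¹ = k := conj_five B.dsq (conj_sq B F.hk.hb)
        (F.pow_three B Fr (x := 0) (y := 1) (by norm_num) (by norm_num) (by decide +kernel))
      have e2 : k * Wt d τ 0 * k * (k * Wt d τ 0)⁻¹ = Wt d τ 0 := conj_five (conj_sq B F.hk.hb)
        (conj_sq B (Fr.ten_mem 0).hb)
        (F.pow_three B Fr (x := 1) (y := 2) (by norm_num) (by norm_num) (by decide +kernel))
      rw [show τ g * (k * Wt d τ 0 * (d * k)) * d * (τ g * (k * Wt d τ 0 * (d * k)))⁻¹ =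
          τ g * (k * Wt d τ 0 * (d * k * d * (d * k)⁻¹) * (k * Wt d τ 0)⁻¹) * (τ g)⁻¹ by group, e1, e2, ← hg,
        ← conj_dq, dq_gpt, map_mul, map_mul, map_inv, Wt, ← mul_assoc, (Fr.comm g).eq]
      simp only [ofNum, mul_assoc]
    have horb : ∀ y, Conn d d y → ∃ h ∈ H, h * d * h⁻¹ = y := by
      intro y hy
      induction hy with
      | refl => exact ⟨1, one_mem _, by group⟩
      | @tail b c _ hbc ih =>
        obtain ⟨h, hh, rfl⟩ := ih
        have h0 := hbc.conj h⁻¹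
        rw [show h⁻¹ * (h * d * h⁻¹) * h⁻¹⁻¹ = d by group] at h0
        obtain ⟨h', hh', e0⟩ := hnb _ h0
        exact ⟨h * h', mul_mem hh hh', by
          rw [show h * h' * d * (h * h')⁻¹ = h * (h' * d * h'⁻¹) * h⁻¹ by group, e0]; group⟩
    have hY : ∀ y ∈ Yg G₀ d, y ∈ H := fun y hy => by
      have hle : (⊤ : Subgroup ↥(Yg G₀ d)) ≤ H.subgroupOf (Yg G₀ d) := by
        rw [← (B.loc (IsConj.refl d)).cls.gen, Subgroup.closure_le]
        intro s hs
        obtain ⟨E, -⟩ := B.pr_exists (IsConj.refl d) hs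
        obtain ⟨h, hh, e0⟩ := hnb _ E
        show (s : X) ∈ H
        have := mul_mem hd (mul_mem (mul_mem hh hd) (inv_mem hh))
        rwa [e0, ← mul_assoc, B.dsq, one_mul] at this
      exact hle (Subgroup.mem_top (⟨y, hy⟩ : ↥(Yg G₀ d)))
    rw [eq_top_iff]
    intro x _
    obtain ⟨h, hh, e0⟩ := horb _ (hcon _ (isConj_iff.2 ⟨x, rfl⟩))
    obtain ⟨c, hc⟩ : ∃ c, c = h⁻¹ * x := ⟨_, rfl⟩
    have hcd : Commute c d := by
      rw [commute_iff_eq, ← mul_inv_eq_iff_eq_mul, hc, show h⁻¹ * x * d * (h⁻¹ * x)⁻¹ = h⁻¹ * (x * d * x⁻¹) * h by group,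
        ← e0]
      group
    have hcH : c ∈ H := by
      by_cases hG : c ∈ G₀
      · exact hY c (mem_Yg.2 ⟨hG, hcd⟩)
      · have := mul_mem hd (hY (d * c) (mem_Yg.2 ⟨(Subgroup.mul_mem_iff_of_index_two B.idx).2
          (iff_of_false B.dout hG), (Commute.refl d).mul_left hcd⟩))
        rwa [← mul_assoc, B.dsq, one_mul] at this
    have := mul_mem hh hcH
    rwa [hc, mul_inv_cancel_left] at this
  obtain ⟨ψ, hsurj, hl, hk⟩ := F.exists_map B Fr hgen hZ
  haveI : Finite Cfsg.Spor.Fi24 := CfsgLib.Spor.Fi24.finite_Fi24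
  haveI hsim : IsSimpleGroup (commutator Cfsg.Spor.Fi24) := CfsgLib.Spor.Fi24.isFi24'.1
  have hinj : Function.Injective ψ := by
    rw [← MonoidHom.ker_eq_bot_iff, eq_bot_iff, ← CfsgLib.Spor.FischerTypes.center24 CfsgLib.Spor.Fi24.cosetFacts]
    intro v hv
    have hne : ¬ (commutator Cfsg.Spor.Fi24 ≤ ψ.ker) := fun h => F.kl (by
      have := h (Subgroup.commutator_mem_commutator (Subgroup.mem_top (CfsgLib.Spor.Fi24.gen .k))
        (Subgroup.mem_top (CfsgLib.Spor.Fi24.gen .l)))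
      rwa [MonoidHom.mem_ker, map_commutatorElement, hl, hk, commutatorElement_eq_one_iff_mul_comm] at this)
    rcases hsim.eq_bot_or_eq_top_of_normal (ψ.ker.subgroupOf (commutator Cfsg.Spor.Fi24)) inferInstance with r | r
    · refine Subgroup.mem_center_iff.2 fun g => commutatorElement_eq_one_iff_mul_comm.1 ?_
      have h2 : (⟨⁅g, v⁆, Subgroup.commutator_mem_commutator (Subgroup.mem_top g) (Subgroup.mem_top v)⟩ :
          commutator Cfsg.Spor.Fi24) ∈ ψ.ker.subgroupOf (commutator Cfsg.Spor.Fi24) := by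
        show ⁅g, v⁆ ∈ ψ.ker
        rw [MonoidHom.mem_ker, map_commutatorElement, MonoidHom.mem_ker.1 hv, commutatorElement_one_right]
      rw [r, Subgroup.mem_bot] at h2
      exact congrArg Subtype.val h2
    · exact absurd (Subgroup.subgroupOf_eq_top.1 r) hne
  obtain ⟨f, hf⟩ : ∃ f : Cfsg.Spor.Fi24 ≃* X, ∀ u, f u = ψ u := ⟨MulEquiv.ofBijective ψ ⟨hinj, hsurj⟩, fun _ => rfl⟩
  obtain ⟨h1, h2⟩ := threeClass_congr f (CfsgLib.Spor.Fi24.gen (.l : Cfsg.Spor.Fi24.Gen))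
    (CfsgLib.Spor.FischerTypes.three_transposition24 CfsgLib.Spor.Fi24.cosetFacts)
  have h3 := typeM24_congr f _ (CfsgLib.Spor.FischerTypes.typeM24 CfsgLib.Spor.Fi24.cosetFacts)
  rw [h1] at h3
  rw [hf, hl] at h2 h3
  exact ⟨h2, h3⟩

end CfsgLib.Spor.LargeFi.Top
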