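import Cfsg.Agent.Lib.Spor.LargeFi.TopBridge
import Cfsg.Agent.Lib.KnownB.TypeM24Unique.Join

/-!
The bridge commutes with the end of the short path.
-/

set_option autoImplicit false
set_option maxRecDepth 100000

namespace CfsgLib.Spor.LargeFi.Top

open Cfsg CfsgLib.Classical.Unitary CfsgLib.ThreeTransp CfsgLib.ThreeTransp.USix
open CfsgLib.Spor (QField)
open CfsgLib.KnownB CfsgLib.KnownB.TypeM22 CfsgLib.KnownB.TypeM22.Unique
open CfsgLib.KnownB.TypeM23 CfsgLib.KnownB.TypeM23.Unique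
open CfsgLib.KnownB.TypeM24.Unique (cGens cNums cNums_eq thetaPt theta_comm theta_z theta_move treeJoin2_ok treeJoin3_ok
  join_loc join_one)
open CfsgLib.KnownB.Fi22Mult (val val_nil val_cons val_append)
open CfsgLib.Spor.Fi23 (gen π π_gen)
open CfsgLib.Spor.Fi23.Auto (gpt dq dq_gpt conj_dq comm_dq_iff dq_i₀)

universe u

variable {X : Type u} [Group X] [Finite X] {G₀ : Subgroup X} {d t e z : X} {τ : Cfsg.Spor.Fi23 →* X}

/-- the conjugate of the second of the ten -/
noncomputable def theta (d : X) (τ : Cfsg.Spor.Fi23 →* X) : X := d * τ (dq thetaPt)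

omit [Finite X] in
theorem Frame.theta_eq (F : Frame d τ) :
    theta d τ = val (Wt d τ) cNums * Wt d τ 1 * (val (Wt d τ) cNums)⁻¹ := by
  rw [← cNums_eq, show (1 : ℕ) = num .b from rfl, F.conj_word]
  rfl

omit [Finite X] in
theorem Frame.theta_comm_iff (F : Frame d τ) (u : Cfsg.Spor.Fi23) :
    Commute (d * τ u) (theta d τ) ↔ π u thetaPt = thetaPt := by
  rw [theta, F.comm_iff, comm_dq_iff]

omit [Finite X] in
theorem Frame.theta_facts (F : Frame d τ) (hd : d * d = 1) :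
    (∀ x : Cfsg.Spor.Fi23.Gen, Commute (Wt d τ (num x)) (theta d τ) ↔ (x ≠ .a ∧ x ≠ .e ∧ x ≠ .f)) ∧
      Commute (mid d τ) (theta d τ) ∧ ¬ Commute (Wt d τ 4) (Wt d τ 5 * theta d τ * Wt d τ 5) := by
  refine ⟨fun x => ?_, (F.theta_comm_iff _).2 theta_z, fun hc => theta_move ?_⟩
  · rw [Wt_num, F.theta_comm_iff, theta_comm x]
  · have e0 : Wt d τ 5 * theta d τ * Wt d τ 5 = d * τ (dq (π (gen .f) thetaPt)) := by
      have h := F.prod [gen .f, dq thetaPt, gen .f]
      simp only [List.map_cons, List.map_nil, List.prod_cons, List.prod_nil, mul_one, List.length_cons,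
        List.length_nil] at h
      rw [← conj_dq, inv_eq_of_mul_eq_one_right (CfsgLib.Spor.Fi23.gen_sq _), show Wt d τ 5 = d * τ (gen .f) from rfl,
        theta, mul_assoc, h, sq_pow hd 1, mul_assoc (gen _)]
    rw [e0, show Wt d τ 4 = d * τ (gen .e) from rfl, F.comm_iff, comm_dq_iff] at hc
    exact hc

/-- The image in the centraliser of a member and then at the image of another. -/
noncomputable def qq (G₀ : Subgroup X) (d b i y : X) : Qd (Ta G₀ d b) (pr G₀ b i) :=
  qd (Ta G₀ d b) (pr G₀ b i) (pr G₀ b y)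

omit [Finite X] in
theorem Edge.of_third {b y w : X} (hb : IsConj d b) (hy : IsConj d y) (hc : Commute b y) (hbw : Commute b w)
    (hyw : ¬ Commute y w) : Edge d b y := ⟨hb, hy, fun e => hyw (e ▸ hbw), hc⟩

theorem Base24.qq_spec (B : Base24 G₀ d t e z) {b i : X} (Ei : Edge d b i) :
    (∀ y, Edge d b y → Edge d i y → qq G₀ d b i y ∈ Dq (Ta G₀ d b) (pr G₀ b i)) ∧
    (∀ y, Edge d b y → Edge d i y → ∀ v, Edge d b v → Edge d i v →
      (Commute (qq G₀ d b i y) (qq G₀ d b i v) ↔ Commute y v) ∧ (y ≠ v → qq G₀ d b i y ≠ qq G₀ d b i v)) ∧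
    ∀ y, Edge d b y → Edge d i y → ∀ v, Edge d b v → Edge d i v → Edge d b (y * v * y) ∧ Edge d i (y * v * y) ∧
      qq G₀ d b i (y * v * y) = qq G₀ d b i y * qq G₀ d b i v * qq G₀ d b i y := by
  have S := B.loc Ei.ha
  have hd := B.pr_mem Ei
  have hm : ∀ y, Edge d b y → Edge d i y → pr G₀ b y ∈ nb (Ta G₀ d b) (pr G₀ b i) := fun y E1 E2 =>
    ⟨B.pr_mem E1, fun h => E2.ne (B.pr_inj E1 Ei h).symm, (B.pr_comm Ei E1).2 E2.comm⟩
  refine ⟨fun y E1 E2 => qd_mem (hm y E1 E2), fun y E1 E2 v V1 V2 => ⟨?_, fun hne h => hne ?_⟩,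
    fun y E1 E2 v V1 V2 => ?_⟩
  · rw [qq, qq, S.qd_comm hd (hm y E1 E2) (hm v V1 V2), B.pr_comm E1 V1]
  · exact B.pr_inj E1 V1 (S.qd_inj hd (hm y E1 E2) (hm v V1 V2) h)
  · have hyi : y⁻¹ = y := inv_eq_of_mul_eq_one_right (conj_sq B E1.hb)
    have hfix : ∀ {w : X}, Commute w y → y * w * y⁻¹ = w := fun h => by rw [h.symm.eq, mul_inv_cancel_right]
    have W1 : Edge d b (y * v * y) := by
      have := V1.conj y; rwa [hfix E1.comm, hyi] at this
    have W2 : Edge d i (y * v * y) := by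
      have := V2.conj y; rwa [hfix E2.comm, hyi] at this
    refine ⟨W1, W2, ?_⟩
    have e0 : pr G₀ b (y * v * y) = pr G₀ b y * pr G₀ b v * pr G₀ b y := Subtype.ext (by
      rw [Subgroup.coe_mul, Subgroup.coe_mul, B.pr_val' W1, B.pr_val' E1, B.pr_val' V1]
      have c1 : y * b = b * y := E1.comm.symm.eq
      have c2 : v * b = b * v := V1.comm.symm.eq
      have hb2 := conj_sq B E1.ha
      calc b * (y * v * y) = b * b * b * (y * v * y) := by rw [hb2, one_mul]
        _ = b * b * (b * y) * v * y := by group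
        _ = b * b * (y * b) * v * y := by rw [c1]
        _ = b * (b * y) * (b * v) * y := by group
        _ = b * (y * b) * (v * b) * y := by rw [c1, c2]
        _ = _ := by group)
    simp only [qq]
    rw [e0, qd_mul (mul_mem (mem_H (hm y E1 E2)) (mem_H (hm v V1 V2))) (mem_H (hm y E1 E2)),
      qd_mul (mem_H (hm y E1 E2)) (mem_H (hm v V1 V2))]

/-- The bridge commutes with the last of the ten. -/
theorem Base24.bridge_last (B : Base24 G₀ d t e z) (F : Frame d τ) {k : X} (hk : Edge d (mid d τ) k)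
    (hkl : ¬ Commute k d) (hk1 : ∀ i, 1 ≤ i → i < 9 → Commute k (Wt d τ i)) : Commute k (Wt d τ 9) := by
  by_contra hno
  obtain ⟨hθc, hθm, hθf⟩ := F.theta_facts B.dsq
  have hW : ∀ i, IsConj d (Wt d τ i) := fun i => (F.ten_mem i).hb
  have hθD : IsConj d (theta d τ) := (F.nb _).hb
  have hc : ∀ {i j}, i < 10 → j < 10 → edgeC i j = false → Commute (Wt d τ i) (Wt d τ j) := fun hi hj e0 =>
    (F.ten_adj _ _ hi hj).2 e0
  have hn : ∀ {i j}, i < 10 → j < 10 → edgeC i j = true → ¬ Commute (Wt d τ i) (Wt d τ j) := fun hi hj e0 h => by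
    have := (F.ten_adj _ _ hi hj).1 h
    rw [e0] at this
    exact Bool.noConfusion this
  obtain ⟨b, hbd⟩ : ∃ b, b = Wt d τ 1 := ⟨_, rfl⟩
  obtain ⟨i, hid⟩ : ∃ i, i = Wt d τ 8 := ⟨_, rfl⟩
  have hb : IsConj d b := hbd ▸ hW 1
  have hi : IsConj d i := hid ▸ hW 8
  have hbi : Edge d b i := by
    subst hbd hid
    exact Edge.of_third (w := Wt d τ 7) hb hi (hc (by norm_num) (by norm_num) (by decide))
      (hc (by norm_num) (by norm_num) (by decide)) (hn (by norm_num) (by norm_num) (by decide))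
  have both : ∀ {y w : X}, IsConj d y → Commute b y → Commute i y → Commute b w → Commute i w → ¬ Commute y w →
      Edge d b y ∧ Edge d i y := fun hy c1 c2 c3 c4 n => ⟨Edge.of_third hb hy c1 c3 n, Edge.of_third hi hy c2 c4 n⟩
  have bl : Commute b d := hbd ▸ (F.ten_mem 1).comm.symm
  have il : Commute i d := hid ▸ (F.ten_mem 8).comm.symm
  have bk : Commute b k := by rw [hbd]; exact (hk1 1 le_rfl (by norm_num)).symm
  have ik : Commute i k := by rw [hid]; exact (hk1 8 (by norm_num) (by norm_num)).symm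
  have bW : ∀ j, j < 10 → edgeC 1 j = false → Commute b (Wt d τ j) := fun j hj e0 => hbd ▸ hc (by norm_num) hj e0
  have iW : ∀ j, j < 10 → edgeC 8 j = false → Commute i (Wt d τ j) := fun j hj e0 => hid ▸ hc (by norm_num) hj e0
  have Ml := both (IsConj.refl d) bl il bk ik fun h => hkl h.symm
  have Mk := both hk.hb bk ik bl il hkl
  have MW : ∀ j w, j < 10 → w < 10 → edgeC 1 j = false → edgeC 8 j = false → edgeC 1 w = false →
      edgeC 8 w = false → edgeC j w = true → Edge d b (Wt d τ j) ∧ Edge d i (Wt d τ j) :=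
    fun j w hj hw a1 a2 a3 a4 a5 =>
    both (hW j) (bW j hj a1) (iW j hj a2) (bW w hw a3) (iW w hw a4) (hn hj hw a5)
  have Mm := both hk.ha (hbd ▸ (F.mid_nine (i := 1) (by norm_num)).comm.symm)
    (hid ▸ (F.mid_nine (i := 8) (by norm_num)).comm.symm) (bW 9 (by norm_num) (by decide))
    (iW 9 (by norm_num) (by decide)) F.mid_last
  have Mt := both hθD (hbd ▸ (hθc .b).2 (by decide)) (hid ▸ (hθc .i).2 (by decide))
    (bW 4 (by norm_num) (by decide)) (iW 4 (by norm_num) (by decide))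
    fun h => absurd ((hθc .e).1 h.symm).2.1 (by decide)
  obtain ⟨hq1, hq2, hq3⟩ := B.qq_spec hbi
  have S2 := (B.loc hb).quot (B.pr_mem hbi)
  obtain ⟨Fq, _, _, σ, hF, hσ, hP⟩ := S2.exists_pmap
  obtain ⟨e'⟩ := exists_coord hF
  have ha := hq1 d Ml.1 Ml.2
  have hb' := hq1 k Mk.1 Mk.2
  have hab : ¬ Commute (qq G₀ d b i d) (qq G₀ d b i k) := fun h => hkl ((hq2 d Ml.1 Ml.2 k Mk.1 Mk.2).1.1 h).symm
  obtain ⟨f, P⟩ := hP _ ha
  have hpn : ∀ y, Edge d b y → Edge d i y → Edge d d y →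
      qq G₀ d b i y ∈ nb (Dq (Ta G₀ d b) (pr G₀ b i)) (qq G₀ d b i d) :=
    fun y h1 h2 hyl => ⟨hq1 y h1 h2, (hq2 y h1 h2 d Ml.1 Ml.2).2 hyl.ne.symm,
      (hq2 d Ml.1 Ml.2 y h1 h2).1.2 hyl.comm⟩
  obtain ⟨pa, hpa⟩ : ∃ pa : Fin 6 → X, pa = ![Wt d τ 3, Wt d τ 4, Wt d τ 5, Wt d τ 6, Wt d τ 9, mid d τ] := ⟨_, rfl⟩
  have hpm : ∀ j, (Edge d b (pa j) ∧ Edge d i (pa j)) ∧ Edge d d (pa j) := by
    intro j; subst hpa; fin_cases j
    exacts [⟨MW 3 4 (by norm_num) (by norm_num) (by decide) (by decide) (by decide) (by decide) (by decide), F.ten_mem 3⟩,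
      ⟨MW 4 5 (by norm_num) (by norm_num) (by decide) (by decide) (by decide) (by decide) (by decide), F.ten_mem 4⟩,
      ⟨MW 5 4 (by norm_num) (by norm_num) (by decide) (by decide) (by decide) (by decide) (by decide), F.ten_mem 5⟩,
      ⟨MW 6 9 (by norm_num) (by norm_num) (by decide) (by decide) (by decide) (by decide) (by decide), F.ten_mem 6⟩,
      ⟨MW 9 6 (by norm_num) (by norm_num) (by decide) (by decide) (by decide) (by decide) (by decide), F.ten_mem 9⟩,
      ⟨Mm, F.mid_edge⟩]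
  have hadj : ∀ j j' : Fin 6, j ≠ j' → (Commute (pa j) (pa j') ↔ adj6 j j' = false) := by
    obtain ⟨p, hp⟩ : ∃ p : Fin 5 → ℕ, p = ![3, 4, 5, 6, 9] := ⟨_, rfl⟩
    have hp10 : ∀ j, p j < 10 := by subst hp; decide
    have h5 : ∀ j : Fin 5, pa j.castSucc = Wt d τ (p j) := by intro j; subst hpa hp; fin_cases j <;> rfl
    have hlast : pa (Fin.last 5) = mid d τ := by subst hpa; rfl
    have he : ∀ j j' : Fin 5, edgeC (p j) (p j') = adj6 j.castSucc j'.castSucc := by subst hp; decide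
    have hm6 : ∀ j : Fin 5, Commute (Wt d τ (p j)) (mid d τ) ↔ adj6 j.castSucc (Fin.last 5) = false := by
      intro j; subst hp; fin_cases j
      all_goals first
        | exact iff_of_true (F.mid_nine (by norm_num)).comm.symm (by decide)
        | exact iff_of_false (fun h => F.mid_last h.symm) (by decide)
    have hsy : ∀ j j' : Fin 6, adj6 j j' = adj6 j' j := by decide
    intro j j' hne
    induction j using Fin.lastCases with
    | last =>
      induction j' using Fin.lastCases with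
      | last => exact absurd rfl hne
      | cast j' => rw [hlast, h5, Commute.symm_iff, hsy, hm6]
    | cast j =>
      induction j' using Fin.lastCases with
      | last => rw [hlast, h5, hm6]
      | cast j' => rw [h5, h5, F.ten_adj _ _ (hp10 j) (hp10 j'), he]
  obtain ⟨r, s, H, hpt⟩ := path_frame P S2.weak e' (q := fun j => qq G₀ d b i (pa j))
    (fun j => hpn _ (hpm j).1.1 (hpm j).1.2 (hpm j).2) fun j j' hne =>
      (hq2 _ (hpm j).1.1 (hpm j).1.2 _ (hpm j').1.1 (hpm j').1.2).1.trans (hadj j j' hne)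
  have pt : ∀ j : Fin 6, IsPt hF hσ f (qq G₀ d b i (pa j)) (vq e' r s (qvec (TypeM22.Unique.std.getD j.val 0))) := hpt
  subst hpa
  have tc : ∀ {y}, Edge d b y ∧ Edge d i y →
      (Commute (qq G₀ d b i (theta d τ)) (qq G₀ d b i y) ↔ Commute y (theta d τ)) :=
    fun hy => (hq2 _ Mt.1 Mt.2 _ hy.1 hy.2).1.trans Commute.symm_iff
  have Tl : Edge d d (theta d τ) := F.nb _
  obtain ⟨c, hcL, pc⟩ := locate P S2.weak H (hpn _ Mt.1 Mt.2 Tl) join_loc (by
    intro x hx
    simp only [List.mem_cons, List.not_mem_nil, or_false] at hx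
    rcases hx with rfl | rfl | rfl | rfl | rfl | rfl
    · exact ⟨_, pt 0, (tc (hpm 0).1).trans ((hθc .d).trans (by decide))⟩
    · exact ⟨_, pt 3, (tc (hpm 3).1).trans ((hθc .g).trans (by decide))⟩
    · exact ⟨_, pt 4, (tc (hpm 4).1).trans ((hθc .j).trans (by decide))⟩
    · exact ⟨_, pt 5, (tc (hpm 5).1).trans (iff_of_true hθm rfl)⟩
    · exact ⟨_, pt 1, (tc (hpm 1).1).trans ((hθc .e).trans (by decide))⟩
    · exact ⟨_, pt 2, (tc (hpm 2).1).trans ((hθc .f).trans (by decide))⟩)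
  obtain ⟨q1, q2, q3⟩ := hq3 (Wt d τ 5) (hpm 2).1.1 (hpm 2).1.2 _ Mt.1 Mt.2
  rcases List.mem_cons.1 hcL with rfl | hc23
  · refine hθf ((hq2 _ (hpm 1).1.1 (hpm 1).1.2 _ q1 q2).1.1 ?_)
    show Commute (qq G₀ d b i (Wt d τ 4)) (qq G₀ d b i (Wt d τ 5 * theta d τ * Wt d τ 5))
    rw [q3]
    exact (commute_code P S2.weak H (pt 1) (isPt_mv S2.weak H (pt 2) pc)).2 (of_decide_eq_true join_one)
  · have kθ : Commute k (theta d τ) := by
      have hkc : Commute k (val (Wt d τ) cNums) := Commute.list_prod_right _ _ fun y hy => by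
        obtain ⟨j, hj, rfl⟩ := List.mem_map.1 hy
        have h2 := (by decide : ∀ j ∈ cNums, 1 ≤ j ∧ j < 9) j hj
        exact hk1 j h2.1 h2.2
      rw [F.theta_eq]
      exact (hkc.mul_right (hk1 1 le_rfl (by norm_num))).mul_right hkc.inv_right
    have hon : ∀ x ∈ [1, 1344, 4, 256, 1024, c], On hF hσ f e' r s (qq G₀ d b i k) x := by
      intro x hx
      simp only [List.mem_cons, List.not_mem_nil, or_false] at hx
      have kq : ∀ {y}, Edge d b y ∧ Edge d i y → Commute k y → Commute (qq G₀ d b i k) (qq G₀ d b i y) :=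
        fun hy h => (hq2 k Mk.1 Mk.2 _ hy.1 hy.2).1.2 h
      rcases hx with rfl | rfl | rfl | rfl | rfl | rfl
      · exact ⟨_, pt 0, kq (hpm 0).1 (hk1 3 (by norm_num) (by norm_num))⟩
      · exact ⟨_, pt 1, kq (hpm 1).1 (hk1 4 (by norm_num) (by norm_num))⟩
      · exact ⟨_, pt 2, kq (hpm 2).1 (hk1 5 (by norm_num) (by norm_num))⟩
      · exact ⟨_, pt 3, kq (hpm 3).1 (hk1 6 (by norm_num) (by norm_num))⟩
      · exact ⟨_, pt 5, kq (hpm 5).1 hk.comm.symm⟩
      · exact ⟨_, pc, kq Mt kθ⟩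
    have hoff : ∀ x ∈ ([20] : List ℕ), ¬ On hF hσ f e' r s (qq G₀ d b i k) x := by
      intro x hx
      rw [List.mem_singleton] at hx
      subst hx
      rintro ⟨v, hv, hcv⟩
      rw [IsPt.unique P hv (pt 4)] at hcv
      exact hno ((hq2 k Mk.1 Mk.2 _ (hpm 4).1.1 (hpm 4).1.2).1.1 hcv)
    simp only [List.mem_cons, List.not_mem_nil, or_false] at hc23
    rcases hc23 with rfl | rfl
    · exact TypeM23.Unique.search (e := e') S2 hP ha hb' hab P H (fun K l hg _ => Bool.noConfusion hg) treeJoin2_ok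
        (sem_masks hon hoff)
    · exact TypeM23.Unique.search (e := e') S2 hP ha hb' hab P H (fun K l hg _ => Bool.noConfusion hg) treeJoin3_ok
        (sem_masks hon hoff)

end CfsgLib.Spor.LargeFi.Top
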