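import Cfsg.Agent.Lib.Spor.LargeFi.TopPairs
import Cfsg.Agent.Lib.KnownB.TypeCentral.Congr22

/-!
At every member the products with the members commuting with it are the transpositions of a group of type
M(23).
-/

set_option autoImplicit false

namespace CfsgLib.Spor.LargeFi.Top

open Cfsg CfsgLib.ThreeTransp CfsgLib.KnownB CfsgLib.KnownB.TypeM22 CfsgLib.KnownB.TypeM23

universe u v

/-- The setting of type M(23) passes along isomorphisms. -/
theorem setting23_congr {G : Type u} [Group G] [Finite G] {H : Type u} [Group H] [Finite H] (e : G ≃* H)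
    {D : Set G} (S : Setting23 D) : Setting23 (e '' D) := by
  obtain ⟨⟨⟨h1, h2⟩, hc, hg, htr, a, ha, b, hb, hab⟩, ⟨p1, ⟨a', ha', b', hb', hab'⟩, p3⟩, hZ, htyp, hcom⟩ := S
  have htr' : ∀ x ∈ e '' D, ∀ y ∈ e '' D, ∃ g : H, g * x * g⁻¹ = y := by
    rintro _ ⟨x, hx, rfl⟩ _ ⟨y, hy, rfl⟩
    obtain ⟨g, rfl⟩ := htr x hx y hy
    exact ⟨e g, by simp⟩
  have hcm : ∀ {x y : G}, Commute (e x) (e y) ↔ Commute x y := fun {x y} =>
    ⟨fun h => e.injective (by rw [map_mul, map_mul]; exact h.eq), fun h => h.map e⟩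
  have hnb : ∀ x, e '' nb D x = nb (e '' D) (e x) := fun x => by
    ext y
    constructor
    · rintro ⟨w, ⟨w1, w2, w3⟩, rfl⟩
      exact ⟨⟨w, w1, rfl⟩, e.injective.ne w2, hcm.2 w3⟩
    · rintro ⟨⟨w, w1, rfl⟩, w2, w3⟩
      exact ⟨w, ⟨w1, fun r => w2 (congrArg e r), hcm.1 w3⟩, rfl⟩
  refine ⟨⟨⟨?_, ?_⟩, ?_, ?_, htr', e a, ⟨a, ha, rfl⟩, e b, ⟨b, hb, rfl⟩, e.injective.ne hab⟩,
    ⟨htr', ⟨e a', ⟨a', ha', rfl⟩, e b', ⟨b', hb', rfl⟩, e.injective.ne hab'⟩, fun B hB hblk => ?_⟩, ?_,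
    fun {w} hw => ?_, fun {w x y} hw hx hy hn => ?_⟩
  · rintro _ ⟨x, hx, rfl⟩
    rw [MulEquiv.orderOf_eq, h1 x hx]
  · rintro _ ⟨x, hx, rfl⟩ _ ⟨y, hy, rfl⟩
    rcases h2 x hx y hy with r | r <;> [left; right] <;> rw [← map_mul, ← map_pow, r, map_one]
  · rintro g _ ⟨x, hx, rfl⟩
    exact ⟨e.symm g * x * (e.symm g)⁻¹, hc _ x hx, by simp⟩
  · have h0 := congrArg (Subgroup.map e.toMonoidHom) hg
    rwa [MonoidHom.map_closure, Subgroup.map_top_of_surjective _ e.surjective] at h0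
  · obtain ⟨B', hB'⟩ : ∃ B', B' = e ⁻¹' B := ⟨_, rfl⟩
    have himg : e '' B' = B := by rw [hB', Set.image_preimage_eq _ e.surjective]
    have hblk' : ∀ g : G, (fun x => g * x * g⁻¹) '' B' = B' ∨ Disjoint ((fun x => g * x * g⁻¹) '' B') B' := fun g => by
      have hconj : (fun x => e g * x * (e g)⁻¹) '' B = e '' ((fun x => g * x * g⁻¹) '' B') := by
        rw [← himg, Set.image_image, Set.image_image]
        exact Set.image_congr fun x _ => by simp
      rcases hblk (e g) with r | r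
      · left
        rw [hconj, ← himg] at r
        exact e.injective.image_injective r
      · right
        rw [hconj, ← himg] at r
        exact (Set.disjoint_image_iff e.injective).1 r
    rcases p3 B' (fun x hx => by
      obtain ⟨y, hy, he⟩ := hB (show e x ∈ B by rw [hB'] at hx; exact hx)
      exact e.injective he ▸ hy) hblk' with r | r
    · left
      rw [← himg]
      exact r.image _
    · right
      rw [← himg, r]
  · rw [Subgroup.eq_bot_iff_forall]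
    intro y hy
    have h0 : e.symm y ∈ Subgroup.center G := Subgroup.mem_center_iff.2 fun g => e.injective (by
      simpa using Subgroup.mem_center_iff.1 hy (e g))
    rw [hZ, Subgroup.mem_bot] at h0
    simpa using congrArg e h0
  · obtain ⟨x, hx, rfl⟩ := hw
    have h1 := CfsgLib.Spor.FischerTypes.typeM22_congr (CfsgLib.Spor.FischerTypes.quotCongr e (hnb x)) _ (htyp hx)
    exact (congrArg (IsOfTypeM22 _) (CfsgLib.Spor.FischerTypes.image_quotCongr e (hnb x))).mp h1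
  · obtain ⟨w, hw', rfl⟩ := hw
    rw [← hnb] at hx hy ⊢
    obtain ⟨x, hx', rfl⟩ := hx
    obtain ⟨y, hy', rfl⟩ := hy
    obtain ⟨c, hc1, hc2, hc3⟩ := hcom hw' hx' hy' fun h => hn (hcm.2 h)
    exact ⟨e c, ⟨c, hc1, rfl⟩, hcm.2 hc2, hcm.2 hc3⟩

variable {X : Type u} [Group X]

/-- the transpositions at a member -/
def Ta (G₀ : Subgroup X) (d a : X) : Set ↥(Yg G₀ a) := {s | (s : X) ≠ 1 ∧ IsConj d (a * (s : X))}

/-- the product with a member, read in its centraliser -/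
noncomputable def pr (G₀ : Subgroup X) (a x : X) : ↥(Yg G₀ a) :=
  haveI := Classical.dec (a * x ∈ Yg G₀ a)
  if h : a * x ∈ Yg G₀ a then ⟨a * x, h⟩ else 1

theorem pr_val {G₀ : Subgroup X} {a x : X} (h : a * x ∈ Yg G₀ a) : (pr G₀ a x : X) = a * x := by
  rw [pr, dif_pos h]

variable [Finite X] {G₀ : Subgroup X} {d t e z : X}

theorem Base24.Ta_base (B : Base24 G₀ d t e z) : Ta G₀ d d = conjugatesOf (⟨t, B.tY⟩ : ↥(Yg G₀ d)) := by
  ext s
  constructor
  · rintro ⟨h1, h2⟩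
    have hs := B.nb_base h2 ((Commute.refl d).mul_left (mem_Yg.1 s.2).2) fun r => h1 (mul_eq_left.1 r)
    rw [← mul_assoc, B.dsq, one_mul] at hs
    exact (mem_T_iff (tY := B.tY).1 hs).2
  · intro hs
    have hT : (s : X) ∈ Tset G₀ d t := mem_T_iff.2 ⟨s.2, hs⟩
    exact ⟨B.T_ne_one hT, B.dT_mem hT⟩

/-- The local setting at every member. -/
theorem Base24.loc (B : Base24 G₀ d t e z) {a : X} (ha : IsConj d a) : Setting23 (Ta G₀ d a) := by
  haveI := B.normal
  obtain ⟨g, hg⟩ := isConj_iff.1 ha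
  have hmap : (Yg G₀ d).map (MulAut.conj g).toMonoidHom = Yg G₀ a := by
    ext x
    rw [Subgroup.mem_map_equiv, MulAut.conj_symm_apply, mem_Yg, mem_Yg]
    have hx : g * (g⁻¹ * x * g) * g⁻¹ = x := by group
    constructor
    · rintro ⟨h1, h2⟩
      exact ⟨hx ▸ mem_conj_of h1, hx ▸ hg ▸ commute_conj g h2⟩
    · rintro ⟨h1, h2⟩
      exact ⟨by simpa using mem_conj_of (g := g⁻¹) h1, (commute_conj_iff g).1 (by rw [hg, hx]; exact h2)⟩
  obtain ⟨f, hf⟩ : ∃ f : ↥(Yg G₀ d) ≃* ↥(Yg G₀ a), ∀ s, (f s : X) = g * s * g⁻¹ :=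
    ⟨((MulAut.conj g).subgroupMap (Yg G₀ d)).trans (MulEquiv.subgroupCongr hmap), fun _ => rfl⟩
  have hTa : f '' Ta G₀ d d = Ta G₀ d a := by
    ext s
    constructor
    · rintro ⟨r, ⟨h1, h2⟩, rfl⟩
      refine ⟨fun h0 => h1 (conj_eq_one_iff.1 ((hf r) ▸ h0)), h2.trans (isConj_iff.2 ⟨g, ?_⟩)⟩
      rw [hf, ← hg]; group
    · rintro ⟨h1, h2⟩
      obtain ⟨r, rfl⟩ := f.surjective s
      rw [hf] at h1 h2
      refine ⟨r, ⟨fun h0 => h1 (by rw [h0]; group), h2.trans (isConj_iff.2 ⟨g⁻¹, ?_⟩)⟩, rfl⟩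
      rw [← hg]; group
  rw [← hTa]
  exact setting23_congr f (B.Ta_base ▸ B.set23 B.tY)

theorem Base24.edge_mem (B : Base24 G₀ d t e z) {a x : X} (E : Edge d a x) : a * x ∈ Yg G₀ a :=
  mem_Yg.2 ⟨(Subgroup.mul_mem_iff_of_index_two B.idx).2
    (iff_of_false (mem_conj_out B E.ha) (mem_conj_out B E.hb)), (Commute.refl a).mul_left E.comm.symm⟩

theorem Base24.pr_val' (B : Base24 G₀ d t e z) {a x : X} (E : Edge d a x) : (pr G₀ a x : X) = a * x :=
  pr_val (B.edge_mem E)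

theorem Base24.back (B : Base24 G₀ d t e z) {a x : X} (E : Edge d a x) : a * (pr G₀ a x : X) = x := by
  rw [B.pr_val' E, ← mul_assoc, conj_sq B E.ha, one_mul]

theorem Base24.pr_mem (B : Base24 G₀ d t e z) {a x : X} (E : Edge d a x) : pr G₀ a x ∈ Ta G₀ d a := by
  refine ⟨fun h => E.ne ?_, (B.back E).symm ▸ E.hb⟩
  rw [B.pr_val' E, mul_eq_one_iff_inv_eq, inv_eq_of_mul_eq_one_right (conj_sq B E.ha)] at h
  exact h

theorem Base24.pr_inj (B : Base24 G₀ d t e z) {a x y : X} (Ex : Edge d a x) (Ey : Edge d a y)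
    (h : pr G₀ a x = pr G₀ a y) : x = y := by rw [← B.back Ex, ← B.back Ey, h]

theorem Base24.pr_comm (B : Base24 G₀ d t e z) {a x y : X} (Ex : Edge d a x) (Ey : Edge d a y) :
    Commute (pr G₀ a x) (pr G₀ a y) ↔ Commute x y := by
  have hax := (mem_Yg.1 (pr G₀ a x).2).2
  have hay := (mem_Yg.1 (pr G₀ a y).2).2
  constructor
  · intro h
    rw [← B.back Ex, ← B.back Ey]
    exact ((Commute.refl a).mul_right hay.symm).mul_left
      (hax.mul_right (congrArg Subtype.val h.eq : (pr G₀ a x : X) * pr G₀ a y = _))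
  · intro h
    refine Subtype.ext ?_
    show (pr G₀ a x : X) * pr G₀ a y = pr G₀ a y * pr G₀ a x
    rw [B.pr_val' Ex, B.pr_val' Ey]
    exact (((Commute.refl a).mul_right Ey.comm).mul_left (Ex.comm.symm.mul_right h)).eq

theorem Base24.pr_exists (B : Base24 G₀ d t e z) {a : X} (ha : IsConj d a) {s : ↥(Yg G₀ a)}
    (hs : s ∈ Ta G₀ d a) : Edge d a (a * (s : X)) ∧ pr G₀ a (a * (s : X)) = s := by
  have E : Edge d a (a * (s : X)) := ⟨ha, hs.2, fun r => hs.1 (left_eq_mul.1 r),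
    (Commute.refl a).mul_right (mem_Yg.1 s.2).2.symm⟩
  exact ⟨E, Subtype.ext (by rw [B.pr_val' E, ← mul_assoc, conj_sq B ha, one_mul])⟩

/-- Non-commuting members commuting with a third satisfy the braid relation. -/
theorem Base24.pow_three (B : Base24 G₀ d t e z) {a x y : X} (Ex : Edge d a x) (Ey : Edge d a y)
    (hn : ¬ Commute x y) : (x * y) ^ 3 = 1 := by
  have S := B.loc Ex.ha
  rcases S.cls.ts.2 _ (B.pr_mem Ex) _ (B.pr_mem Ey) with h | h
  · refine absurd ((B.pr_comm Ex Ey).1 ?_) hn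
    have hx := S.weak.inv (B.pr_mem Ex)
    have hy := S.weak.inv (B.pr_mem Ey)
    rw [pow_two, mul_eq_one_iff_inv_eq, mul_inv_rev, hx, hy] at h
    exact h.symm
  · have e3 : x * y = (pr G₀ a x : X) * pr G₀ a y := by
      conv_lhs => rw [← B.back Ex, ← B.back Ey]
      rw [mul_assoc, ← mul_assoc (pr G₀ a x : X), (mem_Yg.1 (pr G₀ a x).2).2.eq, mul_assoc a _ (pr G₀ a y : X),
        ← mul_assoc a a, conj_sq B Ex.ha, one_mul]
    rw [e3]
    exact congrArg Subtype.val h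

end CfsgLib.Spor.LargeFi.Top
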