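import Cfsg.Agent.Lib.Spor.LargeFi.TopFull
import Cfsg.Agent.Lib.KnownB.TypeM24Unique.Pairs

/-!
The group is Fi24, the members going to the transpositions.
-/

set_option autoImplicit false
set_option maxRecDepth 100000

namespace CfsgLib.Spor.LargeFi.Top

open Cfsg CfsgLib.ThreeTransp CfsgLib.BitPerm CfsgLib.KnownB
open CfsgLib.KnownB.TypeM24.Unique
open CfsgLib.KnownB.Fi22Mult (val)
open CfsgLib.Spor.Fi24 (numGen allGens)

universe u

theorem braid_five {M : Type*} [Group M] {a b : M} (hb : b * b = 1) (h : (a * b) ^ 3 = 1) :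
    a * b * a * b * a = b := by
  have e : a * b * a * b * a * b = 1 := by rw [← h, pow_succ, pow_two]; simp only [mul_assoc]
  rw [mul_eq_one_iff_eq_inv, inv_eq_of_mul_eq_one_right hb] at e
  exact e

theorem conj_five {M : Type*} [Group M] {a b : M} (ha : a * a = 1) (hb : b * b = 1) (h : (a * b) ^ 3 = 1) :
    a * b * a * (a * b)⁻¹ = b := by
  rw [mul_inv_rev, inv_eq_of_mul_eq_one_right ha, inv_eq_of_mul_eq_one_right hb]
  calc a * b * a * (b * a) = a * b * a * b * a := by simp only [mul_assoc]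
    _ = b := braid_five hb h

variable {X : Type u} [Group X] [Finite X] {G₀ : Subgroup X} {d t e z : X} {τ : Cfsg.Spor.Fi23 →* X} {k : X}

/-- The pairs satisfy a model of the closure. -/
theorem Full.exists_map (F : Full d τ k) (B : Base24 G₀ d t e z) (Fr : Frame d τ)
    (hgen : ∀ H : Subgroup X, d ∈ H → (∀ i, i < 10 → Wt d τ i ∈ H) → k ∈ H → H = ⊤)
    (hZ : Subgroup.center X = ⊥) :
    ∃ ψ : Cfsg.Spor.Fi24 →* X, Function.Surjective ψ ∧ ψ (CfsgLib.Spor.Fi24.gen .l) = d ∧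
      ψ (CfsgLib.Spor.Fi24.gen .k) = k := by
  haveI : Finite Cfsg.Spor.Fi24 := CfsgLib.Spor.Fi24.finite_Fi24
  obtain ⟨U, hU⟩ : ∃ U : Subgroup (X × Cfsg.Spor.Fi24), U = Subgroup.closure {q | ∃ n < 12, pairGen d k (Wt d τ) n = q} := ⟨_, rfl⟩
  have hin : ∀ n, n < 12 → pairGen d k (Wt d τ) n ∈ U := fun n hn => hU ▸ Subgroup.subset_closure ⟨n, hn, rfl⟩
  obtain ⟨P, hP⟩ : ∃ P : ℕ → U, ∀ n, n < 12 → (P n : X × Cfsg.Spor.Fi24) = pairGen d k (Wt d τ) n :=
    ⟨fun n => if h : n < 12 then ⟨_, hin n h⟩ else 1, fun n hn => by simp [hn]⟩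
  have hl12 : ∀ r ∈ certS.rels, ∀ n ∈ r, n < 12 := fun r hr n hn => by
    rcases mem_certS_rels hr with rfl | h
    · simp at hn
    · exact (CfsgLib.Spor.Fi24.clo_rel h).1 n hn
  obtain ⟨p1, hp1⟩ : ∃ p1 : U →* X, ∀ u, p1 u = (u : X × Cfsg.Spor.Fi24).1 :=
    ⟨(MonoidHom.fst X Cfsg.Spor.Fi24).comp U.subtype, fun _ => rfl⟩
  obtain ⟨p2, hp2⟩ : ∃ p2 : U →* Cfsg.Spor.Fi24, ∀ u, p2 u = (u : X × Cfsg.Spor.Fi24).2 :=
    ⟨(MonoidHom.snd X Cfsg.Spor.Fi24).comp U.subtype, fun _ => rfl⟩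
  have e1 : ∀ n, n < 12 → p1 (P n) = twelve d k (Wt d τ) n := fun n hn => by rw [hp1, hP n hn]; rfl
  have e2 : ∀ n, n < 12 → p2 (P n) = numGen n := fun n hn => by rw [hp2, hP n hn]; rfl
  have ext' : ∀ {u v : U}, p1 u = p1 v → p2 u = p2 v → u = v := fun {u v} h1 h2 =>
    Subtype.ext (Prod.ext (by rwa [hp1, hp1] at h1) (by rwa [hp2, hp2] at h2))
  have hsq : ∀ n, n < 12 → P n * P n = 1 := fun n hn => ext'
    (by rw [map_mul, e1 n hn, map_one, conj_sq B (F.mem Fr n)])
    (by rw [map_mul, e2 n hn, map_one]; exact CfsgLib.Spor.Fi24.gen_sq _)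
  obtain ⟨g, hiv, hsubs⟩ := certS_facts
  obtain ⟨L, hL⟩ : ∃ L, L = P 0 := ⟨_, rfl⟩
  have hpl : p2 L = CfsgLib.Spor.Fi24.gen .l := by rw [hL, e2 0 (by norm_num)]; rfl
  have hl1 : p1 L = d := by rw [hL, e1 0 (by norm_num)]; rfl
  obtain ⟨M, hM⟩ : ∃ M : Cert.Model certS U, M.gen = P ∧ M.sub = Subgroup.centralizer ({L} : Set U) := by
    refine ⟨⟨P, fun x hx => ?_, fun x hx i => ?_, fun r hr => ?_, fun r hr i => ?_,
      Subgroup.centralizer ({L} : Set U), fun x hx => ?_, ?_⟩, rfl, rfl⟩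
    · rw [g] at hx
      rw [hiv x hx, g]
      exact ⟨hx, (inv_eq_of_mul_eq_one_left (hsq x hx)).symm⟩
    · exact CfsgLib.Spor.Fi24.cloModel.pt_iv x hx i
    · refine ext' ?_ ?_
      · rw [map_list_prod, List.map_map, map_one, ← F.rels B Fr hr]
        exact congrArg List.prod (List.map_congr_left fun n hn => e1 n (hl12 r hr n hn))
      · rw [map_list_prod, List.map_map, map_one]
        refine Eq.trans (congrArg List.prod (List.map_congr_left fun n hn => e2 n (hl12 r hr n hn))) ?_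
        rcases mem_certS_rels hr with rfl | h
        · rfl
        · exact (CfsgLib.Spor.Fi24.clo_rel h).2
    · rcases mem_certS_rels hr with rfl | h
      · rfl
      · exact CfsgLib.Spor.Fi24.clo_fixed h i
    · rw [hsubs] at hx
      have hx12 : x < 12 ∧ x ≠ 1 := (by decide : ∀ x ∈ ([0, 2, 3, 4, 5, 6, 7, 8, 9, 10, 11] : List ℕ), x < 12 ∧ x ≠ 1) x hx
      refine Subgroup.mem_centralizer_singleton_iff.2 (ext' ?_ ?_)
      · rw [map_mul, map_mul, e1 x hx12.1, hl1]
        have : Commute (twelve d k (Wt d τ) 0) (twelve d k (Wt d τ) x) := (F.adj Fr (by norm_num) hx12.1).2 (by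
          rw [(edge24_low x hx12.1).1, ← Bool.not_eq_true, Nat.beq_eq]; exact hx12.2)
        exact this.eq.symm
      · rw [map_mul, map_mul, e2 x hx12.1, hpl]
        exact CfsgLib.Spor.Fi24.Spider.gen_comm_l ((by decide : ∀ x ∈ ([0, 2, 3, 4, 5, 6, 7, 8, 9, 10, 11] : List ℕ),
          allGens.getD x .l ∈ CfsgLib.Spor.Fi24.hGens) x hx)
    · refine eq_top_iff.2 ?_
      rintro ⟨q, hq⟩ -
      induction (hU ▸ hq : q ∈ Subgroup.closure {q | ∃ n < 12, pairGen d k (Wt d τ) n = q}) using Subgroup.closure_induction with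
      | mem y hy =>
        obtain ⟨n, hn, rfl⟩ := hy
        exact Subgroup.subset_closure ⟨n, g ▸ hn, Subtype.ext (hP n hn)⟩
      | one => exact one_mem _
      | mul a b ha hb iha ihb =>
        exact mul_mem (iha (hU ▸ ha)) (ihb (hU ▸ hb))
      | inv a ha iha => exact inv_mem (iha (hU ▸ ha))
  obtain ⟨hMg, hMs⟩ := hM
  -- the seed
  have hwlt : ∀ n ∈ seedWord, n < 12 := fun n hn => g ▸ Nat.blt_eq.mp (List.all_eq_true.1 seed_bits.2.2 n hn)
  obtain ⟨Q, hQ⟩ : ∃ Q, Q = (seedWord.map P).prod := ⟨_, rfl⟩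
  have q1 : p1 Q = (seedWord.map (twelve d k (Wt d τ))).prod := by
    rw [hQ, map_list_prod, List.map_map]
    exact congrArg List.prod (List.map_congr_left fun n hn => e1 n (hwlt n hn))
  have q2 : p2 Q = (seedWord.map numGen).prod := by
    rw [hQ, map_list_prod, List.map_map]
    exact congrArg List.prod (List.map_congr_left fun n hn => e2 n (hwlt n hn))
  have c1 : Commute k ((p1 Q)⁻¹ * d * p1 Q) := by
    obtain ⟨s1, s2, s3⟩ := seed_split
    rw [q1, s1, List.map_append, List.prod_append,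
      val_twelve d k (Wt d τ) (fun n hn => Nat.le_of_ble_eq_true (List.all_eq_true.1 s3 n hn))]
    simp only [List.map_cons, List.map_nil, List.prod_cons, List.prod_nil, mul_one,
      show twelve d k (Wt d τ) 1 = k from rfl, show twelve d k (Wt d τ) 0 = d from rfl,
      show twelve d k (Wt d τ) 2 = Wt d τ 0 from rfl]
    have hsW : ∀ i, Wt d τ i * Wt d τ i = 1 := fun i => conj_sq B (Fr.ten_mem i).hb
    have hv : val (Wt d τ) seedNums = (val (Wt d τ) ((seedWord.drop 4).map toTen))⁻¹ := by rw [← s2, val_inv hsW]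
    have hs := F.seed
    rw [hv, inv_inv] at hs
    convert hs using 1
    have hkk := conj_sq B F.hk.hb
    have haa := hsW 0
    have li : d⁻¹ = d := inv_eq_of_mul_eq_one_right B.dsq
    have ki : k⁻¹ = k := inv_eq_of_mul_eq_one_right hkk
    have ai : (Wt d τ 0)⁻¹ = Wt d τ 0 := inv_eq_of_mul_eq_one_right haa
    have x1 : d * k * d * k * d = k := braid_five (conj_sq B F.hk.hb) (by
      have := F.pow_three B Fr (x := 0) (y := 1) (by norm_num) (by norm_num) (by decide +kernel)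
      exact this)
    have x2 : k * Wt d τ 0 * k * Wt d τ 0 * k = Wt d τ 0 := braid_five haa (by
      have := F.pow_three B Fr (x := 1) (y := 2) (by norm_num) (by norm_num) (by decide +kernel)
      exact this)
    rw [mul_inv_rev, mul_inv_rev, mul_inv_rev, mul_inv_rev, ki, li, ai]
    generalize val (Wt d τ) ((seedWord.drop 4).map toTen) = V
    calc V⁻¹ * (k * Wt d τ 0 * d * k) * d * (k * (d * (Wt d τ 0 * k)) * V)
        = V⁻¹ * (k * Wt d τ 0 * (d * k * d * k * d) * Wt d τ 0 * k) * V := by simp only [mul_assoc]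
      _ = _ := by rw [x1, x2]
  have c2 : Commute (numGen 1) ((p2 Q)⁻¹ * CfsgLib.Spor.Fi24.gen .l * p2 Q) := by
    have hn : certS.okNets = true := CfsgLib.Spor.Fi24.okNets
    obtain ⟨f1, f2⟩ := seed_facts hn
    let X := CfsgLib.Spor.FischerTypes.cls24 CfsgLib.Spor.Fi24.cosetFacts
    have hpt : ((CfsgLib.Spor.Fi24.π (p2 Q)⁻¹ CfsgLib.Spor.Fi24.i₀ : Fin 306936) : ℕ) = 13026 := by
      rw [q2, show seedWord.map numGen = (seedWord.map fun n => allGens.getD n .l).map CfsgLib.Spor.Fi24.gen from by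
          rw [List.map_map]; rfl,
        ← CfsgLib.PresCert.prod_reverse_of_invol CfsgLib.Spor.Fi24.gen CfsgLib.Spor.Fi24.gen_sq,
        CfsgLib.Spor.Fi24.π_word, List.map_reverse, List.reverse_reverse, List.map_map]
      refine Eq.trans (congrArg (fun w => CfsgLib.Spor.Fi24.sys.ptW w (CfsgLib.Spor.Fi24.i₀ : Fin 306936))
        ((List.map_congr_left (g := id) fun n hn' => CfsgLib.Spor.Fi24.idx_getD n (hwlt n hn')).trans (List.map_id _))) ?_
      exact f1
    have e : (p2 Q)⁻¹ * CfsgLib.Spor.Fi24.gen .l * p2 Q = X.tp (CfsgLib.Spor.Fi24.π (p2 Q)⁻¹ CfsgLib.Spor.Fi24.i₀) := by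
      refine Eq.trans ?_ (X.tp_of_eq (g := (p2 Q)⁻¹) rfl).symm
      rw [inv_inv]
      rfl
    rw [e]
    refine (X.commute_tp_iff _ _).2 (Fin.ext ?_)
    show ((CfsgLib.Spor.Fi24.π (CfsgLib.Spor.Fi24.gen .k) _ : Fin 306936) : ℕ) = _
    rw [CfsgLib.Spor.Fi24.π_gen, hpt]
    exact f2
  have hseed : (seedWord.map M.gen).prod * M.gen 1 * ((seedWord.map M.gen).prod)⁻¹ ∈ M.sub := by
    rw [hMg, hMs, ← hQ, Subgroup.mem_centralizer_singleton_iff]
    have hc : Commute (P 1) (Q⁻¹ * L * Q) := by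
      refine ext' ?_ ?_
      · simp only [map_mul, map_inv, hl1, e1 1 (by norm_num : (1 : ℕ) < 12), show twelve d k (Wt d τ) 1 = k from rfl]
        exact c1.eq
      · simp only [map_mul, map_inv, hpl, e2 1 (by norm_num : (1 : ℕ) < 12)]
        exact c2.eq
    have := (commute_conj_iff Q).2 hc
    rwa [show Q * (Q⁻¹ * L * Q) * Q⁻¹ = L by group] at this
  obtain ⟨hidx, hfin⟩ := index_le M hseed
  rw [hMs] at hidx
  have hsurj2 : Function.Surjective p2 := by
    rw [← MonoidHom.range_eq_top, eq_top_iff, ← CfsgLib.PresCert.top_eq_lettersGroup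
      (edges := Cfsg.Spor.Fi24.edges) (extra := Cfsg.Spor.Fi24.extra) allGens CfsgLib.Spor.Fi24.mem_allGens,
      CfsgLib.PresCert.lettersGroup, Subgroup.closure_le]
    rintro _ ⟨x, hx, rfl⟩
    obtain ⟨n, hn, rfl⟩ : ∃ n < 12, allGens.getD n .l = x := ⟨CfsgLib.Spor.Fi24.idx x,
      by cases x <;> decide, by cases x <;> decide⟩
    exact ⟨P n, e2 n hn⟩
  have hker : ∀ u, p2 u = 1 → u ∈ Subgroup.centralizer ({L} : Set U) := by
    have hH : ∀ u ∈ Subgroup.centralizer ({L} : Set U), p2 u ∈ CfsgLib.Spor.Fi24.H := fun u hu => by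
      rw [← CfsgLib.Spor.FischerTypes.centralizer_l CfsgLib.Spor.Fi24.cosetFacts,
        Subgroup.mem_centralizer_singleton_iff, ← hpl, ← map_mul, ← map_mul,
        Subgroup.mem_centralizer_singleton_iff.1 hu]
    obtain ⟨f, hf⟩ : ∃ f : U ⧸ Subgroup.centralizer ({L} : Set U) → Cfsg.Spor.Fi24 ⧸ CfsgLib.Spor.Fi24.H,
        ∀ u : U, f u = (p2 u : Cfsg.Spor.Fi24 ⧸ CfsgLib.Spor.Fi24.H) :=
      ⟨fun q => Quotient.liftOn' q (fun u => (p2 u : Cfsg.Spor.Fi24 ⧸ CfsgLib.Spor.Fi24.H)) fun a b hab => by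
        rw [QuotientGroup.leftRel_apply] at hab
        refine QuotientGroup.eq.2 ?_
        rw [← map_inv, ← map_mul]
        exact hH _ hab, fun _ => rfl⟩
    have hs : Function.Surjective f := fun q => by
      obtain ⟨x, rfl⟩ := QuotientGroup.mk_surjective q
      obtain ⟨u, rfl⟩ := hsurj2 x
      exact ⟨(u : U ⧸ Subgroup.centralizer ({L} : Set U)), hf u⟩
    have hb : Function.Bijective f := hs.bijective_of_nat_card_le (by
      rw [← Subgroup.index_eq_card, ← Subgroup.index_eq_card, CfsgLib.Spor.Fi24.index_H]; exact hidx)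
    intro u hu
    have := hb.1 ((hf u).trans ((congrArg _ (hu.trans p2.map_one.symm)).trans (hf 1).symm))
    simpa using QuotientGroup.eq.1 this.symm
  -- every generator is a conjugate of the first
  have hconj : ∀ n, n < 12 → ∃ u : U, u * L * u⁻¹ = P n := by
    intro n
    induction n using Nat.strong_induction_on with
    | _ n ih =>
      intro hn
      rcases eq_or_ne n 0 with rfl | h0
      · exact ⟨1, by rw [hL]; group⟩
      obtain ⟨hlt, he, hlab⟩ := parent24_facts n hn h0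
      obtain ⟨u, hu⟩ := ih _ hlt (hlt.trans hn)
      refine ⟨P (parent24 n) * P n * u, ?_⟩
      rw [show P (parent24 n) * P n * u * L * (P (parent24 n) * P n * u)⁻¹ =
        P (parent24 n) * P n * (u * L * u⁻¹) * (P (parent24 n) * P n)⁻¹ by group, hu]
      refine ext' ?_ ?_
      · simp only [map_mul, map_inv, e1 n hn, e1 _ (hlt.trans hn)]
        exact conj_five (conj_sq B (F.mem Fr _)) (conj_sq B (F.mem Fr _)) (F.pow_three B Fr (hlt.trans hn) hn he)
      · simp only [map_mul, map_inv, e2 n hn, e2 _ (hlt.trans hn)]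
        exact CfsgLib.Spor.FischerTypes.braid24 hlab
  -- the first coordinates fill the group
  have hall : p1.range = ⊤ := by
    refine hgen _ ⟨L, hl1⟩ (fun i hi => ?_) ⟨P 1, e1 1 (by norm_num)⟩
    obtain ⟨n, hn, h2, rfl⟩ : ∃ n, n < 12 ∧ 2 ≤ n ∧ toTen n = i := by
      interval_cases i
      exacts [⟨2, by decide⟩, ⟨3, by decide⟩, ⟨4, by decide⟩, ⟨5, by decide⟩, ⟨6, by decide⟩, ⟨7, by decide⟩,
        ⟨8, by decide⟩, ⟨10, by decide⟩, ⟨11, by decide⟩, ⟨9, by decide⟩]
    exact ⟨P n, (e1 n hn).trans (twelve_ge d k _ h2)⟩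
  have hinj2 : Function.Injective p2 := by
    rw [← MonoidHom.ker_eq_bot_iff, Subgroup.eq_bot_iff_forall]
    intro u hu
    have hc : ∀ v : U, Commute u (v * L * v⁻¹) := fun v => by
      have h1 : p2 (v⁻¹ * u * v) = 1 := by rw [map_mul, map_mul, MonoidHom.mem_ker.1 hu, mul_one, ← map_mul, inv_mul_cancel, map_one]
      have h2 := (commute_conj_iff v).2 (Subgroup.mem_centralizer_singleton_iff.1 (hker _ h1) : Commute (v⁻¹ * u * v) L)
      rwa [show v * (v⁻¹ * u * v) * v⁻¹ = u by group] at h2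
    have hgen : ∀ v : U, Commute u v := fun v => by
      have hle : Subgroup.closure {q | ∃ n < certS.g, M.gen n = q} ≤ Subgroup.centralizer ({u} : Set U) := by
        rw [Subgroup.closure_le]
        rintro _ ⟨n, hn, rfl⟩
        obtain ⟨w, hw⟩ := hconj n (g ▸ hn)
        rw [hMg, ← hw]
        exact Subgroup.mem_centralizer_singleton_iff.2 (hc w).eq.symm
      exact (Subgroup.mem_centralizer_singleton_iff.1 (hle (M.closure_gen ▸ Subgroup.mem_top v))).symm
    have hcG : p1 u ∈ Subgroup.center X := Subgroup.mem_center_iff.2 fun x => by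
      obtain ⟨v, rfl⟩ := hall.ge (Subgroup.mem_top x)
      rw [← map_mul, ← map_mul, (hgen v).eq]
    rw [hZ, Subgroup.mem_bot] at hcG
    exact ext' (by rw [hcG, map_one]) (by rw [MonoidHom.mem_ker.1 hu, map_one])
  refine ⟨p1.comp (MulEquiv.ofBijective p2 ⟨hinj2, hsurj2⟩).symm.toMonoidHom, fun x => ?_, ?_, ?_⟩
  · obtain ⟨v, rfl⟩ := hall.ge (Subgroup.mem_top x)
    exact ⟨p2 v, congrArg p1 ((MulEquiv.ofBijective p2 ⟨hinj2, hsurj2⟩).symm_apply_apply v)⟩
  · rw [← hpl]
    exact (congrArg p1 ((MulEquiv.ofBijective p2 ⟨hinj2, hsurj2⟩).symm_apply_apply L)).trans hl1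
  · rw [show CfsgLib.Spor.Fi24.gen .k = p2 (P 1) from (e2 1 (by norm_num)).symm]
    exact (congrArg p1 ((MulEquiv.ofBijective p2 ⟨hinj2, hsurj2⟩).symm_apply_apply (P 1))).trans (e1 1 (by norm_num))

end CfsgLib.Spor.LargeFi.Top
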