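import Cfsg.Agent.Lib.Spor.LargeFi.TopBase

/-!
The members commuting with a member, the pair of members over a small involution.
-/

set_option autoImplicit false

namespace CfsgLib.Spor.LargeFi.Top

open Cfsg CfsgLib.ThreeTransp CfsgLib.KnownB
open scoped commutatorElement

universe u

variable {X : Type u} [Group X]

/-- Commutators fix a pair which the group permutes. -/
theorem comm_fix {K : Subgroup X} {p q : X}
    (h : ∀ a ∈ K, a * p * a⁻¹ = p ∧ a * q * a⁻¹ = q ∨ a * p * a⁻¹ = q ∧ a * q * a⁻¹ = p) :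
    ⁅K, K⁆ ≤ Subgroup.centralizer ({p} : Set X) := by
  rw [Subgroup.commutator_le]
  intro a ha b hb
  have hc : ∀ g k w : X, g * k * w * (g * k)⁻¹ = g * (k * w * k⁻¹) * g⁻¹ := fun g k w => by group
  have hi : ∀ {g w v : X}, g * w * g⁻¹ = v → g⁻¹ * v * g⁻¹⁻¹ = w := fun {g w v} e => by rw [← e]; group
  rw [Subgroup.mem_centralizer_singleton_iff, ← mul_inv_eq_iff_eq_mul, commutatorElement_def,
    show a * b * a⁻¹ * b⁻¹ * p * (a * b * a⁻¹ * b⁻¹)⁻¹ =
      a * (b * (a⁻¹ * (b⁻¹ * p * b⁻¹⁻¹) * a⁻¹⁻¹) * b⁻¹) * a⁻¹ by group]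
  rcases h a ha with ⟨a1, a2⟩ | ⟨a1, a2⟩ <;> rcases h b hb with ⟨b1, b2⟩ | ⟨b1, b2⟩
  · rw [hi b1, hi a1, b1, a1]
  · rw [hi b2, hi a2, b2, a1]
  · rw [hi b1, hi a2, b2, a2]
  · rw [hi b2, hi a1, b1, a2]

theorem mem_conj_of {a : X} {H : Subgroup X} [H.Normal] {g : X} (h : a ∈ H) : g * a * g⁻¹ ∈ H :=
  (inferInstance : H.Normal).conj_mem a h g

theorem commute_conj {a b : X} (g : X) (h : Commute a b) : Commute (g * a * g⁻¹) (g * b * g⁻¹) :=
  (commute_conj_iff g).2 h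

variable [Finite X] {G₀ : Subgroup X} {d t e z : X}

/-- A product of two commuting transpositions is small. -/
theorem Base24.two_small (B : Base24 G₀ d t e z) {u p q : X} (h : IsTwo G₀ d t u p q) : IsConj t u := by
  obtain ⟨y, -, y1, y2⟩ := B.pair_map B.t_mem B.eT B.te_ne.symm B.te_comm h.hp h.hq h.ne h.comm
  refine B.te_small.trans (isConj_iff.2 ⟨y, ?_⟩)
  rw [h.eq, ← y1, ← y2]; group

/-- A product of three commuting transpositions is not small. -/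
theorem Base24.three_not_small (B : Base24 G₀ d t e z) {u p q r : X} (h : IsThree G₀ d t u p q r) :
    ¬ IsConj t u := by
  rcases B.kinds B.zY B.zsq B.zne with k | ⟨a, b, k⟩ | ⟨a, b, c, k⟩
  · exact absurd (B.T_small k) B.znot
  · exact absurd (B.two_small k) B.znot
  obtain ⟨ha, ca⟩ := mem_T_iff (tY := B.tY).1 k.hp
  obtain ⟨hb, cb⟩ := mem_T_iff (tY := B.tY).1 k.hq
  obtain ⟨hc, cc⟩ := mem_T_iff (tY := B.tY).1 k.hr
  obtain ⟨hp, cp⟩ := mem_T_iff (tY := B.tY).1 h.hp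
  obtain ⟨hq, cq⟩ := mem_T_iff (tY := B.tY).1 h.hq
  obtain ⟨hr, cr⟩ := mem_T_iff (tY := B.tY).1 h.hr
  obtain ⟨g, g1, g2, g3⟩ := (B.set23 B.tY).triple_map (a := ⟨p, hp⟩) (b := ⟨q, hq⟩) (c := ⟨r, hr⟩) cp
    ⟨cq, fun e0 => h.n1 (congrArg Subtype.val e0).symm, Subtype.ext h.c1.eq⟩
    ⟨⟨cr, fun e0 => h.n2 (congrArg Subtype.val e0).symm, Subtype.ext h.c2.eq⟩,
      cr, fun e0 => h.n3 (congrArg Subtype.val e0).symm, Subtype.ext h.c3.eq⟩
    (a' := ⟨a, ha⟩) (b' := ⟨b, hb⟩) (c' := ⟨c, hc⟩) ca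
    ⟨cb, fun e0 => k.n1 (congrArg Subtype.val e0).symm, Subtype.ext k.c1.eq⟩
    ⟨⟨cc, fun e0 => k.n2 (congrArg Subtype.val e0).symm, Subtype.ext k.c2.eq⟩,
      cc, fun e0 => k.n3 (congrArg Subtype.val e0).symm, Subtype.ext k.c3.eq⟩
  intro hu
  refine B.znot (hu.trans (isConj_iff.2 ⟨g, ?_⟩))
  have e1 := congrArg Subtype.val g1
  have e2 := congrArg Subtype.val g2
  have e3 := congrArg Subtype.val g3
  simp only [Subgroup.coe_mul, InvMemClass.coe_inv] at e1 e2 e3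
  rw [h.eq, k.eq, ← e1, ← e2, ← e3]; group

/-- A small involution of the centraliser is one or two transpositions. -/
theorem Base24.small_kinds (B : Base24 G₀ d t e z) {y : X} (hy : y ∈ Yg G₀ d) (hs : IsConj t y) :
    y ∈ Tset G₀ d t ∨ ∃ p q, IsTwo G₀ d t y p q := by
  obtain ⟨g, rfl⟩ := isConj_iff.1 hs
  rcases B.kinds hy (by rw [show g * t * g⁻¹ * (g * t * g⁻¹) = g * (t * t) * g⁻¹ by group, B.T_sq B.t_mem]; group)
    (fun h => B.T_ne_one B.t_mem (conj_eq_one_iff.1 h)) with k | k | ⟨p, q, r, k⟩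
  · exact Or.inl k
  · exact Or.inr k
  · exact absurd hs (B.three_not_small k)

/-- The member times two transpositions is not a member. -/
theorem Base24.not_two (B : Base24 G₀ d t e z) {u p q : X} (h : IsTwo G₀ d t u p q) : ¬ IsConj d (d * u) := by
  haveI := B.normal
  intro hu
  obtain ⟨y, hy, y1, y2⟩ := B.pair_map h.hp h.hq h.ne h.comm B.t_mem B.eT B.te_ne.symm B.te_comm
  obtain ⟨x, hx⟩ : ∃ x, x = d * (t * e) := ⟨_, rfl⟩
  have hxD : IsConj d x := hu.trans (isConj_iff.2 ⟨y, by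
    rw [show y * (d * u) * y⁻¹ = y * d * y⁻¹ * (y * u * y⁻¹) by group, (mem_Yg.1 hy).2.eq, mul_inv_cancel_right,
      hx, ← y1, ← y2, h.eq]
    group⟩)
  obtain ⟨g, hg⟩ := isConj_iff.1 hxD.symm
  have hdt := (mem_Yg.1 B.tY).2
  have hde := (mem_Yg.1 (B.T_mem B.eT)).2
  have hin : ∀ {u}, u ∈ G₀ → Commute u d → Commute u t → Commute u e → g * u * g⁻¹ ∈ Yg G₀ d :=
    fun h1 h2 h3 h4 => mem_Yg.2 ⟨mem_conj_of h1, hg ▸ commute_conj g (hx ▸ h2.mul_right (h3.mul_right h4))⟩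
  have ht0 := (mem_Yg.1 B.tY).1
  have he0 := (mem_Yg.1 (B.T_mem B.eT)).1
  -- the two transpositions
  have hone : ∀ s, s ∈ Tset G₀ d t → s ≠ t * e → t * e ≠ 1 → g * s * g⁻¹ ∉ Tset G₀ d t := by
    rintro s ⟨y₀, hy₀, rfl⟩ hne h1 ⟨y', hy', hgs⟩
    obtain ⟨k, hk⟩ : ∃ k, k = y'⁻¹ * g * y₀ := ⟨_, rfl⟩
    have hkt : Commute k t := by
      rw [commute_iff_eq, ← mul_inv_eq_iff_eq_mul, hk,
        show y'⁻¹ * g * y₀ * t * (y'⁻¹ * g * y₀)⁻¹ = y'⁻¹ * (g * (y₀ * t * y₀⁻¹) * g⁻¹) * y' by group, ← hgs]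
      group
    have hkd : ∀ {w}, w ∈ Yg G₀ d → w * d * w⁻¹ = d := fun hw => by
      rw [(mem_Yg.1 hw).2.eq, mul_inv_cancel_right]
    have e1 : k⁻¹ * d * k⁻¹⁻¹ = y₀⁻¹ * x * y₀ := by
      rw [hk, show (y'⁻¹ * g * y₀)⁻¹ * d * (y'⁻¹ * g * y₀)⁻¹⁻¹ = y₀⁻¹ * (g⁻¹ * (y' * d * y'⁻¹) * g) * y₀ by group,
        hkd hy', ← hg]
      group
    rcases B.stab k⁻¹ hkt.inv_left with r | r <;> rw [e1] at r
    · refine h1 ?_
      have := congrArg (fun w => d * (y₀ * w * y₀⁻¹)) r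
      rw [show y₀ * (y₀⁻¹ * x * y₀) * y₀⁻¹ = x by group, hkd hy₀, hx, ← mul_assoc, B.dsq, one_mul] at this
      exact this
    · refine hne ?_
      have := congrArg (fun w => d * (y₀ * w * y₀⁻¹)) r
      rw [show y₀ * (y₀⁻¹ * x * y₀) * y₀⁻¹ = x by group,
        show y₀ * (d * t) * y₀⁻¹ = y₀ * d * y₀⁻¹ * (y₀ * t * y₀⁻¹) by group, hkd hy₀, hx, ← mul_assoc, B.dsq,
        one_mul, ← mul_assoc, B.dsq, one_mul] at this
      exact this.symm
  have hte1 : t * e ≠ 1 := fun r => B.te_ne (by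
    rw [← inv_eq_of_mul_eq_one_right r, inv_eq_of_mul_eq_one_right (B.T_sq B.t_mem)])
  have h_t := hone t B.t_mem (fun r => B.T_ne_one B.eT (left_eq_mul.1 r)) hte1
  have h_e := hone e B.eT (fun r => B.T_ne_one B.t_mem (right_eq_mul.1 r)) hte1
  -- their product
  have h_te : g * (t * e) * g⁻¹ ∉ Tset G₀ d t := by
    rintro ⟨y', hy', hgs⟩
    obtain ⟨k, hk⟩ : ∃ k, k = y'⁻¹ * g := ⟨_, rfl⟩
    have hkte : k * (t * e) * k⁻¹ = t := by
      rw [hk, show y'⁻¹ * g * (t * e) * (y'⁻¹ * g)⁻¹ = y'⁻¹ * (g * (t * e) * g⁻¹) * y' by group, ← hgs]; group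
    have hkx : k * x * k⁻¹ = d := by
      rw [hk, show y'⁻¹ * g * x * (y'⁻¹ * g)⁻¹ = y'⁻¹ * (g * x * g⁻¹) * y'⁻¹⁻¹ by group, hg,
        (mem_Yg.1 (inv_mem hy')).2.eq, mul_inv_cancel_right]
    obtain ⟨K, hK⟩ : ∃ K, K = Yg G₀ d ⊓ Subgroup.centralizer ({t * e} : Set X) := ⟨_, rfl⟩
    have hKm : ∀ {c}, c ∈ K ↔ (c ∈ G₀ ∧ Commute c d) ∧ Commute c (t * e) := fun {c} => by
      rw [hK, Subgroup.mem_inf, mem_Yg, Subgroup.mem_centralizer_singleton_iff]; exact Iff.rfl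
    have hmap : K.map (MulAut.conj k).toMonoidHom = Yg G₀ d ⊓ Subgroup.centralizer ({t} : Set X) := by
      ext w
      rw [Subgroup.mem_map_equiv, MulAut.conj_symm_apply, hKm, Subgroup.mem_inf, mem_Yg,
        Subgroup.mem_centralizer_singleton_iff]
      have hw : w = k * (k⁻¹ * w * k) * k⁻¹ := by group
      constructor
      · rintro ⟨⟨a1, a2⟩, a3⟩
        exact ⟨⟨hw ▸ mem_conj_of a1, hw ▸ hkx ▸ commute_conj k (hx ▸ a2.mul_right a3)⟩,
          (hw ▸ hkte ▸ commute_conj k a3 : Commute w t).eq⟩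
      · rintro ⟨⟨a1, a2⟩, a3⟩
        have c1 : Commute (k⁻¹ * w * k) x := (commute_conj_iff k).1 (by rw [hkx, ← hw]; exact a2)
        have c2 : Commute (k⁻¹ * w * k) (t * e) := (commute_conj_iff k).1 (by rw [hkte, ← hw]; exact a3)
        refine ⟨⟨by simpa using mem_conj_of (g := k⁻¹) a1, ?_⟩, c2⟩
        have h5 := c1.mul_right c2
        rwa [hx, mul_assoc d, show t * e * (t * e) = 1 from by
          rw [← pow_two, B.te_comm.mul_pow, pow_two, pow_two, B.T_sq B.t_mem, B.T_sq B.eT, one_mul], mul_one] at h5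
    have hperf : ⁅K, K⁆ = K := Subgroup.map_injective (f := (MulAut.conj k).toMonoidHom) (MulAut.conj k).injective
      (by rw [Subgroup.map_commutator, hmap, B.perf])
    have hle : K ≤ Subgroup.centralizer ({t} : Set X) := hperf.ge.trans (comm_fix (q := e) fun a ha => by
      obtain ⟨⟨a1, a2⟩, a3⟩ := hKm.1 ha
      have hY : a ∈ Yg G₀ d := mem_Yg.2 ⟨a1, a2⟩
      have h2 : IsTwo G₀ d t (t * e) (a * t * a⁻¹) (a * e * a⁻¹) :=
        ⟨B.T_conj hY B.t_mem, B.T_conj hY B.eT, fun r => B.te_ne (mul_left_cancel (mul_right_cancel r)).symm,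
          commute_conj a B.te_comm, by
            rw [show a * t * a⁻¹ * (a * e * a⁻¹) = a * (t * e) * a⁻¹ by group, a3.eq, mul_inv_cancel_right]⟩
      have h1 : IsTwo G₀ d t (t * e) t e := ⟨B.t_mem, B.eT, B.te_ne.symm, B.te_comm, rfl⟩
      rcases B.two_unique h1 h2 with r | r
      · exact Or.inl ⟨r, mul_left_cancel (a := t) (by have := h2.eq; rw [r] at this; exact this.symm)⟩
      · refine Or.inr ⟨r, mul_left_cancel (a := e) ?_⟩
        have := h2.eq; rw [r, B.te_comm.eq] at this; exact this.symm)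
    obtain ⟨s, hs, s1, s2⟩ := B.pair_map B.t_mem B.eT B.te_ne.symm B.te_comm B.eT B.t_mem B.te_ne B.te_comm.symm
    have hsK : s ∈ K := hKm.2 ⟨mem_Yg.1 hs, by
      rw [commute_iff_eq, ← mul_inv_eq_iff_eq_mul,
        show s * (t * e) * s⁻¹ = s * t * s⁻¹ * (s * e * s⁻¹) by group, s1, s2, B.te_comm.eq]⟩
    have := Subgroup.mem_centralizer_singleton_iff.1 (hle hsK)
    rw [← mul_inv_eq_iff_eq_mul, s1] at this
    exact B.te_ne this
  -- all three are products of two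
  obtain ⟨P, hP⟩ : ∃ P, P = G₀ ⊓ Subgroup.centralizer ({t, e} : Set X) := ⟨_, rfl⟩
  have hPm : ∀ {c}, c ∈ P → c ∈ G₀ ∧ Commute c t ∧ Commute c e := fun {c} hc => by
    rw [hP, Subgroup.mem_inf, Subgroup.mem_centralizer_iff] at hc
    exact ⟨hc.1, (hc.2 t (by simp)).symm, (hc.2 e (by simp)).symm⟩
  obtain ⟨p', q', hk⟩ := ((B.small_kinds (hin ht0 hdt (Commute.refl t) B.te_comm)
    (isConj_iff.2 ⟨g, rfl⟩)).resolve_left h_t)
  have hfix : P.map (MulAut.conj g).toMonoidHom ≤ Subgroup.centralizer ({p'} : Set X) := by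
    have hperf : ⁅P, P⁆ = P := hP ▸ B.four_perf
    rw [← hperf, Subgroup.map_commutator]
    refine comm_fix (q := q') fun a ha => ?_
    obtain ⟨c, hc, rfl⟩ := ha
    obtain ⟨c1, c2, c3⟩ := hPm hc
    have hY : (MulAut.conj g).toMonoidHom c ∈ Yg G₀ d := hin c1 (B.four_d c c1 c2 c3) c2 c3
    obtain ⟨a, ha⟩ : ∃ a, a = (MulAut.conj g).toMonoidHom c := ⟨_, rfl⟩
    rw [← ha] at hY ⊢
    have hat : Commute a (g * t * g⁻¹) := ha ▸ commute_conj g c2
    have h2 : IsTwo G₀ d t (g * t * g⁻¹) (a * p' * a⁻¹) (a * q' * a⁻¹) :=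
      ⟨B.T_conj hY hk.hp, B.T_conj hY hk.hq, fun r => hk.ne (mul_left_cancel (mul_right_cancel r)),
        commute_conj a hk.comm, by
          conv_lhs => rw [← mul_inv_cancel_right (g * t * g⁻¹) a, ← hat.eq, hk.eq]
          group⟩
    rcases B.two_unique hk h2 with r | r
    · exact Or.inl ⟨r, mul_left_cancel (a := p') (by have := h2.eq; rw [r, hk.eq] at this; exact this.symm)⟩
    · refine Or.inr ⟨r, mul_left_cancel (a := q') ?_⟩
      have := h2.eq; rw [r, hk.eq, hk.comm.eq] at this; exact this.symm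
  have hp0 := (mem_Yg.1 (B.T_mem hk.hp)).1
  have hw := B.four (g⁻¹ * p' * g) (by simpa using mem_conj_of (g := g⁻¹) hp0) fun c c1 c2 c3 => by
    have hc : c ∈ P := by
      rw [hP, Subgroup.mem_inf, Subgroup.mem_centralizer_iff]
      exact ⟨c1, fun w hw => by
        rcases hw with rfl | rfl
        exacts [c2.eq.symm, c3.eq.symm]⟩
    have := Subgroup.mem_centralizer_singleton_iff.1 (hfix (Subgroup.mem_map_of_mem _ hc))
    refine (commute_conj_iff g).1 ?_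
    rw [show g * (g⁻¹ * p' * g) * g⁻¹ = p' by group]
    exact (this : Commute (g * c * g⁻¹) p').symm
  have hp' : p' = g * (g⁻¹ * p' * g) * g⁻¹ := by group
  rcases hw with r | r | r | r <;> rw [r] at hp'
  · exact B.T_ne_one hk.hp (by rw [hp']; group)
  · exact h_t (hp' ▸ hk.hp)
  · exact h_e (hp' ▸ hk.hp)
  · exact h_te (hp' ▸ hk.hp)

/-- A member commuting with the base member is its product with a transposition. -/
theorem Base24.nb_base (B : Base24 G₀ d t e z) {x : X} (hx : IsConj d x) (hc : Commute x d) (hne : x ≠ d) :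
    d * x ∈ Tset G₀ d t := by
  haveI := B.normal
  have hx2 := conj_sq B hx
  have hsY : d * x ∈ Yg G₀ d := mem_Yg.2 ⟨(Subgroup.mul_mem_iff_of_index_two B.idx).2
    (iff_of_false B.dout (mem_conj_out B hx)), (Commute.refl d).mul_left hc⟩
  have hback : x = d * (d * x) := by rw [← mul_assoc, B.dsq, one_mul]
  rcases B.kinds hsY (by rw [← pow_two, hc.symm.mul_pow, pow_two, pow_two, B.dsq, hx2, one_mul])
    (fun h => hne (mul_left_cancel (h.trans B.dsq.symm))) with k | ⟨p, q, k⟩ | ⟨p, q, r, k⟩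
  · exact k
  · exact absurd (hback ▸ hx) (B.not_two k)
  exfalso
  obtain ⟨g, hg⟩ := isConj_iff.1 (B.dT_mem k.hp).symm
  have hdT : ∀ {s}, s ∈ Tset G₀ d t → Commute s d := fun hs => (mem_Yg.1 (B.T_mem hs)).2
  have key : ∀ {s}, s ∈ Tset G₀ d t → s ≠ p → Commute p s → g * (p * s) * g⁻¹ ∈ Tset G₀ d t := by
    intro s hs hsp hps
    have hY : g * (p * s) * g⁻¹ ∈ Yg G₀ d := mem_Yg.2 ⟨mem_conj_of (mul_mem (mem_Yg.1 (B.T_mem k.hp)).1
      (mem_Yg.1 (B.T_mem hs)).1), hg ▸ commute_conj g (((hdT k.hp).mul_left (hdT hs)).mul_right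
        (((Commute.refl p).mul_left hps.symm)))⟩
    refine (B.small_kinds hY ((B.two_small ⟨k.hp, hs, hsp.symm, hps, rfl⟩).trans (isConj_iff.2 ⟨g, rfl⟩))).resolve_right ?_
    rintro ⟨a, b, h2⟩
    refine B.not_two h2 ?_
    rw [show d * (g * (p * s) * g⁻¹) = g * (d * p * (p * s)) * g⁻¹ by
      rw [show g * (d * p * (p * s)) * g⁻¹ = g * (d * p) * g⁻¹ * (g * (p * s) * g⁻¹) by group, hg]]
    rw [show d * p * (p * s) = d * s by rw [mul_assoc, ← mul_assoc p p s, B.T_sq k.hp, one_mul]]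
    exact (B.dT_mem hs).trans (isConj_iff.2 ⟨g, rfl⟩)
  refine B.not_two (u := g * (p * q) * g⁻¹ * (g * (p * r) * g⁻¹))
    ⟨key k.hq k.n1.symm k.c1, key k.hr k.n2.symm k.c2,
      fun e0 => k.n3 (mul_left_cancel (mul_left_cancel (mul_right_cancel e0))),
      commute_conj g ((((Commute.refl p).mul_right k.c2)).mul_left (k.c1.symm.mul_right k.c3)), rfl⟩ ?_
  rw [show d * (g * (p * q) * g⁻¹ * (g * (p * r) * g⁻¹)) = g * (d * p * ((p * q) * (p * r))) * g⁻¹ by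
      rw [show g * (d * p * ((p * q) * (p * r))) * g⁻¹ =
        g * (d * p) * g⁻¹ * (g * (p * q) * g⁻¹ * (g * (p * r) * g⁻¹)) by group, hg],
    show d * p * ((p * q) * (p * r)) = x from by
      rw [hback, k.eq, show p * q * (p * r) = q * r by
        rw [show p * q * (p * r) = p * (q * p) * r by group, ← k.c1.eq, ← mul_assoc, B.T_sq k.hp, one_mul]]
      group]
  exact hx.trans (isConj_iff.2 ⟨g, rfl⟩)

end CfsgLib.Spor.LargeFi.Top
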