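import Cfsg.Agent.Lib.Spor.LargeFi.TopConn
import Cfsg.Agent.Lib.Spor.LargeFi.SixTopQ
import Cfsg.Agent.Lib.Spor.LargeFi.SylElem
import Cfsg.Agent.Lib.Spor.LargeFi.CentQuasi

/-!
Connectedness of the commuting graph: odd normal sections over the kernel are trivial.
-/

set_option autoImplicit false

namespace CfsgLib.Spor.LargeFi.Top

open Cfsg CfsgLib.ThreeTransp CfsgLib.KnownB CfsgLib.Spor.U62
open scoped commutatorElement

universe u

/-- every vector is the sum of two small ones -/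
theorem small_span_check :
    ((List.range 4096).all fun u => smallL.any fun a => inM smallM (Nat.xor u a)) = true := by
  decide +kernel

theorem small_span (v : V6) : ∃ a b, Small a ∧ Small b ∧ v = a + b := by
  obtain ⟨c, hc, hx⟩ := List.any_eq_true.1 (List.all_eq_true.1 small_span_check (vc v) (List.mem_range.2 (vc_lt v)))
  have h := List.all_eq_true.1 small_iso c hc
  simp only [Bool.and_eq_true, Nat.blt_eq] at h
  have hc4 : c < 4096 := h.1.2
  have hv : Nat.xor (vc v) c < 4096 := Nat.xor_lt_two_pow (n := 12) (vc_lt v) hc4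
  refine ⟨vOf c, vOf (Nat.xor (vc v) c), ?_, ?_, vc_injective ?_⟩
  · show vc (vOf c) ∈ smallL
    rw [vc_vOf hc4]; exact hc
  · show vc (vOf _) ∈ smallL
    rw [vc_vOf hv]; exact mem_smallL.2 hx
  · rw [vc_add, vc_vOf hc4, vc_vOf hv]
    show vc v = c ^^^ (vc v ^^^ c)
    rw [Nat.xor_comm (vc v) c, ← Nat.xor_assoc, Nat.xor_self, Nat.zero_xor]

section

variable {X : Type u} [Group X] [Finite X] {G₀ : Subgroup X} {zz : ↥G₀}
  {Q : Subgroup (Subgroup.centralizer ({zz} : Set ↥G₀))} [Q.Normal] {d e : X} {t₀ : ↥G₀}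

omit [Q.Normal] in
/-- The kernel in the centraliser of the central involution. -/
theorem kernel_normal (B : Base24 G₀ d (t₀ : X) e (zz : X)) :
    ((kerComp G₀ d).comap (G₀.subtype.comp (Subgroup.centralizer ({zz} : Set ↥G₀)).subtype)).Normal := by
  haveI := B.ker_normal
  infer_instance

/-- The extraspecial subgroup lies in the kernel. -/
theorem Q_ker (B : Base24 G₀ d (t₀ : X) e (zz : X)) (hF : Cfsg.IsOfLargeFischerTypeAt zz Q)
    (htQ : t₀ ∈ SixTop.qG Q) : Q ≤ (kerComp G₀ d).comap (G₀.subtype.comp (Subgroup.centralizer ({zz} : Set ↥G₀)).subtype) := by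
  haveI := kernel_normal B
  obtain ⟨D⟩ := model_of_type hF
  obtain ⟨t', ht', ett⟩ := htQ
  obtain ⟨N', hN'⟩ : ∃ N', N' = (kerComp G₀ d).comap (G₀.subtype.comp (Subgroup.centralizer ({zz} : Set ↥G₀)).subtype) :=
    ⟨_, rfl⟩
  have hz' : zH zz ∈ N' := hN' ▸ (show (zz : X) ∈ kerComp G₀ d from B.Y_ker B.zY)
  have htm : t' ∈ N' := hN' ▸ (show ((t' : ↥G₀) : X) ∈ kerComp G₀ d from by
    rw [show (t' : ↥G₀) = t₀ from ett]; exact B.small_ker (IsConj.refl _))
  haveI : N'.Normal := hN' ▸ inferInstance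
  have h1 : (t' : Subgroup.centralizer ({zz} : Set ↥G₀)) * t' = 1 := Subtype.ext (Subtype.ext (by
    show ((t' : ↥G₀) : X) * (t' : ↥G₀) = 1
    rw [show (t' : ↥G₀) = t₀ from ett]; exact B.T_sq B.t_mem))
  have hne : t' ≠ 1 := fun r => B.T_ne_one B.t_mem (by
    rw [← ett, r]; rfl)
  have hnz : t' ≠ zH zz := fun r => B.znot (by
    rw [← ett, r]; exact IsConj.refl _)
  have hsmall : Small (D.vec ⟨t', ht'⟩) := by
    rcases D.invol_vec (a := ⟨t', ht'⟩) h1 hne hnz with r | r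
    · exact r
    · exfalso
      obtain ⟨⟨-, -, -, -, g, ⟨hq, hmem⟩, hne'⟩, -⟩ := id hF
      obtain ⟨k, hk⟩ := D.conj_of_big (a := ⟨_, hmem⟩) (b := ⟨t', ht'⟩) (big_of_conj D (a := ⟨_, hmem⟩) rfl hne') r
      refine B.znot ?_
      have e1 := congrArg (fun w : Subgroup.centralizer ({zz} : Set ↥G₀) => ((w : ↥G₀) : X)) hk
      simp only [Subgroup.coe_mul, InvMemClass.coe_inv] at e1
      rw [show ((t' : ↥G₀) : X) = (t₀ : X) by rw [← ett]; rfl] at e1
      refine (isConj_iff.2 ⟨((k : ↥G₀) : X) * (g : X), ?_⟩ : IsConj (zz : X) (t₀ : X)).symm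
      rw [← e1]; group
  have hsm : ∀ a : Q, Small (D.vec a) → (a : Subgroup.centralizer ({zz} : Set ↥G₀)) ∈ N' := fun a ha => by
    obtain ⟨k, hk⟩ := D.conj_of_small hsmall ha
    rw [← hk]
    exact (inferInstance : N'.Normal).conj_mem _ htm k
  intro a ha
  rw [← hN']
  obtain ⟨u, v, hu, hv, huv⟩ := small_span (D.vec ⟨a, ha⟩)
  obtain ⟨p, rfl⟩ := D.vec_surj u
  obtain ⟨q, rfl⟩ := D.vec_surj v
  rw [← D.vec_mul] at huv
  rcases D.vec_eq huv.symm with r | r <;>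
    rw [show a = ((⟨a, ha⟩ : Q) : Subgroup.centralizer ({zz} : Set ↥G₀)) from rfl, r, Subgroup.coe_mul]
  · exact mul_mem (hsm p hu) (hsm q hv)
  · exact mul_mem hz' (mul_mem (hsm p hu) (hsm q hv))

/-- The kernel covers the subgroup of index two of the centraliser. -/
theorem M_ker (B : Base24 G₀ d (t₀ : X) e (zz : X)) (hF : Cfsg.IsOfLargeFischerTypeAt zz Q)
    (htQ : t₀ ∈ SixTop.qG Q) : ∃ M : Subgroup (Subgroup.centralizer ({zz} : Set ↥G₀)), M.index = 2 ∧
      M ≤ (kerComp G₀ d).comap (G₀.subtype.comp (Subgroup.centralizer ({zz} : Set ↥G₀)).subtype) := by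
  haveI := kernel_normal B
  haveI := B.normal
  have hQ := Q_ker B hF htQ
  obtain ⟨D⟩ := model_of_type hF
  obtain ⟨t', ht', ett⟩ := id htQ
  obtain ⟨N', hN'⟩ : ∃ N', N' = (kerComp G₀ d).comap (G₀.subtype.comp (Subgroup.centralizer ({zz} : Set ↥G₀)).subtype) :=
    ⟨_, rfl⟩
  haveI : N'.Normal := hN' ▸ inferInstance
  rw [← hN'] at hQ
  refine ⟨D.M, D.M_index, hN' ▸ ?_⟩
  -- the centraliser of the small involution in the centraliser of the member
  obtain ⟨S, hS⟩ : ∃ S, S = Subgroup.centralizer ({t'} : Set (Subgroup.centralizer ({zz} : Set ↥G₀))) := ⟨_, rfl⟩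
  have hSidx : S.index ≤ 2 ^ 13 := by
    obtain ⟨f, hf⟩ : ∃ f : Subgroup.centralizer ({zz} : Set ↥G₀) ⧸ S → Q,
        ∀ k : Subgroup.centralizer ({zz} : Set ↥G₀), (f k : Subgroup.centralizer ({zz} : Set ↥G₀)) = k * t' * k⁻¹ := by
      refine ⟨fun c => Quotient.liftOn' c (fun k => (⟨k * t' * k⁻¹, (inferInstance : Q.Normal).conj_mem _ ht' k⟩ : Q))
        (fun a b hab => Subtype.ext ?_), fun k => rfl⟩
      rw [QuotientGroup.leftRel_apply, hS, Subgroup.mem_centralizer_singleton_iff] at hab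
      show a * t' * a⁻¹ = b * t' * b⁻¹
      calc a * t' * a⁻¹ = a * (t' * (a⁻¹ * b)) * b⁻¹ := by group
        _ = a * (a⁻¹ * b * t') * b⁻¹ := by rw [hab]
        _ = b * t' * b⁻¹ := by group
    rw [Subgroup.index_eq_card, ← D.card_Q]
    refine Nat.card_le_card_of_injective f fun x y hxy => ?_
    obtain ⟨a, rfl⟩ := QuotientGroup.mk_surjective x
    obtain ⟨b, rfl⟩ := QuotientGroup.mk_surjective y
    have e1 : a * t' * a⁻¹ = b * t' * b⁻¹ := by rw [← hf, ← hf, hxy]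
    refine QuotientGroup.eq.2 (hS ▸ Subgroup.mem_centralizer_singleton_iff.2 ?_)
    rw [show a⁻¹ * b * t' = a⁻¹ * (b * t' * b⁻¹) * b by group, ← e1]; group
  obtain ⟨T', hT'⟩ : ∃ T', T' = S ⊓ N' := ⟨_, rfl⟩
  have hT2 : T'.relIndex S ≤ 2 := by
    have key : ∀ {k : Subgroup.centralizer ({zz} : Set ↥G₀)}, k ∈ S → k ∉ T' →
        ((k : ↥G₀) : X) * d * ((k : ↥G₀) : X)⁻¹ = d * (t₀ : X) := fun {k} hk hn => by
      have hkt : Commute ((k : ↥G₀) : X) (t₀ : X) := by
        rw [hS, Subgroup.mem_centralizer_singleton_iff] at hk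
        have := congrArg (fun w : Subgroup.centralizer ({zz} : Set ↥G₀) => ((w : ↥G₀) : X)) hk
        rw [← ett]; exact this
      refine (B.stab _ hkt).resolve_left fun r => hn ?_
      rw [hT']
      refine ⟨hk, hN' ▸ (show ((k : ↥G₀) : X) ∈ kerComp G₀ d from B.Y_ker (mem_Yg.2 ⟨k.1.2, ?_⟩))⟩
      exact mul_inv_eq_iff_eq_mul.1 r
    by_cases hall : ∀ k ∈ S, k ∈ T'
    · rw [Subgroup.relIndex_eq_one.2 hall]; norm_num
    push Not at hall
    obtain ⟨r, hr, hrn⟩ := hall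
    have h2 : (T'.subgroupOf S).index = 2 := by
      rw [Subgroup.index_eq_two_iff]
      refine ⟨⟨r⁻¹, inv_mem hr⟩, fun k => ?_⟩
      by_cases hk : (k : Subgroup.centralizer ({zz} : Set ↥G₀)) ∈ T'
      · right
        refine ⟨hk, fun hkr => hrn ?_⟩
        have := mul_mem (inv_mem hk) hkr
        simp only [Subgroup.coe_subtype, Subgroup.coe_mul, inv_mul_cancel_left] at this
        exact inv_mem_iff.1 this
      · left
        refine ⟨?_, hk⟩
        show (k : Subgroup.centralizer ({zz} : Set ↥G₀)) * r⁻¹ ∈ T'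
        by_contra hn
        have e1 := key k.2 hk
        have e2 := key (k := (k : Subgroup.centralizer ({zz} : Set ↥G₀)) * r⁻¹) (mul_mem k.2 (inv_mem hr)) hn
        have e3 := key hr hrn
        simp only [Subgroup.coe_mul, InvMemClass.coe_inv] at e2
        have e4 : (((r : ↥G₀) : X))⁻¹ * d * ((r : ↥G₀) : X) = d := by
          have h0 : ((k : Subgroup.centralizer ({zz} : Set ↥G₀)) : ↥G₀).1 * ((((r : ↥G₀) : X))⁻¹ * d * ((r : ↥G₀) : X)) *
              (((k : Subgroup.centralizer ({zz} : Set ↥G₀)) : ↥G₀).1)⁻¹ = d * (t₀ : X) := by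
            rw [← e2]; group
          exact mul_left_cancel (mul_right_cancel (h0.trans e1.symm))
        have e5 : ((r : ↥G₀) : X) * d * ((r : ↥G₀) : X)⁻¹ = d := by
          conv_lhs => rw [← e4]
          group
        exact B.T_ne_one B.t_mem (left_eq_mul.1 (e5.symm.trans e3))
    rw [Subgroup.relIndex, h2]
  obtain ⟨ρ, hρ, hρK, hρs, hρk⟩ := D.exists_rho
  obtain ⟨φ, hφ⟩ : ∃ φ : D.M →* ↥(KS 0), ∀ m, (φ m : U6) = ρ m := ⟨ρ.codRestrict _ hρK, fun _ => rfl⟩
  have hφs : Function.Surjective φ := fun g => by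
    obtain ⟨m, hm⟩ := hρs g g.2
    exact ⟨m, Subtype.ext ((hφ m).trans hm)⟩
  haveI hI : ((N'.subgroupOf D.M).map φ).Normal := Subgroup.Normal.map inferInstance φ hφs
  obtain ⟨ζ, hζcd, -, hζ, hζc⟩ := exists_zeta
  letI := D.fld
  letI := D.fin
  obtain ⟨ee⟩ := (KS_spec D.card_F9 0).1.2
  have hcases := normal_cases D.card_F9 ee ((N'.subgroupOf D.M).map φ ⊔ Subgroup.center ↥(KS 0)) le_sup_right
  have hqle : ∀ {m : D.M}, φ m = 1 → m ∈ N'.subgroupOf D.M := fun {m} hm => by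
    rw [Subgroup.mem_subgroupOf]
    exact hQ ((hρk m).1 (by rw [← hφ, hm]; rfl))
  suffices htop : (N'.subgroupOf D.M).map φ = ⊤ by
    intro m hm
    obtain ⟨n, hn, hnm⟩ := (htop ▸ Subgroup.mem_top _ : φ ⟨m, hm⟩ ∈ (N'.subgroupOf D.M).map φ)
    have h1 : φ (n⁻¹ * ⟨m, hm⟩) = 1 := by rw [map_mul, map_inv, hnm, inv_mul_cancel]
    have := mul_mem hn (hqle h1)
    rwa [mul_inv_cancel_left, Subgroup.mem_subgroupOf] at this
  rcases hcases with h | h
  · exfalso
    have hle : (N'.subgroupOf D.M).map φ ≤ Subgroup.center ↥(KS 0) := le_sup_left.trans h.le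
    have h3 : Nat.card ↥((N'.subgroupOf D.M).map φ) ≤ 3 := by
      refine (Subgroup.card_le_of_le hle).trans ?_
      rw [(KS_spec D.card_F9 0).1.1]
    have hk : Nat.card ↥(φ.ker) ≤ 2 ^ 13 := by
      rw [← D.card_Q]
      refine Nat.card_le_card_of_injective (fun m => (⟨((m : D.M) : Subgroup.centralizer ({zz} : Set ↥G₀)),
        (hρk _).1 (by rw [← hφ, MonoidHom.mem_ker.1 m.2]; rfl)⟩ : Q))
        fun a b hab => Subtype.ext (Subtype.ext (congrArg (fun q : Q => (q : Subgroup.centralizer ({zz} : Set ↥G₀))) hab))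
    have hA : Nat.card ↥(N'.subgroupOf D.M) ≤ 3 * 2 ^ 13 := by
      have h1 := Subgroup.card_mul_index ((φ.domRestrict (N'.subgroupOf D.M)).ker)
      rw [Subgroup.index_ker, MonoidHom.domRestrict_range] at h1
      rw [← h1, mul_comm]
      refine Nat.mul_le_mul h3 (le_trans ?_ hk)
      exact Nat.card_le_card_of_injective (fun w => (⟨((w : ↥(N'.subgroupOf D.M)) : D.M), MonoidHom.mem_ker.2
        (MonoidHom.mem_ker.1 w.2)⟩ : ↥(φ.ker))) fun a b hab =>
          Subtype.ext (Subtype.ext (congrArg (fun w : ↥(φ.ker) => (w : D.M)) hab))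
    -- the orders
    have hN1 : Nat.card N' ≤ 2 * Nat.card ↥(N'.subgroupOf D.M) := by
      haveI := D.M_normal
      have h1 := Subgroup.card_mul_index (D.M.subgroupOf N')
      have h2 : (D.M.subgroupOf N').index ≤ 2 := by
        refine le_trans (Nat.le_of_dvd (by rw [D.M_index]; norm_num) (Subgroup.relIndex_dvd_index_of_normal D.M N')) ?_
        rw [D.M_index]
      have h3 : Nat.card ↥(D.M.subgroupOf N') = Nat.card ↥(N'.subgroupOf D.M) := by
        exact Nat.card_congr ⟨fun w => ⟨⟨w.1.1, w.2⟩, w.1.2⟩, fun w => ⟨⟨w.1.1, w.2⟩, w.1.2⟩, fun w => rfl,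
          fun w => rfl⟩
      rw [← h1, h3]
      nlinarith
    have hTN : Nat.card T' ≤ Nat.card N' := Subgroup.card_le_of_le (hT' ▸ inf_le_right)
    have hMc : 3265920 ∣ Nat.card D.M := by
      have h1 := Subgroup.card_mul_index φ.ker
      have h2 : φ.ker.index = Nat.card ↥(KS 0) := by
        rw [Subgroup.index_ker, MonoidHom.range_eq_top.2 hφs, Subgroup.card_top]
      have h4 := Subgroup.card_mul_index (Subgroup.center ↥(KS 0))
      rw [index_eq D.card_F9 ee, (KS_spec D.card_F9 0).1.1] at h4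
      rw [← h1, h2, ← h4]
      exact Dvd.dvd.mul_left (dvd_mul_left _ _) _
    have hHM : Nat.card (Subgroup.centralizer ({zz} : Set ↥G₀)) = 2 * Nat.card D.M := by
      rw [← Subgroup.card_mul_index D.M, D.M_index, mul_comm]
    have hST : Nat.card S ≤ 2 * Nat.card T' := by
      have h1 := Subgroup.card_mul_index (T'.subgroupOf S)
      rw [Nat.card_congr (Subgroup.subgroupOfEquivOfLe (hT' ▸ inf_le_left : T' ≤ S)).toEquiv] at h1
      rw [← h1, mul_comm]
      exact Nat.mul_le_mul_right _ hT2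
    have hbig := Subgroup.card_mul_index S
    have hMbig : 3 * 2 ^ 13 * 3265920 ≤ Nat.card D.M := by
      have h1 := Subgroup.card_mul_index φ.ker
      have h2 : φ.ker.index = 3 * 3265920 := by
        rw [Subgroup.index_ker, MonoidHom.range_eq_top.2 hφs, Subgroup.card_top,
          ← Subgroup.card_mul_index (Subgroup.center ↥(KS 0)), index_eq D.card_F9 ee, (KS_spec D.card_F9 0).1.1]
      have h5 : Nat.card ↥(φ.ker) = 2 ^ 13 := by
        refine le_antisymm hk ?_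
        rw [← D.card_Q]
        refine Nat.card_le_card_of_injective (fun q => (⟨⟨(q : Subgroup.centralizer ({zz} : Set ↥G₀)), D.Q_le q.2⟩,
          MonoidHom.mem_ker.2 (Subtype.ext ((hφ _).trans ((hρk _).2 q.2)))⟩ : ↥(φ.ker))) fun a b hab =>
            Subtype.ext (congrArg (fun w : ↥(φ.ker) => ((w : D.M) : Subgroup.centralizer ({zz} : Set ↥G₀))) hab)
      rw [← h1, h2, h5]
      norm_num
    have : Nat.card (Subgroup.centralizer ({zz} : Set ↥G₀)) ≤ 2 * (2 * (3 * 2 ^ 13)) * 2 ^ 13 := by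
      rw [← hbig]
      exact Nat.mul_le_mul (hST.trans (Nat.mul_le_mul_left 2 (hTN.trans (hN1.trans (Nat.mul_le_mul_left 2 hA))))) hSidx
    omega
  · have hperf := KS0_perfect D.card_F9 ζ hζ hζc hζcd
    rw [eq_top_iff, ← hperf, commutator_def, Subgroup.commutator_le]
    intro a _ b _
    obtain ⟨a', ha', ca, hca, rfl⟩ := Subgroup.mem_sup_of_normal_right.1 (h ▸ Subgroup.mem_top a)
    obtain ⟨b', hb', cb, hcb, rfl⟩ := Subgroup.mem_sup_of_normal_right.1 (h ▸ Subgroup.mem_top b)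
    have e1 : ⁅a' * ca, b' * cb⁆ = ⁅a', b'⁆ := by
      have c1 := Subgroup.mem_center_iff.1 hca
      have c2 := Subgroup.mem_center_iff.1 hcb
      simp only [commutatorElement_def, mul_inv_rev]
      calc a' * ca * (b' * cb) * (ca⁻¹ * a'⁻¹) * (cb⁻¹ * b'⁻¹) = a' * (ca * (b' * cb)) * ca⁻¹ * a'⁻¹ * cb⁻¹ * b'⁻¹ := by group
        _ = a' * (b' * cb * ca) * ca⁻¹ * a'⁻¹ * cb⁻¹ * b'⁻¹ := by rw [c1]
        _ = a' * b' * (cb * a'⁻¹) * cb⁻¹ * b'⁻¹ := by group
        _ = a' * b' * (a'⁻¹ * cb) * cb⁻¹ * b'⁻¹ := by rw [c2]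
        _ = _ := by group
    rw [e1, commutatorElement_def]
    exact mul_mem (mul_mem (mul_mem ha' hb') (inv_mem ha')) (inv_mem hb')

/-- The commuting graph is connected. -/
theorem connected (B : Base24 G₀ d (t₀ : X) e (zz : X)) (hF : Cfsg.IsOfLargeFischerTypeAt zz Q)
    (hcentral : ∃ P : Sylow 2 ↥G₀, zz ∈ (P : Subgroup ↥G₀) ∧ ∀ x ∈ (P : Subgroup ↥G₀), Commute x zz)
    (htQ : t₀ ∈ SixTop.qG Q) {x : X} (hx : IsConj d x) : Conn d d x := by
  haveI := Fact.mk Nat.prime_two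
  refine B.connected_of (fun R hRn hNR hRG hodd => ?_) hx
  haveI := B.ker_normal
  haveI := B.normal
  have hQ := Q_ker B hF htQ
  obtain ⟨M, hM2, hMle⟩ := M_ker B hF htQ
  obtain ⟨T₀, hzT, hzc⟩ := hcentral
  obtain ⟨K, hK⟩ : ∃ K, K = (kerComp G₀ d).subgroupOf G₀ := ⟨_, rfl⟩
  haveI : K.Normal := hK ▸ inferInstance
  -- the part in the centraliser
  have hpart : ∀ w : ↥G₀, (w : X) ∈ R → Commute w zz → (w : X) ∈ kerComp G₀ d := by
    intro w hw hwz
    haveI := Subgroup.normal_of_index_eq_two hM2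
    have h2 : (w : X) ^ 2 ∈ kerComp G₀ d :=
      (hMle (Subgroup.sq_mem_of_index_two hM2 ⟨w, Subgroup.mem_centralizer_singleton_iff.2 hwz.eq⟩) :)
    obtain ⟨m, hm⟩ := hodd
    haveI : ((kerComp G₀ d).subgroupOf R).Normal := inferInstance
    have h3 : (⟨(w : X), hw⟩ : R) ^ ((kerComp G₀ d).relIndex R) ∈ (kerComp G₀ d).subgroupOf R :=
      Subgroup.pow_index_mem _ _
    rw [hm, Subgroup.mem_subgroupOf, SubmonoidClass.coe_pow, pow_succ, pow_mul] at h3
    exact (Subgroup.mul_mem_cancel_left _ (Subgroup.pow_mem _ h2 m)).1 h3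
  -- a Sylow subgroup of the kernel
  have hzK : zz ∈ K := hK ▸ B.Y_ker B.zY
  obtain ⟨P₁, hP₁⟩ := IsPGroup.exists_le_sylow (p := 2)
    (show IsPGroup 2 ↥((T₀ : Subgroup ↥G₀).subgroupOf K) from T₀.isPGroup'.comap_subtype)
  obtain ⟨Pi, hPi⟩ : ∃ Pi, Pi = (P₁ : Subgroup ↥K).map K.subtype := ⟨_, rfl⟩
  have hTK : (T₀ : Subgroup ↥G₀) ⊓ K ≤ Pi := by
    intro a ha
    exact hPi ▸ ⟨⟨a, ha.2⟩, hP₁ (Subgroup.mem_subgroupOf.2 ha.1), rfl⟩
  have hPieq : Pi = (T₀ : Subgroup ↥G₀) ⊓ K := by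
    refine (Subgroup.eq_of_le_of_card_ge hTK ?_).symm
    obtain ⟨T₁, hT₁⟩ := IsPGroup.exists_le_sylow (p := 2) (show IsPGroup 2 ↥Pi from hPi ▸ P₁.isPGroup'.map _)
    obtain ⟨g, hg⟩ := MulAction.exists_smul_eq (↥G₀) T₀ T₁
    obtain ⟨f, hf⟩ : ∃ f : ↥Pi → ↥((T₀ : Subgroup ↥G₀) ⊓ K), ∀ a, (f a : ↥G₀) = g⁻¹ * (a : ↥G₀) * g := by
      refine ⟨fun a => ⟨g⁻¹ * (a : ↥G₀) * g, ⟨?_, ?_⟩⟩, fun _ => rfl⟩
      · have h := hT₁ a.2
        rw [← hg, Sylow.coe_subgroup_smul, Subgroup.mem_pointwise_smul_iff_inv_smul_mem, MulAut.smul_def,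
          ← map_inv, MulAut.conj_apply, inv_inv] at h
        exact h
      · obtain ⟨b, -, hb⟩ := (hPi ▸ a.2 : (a : ↥G₀) ∈ (P₁ : Subgroup ↥K).map K.subtype)
        have := (inferInstance : K.Normal).conj_mem _ (hb ▸ b.2 : (a : ↥G₀) ∈ K) g⁻¹
        rwa [inv_inv] at this
    exact Nat.card_le_card_of_injective f fun a b hab => Subtype.ext (mul_left_cancel (mul_right_cancel (by
      rw [← hf, ← hf, hab])))
  have hQT : ∀ q ∈ SixTop.qG Q, q ∈ Pi := by
    intro q hq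
    rw [hPieq]
    obtain ⟨q', hq', rfl⟩ := hq
    refine ⟨?_, hK ▸ hQ hq'⟩
    have hTC : (T₀ : Subgroup ↥G₀) ≤ Subgroup.centralizer ({zz} : Set ↥G₀) :=
      fun a ha => Subgroup.mem_centralizer_singleton_iff.2 (hzc a ha).eq
    obtain ⟨D⟩ := model_of_type hF
    have hQp : IsPGroup 2 ↥Q := IsPGroup.of_card D.card_Q
    exact hQp.le_sylow_of_normal (T₀.subtype hTC) hq'
  intro g hg
  have hgG : g ∈ G₀ := hRG hg
  obtain ⟨w, hw, n, hn, hwn⟩ := Subgroup.mem_sup_of_normal_right.1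
    ((Sylow.normalizer_sup_eq_top P₁ (N := K)).symm ▸ Subgroup.mem_top (⟨g, hgG⟩ : ↥G₀))
  rw [← hPi] at hw
  have hn' : (n : X) ∈ kerComp G₀ d := by rw [hK] at hn; exact hn
  have hwR : (w : X) ∈ R := by
    have e1 : (w : X) = g * (n : X)⁻¹ := by
      rw [show g = (w : X) * (n : X) from (congrArg Subtype.val hwn).symm, mul_inv_cancel_right]
    rw [e1]
    exact mul_mem hg (inv_mem (hNR hn'))
  have hwz : Commute w zz := by
    have hzP : zz ∈ Pi := hPieq ▸ ⟨hzT, hzK⟩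
    have h1 : w * zz * w⁻¹ ∈ Pi := (Subgroup.mem_normalizer_iff.1 hw zz).1 hzP
    have hXt := SixTop.ext_of_type hF
    have h2 : ∀ q ∈ SixTop.qG Q, Commute (w * zz * w⁻¹) q := fun q hq => by
      have h3 : w⁻¹ * q * w ∈ Pi := by
        have := (Subgroup.mem_normalizer_iff.1 (inv_mem hw) q).1 (hQT q hq)
        rwa [inv_inv] at this
      rw [hPieq] at h3
      refine (commute_conj_iff w⁻¹).1 ?_
      rw [inv_inv, show w⁻¹ * (w * zz * w⁻¹) * w = zz by group]
      exact (hzc _ h3.1).symm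
    have h4 : Commute (w * zz * w⁻¹) zz := by
      rw [hPieq] at h1
      exact hzc _ h1.1
    rcases hXt.cent _ h4 h2 with r | r
    · exact absurd (conj_eq_one_iff.1 r) (fun e0 => B.zne (congrArg Subtype.val e0))
    · exact mul_inv_eq_iff_eq_mul.1 r
  have hfin := mul_mem (hpart w hwR hwz).1 hn'.1
  have := mul_mem ((hpart w hwR hwz).2 d (IsConj.refl d)) (hn'.2 d (IsConj.refl d))
  rwa [show (w : X) * (n : X) = g from congrArg Subtype.val hwn] at this

end

end CfsgLib.Spor.LargeFi.Top
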