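import Cfsg.Agent.Lib.Spor.LargeFi.SixTopMain
import Cfsg.Agent.Lib.Spor.LargeFi.TopBase

/-!
The outer involution of a group of large Fischer type gives the base data at a member.
-/

set_option autoImplicit false
set_option maxRecDepth 20000

namespace CfsgLib.Spor.LargeFi.SixTop

open Cfsg CfsgLib.ThreeTransp CfsgLib.KnownB
open scoped commutatorElement

universe u

/-- The setting of type M(23) from the centraliser. -/
theorem setting23_of {G : Type u} [Group G] [Finite G] (d : G) (hd : orderOf d = 2)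
    (hq : Cfsg.IsQuasisimple ↥(Subgroup.centralizer ({d} : Set G)))
    [hzn : ((Subgroup.zpowers d).subgroupOf (Subgroup.centralizer ({d} : Set G))).Normal]
    (hinvol : HasSixInvol (↥(Subgroup.centralizer ({d} : Set G)) ⧸
      (Subgroup.zpowers d).subgroupOf (Subgroup.centralizer ({d} : Set G))))
    (hnwc : ∃ g : G, g * d * g⁻¹ ∈ Subgroup.centralizer ({d} : Set G) ∧ g * d * g⁻¹ ≠ d) :
    TypeM23.Setting23 (conjugatesOf d) := by
  obtain ⟨d₀, hd₀, hq₀, ⟨K, _, _, hK, hn₀, ⟨eP⟩⟩, hwc₀⟩ := id hinvol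
  haveI := hn₀
  obtain ⟨-, ht₀, -⟩ := TypeCentral.main22 d₀ hd₀ hq₀ K hK eP hwc₀
  obtain ⟨-, S₀⟩ := TypeCentral.setting22 d₀ hd₀ hq₀ K hK eP hwc₀
  refine Fi22Double.exists_data d hd hq hinvol fun F _ _ e σ hF h δ d' τ c E hA D => ?_
  have heq : conjugatesOf d₀ = conjugatesOf d' :=
    D.ctx.eq_conjugates S₀.cls.ts S₀.cls.conj ⟨d₀, mem_conjugatesOf_self⟩
  obtain ⟨g, hg1, hg2⟩ := hnwc
  have C : TypeCentral.Cover e hF h _ δ d' τ c E (Subgroup.centralizer ({d} : Set G)).subtype d :=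
    ⟨D, hA, ⟨g, by rw [Subgroup.range_subtype]; exact hg1, hg2⟩, heq ▸ S₀⟩
  exact (TypeCentral.setting23 C hq hq (heq ▸ ht₀)).2

section

variable {X : Type u} [Group X] [Finite X] {G₀ : Subgroup X} {z : ↥G₀}
  {Q : Subgroup (Subgroup.centralizer ({z} : Set ↥G₀))} [Q.Normal] {E : Subgroup ↥G₀}

/-- Mates differ by the small involution. -/
theorem Sit.mate_uniq (S : Sit G₀ z Q E) {t : ↥G₀} (htE : t ∈ E) (ht1 : t ≠ 1) {d d' : X} (M : Mate z t d)
    (M' : Mate z t d') : d' = d ∨ d' = d * (t : X) := by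
  obtain ⟨m, hm⟩ : ∃ m : ↥G₀, (m : X) = d * d' :=
    ⟨⟨d * d', (Subgroup.mul_mem_iff_of_index_two S.hidx).2 (iff_of_false M.out M'.out)⟩, rfl⟩
  have hd : d' = d * (m : X) := by rw [hm, ← mul_assoc, (S.mate_props htE ht1 M).1, one_mul]
  rcases (S.cent_of htE ht1).eq_of_centralizes (commute_coe.1 (hm ▸ M.ct.mul_left M'.ct))
    (fun k hk => commute_coe.1 (hm ▸ (M.ck k hk).mul_left (M'.ck k hk))) with r | r <;> rw [r] at hd
  · left; simpa using hd
  · exact Or.inr hd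

/-- The common mate of two small involutions and an element carrying one to the other. -/
theorem Sit.exists_common (S : Sit G₀ z Q E) : ∃ (a : X) (t e g : ↥G₀), t ∈ E ∧ t ≠ 1 ∧ e ∈ E ∧ e ≠ 1 ∧ e ≠ t ∧
    Mate z t a ∧ g * t * g⁻¹ = e ∧ Commute a (g : X) ∧ ∀ m ∈ E, m = 1 ∨ m = t ∨ m = e ∨ m = t * e := by
  haveI := S.normal
  haveI : Finite E := Nat.finite_of_card_ne_zero (by rw [S.eCard]; norm_num)
  obtain ⟨t, htE, ht1⟩ : ∃ t ∈ E, t ≠ 1 := by
    haveI : Nontrivial E := Finite.one_lt_card_iff_nontrivial.1 (by rw [S.eCard]; norm_num)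
    obtain ⟨t, ht⟩ := exists_ne (1 : E)
    exact ⟨t, t.2, fun r => ht (Subtype.ext r)⟩
  obtain ⟨e, heE, he⟩ : ∃ e ∈ (E : Set ↥G₀), e ∉ ({1, t} : Set ↥G₀) := by
    refine Set.exists_mem_notMem_of_ncard_lt_ncard ?_ (Set.toFinite _)
    refine lt_of_le_of_lt ((Set.ncard_insert_le _ _).trans (Nat.add_le_add_right (Set.ncard_singleton t).le 1)) ?_
    have h1 : (E : Set ↥G₀).ncard = 4 := by rw [← Nat.card_coe_set_eq]; exact S.eCard
    omega
  simp only [Set.mem_insert_iff, Set.mem_singleton_iff, not_or] at he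
  obtain ⟨d₁, M₁⟩ := S.exists_mate htE ht1
  obtain ⟨d₂, M₂⟩ := S.exists_mate heE he.1
  have hEsq := fun a (ha : a ∈ E) => S.e_sq ha
  have hEx : ∀ a ∈ E, (a : X) * a = 1 := fun a ha => by rw [← Subgroup.coe_mul, hEsq a ha]; rfl
  have hcK : ∀ a ∈ E, ∀ k ∈ DK a, Commute a k := fun a _ k hk =>
    (Subgroup.mem_centralizer_singleton_iff.1 (DK_le a hk) : Commute k a).symm
  have hEz : ∀ a ∈ E, Commute a z := fun a ha => S.ext.central a (S.eQ ha)
  have hd1 := (S.mate_props htE ht1 M₁).1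
  have hd2 := (S.mate_props heE he.1 M₂).1
  -- a common mate
  obtain ⟨a, Ma, Ma'⟩ : ∃ a, Mate z t a ∧ Mate z e a := by
    obtain ⟨m, hm⟩ : ∃ m : ↥G₀, (m : X) = d₁ * d₂ :=
      ⟨⟨d₁ * d₂, (Subgroup.mul_mem_iff_of_index_two S.hidx).2 (iff_of_false M₁.out M₂.out)⟩, rfl⟩
    have hmE : m ∈ E := S.mem_E fun c hc => commute_coe.1
      (hm ▸ (M₁.ck c (S.cE_le htE hc)).mul_left (M₂.ck c (S.cE_le heE hc)))
    have hd₂ : d₂ = d₁ * (m : X) := by rw [hm, ← mul_assoc, hd1, one_mul]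
    have hfour : m = 1 ∨ m = t ∨ m = e ∨ m = t * e := by
      by_contra hno
      simp only [not_or] at hno
      have h1 : ({1, t, e, t * e, m} : Set ↥G₀) ⊆ (E : Set ↥G₀) := by
        intro x hx
        rcases hx with rfl | rfl | rfl | rfl | rfl
        exacts [one_mem E, htE, heE, mul_mem htE heE, hmE]
      have h2 := Set.ncard_le_ncard h1 (Set.toFinite _)
      have hne1 : t * e ≠ 1 := fun r => he.2 (by
        rw [← inv_eq_of_mul_eq_one_right r]; exact inv_eq_of_mul_eq_one_right (hEsq t htE))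
      rw [← Nat.card_coe_set_eq (E : Set ↥G₀), Set.ncard_insert_of_notMem, Set.ncard_insert_of_notMem,
        Set.ncard_insert_of_notMem, Set.ncard_insert_of_notMem, Set.ncard_singleton] at h2
      · simp only [SetLike.coe_sort_coe, S.eCard] at h2
        omega
      · simpa using Ne.symm hno.2.2.2
      · simp only [Set.mem_insert_iff, Set.mem_singleton_iff, not_or]
        exact ⟨fun r => ht1 (mul_eq_right.1 r.symm), Ne.symm hno.2.2.1⟩
      · simp only [Set.mem_insert_iff, Set.mem_singleton_iff, not_or]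
        exact ⟨Ne.symm he.2, fun r => he.1 (mul_eq_left.1 r.symm), Ne.symm hno.2.1⟩
      · simp only [Set.mem_insert_iff, Set.mem_singleton_iff, not_or]
        exact ⟨Ne.symm ht1, Ne.symm he.1, Ne.symm hne1, Ne.symm hno.1⟩
    have Mt := M₁.mul_self_mem (hcK t htE) (hEz t htE)
    have Me := M₂.mul_self_mem (hcK e heE) (hEz e heE)
    rcases hfour with r | r | r | r <;> rw [r] at hd₂
    · exact ⟨d₁, M₁, by simpa [hd₂] using M₂⟩
    · exact ⟨_, Mt, hd₂ ▸ M₂⟩
    · refine ⟨d₁, M₁, ?_⟩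
      rwa [hd₂, mul_assoc, hEx e heE, mul_one] at Me
    · refine ⟨_, Mt, ?_⟩
      rwa [hd₂, Subgroup.coe_mul, mul_assoc, mul_assoc, hEx e heE, mul_one] at Me
  have Pa := S.mate_props htE ht1 Ma
  have Pa' := S.mate_props heE he.1 Ma'
  have huniq : ∀ {d d' : X}, Mate z e d → Mate z e d' → d' = d ∨ d' = d * (e : X) := by
    intro d d' M M'
    obtain ⟨m, hm⟩ : ∃ m : ↥G₀, (m : X) = d * d' :=
      ⟨⟨d * d', (Subgroup.mul_mem_iff_of_index_two S.hidx).2 (iff_of_false M.out M'.out)⟩, rfl⟩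
    have hd : d' = d * (m : X) := by rw [hm, ← mul_assoc, (S.mate_props heE he.1 M).1, one_mul]
    rcases (S.cent_of heE he.1).eq_of_centralizes (commute_coe.1 (hm ▸ M.ct.mul_left M'.ct))
      (fun k hk => commute_coe.1 (hm ▸ (M.ck k hk).mul_left (M'.ck k hk))) with r | r <;> rw [r] at hd
    · left; simpa using hd
    · exact Or.inr hd
  obtain ⟨ht2, -⟩ := S.e_order htE ht1
  obtain ⟨he2, -⟩ := S.e_order heE he.1
  obtain ⟨h, hhz, hht⟩ := conj_small S.hF (S.eQ htE) (S.eQ heE) ht2 he2 (S.eConj t htE) (S.eConj e heE)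
  obtain ⟨g, hge, hga⟩ : ∃ g : ↥G₀, g * t * g⁻¹ = e ∧ Commute a (g : X) := by
    have Mh : Mate z e ((h : X) * a * (h : X)⁻¹) := hht ▸ Ma.conj S hhz
    rcases huniq Ma' Mh with r | r
    · exact ⟨h, hht, (mul_inv_eq_iff_eq_mul.1 r).symm⟩
    · obtain ⟨s, hs, hse, hsa⟩ := Pa'.2
      have hsz := S.ext.central s hs
      have hsfix : s * e * s⁻¹ = e := by rw [hse.symm.eq, mul_inv_cancel_right]
      have Ms : Mate z e ((s : X) * a * (s : X)⁻¹) := hsfix ▸ Ma'.conj S hsz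
      rcases huniq Ma' Ms with r' | r'
      · exact absurd (mul_inv_eq_iff_eq_mul.1 r').symm hsa
      · refine ⟨s * h, ?_, (mul_inv_eq_iff_eq_mul.1 ?_).symm⟩
        · rw [show s * h * t * (s * h)⁻¹ = s * (h * t * h⁻¹) * s⁻¹ by group, hht, hsfix]
        · rw [Subgroup.coe_mul, show (s : X) * h * a * ((s : X) * h)⁻¹ = s * ((h : X) * a * (h : X)⁻¹) * (s : X)⁻¹ by group,
            r, show (s : X) * (a * e) * (s : X)⁻¹ = (s : X) * a * (s : X)⁻¹ * ((s : X) * e * (s : X)⁻¹) by group, r',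
            show (s : X) * e * (s : X)⁻¹ = e by
              rw [(commute_coe.2 hse).symm.eq, mul_inv_cancel_right],
            mul_assoc, hEx e heE, mul_one]
  refine ⟨a, t, e, g, htE, ht1, heE, he.1, he.2, Ma, hge, hga, fun m hmE => ?_⟩
  by_contra hno
  simp only [not_or] at hno
  have h1 : ({1, t, e, t * e, m} : Set ↥G₀) ⊆ (E : Set ↥G₀) := by
    intro x hx
    rcases hx with rfl | rfl | rfl | rfl | rfl
    exacts [one_mem E, htE, heE, mul_mem htE heE, hmE]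
  have h2 := Set.ncard_le_ncard h1 (Set.toFinite _)
  have hne1 : t * e ≠ 1 := fun r => he.2 (by
    rw [← inv_eq_of_mul_eq_one_right r]; exact inv_eq_of_mul_eq_one_right (hEsq t htE))
  rw [← Nat.card_coe_set_eq (E : Set ↥G₀), Set.ncard_insert_of_notMem, Set.ncard_insert_of_notMem,
    Set.ncard_insert_of_notMem, Set.ncard_insert_of_notMem, Set.ncard_singleton] at h2
  · simp only [SetLike.coe_sort_coe, S.eCard] at h2
    omega
  · simpa using Ne.symm hno.2.2.2
  · simp only [Set.mem_insert_iff, Set.mem_singleton_iff, not_or]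
    exact ⟨fun r => ht1 (mul_eq_right.1 r.symm), Ne.symm hno.2.2.1⟩
  · simp only [Set.mem_insert_iff, Set.mem_singleton_iff, not_or]
    exact ⟨Ne.symm he.2, fun r => he.1 (mul_eq_left.1 r.symm), Ne.symm hno.2.1⟩
  · simp only [Set.mem_insert_iff, Set.mem_singleton_iff, not_or]
    exact ⟨Ne.symm ht1, Ne.symm he.1, Ne.symm hne1, Ne.symm hno.1⟩

/-- The setting of type M(23) at the outer involution. -/
theorem Sit.setting_at (_S : Sit G₀ z Q E) {t g : ↥G₀} {d : X} (_M : Mate z t d) (C : Cent22 t)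
    (hiff : ∀ c : ↥G₀, Commute c t → (Commute d (c : X) ↔ c ∈ DK t)) (hY : (t : X) ∈ Top.Yg G₀ d)
    (htY2 : orderOf (⟨(t : X), hY⟩ : ↥(Top.Yg G₀ d)) = 2) (hdg : Commute d (g : X)) (hgK : g * t * g⁻¹ ∈ DK t)
    (hgt : g * t * g⁻¹ ≠ t) :
    TypeM23.Setting23 (conjugatesOf (⟨(t : X), hY⟩ : ↥(Top.Yg G₀ d))) := by
  haveI : Finite Cfsg.Spor.Fi22 := CfsgLib.Spor.Fi22.finite
  have hYm : ∀ {c : ↥G₀}, (c : X) ∈ Top.Yg G₀ d ↔ Commute d (c : X) := fun {c} => by
    rw [Top.mem_Yg]; exact ⟨fun h => h.2.symm, fun h => ⟨c.2, h.symm⟩⟩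
  obtain ⟨tY, htYd⟩ : ∃ tY : ↥(Top.Yg G₀ d), tY = ⟨(t : X), hY⟩ := ⟨_, rfl⟩
  have htY : (tY : X) = (t : X) := by rw [htYd]
  rw [← htYd] at htY2 ⊢
  obtain ⟨ι, hι⟩ : ∃ ι : ↥(DK t) ≃* ↥(Subgroup.centralizer ({tY} : Set ↥(Top.Yg G₀ d))),
      ∀ k, (((ι k : ↥(Subgroup.centralizer ({tY} : Set ↥(Top.Yg G₀ d)))) :
        ↥(Top.Yg G₀ d)) : X) = ((k : ↥G₀) : X) := by
    have hc : ∀ k : ↥(DK t), Commute (k : ↥G₀) t := fun k => Subgroup.mem_centralizer_singleton_iff.1 (DK_le t k.2)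
    obtain ⟨f, hf⟩ : ∃ f : ↥(DK t) →* ↥(Subgroup.centralizer ({tY} : Set ↥(Top.Yg G₀ d))),
        ∀ k, (((f k : ↥(Subgroup.centralizer ({tY} : Set ↥(Top.Yg G₀ d)))) :
          ↥(Top.Yg G₀ d)) : X) = ((k : ↥G₀) : X) :=
      ⟨((G₀.subtype.comp (DK t).subtype).codRestrict _ fun k => hYm.2 ((hiff k (hc k)).2 k.2)).codRestrict _
        fun k => Subgroup.mem_centralizer_singleton_iff.2 (Subtype.ext (by
          show ((k : ↥G₀) : X) * (tY : X) = (tY : X) * ((k : ↥G₀) : X)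
          rw [htY]; exact congrArg Subtype.val (hc k).eq)), fun _ => rfl⟩
    refine ⟨MulEquiv.ofBijective f ⟨fun a b hab => Subtype.ext (Subtype.ext (by rw [← hf, ← hf, hab])), fun c => ?_⟩,
      fun k => hf k⟩
    obtain ⟨c0, hc0⟩ : ∃ c0 : ↥G₀, (c0 : X) = ((c : ↥(Top.Yg G₀ d)) : X) :=
      ⟨⟨_, (Top.mem_Yg.1 c.1.2).1⟩, rfl⟩
    have h1 : Commute c0 t := by
      have h := congrArg Subtype.val (Subgroup.mem_centralizer_singleton_iff.1 c.2)
      simp only [Subgroup.coe_mul, htY, ← hc0] at h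
      exact commute_coe.1 h
    have h2 : Commute d (c0 : X) := by
      rw [hc0]; exact (Top.mem_Yg.1 c.1.2).2.symm
    exact ⟨⟨c0, (hiff c0 h1).1 h2⟩, Subtype.ext (Subtype.ext (by rw [hf]; exact hc0))⟩
  have hq : Cfsg.IsQuasisimple ↥(Subgroup.centralizer ({tY} : Set ↥(Top.Yg G₀ d))) :=
    (CfsgLib.Components.isQuasisimple_congr ι).1 C.qs
  obtain ⟨φ, hφs, hφk, hφi⟩ := C.map
  have hinj : Function.Injective (MulAut.conj (G := Cfsg.Spor.Fi22)) := by
    rw [← MonoidHom.ker_eq_bot_iff, eq_bot_iff, ← CfsgLib.Spor.FischerTypes.typeM22.1.1]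
    intro a ha
    refine Subgroup.mem_center_iff.2 fun y => ?_
    have h1 := DFunLike.congr_fun (MonoidHom.mem_ker.1 ha) y
    rw [MulAut.conj_apply, MulAut.one_apply, mul_inv_eq_iff_eq_mul] at h1
    exact h1.symm
  obtain ⟨ψ, hψ⟩ : ∃ ψ : ↥(Subgroup.centralizer ({tY} : Set ↥(Top.Yg G₀ d))) →* Cfsg.Spor.Fi22,
      ∀ c, MulAut.conj (ψ c) = φ ⟨(ι.symm c).1, DK_le t (ι.symm c).2⟩ := by
    refine ⟨((MonoidHom.ofInjective hinj).symm.toMonoidHom.comp
      ((φ.comp (Subgroup.inclusion (DK_le t))).codRestrict _ fun k => (hφi _).2 k.2)).comp ι.symm.toMonoidHom,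
      fun c => ?_⟩
    exact congrArg Subtype.val ((MonoidHom.ofInjective hinj).apply_symm_apply ⟨_, (hφi _).2 (ι.symm c).2⟩)
  have hψs : Function.Surjective ψ := fun a => by
    obtain ⟨c, hc⟩ := hφs (MulAut.conj a)
    refine ⟨ι ⟨c.1, (hφi c).1 (hc ▸ ⟨a, rfl⟩)⟩, hinj ?_⟩
    rw [hψ]
    simpa using hc
  have hψk : ψ.ker = (Subgroup.zpowers tY).subgroupOf
      (Subgroup.centralizer ({tY} : Set ↥(Top.Yg G₀ d))) := by
    ext c
    rw [MonoidHom.mem_ker, Subgroup.mem_subgroupOf, mem_zpowers_of_order_two (by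
      rw [← pow_two, ← htY2]; exact pow_orderOf_eq_one tY)]
    obtain ⟨k, rfl⟩ := ι.surjective c
    rw [← hinj.eq_iff, map_one, hψ, hφk, ι.symm_apply_apply]
    refine or_congr ⟨fun r => Subtype.ext ?_, fun r => Subtype.ext ?_⟩
      ⟨fun r => Subtype.ext ?_, fun r => Subtype.ext ?_⟩
    · rw [hι, show (k : ↥G₀) = 1 from r]; rfl
    · rw [← hι, r]; rfl
    · rw [hι, show (k : ↥G₀) = t from r, htY]
    · rw [← hι, r, htY]
  haveI hn : ((Subgroup.zpowers tY).subgroupOf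
      (Subgroup.centralizer ({tY} : Set ↥(Top.Yg G₀ d)))).Normal := hψk ▸ inferInstance
  have hsix := hasSixInvol_congr ((QuotientGroup.quotientMulEquivOfEq hψk.symm).trans
    (QuotientGroup.quotientKerEquivOfSurjective ψ hψs)).symm hasSixInvol_fi22
  obtain ⟨gY, hgY⟩ : ∃ gY : ↥(Top.Yg G₀ d), (gY : X) = (g : X) := ⟨⟨g, hYm.2 hdg⟩, rfl⟩
  have hnwc : ∃ g : ↥(Top.Yg G₀ d),
      g * tY * g⁻¹ ∈ Subgroup.centralizer ({tY} : Set ↥(Top.Yg G₀ d)) ∧ g * tY * g⁻¹ ≠ tY := by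
    have hval : ((gY * tY * gY⁻¹ : ↥(Top.Yg G₀ d)) : X) = ((g * t * g⁻¹ : ↥G₀) : X) := by
      rw [Subgroup.coe_mul, Subgroup.coe_mul, InvMemClass.coe_inv, hgY, htY]; rfl
    refine ⟨gY, Subgroup.mem_centralizer_singleton_iff.2 (Subtype.ext ?_), fun r => hgt (Subtype.ext ?_)⟩
    · show ((gY * tY * gY⁻¹ : ↥(Top.Yg G₀ d)) : X) * (tY : X) = (tY : X) * _
      rw [hval, htY]
      exact congrArg Subtype.val (Subgroup.mem_centralizer_singleton_iff.1 (DK_le t hgK))
    · rw [← hval, r, htY]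
  exact setting23_of tY htY2 hq hsix hnwc

/-- The base data. -/
theorem Sit.exists_base (S : Sit G₀ z Q E) : ∃ (d e : X) (t : ↥G₀), t ∈ qG Q ∧
    Top.Base24 G₀ d (t : X) e (z : X) := by
  haveI := S.normal
  haveI : Finite Cfsg.Spor.Fi22 := CfsgLib.Spor.Fi22.finite
  obtain ⟨a, t, e, g, htE, ht1, heE, he1, het, Ma, hge, hga, hfour⟩ := S.exists_common
  obtain ⟨ht2, htt⟩ := S.e_order htE ht1
  have C := S.cent_of htE ht1
  obtain ⟨ha2, r, hr, htr, har⟩ := S.mate_props htE ht1 Ma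
  have hrt : r * t * r⁻¹ = t := by rw [htr.symm.eq, mul_inv_cancel_right]
  have hswap : (r : X) * a * (r : X)⁻¹ = a * (t : X) :=
    (S.mate_uniq htE ht1 Ma (hrt ▸ Ma.conj S (S.ext.central r hr))).resolve_left fun h =>
      har (mul_inv_eq_iff_eq_mul.1 h).symm
  have hiff : ∀ c : ↥G₀, Commute c t → (Commute a (c : X) ↔ c ∈ DK t) := fun c hc => by
    refine ⟨fun hac => ?_, fun hc' => Ma.ck c hc'⟩
    by_contra hcn
    have hrn : r ∉ DK t := fun hr' => har (Ma.ck r hr')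
    have h1 := Ma.ck _ (C.prod c (Subgroup.mem_centralizer_singleton_iff.2 hc.eq) r
      (Subgroup.mem_centralizer_singleton_iff.2 htr.symm.eq) hcn hrn)
    exact har (by simpa using hac.inv_right.mul_right h1)
  have hta : Commute (a * (t : X)) (t : X) := Ma.ct.mul_left (Commute.refl _)
  have hmemY : ∀ {c : ↥G₀}, (c : X) ∈ Top.Yg G₀ a ↔ Commute a (c : X) := fun {c} => by
    rw [Top.mem_Yg]; exact ⟨fun h => h.2.symm, fun h => ⟨c.2, h.symm⟩⟩
  have htY := hmemY.2 Ma.ct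
  have hzY := hmemY.2 Ma.cz
  have hgen : Subgroup.centralizer (E : Set ↥G₀) = Subgroup.centralizer ({t, e} : Set ↥G₀) := by
    ext c
    rw [Subgroup.mem_centralizer_iff, Subgroup.mem_centralizer_iff]
    refine ⟨fun h x hx => ?_, fun h x hx => ?_⟩
    · rcases hx with rfl | rfl
      exacts [h _ htE, h _ heE]
    · have h1 : Commute t c := h t (by simp)
      have h2 : Commute e c := h e (by simp)
      rcases hfour x hx with rfl | rfl | rfl | rfl
      exacts [(Commute.one_left c).eq, h1.eq, h2.eq, (h1.mul_left h2).eq]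
  have hcE : ∀ c ∈ G₀, ∀ hc : Commute c (t : X), Commute c (e : X) →
      ∃ c' : ↥G₀, (c' : X) = c ∧ c' ∈ Subgroup.centralizer (E : Set ↥G₀) := fun c hc h1 h2 => by
    refine ⟨⟨c, hc⟩, rfl, hgen ▸ Subgroup.mem_centralizer_iff.2 fun x hx => ?_⟩
    rcases hx with rfl | rfl
    exacts [Subtype.ext h1.symm.eq, Subtype.ext h2.symm.eq]
  refine ⟨a, (e : X), t, S.eQ htE, ?_⟩
  refine ⟨S.hidx, ha2, Ma.out, htY, isConj_iff.2 ⟨(r : X), hswap⟩, fun h hh => ?_, fun hY => ?_, ?_, ?_, ?_, ?_,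
    ?_, fun p hp hall => ?_, ?_, fun c hc h1 h2 => ?_, hzY, ?_, ?_, ?_⟩
  · -- the stabiliser of the small involution
    have inner : ∀ c : ↥G₀, Commute c t → (c : X) * a * (c : X)⁻¹ = a ∨ (c : X) * a * (c : X)⁻¹ = a * (t : X) :=
      fun c hc => by
      by_cases hk : c ∈ DK t
      · left; rw [(Ma.ck c hk).symm.eq, mul_inv_cancel_right]
      · right
        have hri : Commute r⁻¹ t := htr.symm.inv_left
        have hk' : c * r ∈ DK t := C.prod c (Subgroup.mem_centralizer_singleton_iff.2 hc.eq) r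
          (Subgroup.mem_centralizer_singleton_iff.2 htr.symm.eq) hk fun hr' => har (Ma.ck r hr')
        have hm := Ma.ck _ hk'
        have h1 : (r : X)⁻¹ * a * (r : X) = a * (t : X) := by
          refine mul_left_cancel (a := (r : X)) (mul_right_cancel (b := (r : X)⁻¹) ?_)
          rw [show (r : X) * ((r : X)⁻¹ * a * (r : X)) * (r : X)⁻¹ = a by group,
            show (r : X) * (a * (t : X)) * (r : X)⁻¹ = (r : X) * a * (r : X)⁻¹ * ((r * t * r⁻¹ : ↥G₀) : X) by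
              rw [Subgroup.coe_mul, Subgroup.coe_mul, InvMemClass.coe_inv]; group,
            hrt, hswap, mul_assoc, ← Subgroup.coe_mul, htt, Subgroup.coe_one, mul_one]
        have hmt : Commute ((c * r : ↥G₀) : X) (t : X) := commute_coe.2 (hc.mul_left htr.symm)
        calc (c : X) * a * (c : X)⁻¹
            = ((c * r : ↥G₀) : X) * ((r : X)⁻¹ * a * (r : X)) * (((c * r : ↥G₀) : X))⁻¹ := by
              rw [Subgroup.coe_mul]; group
          _ = a * (t : X) := by rw [h1, (hm.symm.mul_right hmt).eq, mul_inv_cancel_right]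
    by_cases hG : h ∈ G₀
    · exact inner ⟨h, hG⟩ (Subtype.ext hh.eq)
    · have hha : h * a ∈ G₀ := (Subgroup.mul_mem_iff_of_index_two S.hidx).2 (iff_of_false hG Ma.out)
      have h2 := inner ⟨h * a, hha⟩ (Subtype.ext (hh.mul_left Ma.ct).eq)
      have e1 : h * a * a * (h * a)⁻¹ = h * a * h⁻¹ := by
        rw [mul_inv_rev, inv_eq_of_mul_eq_one_right ha2, mul_assoc h a a, ha2, mul_one, mul_assoc]
      rw [show ((⟨h * a, hha⟩ : ↥G₀) : X) = h * a from rfl, e1] at h2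
      exact h2
  · -- the setting
    have hO : orderOf (⟨(t : X), hY⟩ : ↥(Top.Yg G₀ a)) = 2 := by
      rw [← Subgroup.orderOf_coe]; exact (Subgroup.orderOf_coe t).trans ht2
    exact S.setting_at Ma C hiff hY hO hga (hge ▸ S.cE_le htE (Subgroup.mem_centralizer_iff.2 fun b hb =>
      (S.e_comm hb heE).eq)) (hge ▸ het)
  · -- perfect
    have hmap : Top.Yg G₀ a ⊓ Subgroup.centralizer ({(t : X)} : Set X) = (DK t).map G₀.subtype := by
      ext x
      rw [Subgroup.mem_inf, Subgroup.mem_centralizer_singleton_iff, Top.mem_Yg]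
      constructor
      · rintro ⟨⟨h1, h2⟩, h3⟩
        exact ⟨⟨x, h1⟩, (hiff ⟨x, h1⟩ (Subtype.ext h3)).1 h2.symm, rfl⟩
      · rintro ⟨c, hc, rfl⟩
        exact ⟨⟨c.2, (Ma.ck c hc).symm⟩,
          congrArg Subtype.val (Subgroup.mem_centralizer_singleton_iff.1 (DK_le t hc))⟩
    rw [hmap, ← Subgroup.map_commutator, C.perf]
  · exact ⟨(g : X), hmemY.2 hga, by rw [← hge]; rfl⟩
  · exact congrArg Subtype.val (S.e_comm htE heE).eq
  · exact fun h => het (Subtype.ext h)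
  · have hte : t * e ∈ E := mul_mem htE heE
    have hne : t * e ≠ 1 := fun h => het (by
      rw [← inv_eq_of_mul_eq_one_right h]; exact inv_eq_of_mul_eq_one_right htt)
    obtain ⟨h, -, hh⟩ := conj_small S.hF (S.eQ htE) (S.eQ hte) ht2 (S.e_order hte hne).1 (S.eConj t htE)
      (S.eConj _ hte)
    exact isConj_iff.2 ⟨(h : X), congrArg Subtype.val hh⟩
  · have hmem : (⟨p, hp⟩ : ↥G₀) ∈ E := S.mem_E fun c hc => by
      have h1 : Commute (c : X) (t : X) := congrArg Subtype.val ((Subgroup.mem_centralizer_iff.1 hc t htE).symm)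
      have h2 : Commute (c : X) (e : X) := congrArg Subtype.val ((Subgroup.mem_centralizer_iff.1 hc e heE).symm)
      exact Subtype.ext (hall _ c.2 h1 h2).eq
    exact (hfour _ hmem).imp (congrArg Subtype.val) (Or.imp (congrArg Subtype.val) (Or.imp (congrArg Subtype.val)
      (congrArg Subtype.val)))
  · -- perfect centraliser of the four
    have hmap : G₀ ⊓ Subgroup.centralizer ({(t : X), (e : X)} : Set X) =
        (Subgroup.centralizer (E : Set ↥G₀)).map G₀.subtype := by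
      ext x
      rw [Subgroup.mem_inf, Subgroup.mem_centralizer_iff]
      constructor
      · rintro ⟨h1, h2⟩
        obtain ⟨c', hc', hm⟩ := hcE x h1 (h2 (t : X) (by simp)).symm (h2 (e : X) (by simp)).symm
        exact ⟨c', hm, hc'⟩
      · rintro ⟨c, hc, rfl⟩
        refine ⟨c.2, fun y hy => ?_⟩
        rcases hy with rfl | rfl
        exacts [congrArg Subtype.val (Subgroup.mem_centralizer_iff.1 hc t htE),
          congrArg Subtype.val (Subgroup.mem_centralizer_iff.1 hc e heE)]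
    have h0 : commutator ↥(Subgroup.centralizer (E : Set ↥G₀)) = ⊤ := Group.isPerfect_def.1 S.eQS.1
    have h1 := congrArg (Subgroup.map (Subgroup.centralizer (E : Set ↥G₀)).subtype) h0
    rw [commutator_def, Subgroup.map_commutator, ← MonoidHom.range_eq_map, Subgroup.range_subtype] at h1
    rw [hmap, ← Subgroup.map_commutator, h1]
  · obtain ⟨c', rfl, hm⟩ := hcE c hc h1 h2
    exact (Ma.ck c' (S.cE_le htE hm)).symm
  · exact congrArg Subtype.val S.ext.zz
  · exact fun h => S.eZ (by rw [show z = 1 from Subtype.ext h]; exact one_mem E)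
  · intro hc
    obtain ⟨x, hx⟩ := isConj_iff.1 hc
    by_cases hG : x ∈ G₀
    · exact S.eConj t htE (isConj_iff.2 ⟨(⟨x, hG⟩ : ↥G₀), Subtype.ext hx⟩).symm
    · have hxa : x * a ∈ G₀ := (Subgroup.mul_mem_iff_of_index_two S.hidx).2 (iff_of_false hG Ma.out)
      refine S.eConj t htE (isConj_iff.2 ⟨(⟨x * a, hxa⟩ : ↥G₀), Subtype.ext ?_⟩).symm
      show x * a * (t : X) * (x * a)⁻¹ = (z : X)
      rw [show x * a * (t : X) * (x * a)⁻¹ = x * (a * (t : X) * a⁻¹) * x⁻¹ by group, Ma.ct.eq, mul_inv_cancel_right, hx]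

end

end CfsgLib.Spor.LargeFi.SixTop
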