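import Cfsg.Agent.Lib.Spor.LargeFi.TopNb

/-!
The pair over a small involution, and what a member commuting with it does.
-/

set_option autoImplicit false

namespace CfsgLib.Spor.LargeFi.Top

open Cfsg CfsgLib.ThreeTransp CfsgLib.KnownB
open scoped commutatorElement

universe u

variable {X : Type u} [Group X] [Finite X] {G₀ : Subgroup X} {d t e z : X}

/-- two distinct commuting members -/
structure Edge (d a b : X) : Prop where
  ha : IsConj d a
  hb : IsConj d b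
  ne : a ≠ b
  comm : Commute a b

omit [Finite X] in
theorem Edge.symm {a b : X} (E : Edge d a b) : Edge d b a := ⟨E.hb, E.ha, E.ne.symm, E.comm.symm⟩

omit [Finite X] in
theorem Edge.conj {a b : X} (E : Edge d a b) (g : X) : Edge d (g * a * g⁻¹) (g * b * g⁻¹) :=
  ⟨E.ha.trans (isConj_iff.2 ⟨g, rfl⟩), E.hb.trans (isConj_iff.2 ⟨g, rfl⟩),
    fun r => E.ne (mul_left_cancel (mul_right_cancel r)), commute_conj g E.comm⟩

omit [Finite X] in
theorem Base24.self_edge (B : Base24 G₀ d t e z) {s : X} (hs : s ∈ Tset G₀ d t) (h1 : s ≠ 1) :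
    Edge d d (d * s) :=
  ⟨IsConj.refl d, B.dT_mem hs, fun r => h1 (left_eq_mul.1 r),
    (Commute.refl d).mul_right (mem_Yg.1 (B.T_mem hs)).2.symm⟩

/-- All pairs of distinct commuting members are conjugate. -/
theorem Base24.edge_conj (B : Base24 G₀ d t e z) {a b : X} (E : Edge d a b) :
    ∃ g, g * a * g⁻¹ = d ∧ g * b * g⁻¹ = d * t := by
  obtain ⟨g, hg⟩ := isConj_iff.1 E.ha.symm
  obtain ⟨y, hy, hyt⟩ := B.nb_base (E.conj g).hb (hg ▸ (E.conj g).comm.symm) (hg ▸ (E.conj g).ne.symm)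
  have hyd : y⁻¹ * d * y = d := by rw [(mem_Yg.1 (inv_mem hy)).2.eq, inv_mul_cancel_right]
  refine ⟨y⁻¹ * g, ?_, ?_⟩
  · rw [show y⁻¹ * g * a * (y⁻¹ * g)⁻¹ = y⁻¹ * (g * a * g⁻¹) * y by group, hg, hyd]
  · rw [show y⁻¹ * g * b * (y⁻¹ * g)⁻¹ = y⁻¹ * (g * b * g⁻¹) * y by group,
      show g * b * g⁻¹ = d * (y * t * y⁻¹) by rw [hyt, ← mul_assoc, B.dsq, one_mul],
      show y⁻¹ * (d * (y * t * y⁻¹)) * y = y⁻¹ * d * y * t by group, hyd]

/-- The product of two distinct commuting members is small. -/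
theorem Base24.edge_small (B : Base24 G₀ d t e z) {a b : X} (E : Edge d a b) : IsConj t (a * b) := by
  obtain ⟨g, g1, g2⟩ := B.edge_conj E
  have h : g * (a * b) * g⁻¹ = t := by
    rw [show g * (a * b) * g⁻¹ = g * a * g⁻¹ * (g * b * g⁻¹) by group, g1, g2, ← mul_assoc, B.dsq, one_mul]
  exact isConj_iff.2 ⟨g⁻¹, by rw [← h]; group⟩

/-- Every small involution is such a product. -/
theorem Base24.small_edge (B : Base24 G₀ d t e z) {u : X} (hu : IsConj t u) :
    ∃ a b, Edge d a b ∧ a * b = u := by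
  obtain ⟨g, rfl⟩ := isConj_iff.1 hu
  refine ⟨_, _, (B.self_edge B.t_mem (B.T_ne_one B.t_mem)).conj g, ?_⟩
  rw [show g * d * g⁻¹ * (g * (d * t) * g⁻¹) = g * (d * (d * t)) * g⁻¹ by group, ← mul_assoc d, B.dsq, one_mul]

/-- The pair is unique. -/
theorem Base24.edge_unique (B : Base24 G₀ d t e z) {a b a' b' : X} (E : Edge d a b) (E' : Edge d a' b')
    (h : a' * b' = a * b) : a' = a ∨ a' = b := by
  obtain ⟨g, g1, g2⟩ := B.edge_conj E
  obtain ⟨g', g1', g2'⟩ := B.edge_conj E'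
  have e1 : ∀ {g a b : X}, g * a * g⁻¹ = d → g * b * g⁻¹ = d * t → g * (a * b) * g⁻¹ = t := fun {g a b} r1 r2 => by
    rw [show g * (a * b) * g⁻¹ = g * a * g⁻¹ * (g * b * g⁻¹) by group, r1, r2, ← mul_assoc, B.dsq, one_mul]
  have hc : Commute (g * g'⁻¹) t := by
    rw [commute_iff_eq, ← mul_inv_eq_iff_eq_mul]
    conv_lhs => rw [← e1 g1' g2']
    rw [show g * g'⁻¹ * (g' * (a' * b') * g'⁻¹) * (g * g'⁻¹)⁻¹ = g * (a' * b') * g⁻¹ by group, h, e1 g1 g2]
  have e2 : g * a' * g⁻¹ = g * g'⁻¹ * d * (g * g'⁻¹)⁻¹ := by rw [← g1']; group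
  rcases B.stab _ hc with r | r <;> rw [← e2] at r
  · exact Or.inl (mul_left_cancel (mul_right_cancel (r.trans g1.symm)))
  · exact Or.inr (mul_left_cancel (mul_right_cancel (r.trans g2.symm)))

/-- A member commuting with a small involution commutes with its pair. -/
theorem Base24.cs (B : Base24 G₀ d t e z) {a b x : X} (E : Edge d a b) (hx : IsConj d x)
    (hc : Commute x (a * b)) : Commute x a := by
  haveI := B.normal
  obtain ⟨g, hg⟩ := isConj_iff.1 hx.symm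
  have E' := E.conj g
  have hab : g * a * g⁻¹ * (g * b * g⁻¹) = g * (a * b) * g⁻¹ := by group
  have hY : g * a * g⁻¹ * (g * b * g⁻¹) ∈ Yg G₀ d := mem_Yg.2 ⟨(Subgroup.mul_mem_iff_of_index_two B.idx).2
    (iff_of_false (mem_conj_out B E'.ha) (mem_conj_out B E'.hb)), (hab ▸ hg ▸ commute_conj g hc.symm)⟩
  have key : Commute (g * a * g⁻¹) d := by
    rcases B.small_kinds hY (B.edge_small E') with k | ⟨p, q, k⟩
    · rcases B.edge_unique (B.self_edge k (B.T_ne_one k)) E' (by rw [← mul_assoc d, B.dsq, one_mul]) with r | r <;>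
        rw [r]
      exact (Commute.refl d).mul_left (mem_Yg.1 (B.T_mem k)).2
    · have hp := (mem_Yg.1 (B.T_mem k.hp)).2
      have hq := (mem_Yg.1 (B.T_mem k.hq)).2
      have Epq : Edge d (d * p) (d * q) := ⟨B.dT_mem k.hp, B.dT_mem k.hq, fun r => k.ne (mul_left_cancel r),
        (((Commute.refl d).mul_right hq.symm)).mul_left (hp.mul_right k.comm)⟩
      rcases B.edge_unique Epq E' (by
        rw [k.eq, show d * p * (d * q) = d * (p * d) * q by group, hp.eq, ← mul_assoc, B.dsq, one_mul]) with r | r <;>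
        rw [r]
      · exact (Commute.refl d).mul_left hp
      · exact (Commute.refl d).mul_left hq
  refine ((commute_conj_iff g).1 ?_).symm
  rw [hg]; exact key

/-- A member moving a member to a commuting one fixes it. -/
theorem Base24.fix_of_swap (B : Base24 G₀ d t e z) {a x : X} (ha : IsConj d a) (hx : IsConj d x)
    (hc : Commute a (x * a * x⁻¹)) : Commute x a := by
  by_cases h : x * a * x⁻¹ = a
  · exact mul_inv_eq_iff_eq_mul.1 h
  have E : Edge d a (x * a * x⁻¹) := ⟨ha, ha.trans (isConj_iff.2 ⟨x, rfl⟩), Ne.symm h, hc⟩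
  refine B.cs E hx (mul_inv_eq_iff_eq_mul.1 ?_)
  have hxi : x⁻¹ = x := inv_eq_of_mul_eq_one_right (conj_sq B hx)
  calc x * (a * (x * a * x⁻¹)) * x⁻¹ = x * a * x⁻¹ * ((x * x) * a * (x * x)⁻¹) := by group
    _ = x * a * x⁻¹ * a := by rw [conj_sq B hx]; group
    _ = a * (x * a * x⁻¹) := hc.eq.symm

/-- Non-commuting members are conjugate by an element centralising what centralises both. -/
theorem Base24.odd_conj (B : Base24 G₀ d t e z) {x y : X} (hx : IsConj d x) (hy : IsConj d y)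
    (hn : ¬ Commute x y) : ∃ c, (∀ w, Commute w x → Commute w y → Commute w c) ∧ c * y * c⁻¹ = x := by
  rcases TypeCentral.dihedral (conj_sq B hx) (conj_sq B hy) with h | ⟨w, hw1, -, hwx, hwy, -, hcon⟩
  · exact h
  exfalso
  have hwxD : IsConj d (w * x) := by
    rcases hcon with ⟨-, h2⟩ | ⟨-, h2⟩
    exacts [hx.trans h2, hy.trans h2]
  have E : Edge d x (w * x) := ⟨hx, hwxD, fun r => hw1 (right_eq_mul.1 r), (hwx.symm).mul_right (Commute.refl x)⟩
  exact hn (B.cs E hy (by rw [show x * (w * x) = w by rw [hwx.eq, ← mul_assoc, conj_sq B hx, one_mul]]; exact hwy.symm)).symm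

/-- No member outside commutes with a product of three: the key to connectedness. -/
theorem Base24.triple_far (B : Base24 G₀ d t e z) {a b c : X} (Eab : Edge d a b) (Eac : Edge d a c) (Ebc : Edge d b c)
    {x : X} (hx : IsConj d x) (hxu : Commute x (a * b * c)) :
    Commute x a ∨ ∃ f, IsConj d f ∧ Commute f a ∧ Commute x f := by
  obtain ⟨g, g1, g2⟩ := B.edge_conj Eab
  have E2 := Eac.conj g
  have hp := B.nb_base E2.hb (g1 ▸ E2.comm.symm) (g1 ▸ E2.ne.symm)
  obtain ⟨p, hpd⟩ : ∃ p, p = d * (g * c * g⁻¹) := ⟨_, rfl⟩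
  rw [← hpd] at hp
  have hc' : g * c * g⁻¹ = d * p := by rw [hpd, ← mul_assoc, B.dsq, one_mul]
  have hdp := (mem_Yg.1 (B.T_mem hp)).2
  have hdt := (mem_Yg.1 B.tY).2
  have hpt : p ≠ t := fun r => Ebc.ne (mul_left_cancel (mul_right_cancel (g2.trans (r ▸ hc'.symm))))
  have hct : Commute t p := by
    have h0 := (Ebc.conj g).comm
    rw [g2, hc'] at h0
    have h1 : d * t * (d * p) = d * p * (d * t) := h0.eq
    rw [show d * t * (d * p) = d * (t * d) * p by group, hdt.eq, ← mul_assoc, B.dsq, one_mul,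
      show d * p * (d * t) = d * (p * d) * t by group, hdp.eq, ← mul_assoc, B.dsq, one_mul] at h1
    exact h1
  -- a third transposition
  obtain ⟨r, hr, hr1, hr2, hr3, hr4⟩ : ∃ r ∈ Tset G₀ d t, r ≠ t ∧ r ≠ p ∧ Commute t r ∧ Commute p r := by
    obtain ⟨ht', ct⟩ := mem_T_iff (tY := B.tY).1 B.t_mem
    obtain ⟨hp', cp⟩ := mem_T_iff (tY := B.tY).1 hp
    obtain ⟨a₀, b₀, c₀, h1, h2, h3⟩ := (B.set23 B.tY).exists_three
    obtain ⟨k, k1, k2⟩ := (B.set23 B.tY).pair_map h1 h2 (a' := ⟨t, ht'⟩) (b' := ⟨p, hp'⟩) ct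
      ⟨cp, fun e0 => hpt (congrArg Subtype.val e0), Subtype.ext hct.eq⟩
    have n1 := (B.set23 B.tY).weak.nb_conj k h3.1
    have n2 := (B.set23 B.tY).weak.nb_conj k h3.2
    rw [k1] at n1
    rw [k2] at n2
    exact ⟨_, mem_T_iff.2 ⟨(k * c₀ * k⁻¹).2, n1.1⟩, fun e0 => n1.2.1 (Subtype.ext e0), fun e0 => n2.2.1 (Subtype.ext e0),
      congrArg Subtype.val n1.2.2.eq, congrArg Subtype.val n2.2.2.eq⟩
  have hdr := (mem_Yg.1 (B.T_mem hr)).2
  obtain ⟨f, hf⟩ : ∃ f, f = g⁻¹ * (d * r) * g := ⟨_, rfl⟩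
  have hfD : IsConj d f := (B.dT_mem hr).trans (isConj_iff.2 ⟨g⁻¹, by rw [hf]; group⟩)
  have hfa : Commute f a := by
    refine (commute_conj_iff g).1 ?_
    rw [g1, hf, show g * (g⁻¹ * (d * r) * g) * g⁻¹ = d * r by group]
    exact (Commute.refl d).mul_left hdr
  by_cases hxa : Commute x a
  · exact Or.inl hxa
  by_cases hxf : Commute x f
  · exact Or.inr ⟨f, hfD, hfa, hxf⟩
  exfalso
  have hu : g * (a * b * c) * g⁻¹ = d * (t * p) := by
    rw [show g * (a * b * c) * g⁻¹ = g * a * g⁻¹ * (g * b * g⁻¹) * (g * c * g⁻¹) by group, g1, g2, hc', ← mul_assoc d,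
      B.dsq, one_mul, ← mul_assoc t, hdt.eq, mul_assoc]
  have hfu : Commute f (a * b * c) := by
    refine (commute_conj_iff g).1 ?_
    rw [hu, hf, show g * (g⁻¹ * (d * r) * g) * g⁻¹ = d * r by group]
    exact ((Commute.refl d).mul_right (hdt.symm.mul_right hdp.symm)).mul_left
      (hdr.mul_right (hr3.symm.mul_right hr4.symm))
  have hau : Commute a (a * b * c) := ((Commute.refl a).mul_right Eab.comm).mul_right Eac.comm
  obtain ⟨k1, hk1, e1⟩ := B.odd_conj hx Eab.ha hxa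
  obtain ⟨k2, hk2, e2⟩ := B.odd_conj hx hfD hxf
  have c1 : Commute (k2⁻¹ * k1) (a * b * c) :=
    (hk2 _ hxu.symm hfu.symm).symm.inv_left.mul_left (hk1 _ hxu.symm hau.symm).symm
  obtain ⟨n, hn⟩ : ∃ n, n = g * (k2⁻¹ * k1) * g⁻¹ := ⟨_, rfl⟩
  have n1 : n * d * n⁻¹ = d * r := by
    conv_lhs => rw [hn, ← g1]
    rw [show g * (k2⁻¹ * k1) * g⁻¹ * (g * a * g⁻¹) * (g * (k2⁻¹ * k1) * g⁻¹)⁻¹ =
      g * (k2⁻¹ * (k1 * a * k1⁻¹) * k2) * g⁻¹ by group, e1, ← e2, hf]
    group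
  have n2 : n * (d * (t * p)) * n⁻¹ = d * (t * p) := by
    rw [hn, ← hu, show g * (k2⁻¹ * k1) * g⁻¹ * (g * (a * b * c) * g⁻¹) * (g * (k2⁻¹ * k1) * g⁻¹)⁻¹ =
      g * ((k2⁻¹ * k1) * (a * b * c) * (k2⁻¹ * k1)⁻¹) * g⁻¹ by group, c1.eq, mul_inv_cancel_right]
  have htr : n * (t * p) * n⁻¹ = r * t * p := by
    have h0 : d * r * (n * (t * p) * n⁻¹) = d * (t * p) := by
      conv_rhs => rw [← n2]
      rw [← n1]; group
    rw [mul_assoc d] at h0
    have h1 := congrArg (fun w => r * w) (mul_left_cancel h0)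
    rwa [← mul_assoc r r, B.T_sq hr, one_mul, ← mul_assoc r t] at h1
  refine B.three_not_small (u := r * t * p) (p := r) (q := t) (r := p)
    ⟨hr, B.t_mem, hp, hr1, hr2, hpt.symm, hr3.symm, hr4.symm, hct, rfl⟩ ?_
  rw [← htr]
  exact (B.two_small ⟨B.t_mem, hp, hpt.symm, hct, rfl⟩).trans (isConj_iff.2 ⟨n, rfl⟩)

end CfsgLib.Spor.LargeFi.Top
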