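import Cfsg.Agent.Lib.Spor.LargeFi.TopLoc
import Cfsg.Agent.Lib.KnownB.TypeM24Unique.Rels
import Cfsg.Agent.Lib.Spor.FischerTypes.M23

/-!
The neighbours of the base member, read in Fi23.
-/

set_option autoImplicit false
set_option maxRecDepth 100000

namespace CfsgLib.Spor.LargeFi.Top

open Cfsg CfsgLib.ThreeTransp CfsgLib.KnownB CfsgLib.KnownB.TypeM23
open CfsgLib.KnownB.TypeM23.Unique (num edgeC num_lt num_label)
open CfsgLib.KnownB.Fi22Mult (val)
open CfsgLib.Spor.Fi23 (gen π π_gen π_word idx)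
open CfsgLib.Spor.Fi23.Auto (gpt dq dq_gpt conj_dq comm_dq_iff dq_i₀)

universe u

/-- the letter with a given number -/
def ofNum : ℕ → Cfsg.Spor.Fi23.Gen
  | 0 => .a | 1 => .b | 2 => .c | 3 => .d | 4 => .e | 5 => .f | 6 => .g | 7 => .h | 8 => .i
  | _ => .j

theorem ofNum_num (x : Cfsg.Spor.Fi23.Gen) : ofNum (num x) = x := by cases x <;> rfl

theorem num_ofNum {i : ℕ} (hi : i < 10) : num (ofNum i) = i := by interval_cases i <;> rfl

theorem dq_class (p : Fin CfsgLib.Spor.Fi23.Perm.data.n) : dq p ∈ CfsgLib.Spor.Fi23.transpositions := by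
  obtain ⟨g, rfl⟩ := CfsgLib.Spor.Fi23.transitive p
  rw [← conj_dq, dq_i₀]
  exact isConj_iff.2 ⟨g, rfl⟩

theorem class_dq {u : Cfsg.Spor.Fi23} (hu : u ∈ CfsgLib.Spor.Fi23.transpositions) : ∃ p, u = dq p := by
  obtain ⟨g, rfl⟩ := isConj_iff.1 hu
  exact ⟨π g CfsgLib.Spor.Fi23.i₀, by rw [← conj_dq, dq_i₀]⟩

/-- the points whose generators do not commute -/
theorem gen_pts : ([.a, .b, .c, .d, .e, .f, .g, .j, .h, .i] : List Cfsg.Spor.Fi23.Gen).all (fun x =>
    ([.a, .b, .c, .d, .e, .f, .g, .j, .h, .i] : List Cfsg.Spor.Fi23.Gen).all fun y =>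
      Nat.beq (CfsgLib.Spor.Fi23.Perm.data.img (idx x) (gpt y).val) (gpt y).val == !edgeC (num x) (num y)) = true := by
  decide +kernel

theorem gen_comm (x y : Cfsg.Spor.Fi23.Gen) : gen x * gen y = gen y * gen x ↔ edgeC (num x) (num y) = false := by
  have h := List.all_eq_true.1 (List.all_eq_true.1 gen_pts x (by cases x <;> simp)) y (by cases y <;> simp)
  rw [beq_iff_eq] at h
  have h1 : gen x * gen y = gen y * gen x ↔ π (gen x) (gpt y) = gpt y := by rw [← comm_dq_iff, dq_gpt]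
  rw [h1, Fin.ext_iff, π_gen, ← Nat.beq_eq, h, Bool.not_eq_true']

/-- The neighbours of the base member as the transpositions of Fi23. -/
structure Frame {X : Type u} [Group X] (d : X) (τ : Cfsg.Spor.Fi23 →* X) : Prop where
  inj : Function.Injective τ
  comm : ∀ u, Commute (τ u) d
  nb : ∀ p, Edge d d (d * τ (dq p))
  surj : ∀ x, Edge d d x → ∃ p, x = d * τ (dq p)

variable {X : Type u} [Group X] [Finite X] {G₀ : Subgroup X} {d t e z : X}

theorem Base24.exists_frame (B : Base24 G₀ d t e z) : ∃ τ, Frame d τ := by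
  have S := B.loc (IsConj.refl d)
  obtain ⟨i, hi⟩ := TypeM23.Unique.exists_iso_of_setting S
  obtain ⟨τ, hτ⟩ : ∃ τ : Cfsg.Spor.Fi23 →* X, ∀ u, τ u = (i.symm u : X) :=
    ⟨(Yg G₀ d).subtype.comp i.symm.toMonoidHom, fun _ => rfl⟩
  refine ⟨τ, fun u v h => i.symm.injective (Subtype.ext (by rwa [hτ, hτ] at h)), fun u => ?_, fun p => ?_,
    fun x E => ?_⟩
  · rw [hτ]; exact (mem_Yg.1 (i.symm u).2).2
  · obtain ⟨s, hs, e0⟩ : dq p ∈ i '' Ta G₀ d d := hi ▸ dq_class p
    rw [hτ, ← e0, MulEquiv.symm_apply_apply]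
    exact (B.pr_exists (IsConj.refl d) hs).1
  · obtain ⟨p, hp⟩ := class_dq (hi ▸ Set.mem_image_of_mem i (B.pr_mem E))
    refine ⟨p, ?_⟩
    rw [hτ, ← hp, MulEquiv.symm_apply_apply, B.back E]

variable {τ : Cfsg.Spor.Fi23 →* X}

omit [Finite X] in
theorem Frame.comm_iff (F : Frame d τ) (u v : Cfsg.Spor.Fi23) :
    Commute (d * τ u) (d * τ v) ↔ u * v = v * u := by
  have hu := F.comm u
  have hv := F.comm v
  have e : ∀ a b : Cfsg.Spor.Fi23, d * τ a * (d * τ b) = d * d * τ (a * b) := fun a b => by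
    rw [mul_assoc, ← mul_assoc (τ a), (F.comm a).eq, map_mul]
    group
  rw [commute_iff_eq, e, e, mul_right_inj]
  exact F.inj.eq_iff

omit [Finite X] in
theorem Frame.prod (F : Frame d τ) (v : List Cfsg.Spor.Fi23) :
    (v.map fun u => d * τ u).prod = d ^ v.length * τ v.prod := by
  induction v with
  | nil => simp
  | cons a v ih =>
    rw [List.map_cons, List.prod_cons, ih, List.length_cons, List.prod_cons, map_mul, pow_succ', mul_assoc d (τ a),
      ← mul_assoc (τ a), ((F.comm a).pow_right v.length).eq]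
    group

/-- the ten -/
def Wt (d : X) (τ : Cfsg.Spor.Fi23 →* X) (i : ℕ) : X := d * τ (gen (ofNum i))

omit [Finite X] in
theorem Wt_num (x : Cfsg.Spor.Fi23.Gen) : Wt d τ (num x) = d * τ (gen x) := by rw [Wt, ofNum_num]

omit [Finite X] in
theorem Frame.val_num (F : Frame d τ) (v : List Cfsg.Spor.Fi23.Gen) :
    val (Wt d τ) (v.map num) = d ^ v.length * τ (v.map gen).prod := by
  rw [val, List.map_map, show Wt d τ ∘ num = (fun u => d * τ u) ∘ gen from funext Wt_num, ← List.map_map, F.prod,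
    List.length_map]

omit [Finite X] in
theorem Frame.ten_mem (F : Frame d τ) (i : ℕ) : Edge d d (Wt d τ i) := by
  rw [Wt, ← dq_gpt]; exact F.nb _

omit [Finite X] in
theorem Frame.ten_adj (F : Frame d τ) (i j : ℕ) (hi : i < 10) (hj : j < 10) :
    Commute (Wt d τ i) (Wt d τ j) ↔ edgeC i j = false := by
  rw [Wt, Wt, F.comm_iff, gen_comm, num_ofNum hi, num_ofNum hj]

omit [Finite X] in
/-- The conjugate of a neighbour by a word. -/
theorem Frame.conj_word (F : Frame d τ) (v : List Cfsg.Spor.Fi23.Gen) (x : Cfsg.Spor.Fi23.Gen) :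
    val (Wt d τ) (v.map num) * Wt d τ (num x) * (val (Wt d τ) (v.map num))⁻¹ =
      d * τ (dq (π (v.map gen).prod (gpt x))) := by
  rw [F.val_num, Wt_num, ← conj_dq, dq_gpt, map_mul, map_mul, map_inv]
  have hA := F.comm (v.map gen).prod
  have hC := F.comm (gen x)
  have hk : Commute (d ^ v.length) (τ (v.map gen).prod * (d * τ (gen x)) * (τ (v.map gen).prod)⁻¹) :=
    ((hA.symm.mul_right ((Commute.refl d).mul_right hC.symm)).mul_right hA.symm.inv_right).pow_left _
  calc d ^ v.length * τ (v.map gen).prod * (d * τ (gen x)) * (d ^ v.length * τ (v.map gen).prod)⁻¹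
      = d ^ v.length * (τ (v.map gen).prod * (d * τ (gen x)) * (τ (v.map gen).prod)⁻¹) * (d ^ v.length)⁻¹ := by group
    _ = τ (v.map gen).prod * d * τ (gen x) * (τ (v.map gen).prod)⁻¹ := by
      rw [hk.eq, mul_inv_cancel_right]; group
    _ = _ := by rw [hA.eq]; group

end CfsgLib.Spor.LargeFi.Top
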