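import Cfsg.Agent.Lib.Spor.U62.Inst
import Cfsg.Agent.Lib.Spor.U62.Act
import Cfsg.Agent.Lib.Spor.LargeFi.Frame

/-!
Coded vectors of length six over the field with four elements.
-/

set_option autoImplicit false
set_option maxRecDepth 100000

namespace CfsgLib.Spor.LargeFi

open CfsgLib.Spor.U62
open Matrix

/-- the space -/
abbrev V6 : Type := Fin 6 → K4

/-- a coordinate of a coded vector -/
def entV (u i : ℕ) : ℕ := Nat.land (Nat.shiftRight u (2 * i)) 3

theorem entV_lt (u i : ℕ) : entV u i < 4 := land_three_lt _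

theorem sqN_lt (x : ℕ) : sqN x < 4 := mulN_lt _ _

/-- the vector of a code -/
def vOf (u : ℕ) : V6 := fun i => kOf (entV u i)

/-- a code from coordinates -/
def buildV (f : ℕ → ℕ) : ℕ := pack ((List.range 6).map f)

/-- the code of a vector -/
def vc (v : V6) : ℕ := buildV fun i => kCode (v (Fin.ofNat 6 i))

theorem entV_buildV {f : ℕ → ℕ} (hf : ∀ i, f i < 4) {i : ℕ} (hi : i < 6) : entV (buildV f) i = f i := by
  rw [entV, buildV, ent_pack _ (by simp [hf]), List.getD_eq_getElem _ _ (by simpa using hi),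
    List.getElem_map, List.getElem_range]

theorem vOf_vc (v : V6) : vOf (vc v) = v := by
  funext i
  show kOf (entV (vc v) i) = v i
  rw [vc, entV_buildV (fun _ => kCode_lt _) i.2, kOf_code, Fin.ofNat_val_eq_self]

theorem vc_injective : Function.Injective vc := Function.LeftInverse.injective vOf_vc

theorem buildV_lt {f : ℕ → ℕ} (hf : ∀ i, f i < 4) : buildV f < 4096 := by
  have h := fun i => hf i
  simp only [buildV, List.range_succ, List.range_zero, List.map_append, List.map_cons, List.map_nil,
    List.nil_append, List.cons_append, pack]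
  have := h 0; have := h 1; have := h 2; have := h 3; have := h 4; have := h 5
  omega

theorem vc_lt (v : V6) : vc v < 4096 := buildV_lt fun _ => kCode_lt _

theorem kCode_kOf : ∀ x < 4, kCode (kOf x) = x := by decide +kernel

theorem vc_vOf_check : ((List.range 4096).all fun u =>
    Nat.beq (buildV fun i => entV u i) u) = true := by decide +kernel

theorem vc_vOf {u : ℕ} (hu : u < 4096) : vc (vOf u) = u := by
  have h := Nat.eq_of_beq_eq_true (List.all_eq_true.1 vc_vOf_check u (List.mem_range.2 hu))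
  conv_rhs => rw [← h]
  unfold vc buildV
  congr 1
  refine List.map_congr_left fun i hi => ?_
  have hi' := List.mem_range.1 hi
  show kCode (kOf (entV u (i % 6))) = entV u i
  rw [kCode_kOf _ (entV_lt _ _), Nat.mod_eq_of_lt hi']

/-- matrix times vector on codes -/
def mvC (c u : ℕ) : ℕ := buildV fun i => dot6 (fun k => ent c i k) fun k => entV u k

theorem mvC_lt (c u : ℕ) : mvC c u < 4096 := buildV_lt fun _ => dot6_lt _ _

theorem vOf_mvC (c u : ℕ) : vOf (mvC c u) = ofCode c *ᵥ vOf u := by
  funext i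
  show kOf (entV (mvC c u) i) = _
  rw [mvC, entV_buildV (fun _ => dot6_lt _ _) i.2,
    kOf_dot6 (fun k => ent_lt _ _ _) fun k => entV_lt _ _]
  rfl

theorem vc_mulVec (c : ℕ) (v : V6) : vc (ofCode c *ᵥ v) = mvC c (vc v) := by
  rw [← vc_vOf (mvC_lt c (vc v)), vOf_mvC, vOf_vc]

theorem vc_mat (g : U6) (v : V6) : vc (mat g *ᵥ v) = mvC (cd g) (vc v) := by
  rw [mat_eq, vc_mulVec]

/-- the Frobenius of the field -/
def gal (v : V6) : V6 := fun i => v i ^ 2

/-- the Frobenius on codes -/
def galV (u : ℕ) : ℕ := buildV fun i => sqN (entV u i)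

theorem vc_gal (v : V6) : vc (gal v) = galV (vc v) := by
  have hs : ∀ x < 4, kOf (sqN x) = kOf x ^ 2 := by decide +kernel
  rw [← vc_vOf (u := galV (vc v)) (buildV_lt fun _ => sqN_lt _)]
  congr 1
  funext i
  show v i ^ 2 = kOf (entV (galV (vc v)) i)
  rw [galV, entV_buildV (fun _ => sqN_lt _) i.2, hs _ (entV_lt _ _)]
  exact congrArg (· ^ 2) (congrFun (vOf_vc v) i).symm

/-- the norm on codes -/
def nfC (u : ℕ) : ℕ := dot6 (fun k => entV u k) fun k => sqN (entV u k)

theorem kOf_nfC (u : ℕ) : kOf (nfC u) = nf (vOf u) := by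
  have hs : ∀ x < 4, kOf (sqN x) = kOf x ^ 2 := by decide +kernel
  rw [nfC, kOf_dot6 (fun k => entV_lt _ _) fun k => sqN_lt _, nf, Cfsg.hermForm]
  refine Finset.sum_congr rfl fun i _ => ?_
  rw [hs _ (entV_lt _ _)]
  rfl

theorem nf_eq_zero_iff (v : V6) : nf v = 0 ↔ nfC (vc v) = 0 := by
  have h0 : kOf 0 = 0 := by decide +kernel
  have e : kOf (nfC (vc v)) = nf v := by rw [kOf_nfC, vOf_vc]
  rw [← e]
  exact ⟨fun h => kOf_inj _ (dot6_lt _ _) 0 (by norm_num) (h.trans h0.symm), fun h => by rw [h, h0]⟩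

/-- the code of a scalar multiple -/
def smC (c u : ℕ) : ℕ := buildV fun i => mulN c (entV u i)

/-- membership in a list of codes -/
def memV (l : List ℕ) (u : ℕ) : Bool := l.any (Nat.beq u)

theorem memV_iff {l : List ℕ} {u : ℕ} : memV l u = true ↔ u ∈ l := by
  simp [memV, List.any_eq_true, Nat.beq_eq]

/-- a breadth first tree: entry `k` is `(vertex, parent, generator)` and the parent precedes -/
def treeB (gs : List ℕ) (root : ℕ) : List (ℕ × ℕ × ℕ) → List ℕ → Bool
  | [], _ => true
  | (u, p, j) :: r, acc =>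
    Nat.beq u (mvC (gs.getD j oneC) (acc.getD p root)) && treeB gs root r (u :: acc)

theorem mem_of_treeB {gs : List ℕ} {root : ℕ} {P : ℕ → Prop} (h1 : P root)
    (hg : ∀ c ∈ gs, ∀ u, P u → P (mvC c u)) (hone : ∀ u, P u → P (mvC oneC u)) :
    ∀ (r : List (ℕ × ℕ × ℕ)) (acc : List ℕ), treeB gs root r acc = true → (∀ u ∈ acc, P u) →
      ∀ e ∈ r, P e.1 := by
  intro r
  induction r with
  | nil => simp
  | cons x r ih =>
    obtain ⟨u, p, j⟩ := x
    intro acc h hacc
    simp only [treeB, Bool.and_eq_true, Nat.beq_eq] at h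
    have hp : P (acc.getD p root) := by
      by_cases hk : p < acc.length
      · rw [List.getD_eq_getElem _ _ hk]; exact hacc _ (List.getElem_mem hk)
      · rw [List.getD_eq_default _ _ (not_lt.1 hk)]; exact h1
    have hu : P u := by
      rw [h.1]
      by_cases hk : j < gs.length
      · rw [List.getD_eq_getElem _ _ hk]; exact hg _ (List.getElem_mem hk) _ hp
      · rw [List.getD_eq_default _ _ (not_lt.1 hk)]; exact hone _ hp
    intro e he
    rcases List.mem_cons.1 he with rfl | he
    · exact hu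
    · exact ih (u :: acc) h.2 (List.forall_mem_cons.2 ⟨hu, hacc⟩) e he

/-- a set of codes preserved by a matrix -/
def presB (L : List ℕ) (c : ℕ) : Bool := L.all fun u => memV L (mvC c u)

end CfsgLib.Spor.LargeFi
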